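import Groth.Prelude.Def_CAlg
import Mathlib

/-!
# Depth and Cohen–Macaulay rings along ring isomorphisms
-/

universe u

namespace Groth.Ega4b

open RingTheory.Sequence

lemma depth_eq_of_ringEquiv {R R' : Type u} [CommRing R] [CommRing R'] [IsLocalRing R] [IsLocalRing R']
    (e : R ≃+* R') : LocCoh.depth R R = LocCoh.depth R' R' := by
  have key : ∀ {R R' : Type u} [CommRing R] [CommRing R'] [IsLocalRing R] [IsLocalRing R']
      (e : R ≃+* R'), LocCoh.depth R R ≤ LocCoh.depth R' R' := by
    intro R R' _ _ _ _ e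
    have h1 : ∀ (S : Type u) [CommRing S] [IsLocalRing S],
        IsLocalRing.maximalIdeal S • (⊤ : Submodule S S) ≠ ⊤ := fun S _ _ => by
      rw [smul_eq_mul, Ideal.mul_top]; exact (IsLocalRing.maximalIdeal.isMaximal S).ne_top
    rw [LocCoh.depth, LocCoh.depth, LocCoh.idealDepth, LocCoh.idealDepth, if_neg (h1 R), if_neg (h1 R')]
    refine iSup₂_le fun rs h => ?_
    have hw : IsWeaklyRegular R' (rs.map e) := by
      refine ((e.toAddEquiv).isWeaklyRegular_congr ?_).mp h.1
      exact List.forall₂_map_right_iff.mpr (List.forall₂_same.mpr fun r _ x => map_mul e r x)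
    have hm : ∀ r ∈ rs.map e, r ∈ IsLocalRing.maximalIdeal R' := by
      intro r hr
      obtain ⟨r, hr', rfl⟩ := List.mem_map.mp hr
      have := h.2 r hr'
      simp only [IsLocalRing.mem_maximalIdeal, mem_nonunits_iff] at this ⊢
      exact fun hu => this ((isUnit_map_iff e r).mp hu)
    refine le_iSup₂_of_le (rs.map e) ⟨hw, hm⟩ ?_
    rw [List.length_map]
  exact le_antisymm (key e) (key e.symm)

lemma isCohenMacaulayLocalRing_of_ringEquiv {R R' : Type u} [CommRing R] [CommRing R'] (e : R ≃+* R')
    (h : LocCoh.IsCohenMacaulayLocalRing R) : LocCoh.IsCohenMacaulayLocalRing R' := by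
  have := h.toIsNoetherian
  have := h.toIsLocalRing
  have : IsLocalRing R' := e.isLocalRing
  have : IsNoetherianRing R' := isNoetherianRing_of_ringEquiv R e
  refine { supportDim_eq_depth := ?_ }
  rw [Module.supportDim_self_eq_ringKrullDim, ← ringKrullDim_eq_of_ringEquiv e,
    ← Module.supportDim_self_eq_ringKrullDim, h.supportDim_eq_depth, depth_eq_of_ringEquiv e]

lemma isCohenMacaulayRing_of_ringEquiv {R R' : Type u} [CommRing R] [CommRing R'] (e : R ≃+* R')
    (h : LocCoh.IsCohenMacaulayRing R) : LocCoh.IsCohenMacaulayRing R' := by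
  have := h.toIsNoetherian
  have : IsNoetherianRing R' := isNoetherianRing_of_ringEquiv R e
  refine { isCohenMacaulayLocalRing_localization := fun p _ => ?_ }
  have h1 := h.isCohenMacaulayLocalRing_localization (p.comap e.toRingHom)
  refine isCohenMacaulayLocalRing_of_ringEquiv
    (IsLocalization.ringEquivOfRingEquiv (M := (p.comap e.toRingHom).primeCompl) (T := p.primeCompl)
      _ _ e ?_) h1
  ext x
  constructor
  · rintro ⟨y, hy, rfl⟩; exact hy
  · intro hx; exact ⟨e.symm x, by simpa [Ideal.primeCompl] using hx, e.apply_symm_apply x⟩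

end Groth.Ega4b
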