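import Groth.Agent.Ega4Algebra2.NormalRingSmooth
import Mathlib

/-!
# Tensor products of normal algebras over a field
-/

set_option linter.style.haveILetI false

universe u

namespace Groth.Ega4b

open TensorProduct

/-- `L ⊗ A` is integrally closed in `L ⊗ A'` when it is normal and `A'` is a localization of the domain `A`. -/
lemma mem_range_tensor_localization {k L A A' : Type u} [Field k] [CommRing L] [CommRing A] [CommRing A']
    [Algebra k L] [Algebra k A] [Algebra k A'] [Algebra A A'] [IsScalarTower k A A'] [IsDomain A]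
    [IsFractionRing A A'] (hn : EGA4.IsNormalRing (L ⊗[k] A)) (x : L ⊗[k] A')
    (hx : (Algebra.TensorProduct.map (AlgHom.id k L) (IsScalarTower.toAlgHom k A A')).toRingHom.IsIntegralElem x) :
    x ∈ (Algebra.TensorProduct.map (AlgHom.id k L) (IsScalarTower.toAlgHom k A A')).range := by
  let ψ := Algebra.TensorProduct.map (AlgHom.id k L) (IsScalarTower.toAlgHom k A A')
  letI : Algebra (L ⊗[k] A) (L ⊗[k] A') := ψ.toRingHom.toAlgebra
  haveI : IsScalarTower L (L ⊗[k] A) (L ⊗[k] A') :=
    .of_algebraMap_eq <| by intro l; simp [RingHom.algebraMap_toAlgebra, ψ]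
  haveI := IsLocalization.tensorProduct_tensorProduct_right k L (nonZeroDivisors A) A'
    (by ext; simp [RingHom.algebraMap_toAlgebra, ψ])
  have hψ : Function.Injective ψ :=
    Module.Flat.lTensor_preserves_injective_linearMap (M := L) _ (IsFractionRing.injective A A')
  have hM : (nonZeroDivisors A).map (Algebra.TensorProduct.includeRight (R := k) (A := L)) ≤
      nonZeroDivisors (L ⊗[k] A) := by
    intro m hm
    refine mem_nonZeroDivisors_iff_right.mpr fun z hz => hψ ?_
    have hu : IsUnit (ψ m) := IsLocalization.map_units (L ⊗[k] A') (⟨m, hm⟩ :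
      ↥((nonZeroDivisors A).map (Algebra.TensorProduct.includeRight (R := k) (A := L))))
    rw [map_zero]
    exact hu.mul_left_eq_zero.mp (by rw [← map_mul, hz, map_zero])
  exact mem_range_of_isIntegral_of_isNormalRing hn _ hM (L ⊗[k] A') hx

/-- elements of `A ⊗ L` whose image lies in `E ⊗ B` come from `A ⊗ B`. -/
lemma exists_tensor_of_eq {k A E B L : Type u} [Field k] [AddCommGroup A] [AddCommGroup E] [AddCommGroup B]
    [AddCommGroup L] [Module k A] [Module k E] [Module k B] [Module k L] (f : A →ₗ[k] E)
    (hf : Function.Injective f) (g : B →ₗ[k] L) (x : A ⊗[k] L) (y : E ⊗[k] B)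
    (h : f.rTensor L x = g.lTensor E y) : ∃ z : A ⊗[k] B, g.lTensor A z = x := by
  let π := g.range.mkQ
  have hex : Function.Exact g π := LinearMap.exact_map_mkQ_range g
  have h1 : π.lTensor A x = 0 := by
    refine Module.Flat.rTensor_preserves_injective_linearMap (M := L ⧸ g.range) f hf ?_
    rw [map_zero, ← LinearMap.comp_apply, LinearMap.rTensor_comp_lTensor, ← LinearMap.lTensor_comp_rTensor,
      LinearMap.comp_apply, h, ← LinearMap.comp_apply, ← LinearMap.lTensor_comp, hex.linearMap_comp_eq_zero,
      LinearMap.lTensor_zero, LinearMap.zero_apply]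
  exact (Module.Flat.lTensor_exact A hex x).mp h1

/-- normality of a tensor product can be checked on the local rings of a factor -/
lemma isNormalRing_tensor_of_local (k A B : Type u) [CommRing k] [CommRing A] [CommRing B] [Algebra k A]
    [Algebra k B] (h : ∀ (q : Ideal B) [q.IsPrime], EGA4.IsNormalRing (A ⊗[k] Localization.AtPrime q)) :
    EGA4.IsNormalRing (A ⊗[k] B) := by
  refine isNormalRing_of_forall fun P _ => ?_
  let q := P.comap (Algebra.TensorProduct.includeRight (R := k) (A := A) (B := B))
  let ψ := Algebra.TensorProduct.map (AlgHom.id k A) (IsScalarTower.toAlgHom k B (Localization.AtPrime q))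
  letI : Algebra (A ⊗[k] B) (A ⊗[k] Localization.AtPrime q) := ψ.toRingHom.toAlgebra
  haveI : IsScalarTower A (A ⊗[k] B) (A ⊗[k] Localization.AtPrime q) :=
    .of_algebraMap_eq <| by intro a; simp [RingHom.algebraMap_toAlgebra, ψ]
  have hloc := IsLocalization.tensorProduct_tensorProduct_right k A q.primeCompl (Localization.AtPrime q)
    (by ext; simp [RingHom.algebraMap_toAlgebra, ψ])
  refine ⟨_, A ⊗[k] Localization.AtPrime q, inferInstance, inferInstance, hloc, ?_, h q⟩
  rw [Set.disjoint_left]
  rintro _ ⟨s, hs, rfl⟩ hP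
  exact hs hP

/-- The core: tensor products of normal domains. -/
theorem isNormalRing_tensor_domains (k A B : Type u) [Field k] [CommRing A] [CommRing B] [Algebra k A]
    [Algebra k B] [IsDomain A] [IsDomain B] [IsIntegrallyClosed B]
    [Algebra.IsGeometricallyReduced k (FractionRing A)]
    (hA : ∀ L₀ : IntermediateField k (FractionRing B), EGA4.IsNormalRing (A ⊗[k] L₀)) :
    EGA4.IsNormalRing (A ⊗[k] B) := by
  classical
  let E := FractionRing A
  let L := FractionRing B
  refine isNormalRing_of_approx fun F => ?_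
  obtain ⟨B', ⟨G, hG⟩, hF⟩ := exists_fg_forall_mem F
  let β := IsScalarTower.toAlgHom k B L
  let G' := G.image β
  let L₀ := IntermediateField.adjoin k (G' : Set L)
  let B₀ : Subalgebra k B := L₀.toSubalgebra.comap β
  have hle : B' ≤ B₀ := by
    rw [← hG, Algebra.adjoin_le_iff]
    exact fun g hg => IntermediateField.subset_adjoin k _ (Finset.mem_coe.mpr (Finset.mem_image_of_mem _ hg))
  letI : Algebra B₀ L₀ := ((β.comp B₀.val).toRingHom.codRestrict L₀.toSubalgebra (fun b => b.2)).toAlgebra
  haveI : IsScalarTower k B₀ L₀ := IsScalarTower.of_algebraMap_eq fun c => Subtype.ext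
    (show algebraMap k L c = β (algebraMap k B c) from (β.commutes c).symm)
  have hβ : Function.Injective β := IsFractionRing.injective B L
  have hinj₀ : Function.Injective (algebraMap B₀ L₀) := fun a b hab =>
    Subtype.ext (hβ (congrArg Subtype.val hab))
  haveI : FaithfulSMul B₀ L₀ := (faithfulSMul_iff_algebraMap_injective _ _).mpr hinj₀
  haveI : IsFractionRing B₀ L₀ := IsFractionRing.of_field B₀ L₀ fun z => by
    obtain ⟨r, hr, s, hs, hz⟩ := IntermediateField.mem_adjoin_iff_div.mp z.2
    have hsub : ∀ w ∈ Algebra.adjoin k (G' : Set L), ∃ b : B₀, (algebraMap B₀ L₀ b : L) = w := by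
      intro w hw
      rw [Finset.coe_image, Algebra.adjoin_image] at hw
      obtain ⟨b, hb, rfl⟩ := hw
      exact ⟨⟨b, hle (hG ▸ hb)⟩, rfl⟩
    obtain ⟨r', rfl⟩ := hsub r hr
    obtain ⟨s', rfl⟩ := hsub s hs
    exact ⟨r', s', Subtype.ext (by rw [IntermediateField.coe_div, hz])⟩
  haveI : IsIntegrallyClosed B₀ := isIntegrallyClosed_of_dvd fun a b p hb hp h0 => by
    have hb' : (b : B) ≠ 0 := fun h => hb (Subtype.ext h)
    obtain ⟨c, hc⟩ := dvd_of_scaleRoots (a := (a : B)) hb' (hp.map B₀.val.toRingHom) (by
      show Polynomial.eval (B₀.val.toRingHom a) ((p.map B₀.val.toRingHom).scaleRoots (B₀.val.toRingHom b)) = 0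
      rw [scaleRoots_eval_map _ hp, h0, map_zero])
    have hcmem : c ∈ B₀ := by
      have hb0 : β (b : B) ≠ 0 := (map_ne_zero_iff _ hβ).mpr hb'
      show β c ∈ L₀
      rw [show β c = β (a : B) / β (b : B) by rw [eq_div_iff hb0, ← map_mul, mul_comm, hc]]
      exact div_mem a.2 b.2
    exact ⟨⟨c, hcmem⟩, Subtype.ext hc⟩
  -- the comparison ring
  let ιA := IsScalarTower.toAlgHom k A E
  let ιB := IsScalarTower.toAlgHom k B₀ L₀
  let N := E ⊗[k] L₀
  haveI : Algebra.EssFiniteType k L₀ :=
    IntermediateField.essFiniteType_iff.mpr ⟨G', rfl⟩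
  haveI : IsNoetherianRing N := Algebra.EssFiniteType.isNoetherianRing E N
  haveI : IsRegularRing L₀ := inferInstance
  have hN : EGA4.IsNormalRing N := isNormalRing_of_ringEquiv (Algebra.TensorProduct.comm k L₀ E).toRingEquiv
    (isNormalRing_tensor_separable k L₀ E (isNormalRing_of_isRegularRing L₀))
  have hB₀ : EGA4.IsNormalRing B₀ := fun q _ =>
    ⟨IsLocalization.isDomain_localization q.primeCompl_le_nonZeroDivisors,
      isIntegrallyClosed_of_isLocalization _ q.primeCompl q.primeCompl_le_nonZeroDivisors⟩
  let ψ := Algebra.TensorProduct.map ιA ιB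
  letI : Algebra (A ⊗[k] B₀) N := ψ.toRingHom.toAlgebra
  have hψ : Function.Injective ψ := by
    have : ψ = (Algebra.TensorProduct.map ιA (AlgHom.id k L₀)).comp
        (Algebra.TensorProduct.map (AlgHom.id k A) ιB) := by
      rw [← Algebra.TensorProduct.map_comp, AlgHom.comp_id, AlgHom.id_comp]
    rw [this]
    exact (Module.Flat.rTensor_preserves_injective_linearMap (M := L₀) _ (IsFractionRing.injective A E)).comp
      (Module.Flat.lTensor_preserves_injective_linearMap (M := A) _ hinj₀)
  have hC : EGA4.IsNormalRing (A ⊗[k] B₀) := by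
    refine isNormalRing_of_integrallyClosedIn (N := N) hψ hN fun x hx => ?_
    -- integral over `A ⊗ L₀`
    obtain ⟨p, hp, hp0⟩ := hx
    have h1 : x ∈ (Algebra.TensorProduct.map (AlgHom.id k E) ιB).range := by
      refine mem_range_tensor_localization
        (isNormalRing_of_ringEquiv (Algebra.TensorProduct.comm k B₀ E).toRingEquiv
          (isNormalRing_tensor_separable k B₀ E hB₀)) x
        ⟨p.map (Algebra.TensorProduct.map ιA (AlgHom.id k B₀)).toRingHom, hp.map _, ?_⟩
      rw [Polynomial.eval₂_map, ← hp0]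
      refine congrArg (fun f => Polynomial.eval₂ f x p) (RingHom.ext fun w => ?_)
      show Algebra.TensorProduct.map (AlgHom.id k E) ιB (Algebra.TensorProduct.map ιA (AlgHom.id k B₀) w) = ψ w
      rw [← AlgHom.comp_apply, ← Algebra.TensorProduct.map_comp, AlgHom.comp_id, AlgHom.id_comp]
    let σ := Algebra.TensorProduct.comm k E L₀
    have h2 : σ x ∈ (Algebra.TensorProduct.map (AlgHom.id k L₀) ιA).range := by
      refine mem_range_tensor_localization
        (isNormalRing_of_ringEquiv (Algebra.TensorProduct.comm k A L₀).toRingEquiv (hA L₀)) (σ x)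
        ⟨p.map ((Algebra.TensorProduct.map ιB (AlgHom.id k A)).comp
          (Algebra.TensorProduct.comm k A B₀).toAlgHom).toRingHom, hp.map _, ?_⟩
      rw [Polynomial.eval₂_map, ← map_zero σ, ← hp0, show σ (Polynomial.eval₂ (algebraMap (A ⊗[k] B₀) N) x p) =
        σ.toRingEquiv.toRingHom (Polynomial.eval₂ (algebraMap (A ⊗[k] B₀) N) x p) from rfl,
        Polynomial.hom_eval₂]
      refine congrArg (fun f => Polynomial.eval₂ f (σ x) p) (RingHom.ext fun w => ?_)
      have he : (Algebra.TensorProduct.map (AlgHom.id k L₀) ιA).comp ((Algebra.TensorProduct.map ιB (AlgHom.id k A)).comp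
          (Algebra.TensorProduct.comm k A B₀).toAlgHom) = σ.toAlgHom.comp ψ :=
        Algebra.TensorProduct.ext' fun a b => rfl
      exact AlgHom.congr_fun he w
    obtain ⟨y, hy⟩ := h1
    obtain ⟨z, hz⟩ := h2
    have hzx : Algebra.TensorProduct.map ιA (AlgHom.id k L₀) (Algebra.TensorProduct.comm k L₀ A z) = x := by
      apply σ.injective
      rw [← hz]
      have he : σ.toAlgHom.comp ((Algebra.TensorProduct.map ιA (AlgHom.id k L₀)).comp
          (Algebra.TensorProduct.comm k L₀ A).toAlgHom) = Algebra.TensorProduct.map (AlgHom.id k L₀) ιA :=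
        Algebra.TensorProduct.ext' fun a b => rfl
      exact AlgHom.congr_fun he z
    obtain ⟨w, hw⟩ := exists_tensor_of_eq ιA.toLinearMap (IsFractionRing.injective A E) ιB.toLinearMap
      (Algebra.TensorProduct.comm k L₀ A z) y (hzx.trans hy.symm)
    refine ⟨w, ?_⟩
    rw [← hzx]
    show ψ w = _
    rw [show Algebra.TensorProduct.comm k L₀ A z = Algebra.TensorProduct.map (AlgHom.id k A) ιB w from hw.symm,
      ← AlgHom.comp_apply, ← Algebra.TensorProduct.map_comp, AlgHom.comp_id, AlgHom.id_comp]
  let j := Algebra.TensorProduct.map (AlgHom.id k A) B₀.val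
  have hj : Function.Injective j :=
    Module.Flat.lTensor_preserves_injective_linearMap (M := A) _ Subtype.val_injective
  let e : A ⊗[k] B₀ ≃ₐ[k] j.range := AlgEquiv.ofInjective j hj
  refine ⟨A ⊗[k] B₀, inferInstance, j.range.toSubring, e.symm.toRingEquiv.toRingHom, j.toRingHom, ?_, ?_, hC⟩
  · exact fun z hz => range_tensor_mono hle (hF z hz)
  · refine RingHom.ext fun z => ?_
    obtain ⟨w, rfl⟩ := e.surjective z
    show j (e.symm (e w)) = j w
    rw [e.symm_apply_apply]

lemma isReduced_of_isNormalRing {R : Type u} [CommRing R] (h : EGA4.IsNormalRing R) : IsReduced R :=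
  isReduced_ofLocalizationMaximal R fun J hJ =>
    haveI := (h J).1
    inferInstance

lemma isGeometricallyReduced_of_isGeomNormal {k A : Type u} [Field k] [CommRing A] [Algebra k A]
    (h : EGA4.IsGeomNormal k A) : Algebra.IsGeometricallyReduced k A :=
  isGeometricallyReduced_of_finite k A fun K _ _ hK => isReduced_of_isNormalRing (h K hK)

lemma isNormalRing_self_of_isGeomNormal {k A : Type u} [Field k] [CommRing A] [Algebra k A]
    (h : EGA4.IsGeomNormal k A) : EGA4.IsNormalRing A :=
  isNormalRing_of_ringEquiv (Algebra.TensorProduct.lid k A).toRingEquiv (h k (Module.Finite.self k))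

/-- geometrically normal ⊗ normal is normal -/
theorem isNormalRing_tensor_of_isGeomNormal (k A B : Type u) [Field k] [CommRing A] [CommRing B]
    [Algebra k A] [Algebra k B] (hA : EGA4.IsGeomNormal k A) (hB : EGA4.IsNormalRing B) :
    EGA4.IsNormalRing (A ⊗[k] B) := by
  refine isNormalRing_tensor_of_local k A B fun q _ => ?_
  refine isNormalRing_of_ringEquiv (Algebra.TensorProduct.comm k (Localization.AtPrime q) A).toRingEquiv
    (isNormalRing_tensor_of_local k (Localization.AtPrime q) A fun p _ => ?_)
  refine isNormalRing_of_ringEquiv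
    (Algebra.TensorProduct.comm k (Localization.AtPrime p) (Localization.AtPrime q)).toRingEquiv ?_
  obtain ⟨hB1, hB2⟩ := hB q
  obtain ⟨hA1, hA2⟩ := isNormalRing_self_of_isGeomNormal hA p
  have hAp := isGeomNormal_of_isLocalization k A p.primeCompl (Localization.AtPrime p) hA
  haveI := isGeometricallyReduced_of_isGeomNormal (isGeomNormal_of_isLocalization k (Localization.AtPrime p)
    (nonZeroDivisors _) (FractionRing (Localization.AtPrime p)) hAp)
  exact isNormalRing_tensor_domains k _ _ fun L₀ => isNormalRing_tensor_field k _ L₀ hAp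

/-- normal domains with separable fraction fields -/
theorem isNormalRing_tensor_of_separable (k A B : Type u) [Field k] [CommRing A] [CommRing B]
    [Algebra k A] [Algebra k B] [IsDomain A] [IsDomain B] [IsIntegrallyClosed A] [IsIntegrallyClosed B]
    [Algebra.IsGeometricallyReduced k (FractionRing A)] [Algebra.IsGeometricallyReduced k (FractionRing B)] :
    EGA4.IsNormalRing (A ⊗[k] B) := by
  refine isNormalRing_tensor_domains k A B fun L₀ => ?_
  haveI : Algebra.IsGeometricallyReduced k L₀ :=
    Algebra.IsGeometricallyReduced.of_injective L₀.val (RingHom.injective L₀.val.toRingHom)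
  refine isNormalRing_tensor_separable k A L₀ fun q _ => ?_
  exact ⟨IsLocalization.isDomain_localization q.primeCompl_le_nonZeroDivisors,
    isIntegrallyClosed_of_isLocalization _ q.primeCompl q.primeCompl_le_nonZeroDivisors⟩

/-- geometric normality of tensor products -/
theorem isGeomNormal_tensor (k S T : Type u) [Field k] [CommRing S] [CommRing T] [Algebra k S] [Algebra k T]
    (hS : EGA4.IsGeomNormal k S) (hT : EGA4.IsGeomNormal k T) : EGA4.IsGeomNormal k (S ⊗[k] T) := by
  intro K _ _ hK
  exact isNormalRing_of_ringEquiv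
    ((Algebra.TensorProduct.comm k T (K ⊗[k] S)).trans (Algebra.TensorProduct.assoc k k k K S T)).toRingEquiv
    (isNormalRing_tensor_of_isGeomNormal k T (K ⊗[k] S) hT (hS K hK))

end Groth.Ega4b
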