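import Groth.Agent.Ega4Algebra2.DepthFlat
import Groth.Agent.Ega4Algebra2.CMEquiv
import Groth.Agent.Calg4.RegularFlat
import Groth.Prelude.Def_EGA4b
import Mathlib

/-!
# Serre's conditions along flat maps (EGA IV 6.4)
-/

set_option linter.style.haveILetI false

universe u

namespace Groth.Ega4b

open TensorProduct IsLocalRing

/-- the `(S_n)`-inequality of a local ring -/
def SkLoc (n : ℕ) (R : Type u) [CommRing R] [IsLocalRing R] : Prop :=
  min (n : WithBot ℕ∞) (ringKrullDim R) ≤ ((LocCoh.depth R R : ℕ∞) : WithBot ℕ∞)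

lemma flat_quotient_map {R S : Type u} [CommRing R] [CommRing S] [Algebra R S] [Module.Flat R S] (I : Ideal R) :
    Module.Flat (R ⧸ I) (S ⧸ I.map (algebraMap R S)) :=
  Module.Flat.of_linearEquiv (LinearEquiv.extendScalarsOfSurjective
    (R := R) (S := R ⧸ I) Ideal.Quotient.mk_surjective
    (((Algebra.TensorProduct.quotIdealMapEquivTensorQuot S I).toLinearEquiv.restrictScalars R).trans
      (TensorProduct.comm R S (R ⧸ I))))

lemma skLoc_of_ringEquiv {R R' : Type u} [CommRing R] [CommRing R'] [IsLocalRing R] [IsLocalRing R']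
    (e : R ≃+* R') {n : ℕ} : SkLoc n R ↔ SkLoc n R' := by
  rw [SkLoc, SkLoc, depth_eq_of_ringEquiv e, ringKrullDim_eq_of_ringEquiv e]

lemma hasSk_self_iff (n : ℕ) (F : Type u) [CommRing F] :
    LocCoh.HasSk n F F ↔ ∀ (Q : Ideal F) [Q.IsPrime], SkLoc n (Localization.AtPrime Q) := by
  have key : ∀ (Q : Ideal F) [Q.IsPrime],
      (min (n : WithBot ℕ∞) (Module.supportDim (Localization.AtPrime Q) (LocalizedModule Q.primeCompl F)) ≤
        ((LocCoh.depth (Localization.AtPrime Q) (LocalizedModule Q.primeCompl F) : ℕ∞) : WithBot ℕ∞)) ↔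
        SkLoc n (Localization.AtPrime Q) := fun Q _ => by
    let e : LocalizedModule Q.primeCompl F ≃ₗ[Localization.AtPrime Q] Localization.AtPrime Q :=
      LinearEquiv.extendScalarsOfIsLocalization Q.primeCompl (Localization.AtPrime Q)
        (IsLocalizedModule.iso Q.primeCompl (Algebra.linearMap F (Localization.AtPrime Q)))
    rw [SkLoc, Module.supportDim_eq_of_equiv e, Module.supportDim_self_eq_ringKrullDim, depth_congr' e]
  exact ⟨fun h Q _ => (key Q).mp (h Q), fun h Q _ => (key Q).mpr (h Q)⟩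

section Fibre

variable (A B : Type u) [CommRing A] [CommRing B] [Algebra A B]

lemma fibLocRing_isLocalRing (r : Ideal B) [r.IsPrime] : IsLocalRing (EGA4.FibLocRing A B r) := by
  haveI : Nontrivial (EGA4.FibLocRing A B r) := Ideal.Quotient.nontrivial_iff.mpr fun h =>
    (maximalIdeal.isMaximal (Localization.AtPrime r)).ne_top (top_le_iff.mp (h ▸ by
      rw [IsScalarTower.algebraMap_eq A B (Localization.AtPrime r), ← Ideal.map_map,
        ← Localization.AtPrime.map_eq_maximalIdeal]
      exact Ideal.map_mono Ideal.map_comap_le))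
  exact IsLocalRing.of_surjective' _ Ideal.Quotient.mk_surjective

theorem hasSk_fiber_iff (n : ℕ) (p : Ideal A) [p.IsPrime] :
    LocCoh.HasSk n (p.Fiber B) (p.Fiber B) ↔
      ∀ (r : Ideal B) [r.IsPrime], r.comap (algebraMap A B) = p →
        (letI := fibLocRing_isLocalRing A B r; SkLoc n (EGA4.FibLocRing A B r)) := by
  rw [hasSk_self_iff]
  have key : ∀ (Q : Ideal (p.Fiber B)) [Q.IsPrime] (r : Ideal B) [r.IsPrime],
      Q.comap Algebra.TensorProduct.includeRight = r → r.comap (algebraMap A B) = p →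
      Nonempty (Localization.AtPrime Q ≃+* EGA4.FibLocRing A B r) := by
    intro Q _ r _ hr hp
    subst hr
    refine ⟨(Ideal.Fiber.algEquivAux₂ p Q).toRingEquiv.trans (Ideal.quotEquivOfEq ?_)⟩
    rw [hp, Ideal.map_map, ← IsScalarTower.algebraMap_eq]
  constructor
  · intro h r _ hrp
    let Q := PrimeSpectrum.preimageEquivFiber A B ⟨p, inferInstance⟩
      ⟨⟨r, inferInstance⟩, PrimeSpectrum.ext hrp⟩
    have hQ : Q.asIdeal.comap Algebra.TensorProduct.includeRight = r :=
      congrArg (fun x => x.1.asIdeal) ((PrimeSpectrum.preimageEquivFiber A B ⟨p, inferInstance⟩).symm_apply_apply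
        ⟨⟨r, inferInstance⟩, PrimeSpectrum.ext hrp⟩)
    letI := fibLocRing_isLocalRing A B r
    obtain ⟨e⟩ := key Q.asIdeal r hQ hrp
    exact (skLoc_of_ringEquiv e).mp (h Q.asIdeal)
  · intro h Q _
    let x := (PrimeSpectrum.preimageEquivFiber A B ⟨p, inferInstance⟩).symm ⟨Q, inferInstance⟩
    have hxr : x.1.asIdeal = Q.comap Algebra.TensorProduct.includeRight := rfl
    have hrp : (Q.comap (Algebra.TensorProduct.includeRight (R := A) (A := p.ResidueField) (B := B))).comap
        (algebraMap A B) = p := congrArg PrimeSpectrum.asIdeal x.2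
    letI := fibLocRing_isLocalRing A B (Q.comap (Algebra.TensorProduct.includeRight (R := A) (A := p.ResidueField) (B := B)))
    obtain ⟨e⟩ := key Q _ rfl hrp
    exact (skLoc_of_ringEquiv e).mpr (h _ hrp)

end Fibre

/-- for `A → B → C` and a prime `r` of `C`: `B_q/pB_q → C_r/pC_r` is flat local with closed fibre `C_r/qC_r` -/
theorem fibLocRing_tower (A B C : Type u) [CommRing A] [CommRing B] [CommRing C] [IsNoetherianRing B]
    [IsNoetherianRing C] [Algebra A B] [Algebra B C] [Algebra A C] [IsScalarTower A B C] [Module.Flat B C]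
    (r : Ideal C) [r.IsPrime] (q : Ideal B) [q.IsPrime] (hq : r.comap (algebraMap B C) = q)
    [IsLocalRing (EGA4.FibLocRing A C r)] [IsLocalRing (EGA4.FibLocRing A B q)]
    [IsLocalRing (EGA4.FibLocRing B C r)] :
    LocCoh.depth (EGA4.FibLocRing A C r) (EGA4.FibLocRing A C r) =
        LocCoh.depth (EGA4.FibLocRing A B q) (EGA4.FibLocRing A B q) +
          LocCoh.depth (EGA4.FibLocRing B C r) (EGA4.FibLocRing B C r) ∧
      ringKrullDim (EGA4.FibLocRing A C r) =
        ringKrullDim (EGA4.FibLocRing A B q) + ringKrullDim (EGA4.FibLocRing B C r) := by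
  subst hq
  set q := r.comap (algebraMap B C)
  let Bq := Localization.AtPrime q
  let Cr := Localization.AtPrime r
  letI algBC : Algebra Bq Cr := (Localization.localRingHom q r (algebraMap B C) rfl).toAlgebra
  haveI hBC : IsScalarTower B Bq Cr := IsScalarTower.of_algebraMap_eq fun a => by
    rw [RingHom.algebraMap_toAlgebra, Localization.localRingHom_to_map,
      IsScalarTower.algebraMap_apply B C Cr]
  haveI : IsLocalHom (algebraMap Bq Cr) := Localization.isLocalHom_localRingHom q r (algebraMap B C) rfl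
  haveI : Module.Flat B Cr := Module.Flat.trans B C _
  haveI : Module.Flat Bq Cr := (Module.flat_iff_of_isLocalization Bq q.primeCompl _).mpr inferInstance
  have hA : (algebraMap Bq Cr).comp (algebraMap A Bq) = algebraMap A Cr := by
    rw [IsScalarTower.algebraMap_eq A B Bq, ← RingHom.comp_assoc, ← IsScalarTower.algebraMap_eq B Bq Cr,
      IsScalarTower.algebraMap_eq A C Cr, IsScalarTower.algebraMap_eq A B C, ← RingHom.comp_assoc,
      ← IsScalarTower.algebraMap_eq B C Cr]
  let I : Ideal Bq := (q.comap (algebraMap A B)).map (algebraMap A Bq)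
  have hI : I.map (algebraMap Bq Cr) = (r.comap (algebraMap A C)).map (algebraMap A Cr) := by
    rw [Ideal.map_map, hA, IsScalarTower.algebraMap_eq A B C, ← Ideal.comap_comap]
  let R' := Bq ⧸ I
  let S' := Cr ⧸ I.map (algebraMap Bq Cr)
  let eS : S' ≃+* EGA4.FibLocRing A C r := Ideal.quotEquivOfEq hI
  haveI : IsLocalRing R' := inferInstanceAs (IsLocalRing (EGA4.FibLocRing A B q))
  haveI : IsLocalRing S' := eS.symm.isLocalRing
  haveI : Module.Flat R' S' := flat_quotient_map I
  haveI : IsLocalHom (algebraMap R' S') := ⟨fun a ha => by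
    obtain ⟨a, rfl⟩ := Ideal.Quotient.mk_surjective a
    rw [Ideal.Quotient.algebraMap_quotient_map_quotient] at ha
    haveI : IsLocalHom (Ideal.Quotient.mk (I.map (algebraMap Bq Cr))) :=
      IsLocalHom.of_surjective _ Ideal.Quotient.mk_surjective
    exact (isUnit_of_map_unit (algebraMap Bq Cr) _ (isUnit_of_map_unit (Ideal.Quotient.mk _) _ ha)).map _⟩
  have hmax : (maximalIdeal R').map (algebraMap R' S') =
      ((maximalIdeal Bq).map (algebraMap Bq Cr)).map (Ideal.Quotient.mk (I.map (algebraMap Bq Cr))) := by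
    rw [show maximalIdeal R' = (maximalIdeal Bq).map (Ideal.Quotient.mk I) from
      (IsLocalRing.map_maximalIdeal_of_surjective (Ideal.Quotient.mk I) Ideal.Quotient.mk_surjective).symm]
    refine (Ideal.map_map _ _).trans (Eq.trans ?_ (Ideal.map_map _ _).symm)
    rfl
  have hIle : I.map (algebraMap Bq Cr) ≤ (maximalIdeal Bq).map (algebraMap Bq Cr) :=
    Ideal.map_mono (le_maximalIdeal (Ideal.Quotient.nontrivial_iff.mp (inferInstanceAs (Nontrivial R'))))
  have hq' : (maximalIdeal Bq).map (algebraMap Bq Cr) = q.map (algebraMap B Cr) := by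
    rw [← Localization.AtPrime.map_eq_maximalIdeal, Ideal.map_map, ← IsScalarTower.algebraMap_eq]
  let eF : (S' ⧸ (maximalIdeal R').map (algebraMap R' S')) ≃+* EGA4.FibLocRing B C r :=
    (Ideal.quotEquivOfEq hmax).trans ((DoubleQuot.quotQuotEquivQuotOfLE hIle).trans (Ideal.quotEquivOfEq hq'))
  haveI : IsLocalRing (S' ⧸ (maximalIdeal R').map (algebraMap R' S')) := eF.symm.isLocalRing
  refine ⟨?_, ?_⟩
  · rw [← depth_eq_of_ringEquiv eS, depth_eq_add_of_flat R' S', depth_eq_of_ringEquiv (R := S' ⧸ (maximalIdeal R').map (algebraMap R' S')) (R' := EGA4.FibLocRing B C r) eF]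
  · rw [← ringKrullDim_eq_of_ringEquiv eS, Groth.Calg4.ringKrullDim_eq_add_of_flat R' S',
      ringKrullDim_eq_of_ringEquiv (R := S' ⧸ (maximalIdeal R').map (algebraMap R' S')) (S := EGA4.FibLocRing B C r) eF]

lemma min_le_add_of_min_le {n : ℕ} {a b : WithBot ℕ∞} {x y : ℕ∞} (ha : min (n : WithBot ℕ∞) a ≤ x)
    (hb : min (n : WithBot ℕ∞) b ≤ y) : min (n : WithBot ℕ∞) (a + b) ≤ ((x + y : ℕ∞) : WithBot ℕ∞) := by
  rw [WithBot.coe_add]
  rcases le_total (n : WithBot ℕ∞) a with h | h
  · exact (min_le_left _ _).trans (((min_eq_left h).symm.trans_le ha).trans (le_add_of_nonneg_right (WithBot.coe_le_coe.mpr (zero_le (a := y)))))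
  rcases le_total (n : WithBot ℕ∞) b with h' | h'
  · exact (min_le_left _ _).trans (((min_eq_left h').symm.trans_le hb).trans (le_add_of_nonneg_left (WithBot.coe_le_coe.mpr (zero_le (a := x)))))
  exact (min_le_right _ _).trans (add_le_add ((min_eq_right h).symm.trans_le ha) ((min_eq_right h').symm.trans_le hb))

end Groth.Ega4b
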