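import Groth.Agent.S9501
import Groth.Agent.Ega4Algebra2.SkFlat
import Groth.Agent.FibreDim.LocalRing
import Groth.Agent.Limits.FlatClosure
import Groth.Prelude.Def_CInt
import Mathlib

/-!
# Fibre local rings of morphisms of schemes: depth and dimension
-/

set_option linter.style.haveILetI false

universe u

namespace Groth.Ega4b

open AlgebraicGeometry CategoryTheory IsLocalRing

variable {X S : Scheme.{u}} (f : X ⟶ S)

lemma nonempty_fiber_stalk_equiv (s : S) (z : f.fiber s) (x : X) (h : f.fiberι s z = x) :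
    Nonempty ((X.presheaf.stalk x ⧸ (maximalIdeal (S.presheaf.stalk (f x))).map (f.stalkMap x).hom) ≃+*
      (f.fiber s).presheaf.stalk z) := by
  subst h
  obtain ⟨hs, hk⟩ := Groth.Agent.S9501.result f s z
  exact ⟨(Ideal.quotEquivOfEq hk.symm).trans (RingHom.quotientKerEquivOfSurjective hs)⟩

lemma nonempty_fiberStalk_equiv (x : X) :
    Nonempty ((X.presheaf.stalk x ⧸ (maximalIdeal (S.presheaf.stalk (f x))).map (f.stalkMap x).hom) ≃+*
      CInt.fiberStalk f x) :=
  nonempty_fiber_stalk_equiv f (f x) (f.asFiber x) x (f.fiberι_asFiber x)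

theorem depth_stalk_eq_add [IsLocallyNoetherian X] [IsLocallyNoetherian S] [Flat f] (x : X) :
    LocCoh.depth (X.presheaf.stalk x) (X.presheaf.stalk x) =
      LocCoh.depth (S.presheaf.stalk (f x)) (S.presheaf.stalk (f x)) +
        LocCoh.depth (CInt.fiberStalk f x) (CInt.fiberStalk f x) := by
  letI := (f.stalkMap x).hom.toAlgebra
  haveI : IsLocalHom (algebraMap (S.presheaf.stalk (f x)) (X.presheaf.stalk x)) :=
    inferInstanceAs (IsLocalHom (f.stalkMap x).hom)
  haveI : Module.Flat (S.presheaf.stalk (f x)) (X.presheaf.stalk x) := Flat.stalkMap f x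
  obtain ⟨e⟩ := nonempty_fiberStalk_equiv f x
  haveI : IsLocalRing (X.presheaf.stalk x ⧸
      (maximalIdeal (S.presheaf.stalk (f x))).map (algebraMap (S.presheaf.stalk (f x)) (X.presheaf.stalk x))) :=
    e.symm.isLocalRing
  rw [depth_eq_add_of_flat (S.presheaf.stalk (f x)) (X.presheaf.stalk x), depth_eq_of_ringEquiv
    (R := X.presheaf.stalk x ⧸ (maximalIdeal (S.presheaf.stalk (f x))).map
      (algebraMap (S.presheaf.stalk (f x)) (X.presheaf.stalk x))) (R' := CInt.fiberStalk f x) e]

theorem ringKrullDim_fiberStalk_le (x : X) :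
    ringKrullDim (CInt.fiberStalk f x) ≤ ringKrullDim (X.presheaf.stalk x) := by
  obtain ⟨e⟩ := nonempty_fiberStalk_equiv f x
  rw [← ringKrullDim_eq_of_ringEquiv e]
  exact ringKrullDim_quotient_le _

theorem ringKrullDim_stalk_eq_zero_of_maximal {Z : Scheme.{u}} {z : Z} (hz : ∀ w, w ⤳ z → w = z) :
    ringKrullDim (Z.presheaf.stalk z) = 0 := by
  rw [ringKrullDim_stalk_eq_coheight z, Order.coheight_eq_zero.mpr ?_]
  · rfl
  intro w hw
  exact (hz w hw).le

section Tower

variable {A B C : Type u} [CommRing A] [CommRing B] [CommRing C] [IsLocalRing A] [IsLocalRing B]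
  [IsLocalRing C] [IsNoetherianRing B] [IsNoetherianRing C] [Algebra A B] [Algebra B C]
  [IsLocalHom (algebraMap A B)] [IsLocalHom (algebraMap B C)]

theorem ringKrullDim_quotient_tower :
    ringKrullDim (C ⧸ (maximalIdeal A).map ((algebraMap B C).comp (algebraMap A B))) ≤
        ringKrullDim (B ⧸ (maximalIdeal A).map (algebraMap A B)) +
          ringKrullDim (C ⧸ (maximalIdeal B).map (algebraMap B C)) ∧
      (Module.Flat B C →
        ringKrullDim (C ⧸ (maximalIdeal A).map ((algebraMap B C).comp (algebraMap A B))) =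
          ringKrullDim (B ⧸ (maximalIdeal A).map (algebraMap A B)) +
            ringKrullDim (C ⧸ (maximalIdeal B).map (algebraMap B C))) := by
  set I := (maximalIdeal A).map (algebraMap A B)
  rw [← Ideal.map_map]
  have hIle : I ≤ maximalIdeal B := ((local_hom_TFAE (algebraMap A B)).out 0 2 rfl rfl).mp inferInstance
  have hICle : I.map (algebraMap B C) ≤ maximalIdeal C :=
    (Ideal.map_mono hIle).trans (((local_hom_TFAE (algebraMap B C)).out 0 2 rfl rfl).mp inferInstance)
  haveI : Nontrivial (B ⧸ I) := Ideal.Quotient.nontrivial_iff.mpr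
    (ne_top_of_le_ne_top (maximalIdeal.isMaximal B).ne_top hIle)
  haveI : Nontrivial (C ⧸ I.map (algebraMap B C)) := Ideal.Quotient.nontrivial_iff.mpr
    (ne_top_of_le_ne_top (maximalIdeal.isMaximal C).ne_top hICle)
  haveI : IsLocalRing (B ⧸ I) := IsLocalRing.of_surjective' _ Ideal.Quotient.mk_surjective
  haveI : IsLocalRing (C ⧸ I.map (algebraMap B C)) := IsLocalRing.of_surjective' _ Ideal.Quotient.mk_surjective
  haveI : IsLocalHom (algebraMap (B ⧸ I) (C ⧸ I.map (algebraMap B C))) := ⟨fun a ha => by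
    obtain ⟨a, rfl⟩ := Ideal.Quotient.mk_surjective a
    rw [Ideal.Quotient.algebraMap_quotient_map_quotient] at ha
    haveI : IsLocalHom (Ideal.Quotient.mk (I.map (algebraMap B C))) :=
      IsLocalHom.of_surjective _ Ideal.Quotient.mk_surjective
    exact (isUnit_of_map_unit (algebraMap B C) _ (isUnit_of_map_unit (Ideal.Quotient.mk _) _ ha)).map _⟩
  have hmax : (maximalIdeal (B ⧸ I)).map (algebraMap (B ⧸ I) (C ⧸ I.map (algebraMap B C))) =
      ((maximalIdeal B).map (algebraMap B C)).map (Ideal.Quotient.mk (I.map (algebraMap B C))) := by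
    rw [show maximalIdeal (B ⧸ I) = (maximalIdeal B).map (Ideal.Quotient.mk I) from
      (IsLocalRing.map_maximalIdeal_of_surjective (Ideal.Quotient.mk I) Ideal.Quotient.mk_surjective).symm]
    refine (Ideal.map_map _ _).trans (Eq.trans ?_ (Ideal.map_map _ _).symm)
    rfl
  let eF : ((C ⧸ I.map (algebraMap B C)) ⧸
      (maximalIdeal (B ⧸ I)).map (algebraMap (B ⧸ I) (C ⧸ I.map (algebraMap B C)))) ≃+*
      C ⧸ (maximalIdeal B).map (algebraMap B C) :=
    (Ideal.quotEquivOfEq hmax).trans (DoubleQuot.quotQuotEquivQuotOfLE (Ideal.map_mono hIle))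
  rw [← ringKrullDim_eq_of_ringEquiv eF]
  refine ⟨Groth.FibreDim.ringKrullDim_le_add_fibre _ _, fun h => ?_⟩
  haveI : Module.Flat (B ⧸ I) (C ⧸ I.map (algebraMap B C)) := flat_quotient_map I
  haveI : IsLocalRing ((C ⧸ I.map (algebraMap B C)) ⧸
      (maximalIdeal (B ⧸ I)).map (algebraMap (B ⧸ I) (C ⧸ I.map (algebraMap B C)))) := by
    haveI : Nontrivial (C ⧸ (maximalIdeal B).map (algebraMap B C)) := Ideal.Quotient.nontrivial_iff.mpr
      (ne_top_of_le_ne_top (maximalIdeal.isMaximal C).ne_top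
        (((local_hom_TFAE (algebraMap B C)).out 0 2 rfl rfl).mp inferInstance))
    haveI : IsLocalRing (C ⧸ (maximalIdeal B).map (algebraMap B C)) :=
      IsLocalRing.of_surjective' _ Ideal.Quotient.mk_surjective
    exact eF.symm.isLocalRing
  exact Groth.Calg4.ringKrullDim_eq_add_of_flat _ _

end Tower

theorem ringKrullDim_fiberStalk_comp {X' : Scheme.{u}} (g : X' ⟶ X) [IsLocallyNoetherian X]
    [IsLocallyNoetherian X'] (x' : X') :
    ringKrullDim (CInt.fiberStalk (g ≫ f) x') ≤
        ringKrullDim (CInt.fiberStalk f (g x')) + ringKrullDim (CInt.fiberStalk g x') ∧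
      (Flat g → ringKrullDim (CInt.fiberStalk (g ≫ f) x') =
        ringKrullDim (CInt.fiberStalk f (g x')) + ringKrullDim (CInt.fiberStalk g x')) := by
  letI := (f.stalkMap (g x')).hom.toAlgebra
  letI := (g.stalkMap x').hom.toAlgebra
  haveI : IsLocalHom (algebraMap (S.presheaf.stalk (f (g x'))) (X.presheaf.stalk (g x'))) :=
    inferInstanceAs (IsLocalHom (f.stalkMap (g x')).hom)
  haveI : IsLocalHom (algebraMap (X.presheaf.stalk (g x')) (X'.presheaf.stalk x')) :=
    inferInstanceAs (IsLocalHom (g.stalkMap x').hom)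
  obtain ⟨e1⟩ := nonempty_fiberStalk_equiv f (g x')
  obtain ⟨e2⟩ := nonempty_fiberStalk_equiv g x'
  obtain ⟨e3⟩ := nonempty_fiberStalk_equiv (g ≫ f) x'
  have hcomp : ((g ≫ f).stalkMap x').hom =
      (algebraMap (X.presheaf.stalk (g x')) (X'.presheaf.stalk x')).comp
        (algebraMap (S.presheaf.stalk (f (g x'))) (X.presheaf.stalk (g x'))) := by
    rw [Scheme.Hom.stalkMap_comp]; rfl
  rw [← ringKrullDim_eq_of_ringEquiv e1, ← ringKrullDim_eq_of_ringEquiv e2, ← ringKrullDim_eq_of_ringEquiv e3]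
  erw [ringKrullDim_eq_of_ringEquiv (Ideal.quotEquivOfEq (congrArg (fun φ => Ideal.map φ
      (maximalIdeal (S.presheaf.stalk (f (g x'))))) hcomp))]
  obtain ⟨h1, h2⟩ := ringKrullDim_quotient_tower (A := S.presheaf.stalk (f (g x')))
    (B := X.presheaf.stalk (g x')) (C := X'.presheaf.stalk x')
  refine ⟨h1, fun hg => h2 ?_⟩
  haveI := hg
  exact Flat.stalkMap g x'

end Groth.Ega4b
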