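import Groth.Agent.LocCohBase.DepthLocal
import Groth.Agent.LocCohBase.CM
import Groth.Agent.FlatMorOne.LocalCriterion
import Mathlib

/-!
# Depth of `N ⊗ M` for `N` flat over the base (EGA IV 6.3.1)
-/

set_option linter.style.haveILetI false
set_option linter.unusedSectionVars false

universe u

namespace Groth.Ega4b

open TensorProduct IsLocalRing
open scoped Pointwise

section General

variable {R S : Type u} [CommRing R] [CommRing S] [Algebra R S] (N : Type u) [AddCommGroup N]
  [Module S N] [Module R N] [IsScalarTower R S N] (M : Type u) [AddCommGroup M] [Module R M]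

instance finite_tensorLeft [Module.Finite S N] [Module.Finite R M] : Module.Finite S (N ⊗[R] M) :=
  Groth.FlatMorOne.finite_tensor_left

lemma exists_quotSMulTop_tensor_right (x : R) :
    Nonempty (QuotSMulTop (algebraMap R S x) (N ⊗[R] M) ≃ₗ[S] N ⊗[R] QuotSMulTop x M) := by
  let q : M →ₗ[R] QuotSMulTop x M := Submodule.mkQ _
  let g : N ⊗[R] M →ₗ[S] N ⊗[R] QuotSMulTop x M := AlgebraTensorModule.lTensor S N q
  have hg : Function.Surjective g := LinearMap.lTensor_surjective N (Submodule.mkQ_surjective _)
  have hex : Function.Exact (LinearMap.lsmul R M x) q := fun y => by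
    simp only [q, Submodule.mkQ_apply, Submodule.Quotient.mk_eq_zero,
      Submodule.mem_smul_pointwise_iff_exists, Submodule.mem_top, true_and, Set.mem_range]
    rfl
  have hex' := lTensor_exact N hex (Submodule.mkQ_surjective _)
  have key : ∀ z : N ⊗[R] M, LinearMap.lTensor N (LinearMap.lsmul R M x) z = algebraMap R S x • z := by
    intro z
    rw [algebraMap_smul]
    induction z with
    | zero => simp
    | tmul n m => simp [TensorProduct.tmul_smul]
    | add a b ha hb => rw [map_add, ha, hb, smul_add]
  refine ⟨(Submodule.quotEquivOfEq _ _ ?_).trans (g.quotKerEquivOfSurjective hg)⟩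
  ext z
  rw [Submodule.mem_smul_pointwise_iff_exists, LinearMap.mem_ker]
  refine Iff.trans ?_ (hex' z).symm
  constructor
  · rintro ⟨w, -, rfl⟩; exact ⟨w, key w⟩
  · rintro ⟨w, rfl⟩; exact ⟨w, trivial, (key w).symm⟩

lemma rTensor_lsmul_apply (y : S) (w : N ⊗[R] M) :
    LinearMap.rTensor M ((LinearMap.lsmul S N y).restrictScalars R) w = y • w := by
  induction w with
  | zero => simp only [map_zero, smul_zero]
  | tmul n m => rfl
  | add a b ha hb => simp only [map_add, smul_add, ha, hb]

lemma mkQ_restrictScalars_surjective (y : S) :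
    Function.Surjective ((Submodule.mkQ (y • (⊤ : Submodule S N))).restrictScalars R) :=
  fun z => Submodule.mkQ_surjective (y • (⊤ : Submodule S N)) z

lemma exact_lsmul_mkQ (y : S) :
    Function.Exact ((LinearMap.lsmul S N y).restrictScalars R)
      ((Submodule.mkQ (y • (⊤ : Submodule S N))).restrictScalars R) := fun z => by
  simp only [LinearMap.coe_restrictScalars, Submodule.mkQ_apply, Submodule.Quotient.mk_eq_zero,
    Submodule.mem_smul_pointwise_iff_exists, Submodule.mem_top, true_and, Set.mem_range]
  rfl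

lemma exists_quotSMulTop_tensor_left (y : S) :
    Nonempty (QuotSMulTop y (N ⊗[R] M) ≃ₗ[S] QuotSMulTop y N ⊗[R] M) := by
  let q : N →ₗ[S] QuotSMulTop y N := Submodule.mkQ _
  let g : N ⊗[R] M →ₗ[S] QuotSMulTop y N ⊗[R] M := AlgebraTensorModule.map q LinearMap.id
  have hgr : ∀ z, g z = LinearMap.rTensor M (q.restrictScalars R) z := by
    intro z
    induction z with
    | zero => rw [map_zero, map_zero]
    | tmul n m => simp only [g, AlgebraTensorModule.map_tmul, LinearMap.rTensor_tmul, LinearMap.id_coe, id_eq, LinearMap.coe_restrictScalars]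
    | add a b ha hb => rw [map_add, map_add, ha, hb]
  have hg : Function.Surjective g := fun z => by
    obtain ⟨w, hw⟩ := LinearMap.rTensor_surjective (g := q.restrictScalars R) M (mkQ_restrictScalars_surjective (R := R) N y) z
    exact ⟨w, (hgr w).trans hw⟩
  have hex' := rTensor_exact M (exact_lsmul_mkQ (R := R) N y) (mkQ_restrictScalars_surjective (R := R) N y)
  refine ⟨(Submodule.quotEquivOfEq _ _ ?_).trans (g.quotKerEquivOfSurjective hg)⟩
  ext z
  rw [Submodule.mem_smul_pointwise_iff_exists, LinearMap.mem_ker, hgr]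
  refine Iff.trans ?_ (hex' z).symm
  constructor
  · rintro ⟨w, -, rfl⟩; exact ⟨w, rTensor_lsmul_apply N M y w⟩
  · rintro ⟨w, rfl⟩; exact ⟨w, trivial, (rTensor_lsmul_apply N M y w).symm⟩

lemma exists_tensor_quotient (I : Ideal R) :
    Nonempty ((N ⧸ I.map (algebraMap R S) • (⊤ : Submodule S N)) ≃ₗ[S] N ⊗[R] (R ⧸ I)) := by
  let g : N →ₗ[S] N ⊗[R] (R ⧸ I) :=
    (AlgebraTensorModule.lTensor S N (Submodule.mkQ I)).comp (AlgebraTensorModule.rid R S N).symm.toLinearMap
  have hg : Function.Surjective g :=
    (LinearMap.lTensor_surjective N (Submodule.mkQ_surjective I)).comp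
      (AlgebraTensorModule.rid R S N).symm.surjective
  refine ⟨(Submodule.quotEquivOfEq _ _ ?_).trans (g.quotKerEquivOfSurjective hg)⟩
  ext z
  rw [LinearMap.mem_ker, ← Submodule.restrictScalars_mem R, Ideal.smul_restrictScalars,
    Submodule.restrictScalars_top, ← (TensorProduct.tensorQuotEquivQuotSMul N I).map_eq_zero_iff,
    show TensorProduct.tensorQuotEquivQuotSMul N I (g z) = Submodule.Quotient.mk z by
      simp [g, TensorProduct.tensorQuotEquivQuotSMul], Submodule.Quotient.mk_eq_zero]

/-- if `y` is regular on the closed fibre, it is regular on `N ⊗ M` modulo the powers -/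
lemma smul_mem_range_imp [IsLocalRing R] [Module.Flat R N] {y : S}
    (hy : IsSMulRegular (N ⊗[R] (R ⧸ maximalIdeal R)) y) :
    ∀ (k : ℕ) (V : Type u) [AddCommGroup V] [Module R V],
      (maximalIdeal R ^ k • (⊤ : Submodule R V) = ⊥) → IsSMulRegular (N ⊗[R] V) y := by
  intro k
  induction k with
  | zero =>
    intro V _ _ hV
    haveI : Subsingleton V := subsingleton_of_forall_eq 0 fun v => (Submodule.mem_bot R).mp
      (hV ▸ by simp : v ∈ (⊥ : Submodule R V))
    exact fun a b _ => Subsingleton.elim a b
  | succ k ih =>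
    intro V _ _ hV
    let W := maximalIdeal R • (⊤ : Submodule R V)
    let i : N ⊗[R] W →ₗ[S] N ⊗[R] V := AlgebraTensorModule.lTensor S N W.subtype
    let p : N ⊗[R] V →ₗ[S] N ⊗[R] (V ⧸ W) := AlgebraTensorModule.lTensor S N W.mkQ
    have hi : Function.Injective i :=
      Module.Flat.lTensor_preserves_injective_linearMap _ W.injective_subtype
    have hex : Function.Exact i p := lTensor_exact N (LinearMap.exact_subtype_mkQ W) W.mkQ_surjective
    have hW : maximalIdeal R ^ k • (⊤ : Submodule R W) = ⊥ := by
      apply Submodule.map_injective_of_injective W.injective_subtype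
      rw [Submodule.map_smul'', Submodule.map_top, Submodule.range_subtype, Submodule.map_bot,
        ← Submodule.mul_smul, ← pow_succ, hV]
    have hy1 := ih W hW
    -- the quotient is a vector space over the residue field
    have hy2 : IsSMulRegular (N ⊗[R] (V ⧸ W)) y := by
      classical
      haveI hf : (maximalIdeal R).IsMaximal := inferInstance
      letI := Ideal.Quotient.field (maximalIdeal R)
      haveI : IsScalarTower R (R ⧸ maximalIdeal R) (V ⧸ W) := inferInstance
      let b := Module.Basis.ofVectorSpace (R ⧸ maximalIdeal R) (V ⧸ W)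
      let e : (N ⊗[R] (V ⧸ W)) ≃ₗ[S] (_ →₀ N ⊗[R] (R ⧸ maximalIdeal R)) :=
        (AlgebraTensorModule.congr (LinearEquiv.refl S N) (b.repr.restrictScalars R)).trans
          (TensorProduct.finsuppRight R S N (R ⧸ maximalIdeal R) _)
      intro a c hac
      apply e.injective
      have := congrArg e hac
      simp only [map_smul] at this
      exact Finsupp.ext fun j => hy (by simpa using DFunLike.congr_fun this j)
    intro a c hac
    rw [← sub_eq_zero]
    have h0 : y • (a - c) = 0 := by rw [smul_sub]; exact sub_eq_zero.mpr hac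
    have hp : p (a - c) = 0 := hy2 (show y • p (a - c) = y • 0 by rw [← map_smul, h0, map_zero, smul_zero])
    obtain ⟨w, hw⟩ := (hex _).mp hp
    have : w = 0 := hy1 (show y • w = y • 0 by
      apply hi; rw [map_smul, hw, h0, smul_zero, map_zero])
    rw [← hw, this, map_zero]

end General

section Local

variable {R S : Type u} [CommRing R] [CommRing S] [IsLocalRing R] [IsLocalRing S] [IsNoetherianRing R]
  [IsNoetherianRing S] [Algebra R S] [IsLocalHom (algebraMap R S)] (N : Type u) [AddCommGroup N]
  [Module S N] [Module R N] [IsScalarTower R S N] [Module.Finite S N]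

lemma map_maximalIdeal_le : (maximalIdeal R).map (algebraMap R S) ≤ maximalIdeal S :=
  ((local_hom_TFAE (algebraMap R S)).out 0 2 rfl rfl).mp inferInstance

/-- an element regular on the closed fibre of a flat module is regular on `N ⊗ M` -/
theorem isSMulRegular_tensor_of_fibre [Module.Flat R N] {y : S}
    (hy : IsSMulRegular (N ⊗[R] (R ⧸ maximalIdeal R)) y) (M : Type u) [AddCommGroup M] [Module R M]
    [Module.Finite R M] : IsSMulRegular (N ⊗[R] M) y := by
  intro a c hac
  rw [← sub_eq_zero]
  have h0 : y • (a - c) = 0 := by rw [smul_sub]; exact sub_eq_zero.mpr hac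
  have hK : ⨅ k : ℕ, ((maximalIdeal R).map (algebraMap R S)) ^ k • (⊤ : Submodule S (N ⊗[R] M)) = ⊥ :=
    Ideal.iInf_pow_smul_eq_bot_of_le_jacobson _
      ((map_maximalIdeal_le (R := R) (S := S)).trans (maximalIdeal_le_jacobson _))
  refine (Submodule.mem_bot S).mp (hK ▸ Submodule.mem_iInf _ |>.mpr fun k => ?_)
  let U := maximalIdeal R ^ k • (⊤ : Submodule R M)
  let p : N ⊗[R] M →ₗ[S] N ⊗[R] (M ⧸ U) := AlgebraTensorModule.lTensor S N U.mkQ
  have hU : maximalIdeal R ^ k • (⊤ : Submodule R (M ⧸ U)) = ⊥ := by
    rw [← Submodule.range_mkQ U, LinearMap.range_eq_map, ← Submodule.map_smul'', Submodule.mkQ_map_self]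
  have hp : p (a - c) = 0 := smul_mem_range_imp N hy k (M ⧸ U) hU
    (show y • p (a - c) = y • 0 by rw [← map_smul, h0, map_zero, smul_zero])
  obtain ⟨w, hw⟩ := (lTensor_exact N (LinearMap.exact_subtype_mkQ U) U.mkQ_surjective _).mp hp
  rw [← hw, ← Ideal.map_pow]
  exact Groth.FlatMorOne.range_lTensor_smul_top_le (S := S) (maximalIdeal R ^ k) le_rfl w

/-- quotient of a flat module by an element regular on the closed fibre is flat -/
theorem flat_quotSMulTop_of_fibre [Module.Flat R N] {y : S}
    (hy : IsSMulRegular (N ⊗[R] (R ⧸ maximalIdeal R)) y) : Module.Flat R (QuotSMulTop y N) := by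
  rw [Module.Flat.iff_lTensor_injective']
  intro J
  rw [injective_iff_map_eq_zero]
  intro z hz
  let q : N →ₗ[R] QuotSMulTop y N := (Submodule.mkQ (y • (⊤ : Submodule S N))).restrictScalars R
  let μ : N →ₗ[R] N := (LinearMap.lsmul S N y).restrictScalars R
  have hex : Function.Exact μ q := exact_lsmul_mkQ N y
  have hq : Function.Surjective q := mkQ_restrictScalars_surjective (R := R) N y
  obtain ⟨z, rfl⟩ := LinearMap.rTensor_surjective (g := q) J hq z
  let j : N ⊗[R] J →ₗ[R] N ⊗[R] R := LinearMap.lTensor N J.subtype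
  let p : N ⊗[R] R →ₗ[R] N ⊗[R] (R ⧸ J) := LinearMap.lTensor N J.mkQ
  have hjS : ∀ (w : N ⊗[R] J), j (y • w) = y • j w := fun w =>
    map_smul (AlgebraTensorModule.lTensor S N J.subtype) y w
  have hpS : ∀ (w : N ⊗[R] R), p (y • w) = y • p w := fun w =>
    map_smul (AlgebraTensorModule.lTensor S N J.mkQ) y w
  have hqj : LinearMap.rTensor R q (j z) = 0 := by
    rw [← hz, ← LinearMap.comp_apply, ← LinearMap.comp_apply, LinearMap.rTensor_comp_lTensor,
      LinearMap.lTensor_comp_rTensor]
  obtain ⟨w, hw⟩ := (rTensor_exact R hex hq _).mp hqj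
  rw [rTensor_lsmul_apply] at hw
  have hexJ : Function.Exact j p := lTensor_exact N (LinearMap.exact_subtype_mkQ J) J.mkQ_surjective
  have hpw : p w = 0 := isSMulRegular_tensor_of_fibre N hy (R ⧸ J)
    (show y • p w = y • 0 by rw [← hpS, hw, hexJ.apply_apply_eq_zero, smul_zero])
  obtain ⟨w', hw'⟩ := (hexJ _).mp hpw
  have hz' : z = y • w' := Module.Flat.lTensor_preserves_injective_linearMap (M := N) _ J.injective_subtype
    (show j z = j (y • w') by rw [hjS, hw', hw])
  rw [hz', ← rTensor_lsmul_apply N J y w', ← LinearMap.comp_apply, ← LinearMap.rTensor_comp,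
    hex.linearMap_comp_eq_zero, LinearMap.rTensor_zero, LinearMap.zero_apply]

lemma depth_congr' {A : Type u} [CommRing A] [IsLocalRing A] {P Q : Type u} [AddCommGroup P] [Module A P]
    [AddCommGroup Q] [Module A Q] (e : P ≃ₗ[A] Q) : LocCoh.depth A P = LocCoh.depth A Q :=
  Groth.LocCohBase.idealDepth_congr e

lemma one_le_depth_iff {A : Type u} [CommRing A] [IsLocalRing A] [IsNoetherianRing A] (P : Type u)
    [AddCommGroup P] [Module A P] [Module.Finite A P] :
    1 ≤ LocCoh.depth A P ↔ maximalIdeal A ∉ associatedPrimes A P := by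
  rw [LocCoh.depth, Groth.LocCohBase.one_le_idealDepth_iff]
  refine ⟨fun h hm => h _ hm le_rfl, fun h q hq hle => h ?_⟩
  rwa [← (maximalIdeal.isMaximal A).eq_of_le hq.isPrime.ne_top hle] at hq

lemma subsingleton_of_fibre {R : Type u} [CommRing R] [IsLocalRing R] [IsNoetherianRing R] (S : Type u) [CommRing S] [IsLocalRing S] [IsNoetherianRing S] [Algebra R S]
    [IsLocalHom (algebraMap R S)] (N : Type u) [AddCommGroup N] [Module S N] [Module R N] [IsScalarTower R S N]
    [Module.Finite S N] (h : Subsingleton (N ⊗[R] (R ⧸ maximalIdeal R))) : Subsingleton N := by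
  obtain ⟨e⟩ := exists_tensor_quotient (S := S) N (maximalIdeal R)
  by_contra hN
  rw [not_subsingleton_iff_nontrivial] at hN
  have := e.toEquiv.subsingleton
  rw [Submodule.Quotient.subsingleton_iff] at this
  exact Groth.LocCohBase.smul_maximalIdeal_ne_top (R := S) N
    (ne_top_of_le_ne_top (maximalIdeal.isMaximal S).ne_top (map_maximalIdeal_le (R := R) (S := S))) this

lemma nontrivial_tensor {R : Type u} [CommRing R] [IsLocalRing R] [IsNoetherianRing R] (S : Type u) [CommRing S] [IsLocalRing S] [IsNoetherianRing S] [Algebra R S]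
    [IsLocalHom (algebraMap R S)] (N : Type u) [AddCommGroup N] [Module S N] [Module R N] [IsScalarTower R S N]
    [Module.Finite S N] [Module.Flat R N] [Nontrivial N] (M : Type u) [AddCommGroup M] [Module R M]
    [Nontrivial M] : Nontrivial (N ⊗[R] M) := by
  haveI : Module.FaithfullyFlat R N := by
    refine ⟨fun m hm htop => ?_⟩
    rw [IsLocalRing.eq_maximalIdeal hm] at htop
    refine not_subsingleton N (subsingleton_of_fibre (R := R) S N ?_)
    haveI : Subsingleton (N ⧸ maximalIdeal R • (⊤ : Submodule R N)) :=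
      Submodule.Quotient.subsingleton_iff.mpr htop
    exact (TensorProduct.tensorQuotEquivQuotSMul N (maximalIdeal R)).toEquiv.subsingleton
  exact Module.FaithfullyFlat.lTensor_nontrivial R N M

theorem depth_tensor_aux_zero (b : ℕ) : ∀ (N : Type u) [AddCommGroup N] [Module S N] [Module R N]
    [IsScalarTower R S N] [Module.Finite S N] [Module.Flat R N] [Nontrivial N],
    LocCoh.depth S (N ⊗[R] (R ⧸ maximalIdeal R)) = b →
    ∀ (M : Type u) [AddCommGroup M] [Module R M] [Module.Finite R M] [Nontrivial M],
      LocCoh.depth R M = 0 → LocCoh.depth S (N ⊗[R] M) = b := by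
  induction b with
  | zero =>
    intro N _ _ _ _ _ _ _ hF M _ _ _ _ hM
    have h1 : maximalIdeal R ∈ associatedPrimes R M := by
      by_contra h; exact absurd ((one_le_depth_iff M).mpr h) (by rw [hM]; simp)
    obtain ⟨-, a, ha⟩ := isAssociatedPrime_iff.mp h1
    let f : (R ⧸ maximalIdeal R) →ₗ[R] M := Submodule.liftQ _ (LinearMap.toSpanSingleton R M a)
      (fun r hr => by
        rw [ha, Submodule.mem_colon_singleton, Submodule.mem_bot] at hr
        simpa using hr)
    have hf : Function.Injective f := by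
      rw [← LinearMap.ker_eq_bot, Submodule.ker_liftQ_eq_bot']
      ext r
      rw [ha, Submodule.mem_colon_singleton, Submodule.mem_bot]
      simp
    have h2 : maximalIdeal S ∈ associatedPrimes S (N ⊗[R] (R ⧸ maximalIdeal R)) := by
      by_contra h; exact absurd ((one_le_depth_iff (A := S) _).mpr h) (by rw [hF]; simp)
    have h3 : maximalIdeal S ∈ associatedPrimes S (N ⊗[R] M) :=
      associatedPrimes.subset_of_injective (f := AlgebraTensorModule.lTensor S N f)
        (Module.Flat.lTensor_preserves_injective_linearMap f hf) h2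
    by_contra hne
    exact (one_le_depth_iff (A := S) _).mp (Order.one_le_iff_ne_zero.mpr (by simpa using hne)) h3
  | succ b ih =>
    intro N _ _ _ _ _ _ _ hF M _ _ _ _ hM
    haveI := nontrivial_tensor (R := R) S N (R ⧸ maximalIdeal R)
    have hIF := Groth.LocCohBase.smul_maximalIdeal_ne_top (R := S) (N ⊗[R] (R ⧸ maximalIdeal R))
      (maximalIdeal.isMaximal S).ne_top
    obtain ⟨y, hym, hy⟩ := Groth.LocCohBase.exists_regular_of_one_le hIF
      (show (1 : ℕ∞) ≤ LocCoh.depth S _ by rw [hF]; exact_mod_cast Nat.succ_pos b)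
    haveI := flat_quotSMulTop_of_fibre N hy
    haveI : Nontrivial (QuotSMulTop y N) := by
      refine Submodule.Quotient.nontrivial_iff.mpr fun h => ?_
      refine Groth.LocCohBase.smul_maximalIdeal_ne_top (R := S) N (maximalIdeal.isMaximal S).ne_top
        (top_unique (le_of_eq_of_le h.symm ?_))
      rw [← Submodule.ideal_span_singleton_smul]
      exact Submodule.smul_mono_left ((Ideal.span_singleton_le_iff_mem _).mpr hym)
    obtain ⟨e1⟩ := exists_quotSMulTop_tensor_left (R := R) (S := S) N (R ⧸ maximalIdeal R) y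
    have hF' : LocCoh.depth S (QuotSMulTop y N ⊗[R] (R ⧸ maximalIdeal R)) = b := by
      have h := Groth.LocCohBase.idealDepth_quotSMulTop_add_one (maximalIdeal S) _ hIF hym hy
      rw [← depth_congr' e1]
      change LocCoh.depth S _ + 1 = LocCoh.depth S _ at h
      rw [hF, Nat.cast_succ] at h
      exact (ENat.addLECancellable_of_ne_top (by simp : (1 : ℕ∞) ≠ ⊤)).inj_left.1 h
    haveI := nontrivial_tensor (R := R) S N M
    have hyT := isSMulRegular_tensor_of_fibre N hy M
    obtain ⟨e2⟩ := exists_quotSMulTop_tensor_left (R := R) (S := S) N M y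
    have hT := Groth.LocCohBase.idealDepth_quotSMulTop_add_one (maximalIdeal S) (N ⊗[R] M)
      (Groth.LocCohBase.smul_maximalIdeal_ne_top _ (maximalIdeal.isMaximal S).ne_top) hym hyT
    change LocCoh.depth S _ + 1 = LocCoh.depth S _ at hT
    rw [← hT, depth_congr' e2, ih (QuotSMulTop y N) hF' M hM, Nat.cast_succ]

theorem depth_tensor_aux (a : ℕ) : ∀ (M : Type u) [AddCommGroup M] [Module R M] [Module.Finite R M]
    [Nontrivial M], LocCoh.depth R M = a → ∀ [Module.Flat R N] [Nontrivial N],
      LocCoh.depth S (N ⊗[R] M) = a + LocCoh.depth S (N ⊗[R] (R ⧸ maximalIdeal R)) := by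
  induction a with
  | zero =>
    intro M _ _ _ _ hM _ _
    haveI := nontrivial_tensor (R := R) S N (R ⧸ maximalIdeal R)
    obtain ⟨b, hb⟩ := Groth.LocCohBase.exists_depth_eq (R := S) (N ⊗[R] (R ⧸ maximalIdeal R))
    rw [Nat.cast_zero, zero_add, hb, depth_tensor_aux_zero b N hb M hM]
  | succ a ih =>
    intro M _ _ _ _ hM _ _
    have hIM := Groth.LocCohBase.smul_maximalIdeal_ne_top (R := R) M (maximalIdeal.isMaximal R).ne_top
    obtain ⟨x, hxm, hx⟩ := Groth.LocCohBase.exists_regular_of_one_le hIM
      (show (1 : ℕ∞) ≤ LocCoh.depth R M by rw [hM]; exact_mod_cast Nat.succ_pos a)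
    haveI : Nontrivial (QuotSMulTop x M) := Submodule.Quotient.nontrivial_iff.mpr fun h => by
      refine hIM (top_unique (le_of_eq_of_le h.symm ?_))
      rw [← Submodule.ideal_span_singleton_smul]
      exact Submodule.smul_mono_left ((Ideal.span_singleton_le_iff_mem _).mpr hxm)
    have hM' : LocCoh.depth R (QuotSMulTop x M) = a := by
      have h := Groth.LocCohBase.idealDepth_quotSMulTop_add_one (maximalIdeal R) M hIM hxm hx
      change LocCoh.depth R _ + 1 = LocCoh.depth R _ at h
      rw [hM, Nat.cast_succ] at h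
      exact (ENat.addLECancellable_of_ne_top (by simp : (1 : ℕ∞) ≠ ⊤)).inj_left.1 h
    haveI := nontrivial_tensor (R := R) S N M
    have hxT : IsSMulRegular (N ⊗[R] M) (algebraMap R S x) := by
      intro z w hzw
      simp only [algebraMap_smul] at hzw
      refine Module.Flat.lTensor_preserves_injective_linearMap (M := N) (LinearMap.lsmul R M x) hx ?_
      have : LinearMap.lTensor N (LinearMap.lsmul R M x) = LinearMap.lsmul R (N ⊗[R] M) x := by
        ext; simp [TensorProduct.tmul_smul]
      rw [this]; exact hzw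
    obtain ⟨e⟩ := exists_quotSMulTop_tensor_right (S := S) N M x
    have hT := Groth.LocCohBase.idealDepth_quotSMulTop_add_one (maximalIdeal S) (N ⊗[R] M)
      (Groth.LocCohBase.smul_maximalIdeal_ne_top _ (maximalIdeal.isMaximal S).ne_top)
      (map_maximalIdeal_le (Ideal.mem_map_of_mem _ hxm)) hxT
    change LocCoh.depth S _ + 1 = LocCoh.depth S _ at hT
    rw [← hT, depth_congr' e, ih (QuotSMulTop x M) hM', Nat.cast_succ]
    ring

lemma depth_of_subsingleton {A : Type u} [CommRing A] [IsLocalRing A] (P : Type u) [AddCommGroup P]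
    [Module A P] [Subsingleton P] : LocCoh.depth A P = ⊤ :=
  Groth.LocCohBase.idealDepth_eq_top_of_smul_top_eq_top (Subsingleton.elim _ _)

/-- `depth (N ⊗ M) = depth M + depth (N / 𝔪 N)` -/
theorem depth_tensor [Module.Flat R N] (M : Type u) [AddCommGroup M] [Module R M] [Module.Finite R M] :
    LocCoh.depth S (N ⊗[R] M) = LocCoh.depth R M + LocCoh.depth S (N ⊗[R] (R ⧸ maximalIdeal R)) := by
  rcases subsingleton_or_nontrivial N with hN | hN
  · rw [depth_of_subsingleton, depth_of_subsingleton (N ⊗[R] (R ⧸ maximalIdeal R)), add_top]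
  rcases subsingleton_or_nontrivial M with hM | hM
  · rw [depth_of_subsingleton, depth_of_subsingleton M, top_add]
  obtain ⟨a, ha⟩ := Groth.LocCohBase.exists_depth_eq (R := R) M
  rw [ha, depth_tensor_aux N a M ha]

theorem depth_tensor' [Module.Flat R N] (M : Type u) [AddCommGroup M] [Module R M] [Module.Finite R M] :
    LocCoh.depth S (N ⊗[R] M) = LocCoh.depth R M +
      LocCoh.depth S (N ⧸ (maximalIdeal R).map (algebraMap R S) • (⊤ : Submodule S N)) := by
  obtain ⟨e⟩ := exists_tensor_quotient (S := S) N (maximalIdeal R)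
  rw [depth_tensor, depth_congr' e]

end Local

/-- depth is insensitive to a surjective change of rings -/
lemma depth_eq_of_surjective_algebraMap {A B : Type u} [CommRing A] [CommRing B] [IsLocalRing A]
    [IsLocalRing B] [Algebra A B] (hf : Function.Surjective (algebraMap A B)) (P : Type u)
    [AddCommGroup P] [Module A P] [Module B P] [IsScalarTower A B P] :
    LocCoh.depth A P = LocCoh.depth B P := by
  have hc : (maximalIdeal B).comap (algebraMap A B) = maximalIdeal A :=
    IsLocalRing.eq_maximalIdeal (Ideal.comap_isMaximal_of_surjective _ hf)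
  have hm : (maximalIdeal A).map (algebraMap A B) = maximalIdeal B := by
    rw [← hc, Ideal.map_comap_of_surjective _ hf]
  have htop : maximalIdeal A • (⊤ : Submodule A P) = ⊤ ↔ maximalIdeal B • (⊤ : Submodule B P) = ⊤ := by
    rw [← hm, ← Submodule.restrictScalars_eq_top_iff A B P (p := (maximalIdeal A).map (algebraMap A B) • (⊤ : Submodule B P)), Ideal.smul_restrictScalars,
      Submodule.restrictScalars_top]
  unfold LocCoh.depth LocCoh.idealDepth
  simp only [htop]
  split_ifs with h
  · rfl
  refine le_antisymm (iSup₂_le fun rs hrs => ?_) (iSup₂_le fun rs hrs => ?_)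
  · refine le_iSup₂_of_le (rs.map (algebraMap A B))
      ⟨(RingTheory.Sequence.isWeaklyRegular_map_algebraMap_iff B P rs).2 hrs.1, ?_⟩ (by simp)
    intro r hr
    obtain ⟨a, ha, rfl⟩ := List.mem_map.1 hr
    exact hm ▸ Ideal.mem_map_of_mem _ (hrs.2 a ha)
  · obtain ⟨as, rfl⟩ := List.map_surjective_iff.mpr hf rs
    refine le_iSup₂_of_le as
      ⟨(RingTheory.Sequence.isWeaklyRegular_map_algebraMap_iff B P as).1 hrs.1, ?_⟩ (by simp)
    intro r hr
    rw [← hc]
    exact hrs.2 _ (List.mem_map_of_mem hr)

/-- `depth B = depth A + depth (B / 𝔪 B)` for a flat local homomorphism -/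
theorem depth_eq_add_of_flat (R S : Type u) [CommRing R] [CommRing S] [IsLocalRing R] [IsLocalRing S]
    [IsNoetherianRing R] [IsNoetherianRing S] [Algebra R S] [IsLocalHom (algebraMap R S)] [Module.Flat R S]
    [IsLocalRing (S ⧸ (maximalIdeal R).map (algebraMap R S))] :
    LocCoh.depth S S = LocCoh.depth R R + LocCoh.depth (S ⧸ (maximalIdeal R).map (algebraMap R S))
      (S ⧸ (maximalIdeal R).map (algebraMap R S)) := by
  rw [← depth_congr' (AlgebraTensorModule.rid R S S), depth_tensor' (S := S) S R,
    ← depth_eq_of_surjective_algebraMap (A := S) (B := S ⧸ (maximalIdeal R).map (algebraMap R S))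
      Ideal.Quotient.mk_surjective (S ⧸ (maximalIdeal R).map (algebraMap R S))]
  congr 1
  exact depth_congr' (Submodule.quotEquivOfEq _ _ (by rw [smul_eq_mul, Ideal.mul_top]))

end Groth.Ega4b
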