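import Groth.Agent.Calg6.CMSop
import Mathlib

/-!
# Unmixedness in Cohen-Macaulay local rings
-/

set_option linter.style.haveILetI false

universe u

namespace Groth.Ega4b

open IsLocalRing RingTheory.Sequence Pointwise

lemma ringKrullDim_quotient_add_height_le {R : Type u} [CommRing R] {I : Ideal R} (hI : I ≠ ⊤) :
    ringKrullDim (R ⧸ I) + (I.height : WithBot ℕ∞) ≤ ringKrullDim R := by
  obtain ⟨m, hm, hIm⟩ := I.exists_le_maximal hI
  rw [ringKrullDim_quotient]
  haveI : Nonempty (PrimeSpectrum.zeroLocus (I : Set R)) := ⟨⟨⟨m, hm.isPrime⟩, hIm⟩⟩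
  rw [Order.krullDim_eq_iSup_coheight_of_nonempty, ringKrullDim]
  haveI : Nonempty (PrimeSpectrum R) := ⟨⟨m, hm.isPrime⟩⟩
  rw [Order.krullDim_eq_iSup_height_add_coheight_of_nonempty, ← WithBot.coe_add, WithBot.coe_le_coe,
    ENat.iSup_add]
  refine iSup_le fun q => le_trans ?_ (le_iSup _ q.1)
  rw [add_comm]
  refine add_le_add ?_ (Order.coheight_le_coheight_apply_of_strictMono Subtype.val (fun a b h => h) q)
  have h1 : I.height ≤ q.1.asIdeal.height := Ideal.height_mono q.2
  rwa [q.1.height_eq_orderHeight] at h1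

lemma isCM_congr {R : Type u} [CommRing R] [IsLocalRing R] [IsNoetherianRing R] {M N : Type u}
    [AddCommGroup M] [Module R M] [AddCommGroup N] [Module R N] (e : M ≃ₗ[R] N) :
    LocCoh.IsCohenMacaulayModule R M ↔ LocCoh.IsCohenMacaulayModule R N := by
  rw [LocCoh.IsCohenMacaulayModule, LocCoh.IsCohenMacaulayModule, Module.supportDim_eq_of_equiv e,
    LocCoh.depth, LocCoh.depth, Groth.LocCohBase.idealDepth_congr e]

theorem isCM_quotient_ofList {R : Type u} [CommRing R] [IsLocalRing R] [IsNoetherianRing R] (l : List R) :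
    ∀ (M : Type u) [AddCommGroup M] [Module R M] [Module.Finite R M],
      LocCoh.IsCohenMacaulayModule R M → (∀ x ∈ l, x ∈ maximalIdeal R) → IsWeaklyRegular M l →
      LocCoh.IsCohenMacaulayModule R (M ⧸ Ideal.ofList l • (⊤ : Submodule R M)) := by
  induction l with
  | nil =>
    intro M _ _ _ h _ _
    exact (isCM_congr (Submodule.quotEquivOfEqBot _ (by simp))).mpr h
  | cons x l ih =>
    intro M _ _ _ h hm hreg
    obtain ⟨h1, h2⟩ := (isWeaklyRegular_cons_iff M x l).mp hreg
    have := ih (QuotSMulTop x M) (Groth.LocCohBase.isCM_quotSMulTop h (hm x List.mem_cons_self) h1)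
      (fun y hy => hm y (List.mem_cons_of_mem _ hy)) h2
    exact (isCM_congr
      (Submodule.quotOfListConsSMulTopEquivQuotSMulTopInner M x l)).mpr this

/-- A proper ideal of height `l.length` generated by `l` in a Cohen–Macaulay local ring is unmixed. -/
theorem mem_minimalPrimes_of_associatedPrimes_quotient {R : Type u} [CommRing R] [IsLocalRing R]
    [IsNoetherianRing R] (hR : LocCoh.IsCohenMacaulayModule R R) (l : List R)
    (hm : ∀ x ∈ l, x ∈ maximalIdeal R) (hht : (l.length : ℕ∞) ≤ (Ideal.ofList l).height) :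
    ∀ p ∈ associatedPrimes R (R ⧸ Ideal.ofList l), p ∈ (Ideal.ofList l).minimalPrimes := by
  have hne : Ideal.ofList l ≠ ⊤ := fun h => (maximalIdeal.isMaximal R).ne_top
    (top_le_iff.mp (h ▸ Ideal.span_le.mpr hm))
  have he : Ideal.ofList l • (⊤ : Submodule R R) = Ideal.ofList l := by rw [smul_eq_mul, Ideal.mul_top]
  have hreg : IsWeaklyRegular R l := by
    refine Groth.Calg6.isWeaklyRegular_of_supportDim_add_length_le l R hR hm ?_
    rw [Module.supportDim_eq_of_equiv (Submodule.quotEquivOfEq _ _ he),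
      Module.supportDim_quotient_eq_ringKrullDim, Module.supportDim_self_eq_ringKrullDim]
    refine le_trans ?_ (ringKrullDim_quotient_add_height_le hne)
    gcongr
    exact_mod_cast hht
  have hCM : LocCoh.IsCohenMacaulayModule R (R ⧸ Ideal.ofList l) :=
    (isCM_congr (Submodule.quotEquivOfEq _ _ he)).mp
      (isCM_quotient_ofList l R hR hm hreg)
  intro p hp
  have := Groth.LocCohBase.mem_minimalPrimes_of_CM hCM hp
  rwa [Ideal.annihilator_quotient] at this

end Groth.Ega4b
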