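import Groth.Agent.FrobLCI.RegularSpread
import Groth.Prelude.Def_Mor2
import Groth.Prelude.Def_CInt
import Mathlib

/-!
# Regular closed immersions of locally Noetherian schemes, stalkwise
-/

set_option linter.style.haveILetI false

universe u

namespace Groth.Ega4b

open AlgebraicGeometry CategoryTheory IsLocalRing RingTheory.Sequence

variable {Z X : Scheme.{u}} (i : Z ⟶ X) [IsClosedImmersion i]

lemma ker_stalkMap_eq_map {U : X.Opens} (hU : IsAffineOpen U) (z : Z) (hz : i z ∈ U) :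
    RingHom.ker (i.stalkMap z).hom = (i.ker.ideal ⟨U, hU⟩).map (X.presheaf.germ U (i z) hz).hom := by
  rw [Scheme.Hom.ker_apply]
  letI := TopCat.Presheaf.algebra_section_stalk X.presheaf (⟨i z, hz⟩ : U)
  letI := TopCat.Presheaf.algebra_section_stalk Z.presheaf (⟨z, hz⟩ : (i ⁻¹ᵁ U : Z.Opens))
  have hV : IsAffineOpen (i ⁻¹ᵁ U) := hU.preimage i
  have hlocX : IsLocalization.AtPrime (X.presheaf.stalk (i z)) (hU.primeIdealOf ⟨i z, hz⟩).asIdeal :=
    hU.isLocalization_stalk ⟨i z, hz⟩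
  have hlocZ : IsLocalization.AtPrime (Z.presheaf.stalk z) (hV.primeIdealOf ⟨z, hz⟩).asIdeal :=
    hV.isLocalization_stalk ⟨z, hz⟩
  set p := (hU.primeIdealOf ⟨i z, hz⟩).asIdeal
  set q := (hV.primeIdealOf ⟨z, hz⟩).asIdeal
  set φ := (i.app U).hom
  have hsurj : Function.Surjective φ := i.app_surjective U hU
  have hgerm : ∀ a, (i.stalkMap z).hom (algebraMap _ (X.presheaf.stalk (i z)) a) =
      algebraMap _ (Z.presheaf.stalk z) (φ a) := fun a ↦ Scheme.Hom.germ_stalkMap_apply i U z hz a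
  have hmem' : ∀ a, φ a ∉ q → a ∉ p := by
    intro a ha hp
    apply ha
    by_contra hnq
    have h1 : IsUnit ((i.stalkMap z).hom (algebraMap _ (X.presheaf.stalk (i z)) a)) := by
      rw [hgerm]
      exact IsLocalization.map_units (Z.presheaf.stalk z) (⟨φ a, hnq⟩ : q.primeCompl)
    exact (IsLocalization.AtPrime.isUnit_to_map_iff (X.presheaf.stalk (i z)) p a).mp
      ((isUnit_map_iff (i.stalkMap z).hom _).mp h1) hp
  show RingHom.ker (i.stalkMap z).hom = (RingHom.ker φ).map (algebraMap _ (X.presheaf.stalk (i z)))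
  refine le_antisymm ?_ (Ideal.map_le_iff_le_comap.mpr fun a ha ↦ ?_)
  · intro w hw
    obtain ⟨a, s, rfl⟩ := IsLocalization.exists_mk'_eq p.primeCompl w
    rw [IsLocalization.mk'_mem_map_algebraMap_iff]
    have h1 : (i.stalkMap z).hom (algebraMap _ _ a) = 0 := by
      rw [← IsLocalization.mk'_spec (X.presheaf.stalk (i z)) a s, map_mul, RingHom.mem_ker.mp hw, zero_mul]
    rw [hgerm, IsLocalization.map_eq_zero_iff q.primeCompl] at h1
    obtain ⟨⟨m, hm⟩, hma⟩ := h1
    obtain ⟨t, rfl⟩ := hsurj m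
    exact ⟨t, hmem' t hm, RingHom.mem_ker.mpr (by rw [map_mul]; exact hma)⟩
  · rw [Ideal.mem_comap, RingHom.mem_ker, hgerm, RingHom.mem_ker.mp ha, map_zero]

lemma isRegularIdeal_of_affine {U : X.Opens} (hU : IsAffineOpen U) (z : Z) (hz : i z ∈ U)
    (rs : List Γ(X, U)) (hrs : IsWeaklyRegular Γ(X, U) rs) (hker : i.ker.ideal ⟨U, hU⟩ = Ideal.ofList rs) :
    CInt.IsRegularIdeal (RingHom.ker (i.stalkMap z).hom) := by
  rw [ker_stalkMap_eq_map i hU z hz, hker, Ideal.map_ofList]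
  letI := TopCat.Presheaf.algebra_section_stalk X.presheaf (⟨i z, hz⟩ : U)
  haveI : IsLocalization.AtPrime (X.presheaf.stalk (i z)) (hU.primeIdealOf ⟨i z, hz⟩).asIdeal :=
    hU.isLocalization_stalk ⟨i z, hz⟩
  refine ⟨_, IsWeaklyRegular.isRegular_of_isLocalization_of_mem (X.presheaf.stalk (i z))
    (hU.primeIdealOf ⟨i z, hz⟩).asIdeal hrs fun r hr => ?_, rfl⟩
  by_contra hrp
  have h1 : IsUnit (algebraMap Γ(X, U) (X.presheaf.stalk (i z)) r) :=
    IsLocalization.map_units _ (⟨r, hrp⟩ : (hU.primeIdealOf ⟨i z, hz⟩).asIdeal.primeCompl)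
  have h2 : algebraMap Γ(X, U) (X.presheaf.stalk (i z)) r ∈ RingHom.ker (i.stalkMap z).hom := by
    rw [ker_stalkMap_eq_map i hU z hz, hker]
    exact Ideal.mem_map_of_mem _ (Ideal.subset_span hr)
  have h3 := h1.map (i.stalkMap z).hom
  rw [RingHom.mem_ker.mp h2] at h3
  exact not_isUnit_zero h3

theorem isRegularIdeal_of_restrict (z : Z) (V : X.Opens) (hzV : i z ∈ V)
    (h : Mor2.IsRegularClosedImmersion (i ∣_ V)) :
    CInt.IsRegularIdeal (RingHom.ker (i.stalkMap z).hom) := by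
  obtain ⟨U, hU, hzU, rs, hrs, hker⟩ := h.2 ⟨z, hzV⟩
  have hU' : IsAffineOpen (V.ι ''ᵁ U) := hU.image_of_isOpenImmersion _
  have hz' : i z ∈ V.ι ''ᵁ U := by
    refine ⟨⟨i z, hzV⟩, ?_, rfl⟩
    have e : (i ∣_ V) ⟨z, hzV⟩ = (⟨i z, hzV⟩ : V.toScheme) := Subtype.ext (morphismRestrict_base_coe i V ⟨z, hzV⟩)
    rwa [e] at hzU
  rw [Scheme.ker_morphismRestrict_ideal] at hker
  exact isRegularIdeal_of_affine i hU' z hz' rs hrs.toIsWeaklyRegular hker

theorem exists_isRegularClosedImmersion_restrict [IsLocallyNoetherian X] (z : Z)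
    (h : CInt.IsRegularIdeal (RingHom.ker (i.stalkMap z).hom)) :
    ∃ V : X.Opens, i z ∈ V ∧ Mor2.IsRegularClosedImmersion (i ∣_ V) := by
  classical
  obtain ⟨ss, hss, hssJ⟩ := h
  obtain ⟨_, ⟨U, hU, rfl⟩, hzU, -⟩ :=
    X.isBasis_affineOpens.exists_subset_of_mem_open (Set.mem_univ (i z)) isOpen_univ
  haveI : IsNoetherianRing Γ(X, U) := IsLocallyNoetherian.component_noetherian ⟨U, hU⟩
  letI := TopCat.Presheaf.algebra_section_stalk X.presheaf (⟨i z, hzU⟩ : U)
  haveI : IsLocalization.AtPrime (X.presheaf.stalk (i z)) (hU.primeIdealOf ⟨i z, hzU⟩).asIdeal :=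
    hU.isLocalization_stalk ⟨i z, hzU⟩
  set p := (hU.primeIdealOf ⟨i z, hzU⟩).asIdeal
  set J := i.ker.ideal ⟨U, hU⟩ with hJ
  have hmap : RingHom.ker (i.stalkMap z).hom = J.map (algebraMap Γ(X, U) (X.presheaf.stalk (i z))) :=
    ker_stalkMap_eq_map i hU z hzU
  have hlift : ∀ s ∈ ss, ∃ r ∈ J, Associated s (algebraMap Γ(X, U) (X.presheaf.stalk (i z)) r) := by
    intro s hs
    have h1 : s ∈ J.map (algebraMap Γ(X, U) (X.presheaf.stalk (i z))) := by
      rw [← hmap, ← hssJ]; exact Ideal.subset_span hs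
    obtain ⟨a, d, rfl⟩ := IsLocalization.exists_mk'_eq p.primeCompl s
    rw [IsLocalization.mk'_mem_map_algebraMap_iff] at h1
    obtain ⟨t, ht, hta⟩ := h1
    refine ⟨t * a, hta, ?_⟩
    obtain ⟨u, hu⟩ := (IsLocalization.map_units (X.presheaf.stalk (i z)) (⟨t, ht⟩ : p.primeCompl)).mul
      (IsLocalization.map_units (X.presheaf.stalk (i z)) d)
    refine ⟨u, ?_⟩
    rw [hu, map_mul, ← IsLocalization.mk'_spec (X.presheaf.stalk (i z)) a d]
    ring
  choose r hrJ hr using hlift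
  let rs : List Γ(X, U) := ss.attach.map fun s => r s.1 s.2
  have hassoc : List.Forall₂ Associated ss (rs.map (algebraMap Γ(X, U) (X.presheaf.stalk (i z)))) := by
    rw [List.forall₂_iff_get]
    refine ⟨by simp [rs], fun n h1 h2 => ?_⟩
    simp only [rs, List.get_eq_getElem, List.getElem_map, List.getElem_attach]
    exact hr _ _
  let e := IsLocalization.algEquiv p.primeCompl (X.presheaf.stalk (i z)) (Localization.AtPrime p)
  have hregp : IsWeaklyRegular (Localization.AtPrime p) (rs.map (algebraMap Γ(X, U) (Localization.AtPrime p))) := by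
    have h1 := Groth.FrobLCI.RegularSpread.isWeaklyRegular_of_forall₂ hassoc hss.toIsWeaklyRegular
    rw [isWeaklyRegular_map_algebraMap_iff] at h1 ⊢
    exact (e.toLinearEquiv.isWeaklyRegular_congr rs).mp h1
  obtain ⟨t₁, ht₁, ht₁reg⟩ := Groth.FrobLCI.RegularSpread.exists_away p rs hregp
  obtain ⟨t₂, ht₂, ht₂mem⟩ := Groth.FrobLCI.RegularSpread.exists_notMem_mul_mem p (Ideal.ofList rs)
    (IsNoetherian.noetherian J) fun c hc => by
      have h1 : algebraMap Γ(X, U) (X.presheaf.stalk (i z)) c ∈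
          (Ideal.ofList rs).map (algebraMap Γ(X, U) (X.presheaf.stalk (i z))) := by
        rw [Ideal.map_ofList, ← Groth.FrobLCI.RegularSpread.ofList_eq_of_forall₂ hassoc, hssJ, hmap]
        exact Ideal.mem_map_of_mem _ hc
      rw [IsLocalization.algebraMap_mem_map_algebraMap_iff p.primeCompl] at h1
      obtain ⟨m, hm, hmc⟩ := h1
      exact ⟨m, hm, hmc⟩
  set g := t₁ * t₂
  have hgp : g ∉ p := fun h => ((inferInstance : p.IsPrime).mem_or_mem h).elim ht₁ ht₂
  have hzV : i z ∈ X.basicOpen g := by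
    have h1 : hU.fromSpec (hU.primeIdealOf ⟨i z, hzU⟩) ∈ X.basicOpen g := by
      show hU.primeIdealOf ⟨i z, hzU⟩ ∈ hU.fromSpec ⁻¹ᵁ X.basicOpen g
      rw [hU.fromSpec_preimage_basicOpen]; exact hgp
    rwa [hU.fromSpec_primeIdealOf] at h1
  set V := X.basicOpen g
  have hV : IsAffineOpen V := hU.basicOpen g
  let res := (X.presheaf.map (homOfLE (X.basicOpen_le g)).op).hom
  letI algV : Algebra Γ(X, U) Γ(X, V) := res.toAlgebra
  haveI : IsLocalization.Away g Γ(X, V) := hU.isLocalization_basicOpen g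
  have hregV : IsWeaklyRegular Γ(X, V) (rs.map res) := by
    have h1 := ht₁reg g (dvd_mul_right _ _)
    change IsWeaklyRegular Γ(X, V) (rs.map (algebraMap Γ(X, U) Γ(X, V)))
    rw [isWeaklyRegular_map_algebraMap_iff] at h1 ⊢
    exact ((IsLocalization.algEquiv (Submonoid.powers g) (Localization.Away g) Γ(X, V)).toLinearEquiv.isWeaklyRegular_congr rs).mp h1
  have hkerV : i.ker.ideal ⟨V, hV⟩ = Ideal.ofList (rs.map res) := by
    have h0 : i.ker.ideal ⟨V, hV⟩ = J.map res := (i.ker.map_ideal_basicOpen ⟨U, hU⟩ g).symm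
    rw [h0, ← Ideal.map_ofList]
    refine le_antisymm (Ideal.map_le_iff_le_comap.mpr fun c hc => ?_) (Ideal.map_mono (Ideal.span_le.mpr ?_))
    · rw [Ideal.mem_comap]
      change algebraMap Γ(X, U) Γ(X, V) c ∈ (Ideal.ofList rs).map (algebraMap Γ(X, U) Γ(X, V))
      rw [IsLocalization.algebraMap_mem_map_algebraMap_iff (Submonoid.powers g)]
      refine ⟨g, Submonoid.mem_powers g, ?_⟩
      rw [mul_assoc]
      exact Ideal.mul_mem_left _ _ (ht₂mem c hc)
    · intro r' hr'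
      obtain ⟨s, -, rfl⟩ := List.mem_map.mp hr'
      exact hrJ _ _
  refine ⟨V, hzV, inferInstance, fun w => ?_⟩
  haveI : IsAffine V.toScheme := hV
  refine ⟨⊤, isAffineOpen_top _, trivial, ?_⟩
  have hT : V.ι ''ᵁ ⊤ = V := V.ι_image_top
  have key : ∀ (W : X.Opens) (hW : IsAffineOpen W), W = V → ∃ ts : List Γ(X, W),
      IsRegular Γ(X, W) ts ∧ i.ker.ideal ⟨W, hW⟩ = Ideal.ofList ts := by
    rintro W hW rfl
    refine ⟨_, ⟨hregV, ?_⟩, hkerV⟩
    rw [smul_eq_mul, Ideal.mul_top, ← hkerV]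
    intro htop
    have hiw : i w.1 ∈ V := w.2
    have h1 : RingHom.ker (i.stalkMap w.1).hom = ⊤ := by
      rw [ker_stalkMap_eq_map i hV w.1 hiw, ← htop, Ideal.map_top]
    exact RingHom.ker_ne_top _ h1
  obtain ⟨ts, h1, h2⟩ := key (V.ι ''ᵁ ⊤) ((isAffineOpen_top _).image_of_isOpenImmersion _) hT
  exact ⟨ts, h1, by rw [Scheme.ker_morphismRestrict_ideal]; exact h2⟩

/-- `i` is a regular immersion near `z` iff its ideal at `z` is generated by a regular sequence -/
theorem regular_near_iff [IsLocallyNoetherian X] (z : Z) :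
    (∃ V : X.Opens, i z ∈ V ∧ Mor2.IsRegularClosedImmersion (i ∣_ V)) ↔
      CInt.IsRegularIdeal (RingHom.ker (i.stalkMap z).hom) :=
  ⟨fun ⟨V, h1, h2⟩ => isRegularIdeal_of_restrict i z V h1 h2, exists_isRegularClosedImmersion_restrict i z⟩

theorem isRegularClosedImmersion_iff [IsLocallyNoetherian X] :
    Mor2.IsRegularClosedImmersion i ↔ ∀ z : Z, CInt.IsRegularIdeal (RingHom.ker (i.stalkMap z).hom) := by
  refine ⟨fun h z => ?_, fun h => ⟨inferInstance, fun z => ?_⟩⟩
  · obtain ⟨U, hU, hzU, rs, hrs, hker⟩ := h.2 z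
    exact isRegularIdeal_of_affine i hU z hzU rs hrs.toIsWeaklyRegular hker
  · obtain ⟨V, hzV, hV⟩ := exists_isRegularClosedImmersion_restrict i z (h z)
    obtain ⟨U, hU, hzU, rs, hrs, hker⟩ := hV.2 ⟨z, hzV⟩
    refine ⟨V.ι ''ᵁ U, hU.image_of_isOpenImmersion _, ⟨⟨i z, hzV⟩, ?_, rfl⟩, rs, hrs, ?_⟩
    · have e : (i ∣_ V) ⟨z, hzV⟩ = (⟨i z, hzV⟩ : V.toScheme) := Subtype.ext (morphismRestrict_base_coe i V ⟨z, hzV⟩)
      rwa [e] at hzU
    · rwa [Scheme.ker_morphismRestrict_ideal] at hker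

end Groth.Ega4b

namespace Groth.Ega4b

open AlgebraicGeometry CategoryTheory IsLocalRing RingTheory.Sequence

lemma isRegularIdeal_map_equiv {R R' : Type u} [CommRing R] [CommRing R'] (e : R ≃+* R') {I : Ideal R}
    (h : CInt.IsRegularIdeal I) : CInt.IsRegularIdeal (I.map e.toRingHom) := by
  obtain ⟨rs, hrs, rfl⟩ := h
  letI : Algebra R R' := e.toRingHom.toAlgebra
  have he : R ≃ₗ[R] R' := LinearEquiv.ofBijective (Algebra.linearMap R R') e.bijective
  have hw : IsWeaklyRegular R' (rs.map e.toRingHom) := by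
    change IsWeaklyRegular R' (rs.map (algebraMap R R'))
    rw [isWeaklyRegular_map_algebraMap_iff]
    exact (he.isWeaklyRegular_congr rs).mp hrs.toIsWeaklyRegular
  refine ⟨rs.map e.toRingHom, ⟨hw, fun h => hrs.2 ?_⟩, (Ideal.map_ofList _ rs).symm⟩
  rw [smul_eq_mul, Ideal.mul_top, ← Ideal.map_ofList, eq_comm] at h
  rw [smul_eq_mul, Ideal.mul_top, eq_comm, Ideal.eq_top_iff_one]
  have h1 : e.toRingHom 1 ∈ (Ideal.ofList rs).map e.toRingHom := by rw [h]; trivial
  obtain ⟨x, hx, hxe⟩ := (Ideal.mem_map_iff_of_surjective e.toRingHom e.surjective).mp h1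
  rwa [e.injective hxe] at hx

lemma ker_stalkMap_comp {X Y Z : Scheme.{u}} (f : Y ⟶ X) (g : Z ⟶ Y) [IsClosedImmersion f] [IsClosedImmersion g] (z : Z) :
    RingHom.ker (f.stalkMap (g z)).hom ≤ RingHom.ker ((g ≫ f).stalkMap z).hom ∧
    RingHom.ker ((g ≫ f).stalkMap z).hom ≤ maximalIdeal (X.presheaf.stalk (f (g z))) ∧
    (CInt.IsRegularIdeal (RingHom.ker (g.stalkMap z).hom) ↔
      CInt.IsRegularIdeal ((RingHom.ker ((g ≫ f).stalkMap z).hom).map
        (Ideal.Quotient.mk (RingHom.ker (f.stalkMap (g z)).hom)))) := by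
  have hcomp : ((g ≫ f).stalkMap z).hom = (g.stalkMap z).hom.comp (f.stalkMap (g z)).hom := by
    rw [Scheme.Hom.stalkMap_comp]; rfl
  have hK : RingHom.ker ((g ≫ f).stalkMap z).hom = (RingHom.ker (g.stalkMap z).hom).comap (f.stalkMap (g z)).hom := by
    rw [hcomp]; exact (RingHom.comap_ker _ _).symm
  have hsurj : Function.Surjective (f.stalkMap (g z)).hom := f.stalkMap_surjective (g z)
  refine ⟨?_, le_maximalIdeal (RingHom.ker_ne_top _), ?_⟩
  · rw [hK]; exact Ideal.comap_mono bot_le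
  · let e := RingHom.quotientKerEquivOfSurjective hsurj
    have he : e.toRingHom.comp (Ideal.Quotient.mk (RingHom.ker (f.stalkMap (g z)).hom)) =
        (f.stalkMap (g z)).hom := RingHom.ext fun x => rfl
    have hmap : ((RingHom.ker ((g ≫ f).stalkMap z).hom).map (Ideal.Quotient.mk (RingHom.ker (f.stalkMap (g z)).hom))).map
        e.toRingHom = RingHom.ker (g.stalkMap z).hom := by
      refine (Ideal.map_map _ _).trans ((congrArg (fun φ => Ideal.map φ _) he).trans ?_)
      rw [hK]; exact Ideal.map_comap_of_surjective _ hsurj _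
    constructor
    · intro h
      have h1 := isRegularIdeal_map_equiv e.symm h
      rw [← hmap, Ideal.map_map] at h1
      have e1 : e.symm.toRingHom.comp e.toRingHom = RingHom.id _ := RingHom.ext fun x => e.symm_apply_apply x
      rwa [e1, Ideal.map_id] at h1
    · intro h
      rw [← hmap]
      exact isRegularIdeal_map_equiv e h

end Groth.Ega4b
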