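import Groth.Prelude.Def_EGA4b
import Groth.Prelude.Def_Found
import Mathlib

/-!
# Fibres along a base change with trivial residue extensions (localizations, quotients)
-/

set_option linter.style.haveILetI false

universe u

namespace Groth.Ega4b

open TensorProduct

section Fibre

variable (A B A' B' : Type u) [CommRing A] [CommRing B] [CommRing A'] [CommRing B'] [Algebra A A']
  [Algebra A B] [Algebra A B'] [Algebra A' B'] [Algebra B B'] [IsScalarTower A A' B']
  [IsScalarTower A B B'] [Algebra.IsPushout A A' B B']
  (p : Ideal A) [p.IsPrime] (p' : Ideal A') [p'.IsPrime] (hp : p = p'.comap (algebraMap A A'))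

/-- the fibres at `p` and `p'` when the residue fields agree -/
noncomputable def fibreEquiv
    (hbij : Function.Bijective (Ideal.ResidueField.map p p' (algebraMap A A') hp)) :
    p.Fiber B ≃+* p'.Fiber B' :=
  let ψ : p.ResidueField ≃ₐ[A] p'.ResidueField :=
    AlgEquiv.ofBijective (Ideal.ResidueField.mapₐ p p' (Algebra.ofId A A') hp) hbij
  ((Algebra.TensorProduct.congr ψ (AlgEquiv.refl : B ≃ₐ[A] B)).toRingEquiv.trans
    (Algebra.TensorProduct.cancelBaseChange A A' p'.ResidueField p'.ResidueField B).symm.toRingEquiv).trans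
    (Algebra.TensorProduct.congr (AlgEquiv.refl : p'.ResidueField ≃ₐ[p'.ResidueField] p'.ResidueField)
      (Algebra.IsPushout.equiv A A' B B')).toRingEquiv

lemma fibreEquiv_algebraMap
    (hbij : Function.Bijective (Ideal.ResidueField.map p p' (algebraMap A A') hp))
    (x : p.ResidueField) :
    fibreEquiv A B A' B' p p' hp hbij (algebraMap p.ResidueField (p.Fiber B) x) =
      algebraMap p'.ResidueField (p'.Fiber B')
        (Ideal.ResidueField.map p p' (algebraMap A A') hp x) := by
  simp [fibreEquiv, Algebra.TensorProduct.algebraMap_apply, Algebra.IsPushout.equiv_tmul]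

end Fibre

section Transport

variable {k k' : Type u} [Field k] [Field k'] {S S' : Type u} [CommRing S] [CommRing S']
  [Algebra k S] [Algebra k' S'] (ψ : k ≃+* k') (e : S ≃+* S')

lemma exists_tensor_equiv (he : ∀ x : k, e (algebraMap k S x) = algebraMap k' S' (ψ x))
    (K : Type u) [CommRing K] [Algebra k' K] :
    letI : Algebra k K := ((algebraMap k' K).comp ψ.toRingHom).toAlgebra
    Nonempty (K ⊗[k] S ≃+* K ⊗[k'] S') := by
  letI : Algebra k k' := ψ.toRingHom.toAlgebra
  letI : Algebra k K := ((algebraMap k' K).comp ψ.toRingHom).toAlgebra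
  letI : Algebra k S' := ((algebraMap k' S').comp ψ.toRingHom).toAlgebra
  haveI : IsScalarTower k k' K := IsScalarTower.of_algebraMap_eq fun _ => rfl
  haveI : IsScalarTower k k' S' := IsScalarTower.of_algebraMap_eq fun _ => rfl
  let eS : S ≃ₐ[k] S' := AlgEquiv.ofRingEquiv (f := e) he
  haveI : TensorProduct.CompatibleSMul k k' K S' := ⟨fun r m n => by
    obtain ⟨r, rfl⟩ := ψ.surjective r
    have hm : ψ r • m = r • m := (algebraMap_smul k' r m)
    have hn : ψ r • n = r • n := (algebraMap_smul k' r n)
    rw [hm, hn, TensorProduct.smul_tmul]⟩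
  exact ⟨((Algebra.TensorProduct.congr (AlgEquiv.refl : K ≃ₐ[k] K) eS).toRingEquiv).trans
    (Algebra.TensorProduct.equivOfCompatibleSMul k k' k' K S').symm.toRingEquiv⟩

lemma finite_restrict (K : Type u) [CommRing K] [Algebra k' K] [Module.Finite k' K] :
    letI : Algebra k K := ((algebraMap k' K).comp ψ.toRingHom).toAlgebra
    Module.Finite k K := by
  letI : Algebra k k' := ψ.toRingHom.toAlgebra
  letI : Algebra k K := ((algebraMap k' K).comp ψ.toRingHom).toAlgebra
  haveI : IsScalarTower k k' K := IsScalarTower.of_algebraMap_eq fun _ => rfl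
  haveI : Module.Finite k k' := Module.Finite.of_surjective (Algebra.linearMap k k') ψ.surjective
  exact Module.Finite.trans k' K

lemma isNormalRing_of_ringEquiv {R R' : Type u} [CommRing R] [CommRing R'] (f : R ≃+* R')
    (h : EGA4.IsNormalRing R) : EGA4.IsNormalRing R' := by
  intro p hp
  obtain ⟨h1, h2⟩ := h (p.comap f.toRingHom)
  let g : Localization.AtPrime (p.comap f.toRingHom) ≃+* Localization.AtPrime p :=
    IsLocalization.ringEquivOfRingEquiv (M := (p.comap f.toRingHom).primeCompl) (T := p.primeCompl)
      _ _ f (by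
        ext x
        constructor
        · rintro ⟨y, hy, rfl⟩; exact hy
        · intro hx; exact ⟨f.symm x, by simpa [Ideal.primeCompl] using hx, f.apply_symm_apply x⟩)
  exact ⟨g.toMulEquiv.isDomain_iff.mp h1, IsIntegrallyClosed.of_equiv g⟩

lemma isRegularRing_of_ringEquiv {R R' : Type u} [CommRing R] [CommRing R'] (f : R ≃+* R')
    (h : IsRegularRing R) : IsRegularRing R' := by
  exact IsRegularRing.of_ringEquiv f

lemma isGeomNormal_of_equiv (he : ∀ x : k, e (algebraMap k S x) = algebraMap k' S' (ψ x))
    (h : EGA4.IsGeomNormal k S) : EGA4.IsGeomNormal k' S' := by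
  intro K _ _ hK
  letI : Algebra k K := ((algebraMap k' K).comp ψ.toRingHom).toAlgebra
  obtain ⟨f⟩ := exists_tensor_equiv ψ e he K
  exact isNormalRing_of_ringEquiv f (h K (finite_restrict ψ K))

lemma isGeometricallyRegular_of_equiv (he : ∀ x : k, e (algebraMap k S x) = algebraMap k' S' (ψ x))
    (h : CAlg.IsGeometricallyRegular k S) : CAlg.IsGeometricallyRegular k' S' := by
  intro K _ _ hK
  letI : Algebra k K := ((algebraMap k' K).comp ψ.toRingHom).toAlgebra
  obtain ⟨f⟩ := exists_tensor_equiv ψ e he K
  exact isRegularRing_of_ringEquiv f (h K (finite_restrict ψ K))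

lemma isGeometricallyReduced_of_equiv (he : ∀ x : k, e (algebraMap k S x) = algebraMap k' S' (ψ x))
    (h : Algebra.IsGeometricallyReduced k S) : Algebra.IsGeometricallyReduced k' S' := by
  rw [Algebra.isGeometricallyReduced_field_iff]
  suffices H : ∀ (K : Type u) [Field K] [Algebra k' K] [Algebra.IsAlgebraic k' K],
      IsReduced (K ⊗[k'] S') from H (AlgebraicClosure k')
  intro K _ _ _
  letI : Algebra k k' := ψ.toRingHom.toAlgebra
  letI : Algebra k K := ((algebraMap k' K).comp ψ.toRingHom).toAlgebra
  haveI : IsScalarTower k k' K := IsScalarTower.of_algebraMap_eq fun _ => rfl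
  haveI : Module.Finite k k' := Module.Finite.of_surjective (Algebra.linearMap k k') ψ.surjective
  haveI : Algebra.IsAlgebraic k K := Algebra.IsAlgebraic.trans k k' _
  obtain ⟨f⟩ := exists_tensor_equiv ψ e he K
  exact isReduced_of_injective f.symm.toRingHom f.symm.injective

end Transport

end Groth.Ega4b

namespace Groth.Ega4b

open TensorProduct

section LocalizedHom

variable (A B : Type u) [CommRing A] [CommRing B] [Algebra A B] (S : Submonoid A)
  (A' B' : Type u) [CommRing A'] [CommRing B'] [Algebra A A'] [Algebra B B'] [Algebra A' B']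
  [Algebra A B'] [IsScalarTower A A' B'] [IsScalarTower A B B'] [IsLocalization S A']
  [IsLocalization (Algebra.algebraMapSubmonoid B S) B']

include S

lemma isPushout_localization : Algebra.IsPushout A A' B B' :=
  (Algebra.isPushout_of_isLocalization (R := A) S (A := A') (T := B) (B := B')).symm

lemma flat_localization [Module.Flat A B] : Module.Flat A' B' := by
  haveI := isPushout_localization A B S A' B'
  exact Module.Flat.isBaseChange (R := A) (M := B) (S := A') (N := B') Algebra.IsPushout.out

lemma exists_fibreEquiv_localization (p' : Ideal A') [p'.IsPrime] :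
    ∃ (ψ : (p'.comap (algebraMap A A')).ResidueField ≃+* p'.ResidueField)
      (e : (p'.comap (algebraMap A A')).Fiber B ≃+* p'.Fiber B'),
      ∀ x, e (algebraMap _ _ x) = algebraMap _ _ (ψ x) := by
  haveI := isPushout_localization A B S A' B'
  have h := RingHom.SurjectiveOnStalks.residueFieldMap_bijective
    (RingHom.surjectiveOnStalks_of_isLocalization S A') (p'.comap (algebraMap A A')) p' rfl
  exact ⟨RingEquiv.ofBijective _ h, fibreEquiv A B A' B' _ p' rfl h,
    fibreEquiv_algebraMap A B A' B' _ p' rfl h⟩

end LocalizedHom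

end Groth.Ega4b
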