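import Groth.Agent.FlatMorOne.LocalCriterion
import Mathlib

/-!
# Regular sequences and the local criterion of flatness (EGA 0_IV 15.1.21 type statements)
-/

set_option linter.style.haveILetI false

universe u v

namespace Groth.Ega4b

open RingTheory.Sequence TensorProduct
open scoped Pointwise

/-- a regular sequence has only the trivial relations -/
lemma tmul_relation_eq_zero {B : Type u} [CommRing B] {M : Type v} [AddCommGroup M] [Module B M]
    (Q : Ideal B) : ∀ {n : ℕ} (f : Fin n → Q),
      IsWeaklyRegular M (List.ofFn fun i => (f i : B)) →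
      ∀ m : Fin n → M, ∑ i, (f i : B) • m i = 0 → ∑ i, (f i) ⊗ₜ[B] m i = 0 := by
  intro n
  induction n with
  | zero => intro f _ m _; simp
  | succ n ih =>
    intro f hf m hm
    rw [List.ofFn_succ', List.concat_eq_append, isWeaklyRegular_append_iff,
      isWeaklyRegular_singleton_iff] at hf
    obtain ⟨hf1, hf2⟩ := hf
    rw [Fin.sum_univ_castSucc] at hm ⊢
    set I := Ideal.ofList (List.ofFn fun i : Fin n => (f i.castSucc : B)) with hIdef
    have hI : I = Ideal.span (Set.range fun i : Fin n => (f i.castSucc : B)) := by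
      rw [hIdef]; unfold Ideal.ofList; congr 1; ext x; simp [List.mem_ofFn]
    have hg : (f (Fin.last n) : B) • m (Fin.last n) ∈ I • (⊤ : Submodule B M) := by
      rw [eq_neg_of_add_eq_zero_right hm]
      refine neg_mem (Submodule.sum_mem _ fun i _ => Submodule.smul_mem_smul ?_ trivial)
      rw [hI]; exact Ideal.subset_span ⟨i, rfl⟩
    have hmem := mem_of_isSMulRegular_quotient_of_smul_mem hf2 hg
    obtain ⟨y, hy⟩ : ∃ y : Fin n → M, ∑ i, (f i.castSucc : B) • y i = m (Fin.last n) := by
      rw [hI] at hmem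
      refine Submodule.smul_induction_on hmem ?_ ?_
      · intro r hr x _
        obtain ⟨c, rfl⟩ := Ideal.mem_span_range_iff_exists_fun.mp hr
        exact ⟨fun i => c i • x, by
          simp [Finset.sum_smul, smul_smul, mul_comm]⟩
      · rintro x y ⟨a, rfl⟩ ⟨b, rfl⟩
        exact ⟨a + b, by simp [Finset.sum_add_distrib]⟩
    have h1 := ih (fun i => f i.castSucc) hf1 (fun i => m i.castSucc + (f (Fin.last n) : B) • y i) (by
      simp only [smul_add, Finset.sum_add_distrib, smul_comm (f _ : B) (f (Fin.last n) : B),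
        ← Finset.smul_sum, hy, hm])
    rw [← hy, TensorProduct.tmul_sum, ← Finset.sum_add_distrib]
    refine (Finset.sum_congr rfl fun i _ => ?_).trans h1
    rw [TensorProduct.tmul_add, TensorProduct.tmul_smul, TensorProduct.tmul_smul]
    congr 1
    rw [TensorProduct.smul_tmul', TensorProduct.smul_tmul']
    congr 1
    exact Subtype.ext (mul_comm _ _)

/-- the ideal of a regular sequence tensored with `M` injects into `M` -/
lemma rTensor_injective_of_isWeaklyRegular {B : Type u} [CommRing B] {M : Type v} [AddCommGroup M]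
    [Module B M] {n : ℕ} (f : Fin n → B) (h : IsWeaklyRegular M (List.ofFn f)) :
    Function.Injective ((Ideal.span (Set.range f)).subtype.rTensor M) := by
  set Q := Ideal.span (Set.range f)
  let f' : Fin n → Q := fun i => ⟨f i, Ideal.subset_span ⟨i, rfl⟩⟩
  refine (injective_iff_map_eq_zero _).mpr fun z hz => ?_
  obtain ⟨m, rfl⟩ : ∃ m : Fin n → M, ∑ i, f' i ⊗ₜ[B] m i = z := by
    clear hz
    induction z with
    | zero => exact ⟨0, by simp⟩
    | add a b ha hb =>
      obtain ⟨a, rfl⟩ := ha
      obtain ⟨b, rfl⟩ := hb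
      exact ⟨a + b, by simp [TensorProduct.tmul_add, Finset.sum_add_distrib]⟩
    | tmul r x =>
      obtain ⟨c, hc⟩ := Ideal.mem_span_range_iff_exists_fun.mp r.2
      refine ⟨fun i => c i • x, ?_⟩
      simp_rw [← TensorProduct.smul_tmul, ← TensorProduct.sum_tmul]
      congr 1
      exact Subtype.ext (by simp [f', hc])
  refine tmul_relation_eq_zero Q f' h m ?_
  have := congrArg (TensorProduct.lid B M) hz
  simpa [f', map_sum] using this

/-- flatness along a semilinear bijection over a ring isomorphism -/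
lemma flat_of_semilinear {R S X Y : Type*} [CommRing R] [CommRing S] [AddCommGroup X] [Module R X]
    [AddCommGroup Y] [Module S Y] (σ : R ≃+* S) (e : X ≃+ Y) (h : ∀ r x, e (r • x) = σ r • e x)
    [Module.Flat R X] : Module.Flat S Y := by
  letI : Algebra R S := σ.toRingHom.toAlgebra
  letI : Module R Y := Module.compHom Y σ.toRingHom
  haveI : IsScalarTower R S Y := ⟨fun r s y => by
    show ((σ r) * s) • y = σ r • (s • y)
    rw [mul_smul]⟩
  haveI : Module.Flat R Y := Module.Flat.of_linearEquiv ({ e with map_smul' := h } : X ≃ₗ[R] Y).symm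
  haveI : TensorProduct.CompatibleSMul R S S Y := ⟨fun r m n => by
    obtain ⟨r, rfl⟩ := σ.surjective r
    have hm : σ r • m = r • m := rfl
    have hn : σ r • n = r • n := rfl
    rw [hm, hn, TensorProduct.smul_tmul]⟩
  haveI : TensorProduct.CompatibleSMul S R S Y := ⟨fun r m n => by
    rw [← algebraMap_smul S r m, ← algebraMap_smul S r n, TensorProduct.smul_tmul]⟩
  exact Module.Flat.of_linearEquiv
    ((TensorProduct.equivOfCompatibleSMul R S S S Y).symm ≪≫ₗ TensorProduct.lid S Y).symm

/-- flatness and regular sequences: `M` flat over `B` iff `M/fM` flat over `B/(f)` and `f` regular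
on `M` -/
theorem flat_iff_flat_quotient_and_isWeaklyRegular {B : Type u} [CommRing B] [IsNoetherianRing B]
    {M : Type u} [AddCommGroup M] [Module B M] [Module.Finite B M] {n : ℕ} (f : Fin n → B)
    (hrad : ∀ i, f i ∈ (⊥ : Ideal B).jacobson) (hB : IsWeaklyRegular B (List.ofFn f)) :
    Module.Flat B M ↔ Module.Flat (B ⧸ Ideal.span (Set.range f)) ((B ⧸ Ideal.span (Set.range f)) ⊗[B] M) ∧
      IsWeaklyRegular M (List.ofFn f) := by
  refine ⟨fun h => ⟨inferInstance, ?_⟩, fun ⟨h, h'⟩ => ?_⟩
  · exact ((TensorProduct.lid B M).isWeaklyRegular_congr _).mp (hB.isWeaklyRegular_rTensor (M₂ := M))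
  · refine Groth.FlatMorOne.flat_of_rTensor_injective (S := B) (Ideal.span (Set.range f)) ?_
      (rTensor_injective_of_isWeaklyRegular f h')
    rw [Algebra.algebraMap_self, Ideal.map_id, Ideal.span_le]
    rintro _ ⟨i, rfl⟩
    exact hrad i

/-- `flat_iff_flat_quotient_and_isWeaklyRegular` for an `A/R`-module, read over `A` -/
theorem flat_iff_of_quotient {A : Type u} [CommRing A] [IsNoetherianRing A] (R : Ideal A) {n : ℕ}
    (f : Fin n → A) (hrad : ∀ i, f i ∈ (⊥ : Ideal A).jacobson)
    (hreg : IsWeaklyRegular (A ⧸ R) (List.ofFn f)) (N : Type u) [AddCommGroup N] [Module A N]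
    [Module (A ⧸ R) N] [IsScalarTower A (A ⧸ R) N] [Module.Finite A N] :
    Module.Flat (A ⧸ R) N ↔
      Module.Flat (A ⧸ (R ⊔ Ideal.span (Set.range f)))
          (N ⧸ ((R ⊔ Ideal.span (Set.range f)) • (⊤ : Submodule A N))) ∧
        IsWeaklyRegular N (List.ofFn f) := by
  haveI : Module.Finite (A ⧸ R) N := Module.Finite.of_restrictScalars_finite A (A ⧸ R) N
  set F := Ideal.span (Set.range f) with hF
  set g : Fin n → A ⧸ R := fun i => Ideal.Quotient.mk R (f i)
  have hlist : (List.ofFn f).map (algebraMap A (A ⧸ R)) = List.ofFn g := by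
    rw [List.map_ofFn]; rfl
  have hgrad : ∀ i, g i ∈ (⊥ : Ideal (A ⧸ R)).jacobson := fun i => by
    refine Ideal.mem_jacobson_bot.mpr fun y => ?_
    obtain ⟨y, rfl⟩ := Ideal.Quotient.mk_surjective y
    simpa [g] using (Ideal.mem_jacobson_bot.mp (hrad i) y).map (Ideal.Quotient.mk R)
  have hregB : IsWeaklyRegular (A ⧸ R) (List.ofFn g) :=
    hlist ▸ (isWeaklyRegular_map_algebraMap_iff (A ⧸ R) _ _).mpr hreg
  rw [flat_iff_flat_quotient_and_isWeaklyRegular g hgrad hregB, ← hlist,
    isWeaklyRegular_map_algebraMap_iff]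
  refine and_congr_left' ?_
  set q := Ideal.span (Set.range g) with hq
  have hqF : F.map (Ideal.Quotient.mk R) = q := by
    rw [hF, Ideal.map_span, ← Set.range_comp]; rfl
  let σ : ((A ⧸ R) ⧸ q) ≃+* A ⧸ (R ⊔ F) :=
    (Ideal.quotEquivOfEq hqF.symm).trans (DoubleQuot.quotQuotEquivQuotSup R F)
  have hsub : (q • (⊤ : Submodule (A ⧸ R) N)).restrictScalars A = (R ⊔ F) • (⊤ : Submodule A N) := by
    have h1 : (R ⊔ F).map (algebraMap A (A ⧸ R)) = q := by
      rw [Ideal.Quotient.algebraMap_eq, Ideal.map_sup, Ideal.map_quotient_self, bot_sup_eq, hqF]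
    rw [← h1, Ideal.smul_restrictScalars, Submodule.restrictScalars_top]
  let e : ((A ⧸ R) ⧸ q) ⊗[A ⧸ R] N ≃+ N ⧸ ((R ⊔ F) • (⊤ : Submodule A N)) :=
    (TensorProduct.quotTensorEquivQuotSMul N q).toAddEquiv.trans
      ((Submodule.Quotient.restrictScalarsEquiv A (q • (⊤ : Submodule (A ⧸ R) N))).symm.toAddEquiv.trans
        (Submodule.quotEquivOfEq _ _ hsub).toAddEquiv)
  have hsmul : ∀ r x, e (r • x) = σ r • e x := by
    intro r x
    obtain ⟨r, rfl⟩ := Ideal.Quotient.mk_surjective r
    obtain ⟨r, rfl⟩ := Ideal.Quotient.mk_surjective r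
    induction x with
    | zero => simp
    | add a b ha hb => rw [smul_add, map_add, ha, hb, map_add, smul_add]
    | tmul c m =>
      obtain ⟨c, rfl⟩ := Ideal.Quotient.mk_surjective c
      obtain ⟨c, rfl⟩ := Ideal.Quotient.mk_surjective c
      show (Submodule.Quotient.mk ((Ideal.Quotient.mk R r * Ideal.Quotient.mk R c) • m) :
          N ⧸ ((R ⊔ F) • (⊤ : Submodule A N))) = Submodule.Quotient.mk (r • (Ideal.Quotient.mk R c • m))
      rw [mul_smul, ← algebraMap_smul (A ⧸ R) r]; rfl
  constructor
  · intro h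
    exact flat_of_semilinear σ e hsmul
  · intro h
    refine flat_of_semilinear σ.symm e.symm fun r x => ?_
    apply e.injective
    rw [hsmul, AddEquiv.apply_symm_apply, RingEquiv.apply_symm_apply, AddEquiv.apply_symm_apply]

end Groth.Ega4b
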