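import Groth.Agent.Calg1.AnalyticUnramifiedNagata
import Groth.Agent.Calg4.Japanese
import Groth.Agent.VarietyBC.TensorGeom
import Mathlib

/-!
# Geometrically reduced fibres from a geometrically reduced closed fibre, Nagata base
-/

set_option linter.style.haveILetI false

universe u

namespace Groth.Ega4b

open TensorProduct IsLocalRing

/-- A field-tested criterion for geometric reducedness. -/
lemma isGeometricallyReduced_of_finite (k : Type u) [Field k] (F : Type u) [CommRing F] [Algebra k F]
    (h : ∀ (K : Type u) [Field K] [Algebra k K], Module.Finite k K → IsReduced (K ⊗[k] F)) :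
    Algebra.IsGeometricallyReduced k F := by
  rw [Algebra.isGeometricallyReduced_field_iff]
  refine Groth.VarietyBC.isReduced_tensor_comm (A := F) (B := AlgebraicClosure k)
    (IsReduced.tensorProduct_of_flat_of_forall_fg fun K hK => ?_)
  let E : IntermediateField k (AlgebraicClosure k) :=
    K.toIntermediateField fun x hx => K.inv_mem_of_algebraic (x := ⟨x, hx⟩) (Algebra.IsAlgebraic.isAlgebraic x)
  haveI : Algebra.FiniteType k K := (Subalgebra.fg_iff_finiteType K).mp hK
  haveI : Algebra.IsAlgebraic k K :=
    Algebra.IsAlgebraic.of_injective K.val Subtype.val_injective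
  haveI : Algebra.IsIntegral k K := Algebra.IsAlgebraic.isIntegral
  have hfin : Module.Finite k K := Algebra.IsIntegral.finite
  exact Groth.VarietyBC.isReduced_tensor_comm (h E hfin)

/-- In a flat algebra, a prime with reduced fibre extends to a radical ideal. -/
lemma isRadical_map_of_isReduced_fiber {B T : Type u} [CommRing B] [CommRing T] [Algebra B T]
    [Module.Flat B T] (P : Ideal B) [P.IsPrime] [IsReduced (P.Fiber T)] :
    (P.map (algebraMap B T)).IsRadical := by
  rw [Ideal.isRadical_iff_quotient_reduced]
  let e : (T ⧸ P.map (algebraMap B T)) ≃+* (B ⧸ P) ⊗[B] T :=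
    ((Algebra.TensorProduct.quotIdealMapEquivTensorQuot T P).toRingEquiv).trans
      (Algebra.TensorProduct.comm B T (B ⧸ P)).toRingEquiv
  let g : (B ⧸ P) ⊗[B] T →ₐ[B] P.Fiber T :=
    Algebra.TensorProduct.map (IsScalarTower.toAlgHom B (B ⧸ P) P.ResidueField) (AlgHom.id B T)
  have hg : Function.Injective g :=
    Module.Flat.rTensor_preserves_injective_linearMap _ (IsFractionRing.injective (B ⧸ P) P.ResidueField)
  haveI : IsReduced ((B ⧸ P) ⊗[B] T) := isReduced_of_injective g hg
  exact isReduced_of_injective e e.injective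

/-- At an associated prime of a nonzero principal ideal, a normal Noetherian domain is principal. -/
lemma exists_locally_principal {A : Type u} [CommRing A] [IsDomain A] [IsNoetherianRing A]
    [IsIntegrallyClosed A] {x : A} (hx0 : x ≠ 0) {P : Ideal A}
    (hP : P ∈ associatedPrimes A (A ⧸ Ideal.span {x})) :
    ∃ π ∈ P, ∃ s, s ∉ P ∧ ∀ y ∈ P, ∃ t, s * y = π * t := by
  let F := FractionRing A
  obtain ⟨hPp, w, hw⟩ := isAssociatedPrime_iff.1 hP
  haveI := hPp
  obtain ⟨a, rfl⟩ := Ideal.Quotient.mk_surjective w
  have hmemP : ∀ y, y ∈ P ↔ y * a ∈ Ideal.span {x} := fun y => by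
    rw [hw, Submodule.mem_colon_singleton, Submodule.mem_bot, ← Ideal.Quotient.mk_eq_mk,
      ← Submodule.Quotient.mk_smul, Submodule.Quotient.mk_eq_zero, smul_eq_mul]
  have hxP : x ∈ P := (hmemP x).2 (Ideal.mul_mem_right _ _ (Ideal.mem_span_singleton_self x))
  have hxne : algebraMap A F x ≠ 0 := (map_ne_zero_iff _ (IsFractionRing.injective A F)).2 hx0
  obtain ⟨π, hπ, s, hs, hsπ⟩ := Groth.Calg1.exists_pi_of_isIntegrallyClosed P
    (fun h0 => hx0 (by rw [h0] at hxP; simpa using hxP))
    (algebraMap A F a / algebraMap A F x) (by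
      rintro ⟨c, hc⟩
      rw [eq_div_iff hxne, ← map_mul] at hc
      refine hPp.ne_top ((Ideal.eq_top_iff_one _).2 ((hmemP 1).2 ?_))
      rw [one_mul, ← IsFractionRing.injective A F hc]
      exact Ideal.mul_mem_left _ _ (Ideal.mem_span_singleton_self x))
    (fun y hy => by
      obtain ⟨t, ht⟩ := Ideal.mem_span_singleton'.1 ((hmemP y).1 hy)
      refine ⟨t, ?_⟩
      rw [div_mul_eq_mul_div, eq_div_iff hxne, ← map_mul, ← map_mul, ht, mul_comm])
  refine ⟨π, hπ, s, hs, fun y hy => ?_⟩
  obtain ⟨t, ht⟩ := Ideal.mem_span_singleton'.1 ((hmemP y).1 hy)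
  refine ⟨t, IsFractionRing.injective A F ?_⟩
  rw [map_mul, map_mul, hsπ, mul_comm (algebraMap A F π), mul_comm _ (algebraMap A F y),
    ← mul_assoc (algebraMap A F y), mul_comm (algebraMap A F y), div_mul_eq_mul_div, ← map_mul,
    mul_comm a y, ← ht, map_mul, mul_div_cancel_right₀ _ hxne]

section

variable (R S : Type u) [CommRing R] [IsNoetherianRing R] [IsLocalRing R] [CommRing S]
  [IsNoetherianRing S] [IsLocalRing S] [Algebra R S] [IsLocalHom (algebraMap R S)] [Module.Flat R S]

set_option synthInstance.maxHeartbeats 400000 in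
/-- The inductive step: `K ⊗ S` is reduced. -/
lemma isReduced_tensor_of_larger (hR : CAlg.IsNagata R) (p : Ideal R) [p.IsPrime]
    (hp : p ≠ maximalIdeal R)
    (ih : ∀ q : Ideal R, ∀ [q.IsPrime], p < q →
      Algebra.IsGeometricallyReduced q.ResidueField (q.Fiber S))
    (K : Type u) [Field K] [Algebra R K] [Algebra p.ResidueField K]
    [IsScalarTower R p.ResidueField K] [Module.Finite p.ResidueField K] :
    IsReduced (K ⊗[R] S) := by
  letI : Algebra (R ⧸ p) K :=
    ((algebraMap p.ResidueField K).comp (algebraMap (R ⧸ p) p.ResidueField)).toAlgebra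
  haveI : IsScalarTower (R ⧸ p) p.ResidueField K := IsScalarTower.of_algebraMap_eq fun _ => rfl
  haveI : IsScalarTower R (R ⧸ p) K := IsScalarTower.of_algebraMap_eq fun r => by
    show _ = algebraMap p.ResidueField K (algebraMap (R ⧸ p) p.ResidueField (algebraMap R (R ⧸ p) r))
    rw [IsScalarTower.algebraMap_apply R p.ResidueField K, IsScalarTower.algebraMap_apply R (R ⧸ p) p.ResidueField]
  let R' := integralClosure (R ⧸ p) K
  haveI : Module.Finite (R ⧸ p) R' := Groth.Calg4.finite_ic_of_isN2 (hR.2 p) p.ResidueField K
  haveI : Module.Finite R R' := Module.Finite.trans (R ⧸ p) R'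
  haveI : IsFractionRing R' K :=
    integralClosure.isFractionRing_of_finite_extension p.ResidueField K
  haveI : IsIntegrallyClosed R' := integralClosure.isIntegrallyClosedOfFiniteExtension p.ResidueField
  haveI : IsNoetherianRing R' := IsNoetherianRing.of_finite R R'
  let S' := R' ⊗[R] S
  haveI : IsNoetherianRing S' :=
    haveI : IsNoetherianRing (S ⊗[R] R') := Algebra.EssFiniteType.isNoetherianRing S (S ⊗[R] R')
    isNoetherianRing_of_ringEquiv _ (Algebra.TensorProduct.comm R S R').toRingEquiv
  have hinjK : ∀ r : R, algebraMap R K r = 0 ↔ r ∈ p := fun r => by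
    rw [IsScalarTower.algebraMap_apply R p.ResidueField K, FaithfulSMul.algebraMap_eq_zero_iff,
      Ideal.algebraMap_residueField_eq_zero]
  obtain ⟨x₀, hx₀m, hx₀p⟩ := Set.exists_of_ssubset
    (SetLike.coe_ssubset_coe.mpr (lt_of_le_of_ne (le_maximalIdeal (Ideal.IsPrime.ne_top ‹p.IsPrime›)) hp))
  have hx0 : algebraMap R R' x₀ ≠ 0 := fun h => hx₀p ((hinjK x₀).mp (congrArg Subtype.val h))
  haveI : IsReduced S' := by
    refine Groth.Calg1.isReduced_of_flat (B := R') (T := S') (algebraMap R R' x₀) hx0 (fun z hz => ?_) fun P hP =>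
      ⟨?_, exists_locally_principal hx0 hP⟩
    · letI : Algebra S S' := Algebra.TensorProduct.rightAlgebra
      haveI : Module.Finite S S' :=
        Module.Finite.equiv (Algebra.TensorProduct.commRight R S R').toLinearEquiv
      have hmem : z ∈ (⨅ n : ℕ, maximalIdeal S ^ n • (⊤ : Submodule S S')) := by
        refine (Submodule.mem_iInf _).mpr fun n => ?_
        obtain ⟨w, hw⟩ := Ideal.mem_span_singleton'.mp (hz n)
        have : z = (algebraMap R S x₀) ^ n • w := by
          rw [← hw, Algebra.smul_def, mul_comm, map_pow]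
          congr 2
          rw [← IsScalarTower.algebraMap_apply R R' S', ← IsScalarTower.algebraMap_apply R S S']
        rw [this]
        exact Submodule.smul_mem_smul (Ideal.pow_mem_pow
          (map_nonunit (algebraMap R S) x₀ hx₀m) n) Submodule.mem_top
      rw [Ideal.iInf_pow_smul_eq_bot_of_isLocalRing (M := S') (maximalIdeal S)
        (maximalIdeal.isMaximal S).ne_top, Submodule.mem_bot] at hmem
      exact hmem
    · haveI : P.IsPrime := hP.1
      have hxP : algebraMap R R' x₀ ∈ P := by
        obtain ⟨_, w, hw⟩ := isAssociatedPrime_iff.1 hP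
        rw [hw, Submodule.mem_colon_singleton, Submodule.mem_bot]
        obtain ⟨w, rfl⟩ := Ideal.Quotient.mk_surjective w
        rw [← Ideal.Quotient.mk_eq_mk, ← Submodule.Quotient.mk_smul, Submodule.Quotient.mk_eq_zero]
        exact Ideal.mul_mem_right _ _ (Ideal.mem_span_singleton_self _)
      let q := P.comap (algebraMap R R')
      have hpq : p < q := by
        refine SetLike.lt_iff_le_and_exists.mpr ⟨fun r hr => ?_, x₀, hxP, hx₀p⟩
        have h0 : algebraMap R R' r = 0 := Subtype.ext ((hinjK r).mpr hr)
        show algebraMap R R' r ∈ P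
        rw [h0]; exact P.zero_mem
      haveI := ih q hpq
      letI : Algebra q.ResidueField P.ResidueField :=
        (Ideal.ResidueField.map q P (algebraMap R R') rfl).toAlgebra
      haveI : IsScalarTower R q.ResidueField P.ResidueField :=
        IsScalarTower.of_algebraMap_eq fun r => by
          rw [RingHom.algebraMap_toAlgebra, Ideal.ResidueField.map_algebraMap,
            IsScalarTower.algebraMap_apply R R' P.ResidueField]
      haveI : IsReduced (P.ResidueField ⊗[q.ResidueField] q.Fiber S) :=
        Groth.VarietyBC.isReduced_tensor_comm Groth.VarietyBC.isReduced_tensor_of_isGeometricallyReduced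
      haveI : IsReduced (P.Fiber S') :=
        isReduced_of_injective
          ((Algebra.TensorProduct.cancelBaseChange R R' P.ResidueField P.ResidueField S).trans
            (Algebra.TensorProduct.cancelBaseChange R q.ResidueField P.ResidueField P.ResidueField S).symm)
          (AlgEquiv.injective _)
      exact isRadical_map_of_isReduced_fiber P
  letI : Algebra S' (K ⊗[R'] S') := Algebra.TensorProduct.rightAlgebra
  haveI : IsLocalization (Algebra.algebraMapSubmonoid S' (nonZeroDivisors R')) (K ⊗[R'] S') :=
    inferInstance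
  haveI : IsReduced (K ⊗[R'] S') :=
    @isReduced_localizationPreserves S' _ (Algebra.algebraMapSubmonoid S' (nonZeroDivisors R'))
      (K ⊗[R'] S') _ _ _ ‹IsReduced S'›
  exact isReduced_of_injective
    (Algebra.TensorProduct.cancelBaseChange R R' K K S).symm (AlgEquiv.injective _)

/-- Over a Nagata local ring, geometric reducedness of the closed fibre of a flat local
homomorphism passes to all fibres. -/
theorem isGeometricallyReduced_fibres_of_closed (hR : CAlg.IsNagata R)
    (h : Algebra.IsGeometricallyReduced (maximalIdeal R).ResidueField ((maximalIdeal R).Fiber S))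
    (p : Ideal R) [hp : p.IsPrime] : Algebra.IsGeometricallyReduced p.ResidueField (p.Fiber S) := by
  revert hp
  induction p using WellFoundedGT.induction with
  | ind p ih =>
    intro hp
    by_cases hpm : p = maximalIdeal R
    · subst hpm; exact h
    refine isGeometricallyReduced_of_finite p.ResidueField (p.Fiber S) fun K _ _ hK => ?_
    letI : Algebra R K := ((algebraMap p.ResidueField K).comp (algebraMap R p.ResidueField)).toAlgebra
    haveI : IsScalarTower R p.ResidueField K := IsScalarTower.of_algebraMap_eq fun _ => rfl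
    haveI := isReduced_tensor_of_larger R S hR p hpm (fun q hq hlt => @ih q hlt hq) K
    exact isReduced_of_injective
      (Algebra.TensorProduct.cancelBaseChange R p.ResidueField K K S) (AlgEquiv.injective _)

end

end Groth.Ega4b
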