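import Groth.Agent.Ega4Algebra2.NormalRingBasic
import Groth.Agent.Ega4Algebra2.LocalizationReduced
import Groth.Agent.Ega4Algebra1.RegularNormal
import Groth.Agent.Ega4Algebra1.SepAfterInsep
import Groth.Agent.Ega41Sep.Separable
import Groth.Agent.NeronArea.UnramifiedDVR
import Groth.Agent.S9408
import Mathlib

/-!
# Normality: smooth algebras, tensor products with fields
-/

set_option linter.style.haveILetI false

universe u

namespace Groth.Ega4b

open TensorProduct

lemma isNormalRing_of_isRegularRing (R : Type u) [CommRing R] [IsRegularRing R] : EGA4.IsNormalRing R :=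
  fun p _ =>
    haveI := IsRegularRing.isRegularLocalRing_localization (R := R) p
    ⟨Groth.Ega4Algebra1.isDomain_of_isRegularLocalRing _,
      Groth.Ega4Algebra1.isIntegrallyClosed_of_isRegularLocalRing _⟩

/-- the local ring at a prime which survives in a normal localization is normal -/
lemma normal_atPrime_of_isLocalization {B : Type u} [CommRing B] (M : Submonoid B) (B' : Type u) [CommRing B']
    [Algebra B B'] [IsLocalization M B'] (hB' : EGA4.IsNormalRing B') (P : Ideal B) [P.IsPrime]
    (hdisj : Disjoint (M : Set B) (P : Set B)) :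
    IsDomain (Localization.AtPrime P) ∧ IsIntegrallyClosed (Localization.AtPrime P) := by
  haveI : (P.map (algebraMap B B')).IsPrime :=
    IsLocalization.isPrime_of_isPrime_disjoint M B' P ‹_› hdisj
  have hcomap : (P.map (algebraMap B B')).comap (algebraMap B B') = P :=
    IsLocalization.comap_map_of_isPrime_disjoint M B' ‹_› hdisj
  haveI : IsLocalization.AtPrime (Localization.AtPrime (P.map (algebraMap B B')))
      ((P.map (algebraMap B B')).comap (algebraMap B B')) :=
    IsLocalization.isLocalization_isLocalization_atPrime_isLocalization M _ _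
  obtain ⟨h1, h2⟩ := hB' (P.map (algebraMap B B'))
  haveI : IsLocalization P.primeCompl (Localization.AtPrime (P.map (algebraMap B B'))) := by
    have hM : ((P.map (algebraMap B B')).comap (algebraMap B B')).primeCompl = P.primeCompl := by
      ext x; simp [Ideal.primeCompl, ← Ideal.mem_comap, hcomap]
    exact hM ▸ ‹IsLocalization.AtPrime (Localization.AtPrime (P.map (algebraMap B B')))
      ((P.map (algebraMap B B')).comap (algebraMap B B'))›
  let e := (IsLocalization.algEquiv P.primeCompl (Localization.AtPrime (P.map (algebraMap B B')))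
    (Localization.AtPrime P)).toRingEquiv
  exact ⟨e.toMulEquiv.isDomain_iff.mp h1, IsIntegrallyClosed.of_equiv e⟩

/-- Normality can be checked on localizations covering all primes. -/
lemma isNormalRing_of_forall {B : Type u} [CommRing B]
    (h : ∀ (P : Ideal B) [P.IsPrime], ∃ (M : Submonoid B) (B' : Type u) (_ : CommRing B') (_ : Algebra B B'),
      IsLocalization M B' ∧ Disjoint (M : Set B) (P : Set B) ∧ EGA4.IsNormalRing B') :
    EGA4.IsNormalRing B := by
  intro P _
  obtain ⟨M, B', _, _, hloc, hdisj, hB'⟩ := h P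
  haveI := hloc
  exact normal_atPrime_of_isLocalization M B' hB' P hdisj

/-- A smooth algebra over a normal domain is normal. -/
lemma isNormalRing_of_smooth_domain (R B : Type u) [CommRing R] [IsDomain R] [IsIntegrallyClosed R]
    [CommRing B] [Algebra R B] [Algebra.Smooth R B] : EGA4.IsNormalRing B := by
  let K := FractionRing R
  haveI : Module.Flat R B := inferInstance
  let e : K ⊗[R] B ≃+* B ⊗[R] K := (Algebra.TensorProduct.comm R K B).toRingEquiv
  haveI : IsRegularRing (K ⊗[R] B) := Groth.Agent.S9408.isRegularRing_of_smooth K (K ⊗[R] B)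
  haveI : IsRegularRing (B ⊗[R] K) := IsRegularRing.of_ringEquiv e
  refine isNormalRing_of_integrallyClosedIn (N := B ⊗[R] K)
    (Algebra.TensorProduct.includeLeft_injective (S := R) (IsFractionRing.injective R K))
    (isNormalRing_of_isRegularRing _) fun x hx => ?_
  obtain ⟨z, hz⟩ := (TensorProduct.toIntegralClosure_bijective_of_smooth (R := R) (S := B) (B := K)).2 ⟨x, hx⟩
  obtain ⟨l, hl⟩ : ∃ l : B, Algebra.TensorProduct.map (AlgHom.id B B)
      (integralClosure R K).val z = l ⊗ₜ 1 := by
    clear hz
    induction z with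
    | zero => exact ⟨0, by simp⟩
    | tmul l y =>
      obtain ⟨r, hr⟩ := IsIntegrallyClosed.algebraMap_eq_of_integral y.2
      refine ⟨r • l, ?_⟩
      rw [Algebra.TensorProduct.map_tmul, AlgHom.id_apply, Subalgebra.coe_val, ← hr,
        Algebra.algebraMap_eq_smul_one, TensorProduct.smul_tmul]
    | add z₁ z₂ h₁ h₂ =>
      obtain ⟨l₁, h₁⟩ := h₁; obtain ⟨l₂, h₂⟩ := h₂
      exact ⟨l₁ + l₂, by rw [map_add, h₁, h₂, TensorProduct.add_tmul]⟩
  refine ⟨l, ?_⟩
  rw [show algebraMap B (B ⊗[R] K) l = l ⊗ₜ 1 from rfl, ← hl]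
  exact congr_arg Subtype.val hz

/-- A smooth algebra over a normal ring is normal. -/
theorem isNormalRing_of_smooth (R B : Type u) [CommRing R] [CommRing B] [Algebra R B] [Algebra.Smooth R B]
    (hR : EGA4.IsNormalRing R) : EGA4.IsNormalRing B := by
  refine isNormalRing_of_forall fun P _ => ?_
  let p := P.comap (algebraMap R B)
  obtain ⟨h1, h2⟩ := hR p
  let B' := Localization.AtPrime p ⊗[R] B
  letI : Algebra B B' := Algebra.TensorProduct.rightAlgebra
  refine ⟨Algebra.algebraMapSubmonoid B p.primeCompl, B', inferInstance, inferInstance, inferInstance, ?_,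
    isNormalRing_of_smooth_domain (Localization.AtPrime p) B'⟩
  rw [Set.disjoint_left]
  rintro _ ⟨s, hs, rfl⟩ hP
  exact hs hP

section fg

variable {k A L : Type u} [CommRing k] [CommRing A] [CommRing L] [Algebra k A] [Algebra k L]

lemma range_tensor_mono {U V : Subalgebra k L} (hUV : U ≤ V) :
    (Algebra.TensorProduct.map (AlgHom.id k A) U.val).range ≤
      (Algebra.TensorProduct.map (AlgHom.id k A) V.val).range := by
  have h : U.val = V.val.comp (Subalgebra.inclusion hUV) := AlgHom.ext fun _ => rfl
  rw [h, Algebra.TensorProduct.map_id_comp]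
  exact AlgHom.range_comp_le_range _ _

lemma exists_fg_mem (z : A ⊗[k] L) : ∃ L₁ : Subalgebra k L, L₁.FG ∧
    z ∈ (Algebra.TensorProduct.map (AlgHom.id k A) L₁.val).range := by
  induction z with
  | zero => exact ⟨⊥, Subalgebra.fg_bot, zero_mem _⟩
  | tmul a l =>
    exact ⟨Algebra.adjoin k {l}, ⟨{l}, by simp⟩, a ⊗ₜ ⟨l, Algebra.self_mem_adjoin_singleton k l⟩, by simp⟩
  | add x y hx hy =>
    obtain ⟨L₁, h₁, hx⟩ := hx
    obtain ⟨L₂, h₂, hy⟩ := hy
    exact ⟨L₁ ⊔ L₂, h₁.sup h₂,
      add_mem (range_tensor_mono le_sup_left hx) (range_tensor_mono le_sup_right hy)⟩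

/-- A finite set of elements of `A ⊗ L` comes from a finitely generated subalgebra. -/
lemma exists_fg_forall_mem (F : Finset (A ⊗[k] L)) :
    ∃ L₀ : Subalgebra k L, L₀.FG ∧
      ∀ z ∈ F, z ∈ (Algebra.TensorProduct.map (AlgHom.id k A) L₀.val).range := by
  classical
  induction F using Finset.induction with
  | empty => exact ⟨⊥, Subalgebra.fg_bot, by simp⟩
  | insert z F _ ih =>
    obtain ⟨L₀, hL₀, h⟩ := ih
    obtain ⟨L₁, hL₁, hz⟩ := exists_fg_mem z
    refine ⟨L₀ ⊔ L₁, hL₀.sup hL₁, fun w hw => ?_⟩
    rcases Finset.mem_insert.mp hw with rfl | hw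
    · exact range_tensor_mono le_sup_right hz
    · exact range_tensor_mono le_sup_left (h w hw)

end fg

/-- A normal ring stays normal after a separable extension of the ground field. -/
theorem isNormalRing_tensor_separable (k A L : Type u) [Field k] [CommRing A] [Algebra k A]
    (hA : EGA4.IsNormalRing A) [Field L] [Algebra k L] [Algebra.IsGeometricallyReduced k L] :
    EGA4.IsNormalRing (A ⊗[k] L) := by
  refine isNormalRing_of_approx fun F => ?_
  obtain ⟨L₀, hL₀, hF⟩ := exists_fg_forall_mem F
  haveI : Algebra.FiniteType k L₀ := (Subalgebra.fg_iff_finiteType L₀).mp hL₀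
  have hfp : Algebra.FinitePresentation k L₀ := Algebra.FinitePresentation.of_finiteType.1 inferInstance
  obtain ⟨B, _, _, hB, g, h, hgh⟩ := Groth.NeronArea.UnramifiedDVR.indSmooth_field (k := k) (l := L) L₀ hfp L₀.val
  let j := Algebra.TensorProduct.map (AlgHom.id k A) L₀.val
  have hj : Function.Injective j :=
    Module.Flat.lTensor_preserves_injective_linearMap (M := A) _ Subtype.val_injective
  let e : A ⊗[k] L₀ ≃ₐ[k] j.range := AlgEquiv.ofInjective j hj
  refine ⟨A ⊗[k] B, inferInstance, j.range.toSubring,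
    (Algebra.TensorProduct.map (AlgHom.id k A) g).toRingHom.comp e.symm.toRingEquiv.toRingHom,
    (Algebra.TensorProduct.map (AlgHom.id k A) h).toRingHom, hF, ?_, isNormalRing_of_smooth A _ hA⟩
  refine RingHom.ext fun z => ?_
  obtain ⟨w, rfl⟩ := e.surjective z
  show Algebra.TensorProduct.map (AlgHom.id k A) h (Algebra.TensorProduct.map (AlgHom.id k A) g (e.symm (e w))) = j w
  rw [e.symm_apply_apply, ← AlgHom.comp_apply, ← Algebra.TensorProduct.map_comp, hgh, AlgHom.comp_id]

/-- Normality descends along field extensions. -/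
lemma isNormalRing_tensor_of_extension (k A E K : Type u) [Field k] [CommRing A] [Algebra k A] [Field E]
    [Field K] [Algebra k E] [Algebra k K] [Algebra E K] [IsScalarTower k E K]
    (h : EGA4.IsNormalRing (A ⊗[k] K)) : EGA4.IsNormalRing (A ⊗[k] E) := by
  have h2 : EGA4.IsNormalRing ((E ⊗[k] A) ⊗[E] K) :=
    isNormalRing_of_ringEquiv (((Algebra.TensorProduct.comm k A K).toRingEquiv.trans
      (Algebra.TensorProduct.cancelBaseChange k E K K A).symm.toRingEquiv).trans
      (Algebra.TensorProduct.comm E K (E ⊗[k] A)).toRingEquiv) h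
  exact isNormalRing_of_ringEquiv (Algebra.TensorProduct.comm k E A).toRingEquiv
    (isNormalRing_of_faithfullyFlat (E ⊗[k] A) ((E ⊗[k] A) ⊗[E] K) h2)

/-- A geometrically normal algebra stays normal after any field extension. -/
theorem isNormalRing_tensor_field (k A L : Type u) [Field k] [CommRing A] [Algebra k A]
    (hA : EGA4.IsGeomNormal k A) [Field L] [Algebra k L] : EGA4.IsNormalRing (A ⊗[k] L) := by
  refine isNormalRing_of_approx fun F => ?_
  obtain ⟨L₀, ⟨G, hG⟩, hF⟩ := exists_fg_forall_mem F
  classical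
  let E := IntermediateField.adjoin k (G : Set L)
  have hLE : L₀ ≤ E.toSubalgebra := by
    rw [← hG, Algebra.adjoin_le_iff]
    exact IntermediateField.subset_adjoin k _
  let j := Algebra.TensorProduct.map (AlgHom.id k A) E.val
  have hj : Function.Injective j :=
    Module.Flat.lTensor_preserves_injective_linearMap (M := A) _ (RingHom.injective E.val.toRingHom)
  let e : A ⊗[k] E ≃ₐ[k] j.range := AlgEquiv.ofInjective j hj
  refine ⟨A ⊗[k] E, inferInstance, j.range.toSubring, e.symm.toRingEquiv.toRingHom, j.toRingHom, ?_, ?_, ?_⟩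
  · intro z hz
    obtain ⟨w, rfl⟩ := hF z hz
    exact range_tensor_mono hLE ⟨w, rfl⟩
  · refine RingHom.ext fun z => ?_
    obtain ⟨w, rfl⟩ := e.surjective z
    show j (e.symm (e w)) = j w
    rw [e.symm_apply_apply]
  -- the finitely generated case
  let Ω := AlgebraicClosure L
  obtain ⟨k₁, hk₁, hsm⟩ := Groth.Ega4Algebra1.exists_finite_purelyInseparable_formallySmooth
    (k := k) (Ω := Ω) (G.image (algebraMap L Ω))
  let K₁ := IntermediateField.adjoin k₁ ((G.image (algebraMap L Ω) : Finset Ω) : Set Ω)
  haveI : Algebra.IsGeometricallyReduced k₁ K₁ :=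
    (Groth.Ega41Sep.formallySmooth_iff_isGeometricallyReduced k₁ K₁).mp hsm
  have hA₁ : EGA4.IsNormalRing (A ⊗[k] k₁) :=
    isNormalRing_of_ringEquiv (Algebra.TensorProduct.comm k k₁ A).toRingEquiv (hA k₁ hk₁)
  letI : Algebra k₁ (A ⊗[k] k₁) := Algebra.TensorProduct.rightAlgebra
  have hK : EGA4.IsNormalRing (A ⊗[k] K₁) :=
    isNormalRing_of_ringEquiv
      (((Algebra.TensorProduct.congr
          (AlgEquiv.ofRingEquiv (f := (Algebra.TensorProduct.comm k A k₁).toRingEquiv) (fun _ => rfl) :
            (A ⊗[k] k₁) ≃ₐ[k₁] k₁ ⊗[k] A) (AlgEquiv.refl : K₁ ≃ₐ[k₁] K₁)).trans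
        (Algebra.TensorProduct.comm k₁ (k₁ ⊗[k] A) K₁)).toRingEquiv.trans
        ((Algebra.TensorProduct.cancelBaseChange k k₁ K₁ K₁ A).toRingEquiv.trans
          (Algebra.TensorProduct.comm k K₁ A).toRingEquiv))
      (isNormalRing_tensor_separable k₁ (A ⊗[k] k₁) K₁ hA₁)
  have hEK : ∀ x : E, algebraMap L Ω x ∈ K₁ := by
    have h1 : IntermediateField.adjoin k (G : Set L) ≤
        IntermediateField.comap (IsScalarTower.toAlgHom k L Ω) (K₁.restrictScalars k) := by
      rw [IntermediateField.adjoin_le_iff]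
      intro x hx
      exact IntermediateField.subset_adjoin k₁ _ (Finset.mem_coe.mpr (Finset.mem_image_of_mem _ hx))
    exact fun x => h1 x.2
  let i : E →+* K₁ := ((algebraMap L Ω).comp E.val.toRingHom).codRestrict K₁.toSubring hEK
  letI : Algebra E K₁ := i.toAlgebra
  haveI : IsScalarTower k E K₁ := IsScalarTower.of_algebraMap_eq fun c => Subtype.ext
    (show algebraMap k Ω c = algebraMap L Ω (algebraMap k L c) from IsScalarTower.algebraMap_apply k L Ω c)
  exact isNormalRing_tensor_of_extension k A E K₁ hK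

end Groth.Ega4b
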