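import Groth.Agent.Ega4Algebra2.NormalTensor
import Mathlib

set_option autoImplicit false

universe u

open TensorProduct

namespace Groth.Ega4b

lemma isGeometricallyReduced_of_perfectField (k K : Type u) [Field k] [PerfectField k] [Field K] [Algebra k K] :
    Algebra.IsGeometricallyReduced k K :=
  isGeometricallyReduced_of_finite k K fun K' _ _ _ => by
    haveI : Algebra.IsSeparable k K' := inferInstance
    haveI : Algebra.FormallyEtale k K' := Algebra.FormallyEtale.of_isSeparable k K'
    haveI : Algebra.FormallyUnramified K (K ⊗[k] K') := inferInstance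
    haveI : IsReduced (K ⊗[k] K') := Algebra.FormallyUnramified.isReduced_of_field K (K ⊗[k] K')
    exact isReduced_of_injective (Algebra.TensorProduct.comm k K' K).toRingEquiv
      (Algebra.TensorProduct.comm k K' K).injective

/-- normal after finite purely inseparable extensions ⇒ normal after all field extensions -/
theorem isNormalRing_tensor_field_of_purelyInseparable (k A L : Type u) [Field k] [CommRing A] [Algebra k A]
    (hA : ∀ (k' : Type u) [Field k'] [Algebra k k'], Module.Finite k k' → IsPurelyInseparable k k' →
      EGA4.IsNormalRing (k' ⊗[k] A)) [Field L] [Algebra k L] : EGA4.IsNormalRing (A ⊗[k] L) := by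
  classical
  let Ω := AlgebraicClosure L
  let P := perfectClosure k Ω
  have hP : EGA4.IsNormalRing (A ⊗[k] P) := by
    refine isNormalRing_of_approx fun F => ?_
    obtain ⟨L₀, ⟨G, hG⟩, hF⟩ := exists_fg_forall_mem F
    let E := IntermediateField.adjoin k (G : Set P)
    have hLE : L₀ ≤ E.toSubalgebra := by
      rw [← hG, Algebra.adjoin_le_iff]
      exact IntermediateField.subset_adjoin k _
    let j := Algebra.TensorProduct.map (AlgHom.id k A) E.val
    have hj : Function.Injective j :=
      Module.Flat.lTensor_preserves_injective_linearMap (M := A) _ (RingHom.injective E.val.toRingHom)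
    let e : A ⊗[k] E ≃ₐ[k] j.range := AlgEquiv.ofInjective j hj
    refine ⟨A ⊗[k] E, inferInstance, j.range.toSubring, e.symm.toRingEquiv.toRingHom, j.toRingHom, ?_, ?_, ?_⟩
    · intro z hz
      obtain ⟨w, rfl⟩ := hF z hz
      exact range_tensor_mono hLE ⟨w, rfl⟩
    · refine RingHom.ext fun z => ?_
      obtain ⟨w, rfl⟩ := e.surjective z
      show j (e.symm (e w)) = j w
      rw [e.symm_apply_apply]
    haveI : FiniteDimensional k E :=
      IntermediateField.finiteDimensional_adjoin fun x _ => Algebra.IsIntegral.isIntegral x
    haveI : IsPurelyInseparable k E := inferInstance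
    exact isNormalRing_of_ringEquiv (Algebra.TensorProduct.comm k E A).toRingEquiv (hA E ‹_› ‹_›)
  letI : Algebra P (A ⊗[k] P) := Algebra.TensorProduct.rightAlgebra
  haveI : Algebra.IsGeometricallyReduced P Ω := isGeometricallyReduced_of_perfectField P Ω
  have hΩ : EGA4.IsNormalRing (A ⊗[k] Ω) :=
    isNormalRing_of_ringEquiv
      (((Algebra.TensorProduct.congr
          (AlgEquiv.ofRingEquiv (f := (Algebra.TensorProduct.comm k A P).toRingEquiv) (fun _ => rfl) :
            (A ⊗[k] P) ≃ₐ[P] P ⊗[k] A) (AlgEquiv.refl : Ω ≃ₐ[P] Ω)).trans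
        (Algebra.TensorProduct.comm P (P ⊗[k] A) Ω)).toRingEquiv.trans
        ((Algebra.TensorProduct.cancelBaseChange k P Ω Ω A).toRingEquiv.trans
          (Algebra.TensorProduct.comm k Ω A).toRingEquiv))
      (isNormalRing_tensor_separable P (A ⊗[k] P) Ω hP)
  exact isNormalRing_tensor_of_extension k A L Ω hΩ

/-- a composite of a finite extension and an arbitrary extension, finite over the latter -/
lemma exists_compositum (k K k' : Type u) [Field k] [Field K] [Field k'] [Algebra k K] [Algebra k k']
    [Module.Finite k k'] : ∃ (K'' : Type u) (_ : Field K'') (_ : Algebra k K'') (_ : Algebra K K'')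
      (_ : Algebra k' K''), IsScalarTower k K K'' ∧ IsScalarTower k k' K'' ∧ Module.Finite K K'' := by
  haveI : Nontrivial (K ⊗[k] k') :=
    Algebra.TensorProduct.nontrivial_of_algebraMap_injective_of_flat_right k K k'
      (algebraMap k K).injective
  obtain ⟨M, hM⟩ := Ideal.exists_maximal (K ⊗[k] k')
  letI := Ideal.Quotient.field M
  letI : Algebra k' ((K ⊗[k] k') ⧸ M) :=
    ((Ideal.Quotient.mk M).comp (Algebra.TensorProduct.includeRight (R := k) (A := K) (B := k')).toRingHom).toAlgebra
  refine ⟨(K ⊗[k] k') ⧸ M, inferInstance, inferInstance, inferInstance, inferInstance, inferInstance,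
    IsScalarTower.of_algebraMap_eq fun c => ?_, inferInstance⟩
  show Ideal.Quotient.mk M (algebraMap k (K ⊗[k] k') c) = Ideal.Quotient.mk M ((1 : K) ⊗ₜ algebraMap k k' c)
  congr 1
  exact ((Algebra.TensorProduct.includeRight (R := k) (A := K) (B := k')).commutes c).symm

end Groth.Ega4b
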