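import Groth.Agent.Ega4Algebra2.NormalDescent
import Mathlib

/-!
# Normal rings (all local rings normal domains): criteria
-/

set_option linter.style.haveILetI false

universe u

namespace Groth.Ega4b

open Polynomial

/-- in a normal domain, `b ∣ a` when `a/b` is integral -/
lemma dvd_of_scaleRoots {A : Type u} [CommRing A] [IsDomain A] [IsIntegrallyClosed A] {a b : A}
    {p : A[X]} (hb : b ≠ 0) (hp : p.Monic) (h : (p.scaleRoots b).eval a = 0) : b ∣ a := by
  let K := FractionRing A
  have hb' : algebraMap A K b ≠ 0 := (map_ne_zero_iff _ (IsFractionRing.injective A K)).mpr hb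
  obtain ⟨c, hc⟩ := IsIntegrallyClosed.algebraMap_eq_of_integral
    (x := algebraMap A K a / algebraMap A K b) ⟨p, hp, by
      have h1 : eval₂ (algebraMap A K) (algebraMap A K b * (algebraMap A K a / algebraMap A K b))
          (p.scaleRoots b) = 0 := by
        rw [mul_div_cancel₀ _ hb', eval₂_at_apply, h, map_zero]
      rw [scaleRoots_eval₂_mul] at h1
      exact (mul_eq_zero.mp h1).resolve_left (pow_ne_zero _ hb')⟩
  refine ⟨c, IsFractionRing.injective A K ?_⟩
  rw [map_mul, hc, mul_div_cancel₀ _ hb']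

/-- a domain is integrally closed when it satisfies the divisibility test -/
lemma isIntegrallyClosed_of_dvd {A : Type u} [CommRing A] [IsDomain A]
    (h : ∀ (a b : A) (p : A[X]), b ≠ 0 → p.Monic → (p.scaleRoots b).eval a = 0 → b ∣ a) :
    IsIntegrallyClosed A := by
  refine (isIntegrallyClosed_iff (FractionRing A)).mpr fun {z} hz => ?_
  obtain ⟨a, b, hb, rfl⟩ := IsFractionRing.div_surjective (A := A) z
  obtain ⟨p, hp, hp0⟩ := hz
  have hb0 := IsFractionRing.to_map_ne_zero_of_mem_nonZeroDivisors (K := FractionRing A) hb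
  obtain ⟨c, hc⟩ := h a b p (nonZeroDivisors.ne_zero hb) hp (by
    apply IsFractionRing.injective A (FractionRing A)
    rw [map_zero, ← eval₂_at_apply, ← mul_div_cancel₀ (algebraMap A (FractionRing A) a) hb0,
      scaleRoots_eval₂_mul, hp0, mul_zero])
  exact ⟨c, by rw [eq_div_iff hb0, hc, map_mul, mul_comm]⟩

/-- `scaleRoots` along a ring hom -/
lemma scaleRoots_eval_map {A B : Type u} [CommRing A] [CommRing B] (f : A →+* B) {p : A[X]} (hp : p.Monic)
    (a b : A) : ((p.map f).scaleRoots (f b)).eval (f a) = f ((p.scaleRoots b).eval a) := by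
  rcases subsingleton_or_nontrivial B with hB | hB
  · exact Subsingleton.elim _ _
  rw [← Polynomial.map_scaleRoots p b f (by rw [hp.leadingCoeff, map_one]; exact one_ne_zero),
    Polynomial.eval_map, eval₂_at_apply]

/-- Normality from approximations: every finite set of elements is dominated by a normal ring. -/
theorem isNormalRing_of_approx {C : Type u} [CommRing C]
    (h : ∀ F : Finset C, ∃ (D : Type u) (_ : CommRing D) (S : Subring C) (ι : S →+* D) (φ : D →+* C),
      (F : Set C) ⊆ S ∧ φ.comp ι = S.subtype ∧ EGA4.IsNormalRing D) :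
    EGA4.IsNormalRing C := by
  classical
  intro P hP
  let L := Localization.AtPrime P
  have hex : ∀ z : L, ∃ (x : C) (s : P.primeCompl), IsLocalization.mk' L x s = z :=
    fun z => IsLocalization.exists_mk'_eq _ z
  have hdom : IsDomain L := by
    have : NoZeroDivisors L := ⟨fun {z w} hzw => by
      obtain ⟨x, s, rfl⟩ := hex z
      obtain ⟨y, t, rfl⟩ := hex w
      rw [← IsLocalization.mk'_mul, IsLocalization.mk'_eq_zero_iff] at hzw
      obtain ⟨u, hu⟩ := hzw
      obtain ⟨D, _, S, ι, φ, hF, hφ, hD⟩ := h {x, y, (u : C)}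
      have hmem : x ∈ S ∧ y ∈ S ∧ (u : C) ∈ S :=
        ⟨hF (by simp), hF (by simp), hF (by simp)⟩
      have hφι : ∀ z (hz : z ∈ S), φ (ι ⟨z, hz⟩) = z := fun z hz => RingHom.congr_fun hφ ⟨z, hz⟩
      obtain ⟨hD1, -⟩ := hD (P.comap φ)
      let g := algebraMap D (Localization.AtPrime (P.comap φ))
      have hu' : IsUnit (g (ι ⟨u, hmem.2.2⟩)) := IsLocalization.map_units _
        (⟨ι ⟨u, hmem.2.2⟩, fun hm => u.2 (by have hm' := Ideal.mem_comap.mp hm; rwa [hφι] at hm')⟩ :
          (P.comap φ).primeCompl)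
      have h0 : g (ι ⟨x, hmem.1⟩) * g (ι ⟨y, hmem.2.1⟩) = 0 := by
        refine hu'.mul_right_eq_zero.mp ?_
        rw [← map_mul, ← map_mul, ← map_mul, ← map_mul]
        have : (⟨u, hmem.2.2⟩ * (⟨x, hmem.1⟩ * ⟨y, hmem.2.1⟩) : S) = 0 := Subtype.ext hu
        rw [this, map_zero, map_zero]
      have key : ∀ z (hz : z ∈ S), g (ι ⟨z, hz⟩) = 0 → algebraMap C L z = 0 := by
        intro z hz h0
        obtain ⟨⟨v, hv⟩, hv0⟩ := (IsLocalization.map_eq_zero_iff (P.comap φ).primeCompl _ _).mp h0
        have : φ v * z = 0 := by rw [← hφι z hz, ← map_mul, hv0, map_zero]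
        exact (IsLocalization.map_eq_zero_iff P.primeCompl L z).mpr ⟨⟨φ v, hv⟩, this⟩
      rcases mul_eq_zero.mp h0 with h1 | h1
      · refine Or.inl ?_
        rw [IsLocalization.mk'_eq_mul_mk'_one, key x hmem.1 h1, zero_mul]
      · refine Or.inr ?_
        rw [IsLocalization.mk'_eq_mul_mk'_one, key y hmem.2.1 h1, zero_mul]⟩
    exact NoZeroDivisors.to_isDomain L
  refine ⟨hdom, isIntegrallyClosed_of_dvd fun a b p hb hp h0 => ?_⟩
  obtain ⟨x, s, rfl⟩ := hex a
  obtain ⟨y, t, rfl⟩ := hex b
  let g₀ := algebraMap C L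
  have hσ : IsUnit (g₀ s * g₀ t) := (IsLocalization.map_units L s).mul (IsLocalization.map_units L t)
  have hxe : g₀ (x * t) = g₀ s * g₀ t * IsLocalization.mk' L x s := by
    rw [map_mul, mul_comm (g₀ s), mul_assoc, IsLocalization.mk'_spec', mul_comm]
  have hye : g₀ (y * s) = g₀ s * g₀ t * IsLocalization.mk' L y t := by
    rw [map_mul, mul_assoc, IsLocalization.mk'_spec', mul_comm]
  have hy0 : g₀ (y * s) ≠ 0 := by rw [hye]; exact mul_ne_zero hσ.ne_zero hb
  rw [← hσ.mul_left_dvd, ← hye]
  suffices hdv : g₀ (y * s) ∣ g₀ (x * t) by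
    rw [hxe] at hdv
    exact hσ.dvd_mul_left.mp hdv
  have hp1 : (p.scaleRoots (g₀ (y * s))).eval (g₀ (x * t)) = 0 := by
    rw [hxe, hye, mul_comm (g₀ s * g₀ t) (IsLocalization.mk' L y t), scaleRoots_mul, scaleRoots_eval_mul, h0,
      mul_zero]
  -- clear denominators in the coefficients
  obtain ⟨r, hr⟩ := IsLocalization.exist_integer_multiples_of_finset P.primeCompl
    ((Finset.range p.natDegree).image p.coeff)
  choose c hc using fun i : Fin p.natDegree => hr (p.coeff i)
    (Finset.mem_image_of_mem _ (Finset.mem_range.mpr i.2))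
  let q : C[X] := X ^ p.natDegree + ∑ i : Fin p.natDegree, Polynomial.C ((r : C) ^ (p.natDegree - i - 1) * c i) * X ^ (i : ℕ)
  have hq : q.Monic := Polynomial.monic_X_pow_add (Polynomial.degree_sum_fin_lt _)
  have hq0 : g₀ ((q.scaleRoots (y * s)).eval (r * (x * t))) = 0 := by
    have hqm : q.map g₀ = p.scaleRoots (g₀ r) := by
      rw [((monic_scaleRoots_iff (g₀ r)).mpr hp).as_sum, natDegree_scaleRoots]
      simp only [q, Polynomial.map_add, Polynomial.map_pow, map_X, Polynomial.map_sum, Polynomial.map_mul, map_C]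
      congr 1
      rw [← Fin.sum_univ_eq_sum_range (fun i => Polynomial.C ((p.scaleRoots (g₀ r)).coeff i) * X ^ i)]
      refine Finset.sum_congr rfl fun i _ => ?_
      congr 2
      rw [map_mul, map_pow, hc i, coeff_scaleRoots, Algebra.smul_def, ← mul_assoc, mul_comm (p.coeff i),
        ← pow_succ, show p.natDegree - (i : ℕ) - 1 + 1 = p.natDegree - i by omega]
    rw [← scaleRoots_eval_map _ hq, hqm, map_mul g₀ (r : C) (x * t), ← scaleRoots_mul,
      mul_comm (g₀ r) (g₀ (y * s)), scaleRoots_mul, scaleRoots_eval_mul, hp1, mul_zero]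
  obtain ⟨⟨u, hu⟩, hu0⟩ := (IsLocalization.map_eq_zero_iff P.primeCompl L _).mp hq0
  obtain ⟨D, _, S, ι, φ, hF, hφ, hD⟩ := h ({x, y, (r : C), (s : C), (t : C), u} ∪ q.coeffs)
  have hφι : ∀ z (hz : z ∈ S), φ (ι ⟨z, hz⟩) = z := fun z hz => RingHom.congr_fun hφ ⟨z, hz⟩
  have hqS : (q.coeffs : Set C) ⊆ S := fun z hz =>
    hF (by simp only [Finset.coe_union]; exact Or.inr hz)
  have hxS : x ∈ S := hF (by simp)
  have hyS : y ∈ S := hF (by simp)
  have hrS : (r : C) ∈ S := hF (by simp)
  have hsS : (s : C) ∈ S := hF (by simp)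
  have htS : (t : C) ∈ S := hF (by simp)
  have huS : u ∈ S := hF (by simp)
  let qS : S[X] := q.toSubring S hqS
  have hqS' : qS.map S.subtype = q := Polynomial.map_toSubring q S hqS
  have hqSm : qS.Monic := (Polynomial.monic_toSubring q S hqS).mpr hq
  let a' : S := ⟨r, hrS⟩ * (⟨x, hxS⟩ * ⟨t, htS⟩)
  let b' : S := ⟨y, hyS⟩ * ⟨s, hsS⟩
  have hS0 : (⟨u, huS⟩ : S) * (qS.scaleRoots b').eval a' = 0 := by
    apply Subtype.val_injective
    show u * S.subtype ((qS.scaleRoots b').eval a') = 0
    rw [← scaleRoots_eval_map S.subtype hqSm, hqS']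
    exact hu0
  obtain ⟨hD1, hD2⟩ := hD (P.comap φ)
  let g := (algebraMap D (Localization.AtPrime (P.comap φ))).comp ι
  have hu' : IsUnit (g ⟨u, huS⟩) := IsLocalization.map_units _
    (⟨ι ⟨u, huS⟩, fun hm => hu (by have hm' := Ideal.mem_comap.mp hm; rwa [hφι] at hm')⟩ :
      (P.comap φ).primeCompl)
  have hD0 : (((qS.map g).scaleRoots (g b')).eval (g a')) = 0 := by
    rw [scaleRoots_eval_map g hqSm]
    exact hu'.mul_right_eq_zero.mp (by rw [← map_mul, hS0, map_zero])
  have key : ∀ z : S, g z = 0 → algebraMap C L z = 0 := by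
    intro z h0
    obtain ⟨⟨v, hv⟩, hv0⟩ := (IsLocalization.map_eq_zero_iff (P.comap φ).primeCompl _ _).mp h0
    have : φ v * z = 0 := by rw [← hφι z z.2, ← map_mul, hv0, map_zero]
    exact (IsLocalization.map_eq_zero_iff P.primeCompl L _).mpr ⟨⟨φ v, hv⟩, this⟩
  have hb' : g b' ≠ 0 := fun h0 => hy0 (key _ h0)
  obtain ⟨d, hd⟩ := dvd_of_scaleRoots hb' (hqSm.map g) hD0
  obtain ⟨d', w, rfl⟩ := IsLocalization.exists_mk'_eq (P.comap φ).primeCompl d
  obtain ⟨v, hv⟩ : ∃ v : (P.comap φ).primeCompl, (v : D) * ((w : D) * ι a' - ι b' * d') = 0 := by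
    refine (IsLocalization.map_eq_zero_iff (P.comap φ).primeCompl (Localization.AtPrime (P.comap φ)) _).mp ?_
    rw [map_sub, map_mul (algebraMap D _) (w : D), map_mul (algebraMap D _) (ι b'), sub_eq_zero,
      show algebraMap D (Localization.AtPrime (P.comap φ)) (ι a') = g a' from rfl, hd,
      mul_left_comm, IsLocalization.mk'_spec']
    rfl
  have hφv := congrArg φ hv
  rw [map_mul, map_sub, map_mul φ (w : D), map_mul φ (ι b'), map_zero,
    show φ (ι a') = r * (x * t) from hφι _ (S.mul_mem hrS (S.mul_mem hxS htS)),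
    show φ (ι b') = y * s from hφι _ (S.mul_mem hyS hsS)] at hφv
  have hden : IsUnit (g₀ (φ v * φ w * r)) := IsLocalization.map_units L
    (⟨_, P.primeCompl.mul_mem (P.primeCompl.mul_mem v.2 w.2) r.2⟩ : P.primeCompl)
  refine hden.dvd_mul_left.mp ⟨g₀ (φ v * φ d'), ?_⟩
  rw [← map_mul g₀, ← map_mul g₀]
  congr 1
  linear_combination hφv

/-- A normal ring is integrally closed in its localizations at non zero divisors. -/
theorem mem_range_of_isIntegral_of_isNormalRing {R : Type u} [CommRing R] (hR : EGA4.IsNormalRing R)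
    (M : Submonoid R) (hM : M ≤ nonZeroDivisors R) (T : Type u) [CommRing T] [Algebra R T]
    [IsLocalization M T] {x : T} (hx : IsIntegral R x) : ∃ c, algebraMap R T c = x := by
  obtain ⟨a, s, rfl⟩ := IsLocalization.exists_mk'_eq M x
  obtain ⟨p, hp, hp0⟩ := hx
  have h0 : (p.scaleRoots (s : R)).eval a = 0 := by
    apply IsLocalization.injective T hM
    rw [map_zero, ← eval₂_at_apply, ← IsLocalization.mk'_spec' T a s, scaleRoots_eval₂_mul, hp0, mul_zero]
  suffices h : (1 : R) ∈ (Ideal.span {(s : R)}).colon ({a} : Set R) by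
    rw [Submodule.mem_colon_singleton, one_smul, Ideal.mem_span_singleton'] at h
    obtain ⟨c, hc⟩ := h
    exact ⟨c, by rw [eq_comm, IsLocalization.mk'_eq_iff_eq_mul, ← map_mul, hc]⟩
  by_contra hne
  obtain ⟨P, hP, hle⟩ := Ideal.exists_le_maximal ((Ideal.span {(s : R)}).colon ({a} : Set R))
    (fun htop => hne (by rw [htop]; exact Submodule.mem_top))
  obtain ⟨h1, h2⟩ := hR P
  let g := algebraMap R (Localization.AtPrime P)
  have hs : g s ≠ 0 := by
    intro h0
    obtain ⟨u, hu⟩ := (IsLocalization.map_eq_zero_iff P.primeCompl _ _).mp h0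
    have : (u : R) = 0 := mul_right_mem_nonZeroDivisors_eq_zero_iff (hM s.2) |>.mp hu
    exact u.2 (this ▸ P.zero_mem)
  obtain ⟨d, hd⟩ := dvd_of_scaleRoots hs (hp.map g) (by rw [scaleRoots_eval_map g hp, h0, map_zero])
  obtain ⟨d', w, rfl⟩ := IsLocalization.exists_mk'_eq P.primeCompl d
  have h3 : g ((w : R) * a) = g ((s : R) * d') := by
    rw [map_mul, map_mul, hd, mul_left_comm]
    congr 1
    rw [mul_comm, IsLocalization.mk'_spec]
  obtain ⟨v, hv⟩ := (IsLocalization.eq_iff_exists P.primeCompl _).mp h3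
  have : (v : R) * w ∈ (Ideal.span {(s : R)}).colon ({a} : Set R) := by
    rw [Submodule.mem_colon_singleton, smul_eq_mul, Ideal.mem_span_singleton']
    exact ⟨v * d', by linear_combination -hv⟩
  exact (P.primeCompl.mul_mem v.2 w.2 : _) (hle this)

/-- A normal Noetherian ring without non trivial idempotents is a normal domain. -/
theorem isDomain_of_isNormalRing_of_idempotent {N : Type u} [CommRing N] [IsNoetherianRing N] [Nontrivial N]
    (hN : EGA4.IsNormalRing N) (hidem : ∀ e : N, IsIdempotentElem e → e = 0 ∨ e = 1) :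
    IsDomain N ∧ IsIntegrallyClosed N := by
  classical
  have hdom : IsDomain N := by
    have : NoZeroDivisors N := ⟨fun {x y} hxy => by
      let I : Ideal N := Submodule.annihilator (Submodule.span N {x})
      let J : Ideal N := Submodule.annihilator I
      have hI : ∀ z, z ∈ I ↔ z * x = 0 := fun z => Submodule.mem_annihilator_span_singleton x z
      have htop : I ⊔ J = ⊤ := by
        by_contra hne
        obtain ⟨P, hP, hle⟩ := Ideal.exists_le_maximal _ hne
        obtain ⟨hd, -⟩ := hN P
        let g := algebraMap N (Localization.AtPrime P)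
        by_cases hx : g x = 0
        · obtain ⟨⟨u, hu⟩, hu0⟩ := (IsLocalization.map_eq_zero_iff P.primeCompl _ x).mp hx
          exact hu (hle (Ideal.mem_sup_left ((hI u).mpr hu0)))
        · obtain ⟨G, hG⟩ := IsNoetherian.noetherian I
          have : ∀ z ∈ G, ∃ u : P.primeCompl, (u : N) * z = 0 := fun z hz => by
            refine (IsLocalization.map_eq_zero_iff P.primeCompl (Localization.AtPrime P) z).mp ?_
            refine (mul_eq_zero.mp ?_).resolve_right hx
            rw [← map_mul, (hI z).mp (hG ▸ Submodule.subset_span hz), map_zero]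
          choose u hu using this
          have hmem : (∏ z : G, (u z.1 z.2 : N)) ∈ J := by
            rw [Submodule.mem_annihilator]
            intro z hz
            rw [← hG] at hz
            induction hz using Submodule.span_induction with
            | mem z hz =>
              rw [smul_eq_mul, ← Finset.prod_erase_mul Finset.univ _ (Finset.mem_univ (⟨z, hz⟩ : G)),
                mul_assoc, hu z hz, mul_zero]
            | zero => rw [smul_zero]
            | add _ _ _ _ h1 h2 => rw [smul_add, h1, h2, add_zero]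
            | smul c _ _ h1 => rw [smul_comm, h1, smul_zero]
          exact (P.primeCompl.prod_mem fun z _ => (u z.1 z.2).2 : _) (hle (Ideal.mem_sup_right hmem))
      obtain ⟨e, he, f, hf, hef⟩ := Submodule.mem_sup.mp (htop ▸ Submodule.mem_top : (1 : N) ∈ I ⊔ J)
      have hfe : f * e = 0 := by
        have := (Submodule.mem_annihilator.mp hf) e he
        rwa [smul_eq_mul] at this
      have hidm : IsIdempotentElem e := by
        show e * e = e
        linear_combination e * hef - hfe
      rcases hidem e hidm with h | h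
      · have hf1 : f = 1 := by rw [h, zero_add] at hef; exact hef
        refine Or.inr ?_
        have := (Submodule.mem_annihilator.mp hf) y ((hI y).mpr (by rw [mul_comm]; exact hxy))
        rwa [hf1, one_smul] at this
      · refine Or.inl ?_
        have := (hI e).mp he
        rwa [h, one_mul] at this⟩
    exact NoZeroDivisors.to_isDomain N
  exact ⟨hdom, (isIntegrallyClosed_iff (FractionRing N)).mpr fun hx =>
    mem_range_of_isIntegral_of_isNormalRing hN (nonZeroDivisors N) le_rfl _ hx⟩

/-- A ring integrally closed in a normal Noetherian ring is normal. -/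
theorem isNormalRing_of_integrallyClosedIn {C N : Type u} [CommRing C] [CommRing N] [Algebra C N]
    [IsNoetherianRing N] (hinj : Function.Injective (algebraMap C N)) (hN : EGA4.IsNormalRing N)
    (hint : ∀ x : N, IsIntegral C x → ∃ c, algebraMap C N c = x) : EGA4.IsNormalRing C := by
  intro P hP
  let L := Localization.AtPrime P
  let M' := Algebra.algebraMapSubmonoid N P.primeCompl
  let NP := Localization M'
  haveI : IsLocalization (P.primeCompl.map (algebraMap C N)) NP := inferInstanceAs (IsLocalization M' NP)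
  letI : Algebra L NP := localizationAlgebra P.primeCompl N
  haveI : IsScalarTower C L NP := IsScalarTower.of_algebraMap_eq fun c => by
    rw [IsScalarTower.algebraMap_apply C N NP]
    exact (IsLocalization.map_eq _ c).symm
  have hinjP : Function.Injective (algebraMap L NP) :=
    IsLocalization.map_injective_of_injective P.primeCompl L NP hinj
  have hintP : ∀ x : NP, IsIntegral L x → ∃ c, algebraMap L NP c = x := by
    intro x hx
    obtain ⟨n, ⟨_, s, hs, rfl⟩, rfl⟩ := IsLocalization.exists_mk'_eq M' x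
    have hxs : IsIntegral L (algebraMap N NP n) := by
      have := hx.mul (isIntegral_algebraMap (R := L) (A := NP) (x := algebraMap C L s))
      rwa [← IsScalarTower.algebraMap_apply C L NP, IsScalarTower.algebraMap_apply C N NP,
        IsLocalization.mk'_spec] at this
    obtain ⟨⟨m, hm⟩, hm'⟩ := IsIntegral.exists_multiple_integral_of_isLocalization P.primeCompl _ hxs
    obtain ⟨p, hp, hp0⟩ := hm'
    have h1 : algebraMap N NP (Polynomial.eval₂ (algebraMap C N) (algebraMap C N m * n) p) = 0 := by
      rw [← hp0, Polynomial.hom_eval₂, ← IsScalarTower.algebraMap_eq, map_mul,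
        ← IsScalarTower.algebraMap_apply, Submonoid.smul_def, Algebra.smul_def]
    obtain ⟨⟨_, u, hu, rfl⟩, hu0⟩ := (IsLocalization.map_eq_zero_iff M' NP _).mp h1
    have hint' : IsIntegral C (algebraMap C N u * (algebraMap C N m * n)) := by
      refine ⟨p.scaleRoots u, (monic_scaleRoots_iff u).mpr hp, ?_⟩
      rw [scaleRoots_eval₂_mul]
      rcases Nat.eq_zero_or_pos p.natDegree with hd | hd
      · obtain rfl : p = 1 := hp.natDegree_eq_zero.mp hd
        simp only [natDegree_one, pow_zero, one_mul] at hu0 ⊢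
        rw [eval₂_one] at hp0
        haveI : Subsingleton NP := subsingleton_of_zero_eq_one hp0.symm
        exact absurd (Subsingleton.elim _ _) (fun h => one_ne_zero (α := L) (hinjP h))
      · obtain ⟨k, hk⟩ := Nat.exists_eq_add_of_le hd
        rw [hk, pow_add, pow_one, mul_assoc, mul_left_comm, hu0, mul_zero]
    obtain ⟨c, hc⟩ := hint _ hint'
    refine ⟨IsLocalization.mk' L c (⟨u * m * s, P.primeCompl.mul_mem (P.primeCompl.mul_mem hu hm) hs⟩ : P.primeCompl), ?_⟩
    rw [show algebraMap L NP = IsLocalization.map NP (algebraMap C N)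
      (Submonoid.le_comap_map P.primeCompl) from rfl, IsLocalization.map_mk', hc]
    refine IsLocalization.mk'_eq_of_eq ?_
    show algebraMap C N (u * m * s) * n = algebraMap C N s * _
    rw [map_mul, map_mul]
    ring
  haveI : IsNoetherianRing NP := IsLocalization.isNoetherianRing M' _ ‹_›
  haveI : Nontrivial NP := hinjP.nontrivial
  obtain ⟨hd, hic⟩ := isDomain_of_isNormalRing_of_idempotent (isNormalRing_of_isLocalization M' NP hN)
    fun e he => by
      obtain ⟨l, hl⟩ := hintP e ⟨X ^ 2 - X,
        monic_X_pow_sub (n := 2) (degree_X_le.trans_lt (by norm_num)), by simp [pow_two, he.eq]⟩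
      have hli : IsIdempotentElem l := hinjP (by rw [map_mul, hl, he.eq])
      rcases IsLocalRing.isUnit_or_isUnit_one_sub_self l with hu | hu
      · refine Or.inr ?_
        rw [← hl, hu.mul_left_cancel (show l * l = l * 1 by rw [hli.eq, mul_one]), map_one]
      · refine Or.inl ?_
        rw [← hl, hu.mul_right_eq_zero.mp (show (1 - l) * l = 0 by rw [sub_mul, one_mul, hli.eq, sub_self]),
          map_zero]
  have hdom : IsDomain L := hinjP.isDomain (algebraMap L NP)
  refine ⟨hdom, isIntegrallyClosed_of_dvd fun a b p hb hp h0 => ?_⟩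
  have hbN : algebraMap L NP b ≠ 0 := (map_ne_zero_iff _ hinjP).mpr hb
  obtain ⟨c, hc⟩ := dvd_of_scaleRoots hbN (hp.map _) (by rw [scaleRoots_eval_map _ hp, h0, map_zero])
  have hcint : IsIntegral L c := by
    refine ⟨p, hp, ?_⟩
    have h1 : eval₂ (algebraMap L NP) (algebraMap L NP b * c) (p.scaleRoots b) = 0 := by
      rw [← hc, eval₂_at_apply, h0, map_zero]
    rw [scaleRoots_eval₂_mul] at h1
    exact (mul_eq_zero.mp h1).resolve_left (pow_ne_zero _ hbN)
  obtain ⟨d, rfl⟩ := hintP c hcint
  rw [← map_mul] at hc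
  exact ⟨d, hinjP hc⟩

end Groth.Ega4b
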