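import Mathlib

/-!
# Vanishing of the first Koszul homology implies regularity
-/

set_option linter.unusedSimpArgs false

universe u v

namespace Groth.Ega4b

open RingTheory.Sequence Submodule
open scoped Pointwise

variable {A : Type u} [CommRing A] {M : Type v} [AddCommGroup M] [Module A M]

/-- the trivial relations -/
def trivRel {n : ℕ} (f : Fin n → A) : Submodule A (Fin n → M) :=
  Submodule.span A {v : Fin n → M | ∃ (i j : Fin n) (x : M),
    v = f j • (Pi.single i x : Fin n → M) - f i • (Pi.single j x : Fin n → M)}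

lemma trivRel_sum_eq_zero {n : ℕ} (f : Fin n → A) {v : Fin n → M} (hv : v ∈ trivRel f) :
    ∑ i, f i • v i = 0 := by
  induction hv using Submodule.span_induction with
  | mem v hv =>
    obtain ⟨i, j, x, rfl⟩ := hv
    simp [smul_sub, Finset.sum_sub_distrib, Pi.single_apply, smul_smul, mul_comm]
  | zero => simp
  | add v w _ _ hv hw => simp [Finset.sum_add_distrib, hv, hw]
  | smul a v _ hv =>
    simp_rw [Pi.smul_apply, smul_comm _ a, ← Finset.smul_sum, hv, smul_zero]

/-- decomposition of the trivial relations along the last coordinate -/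
lemma trivRel_succ {n : ℕ} (f : Fin (n + 1) → A) {v : Fin (n + 1) → M} (hv : v ∈ trivRel f) :
    ∃ b ∈ trivRel (fun i : Fin n => f i.castSucc), ∃ u : Fin n → M,
      (fun i : Fin n => v i.castSucc) = b + f (Fin.last n) • u ∧
        v (Fin.last n) = - ∑ i : Fin n, f i.castSucc • u i := by
  induction hv using Submodule.span_induction with
  | mem v hv =>
    obtain ⟨i, j, x, rfl⟩ := hv
    induction i using Fin.lastCases with
    | last =>
      induction j using Fin.lastCases with
      | last => exact ⟨0, zero_mem _, 0, by ext; simp, by simp⟩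
      | cast j =>
        refine ⟨0, zero_mem _, - Pi.single j x, ?_, ?_⟩
        · ext k
          simp [Pi.single_apply, (Fin.castSucc_lt_last _).ne]
        · simp [Pi.single_apply, (Fin.castSucc_lt_last _).ne']
    | cast i =>
      induction j using Fin.lastCases with
      | last =>
        refine ⟨0, zero_mem _, Pi.single i x, ?_, ?_⟩
        · ext k
          simp [Pi.single_apply, (Fin.castSucc_lt_last _).ne]
        · simp [Pi.single_apply, (Fin.castSucc_lt_last _).ne']
      | cast j =>
        refine ⟨_, Submodule.subset_span ⟨i, j, x, rfl⟩, 0, ?_, ?_⟩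
        · ext k
          simp [Pi.single_apply, Fin.castSucc_inj]
        · simp [Pi.single_apply, (Fin.castSucc_lt_last _).ne']
  | zero => exact ⟨0, zero_mem _, 0, by ext; simp, by simp⟩
  | add v w _ _ hv hw =>
    obtain ⟨b, hb, u, h1, h2⟩ := hv
    obtain ⟨c, hc, t, h3, h4⟩ := hw
    refine ⟨b + c, add_mem hb hc, u + t, ?_, ?_⟩
    · have : (fun i : Fin n => (v + w) i.castSucc) =
        (fun i => v i.castSucc) + fun i => w i.castSucc := rfl
      rw [this, h1, h3, smul_add]; abel
    · simp only [Pi.add_apply, h2, h4, smul_add, Finset.sum_add_distrib]; abel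
  | smul a v _ hv =>
    obtain ⟨b, hb, u, h1, h2⟩ := hv
    refine ⟨a • b, Submodule.smul_mem _ a hb, a • u, ?_, ?_⟩
    · have : (fun i : Fin n => (a • v) i.castSucc) = a • fun i => v i.castSucc := rfl
      rw [this, h1, smul_add, smul_comm]
    · simp only [Pi.smul_apply, h2, smul_neg, Finset.smul_sum]
      exact congrArg _ (Finset.sum_congr rfl fun i _ => smul_comm _ _ _)

/-- a submodule contained in a sum with its multiple by an element of the topology ideal -/
lemma le_of_le_sup_smul (I : Ideal A) (N N' : Submodule A M) (_hN' : N' ≤ N)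
    (hsep : IsHausdorff I (N ⧸ N'.comap N.subtype)) {a : A} (ha : a ∈ I)
    (h : N ≤ N' ⊔ a • N) : N ≤ N' := by
  intro x hx
  have h0 : ∀ (t : ℕ) (q : N ⧸ N'.comap N.subtype), q ∈ I ^ t • (⊤ : Submodule A _) := by
    intro t
    induction t with
    | zero => simp
    | succ t ih =>
      intro q
      obtain ⟨⟨y, hy⟩, rfl⟩ := Submodule.Quotient.mk_surjective _ q
      obtain ⟨b, hb, c, hc, hbc⟩ := Submodule.mem_sup.mp (h hy)
      obtain ⟨z, hz, rfl⟩ := (Submodule.mem_smul_pointwise_iff_exists _ _ _).mp hc
      have : (Submodule.Quotient.mk ⟨y, hy⟩ : N ⧸ N'.comap N.subtype) =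
          a • Submodule.Quotient.mk ⟨z, hz⟩ := by
        rw [← Submodule.Quotient.mk_smul, Submodule.Quotient.eq]
        show y - a • z ∈ N'
        rw [← hbc, add_sub_cancel_right]; exact hb
      rw [this, pow_succ', Submodule.mul_smul]
      exact Submodule.smul_mem_smul ha (ih _)
  have h1 := hsep.haus' (Submodule.Quotient.mk ⟨x, hx⟩) fun t => SModEq.zero.mpr (h0 t _)
  exact (Submodule.Quotient.mk_eq_zero (N'.comap N.subtype)).mp h1

theorem isWeaklyRegular_of_h1_zero (I : Ideal A)
    (hsep : ∀ (N : Submodule A M) (N' : Submodule A N), IsHausdorff I (N ⧸ N')) :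
    ∀ {n : ℕ} (f : Fin n → A), (∀ i, f i ∈ I) →
      (∀ m : Fin n → M, ∑ i, f i • m i = 0 → m ∈ trivRel f) →
      IsWeaklyRegular M (List.ofFn f) := by
  intro n
  induction n with
  | zero => intro f _ _; simp only [List.ofFn_zero]; exact .nil A M
  | succ n ih =>
    intro f hfI h
    set f' : Fin n → A := fun i => f i.castSucc
    set a := f (Fin.last n)
    have hrec : ∀ m : Fin n → M, ∑ i, f' i • m i = 0 →
        ∃ b ∈ trivRel f', ∃ u : Fin n → M, m = b + a • u ∧ ∑ i, f' i • u i = 0 := by
      intro m hm
      obtain ⟨b, hb, u, h1, h2⟩ := trivRel_succ f (h (Fin.snoc m 0) (by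
        simpa [Fin.sum_univ_castSucc, f'] using hm))
      refine ⟨b, hb, u, by simpa using h1, ?_⟩
      simpa [f'] using h2
    have hH : ∀ m : Fin n → M, ∑ i, f' i • m i = 0 → m ∈ trivRel f' := by
      have key : ∀ k : ℕ, k ≤ n → ∀ m : Fin n → M, ∑ i, f' i • m i = 0 →
          ∃ b ∈ trivRel (M := M) f', ∀ i : Fin n, (i : ℕ) < k → (m - b) i = 0 := by
        intro k
        induction k with
        | zero => intro _ m _; exact ⟨0, zero_mem _, fun i hi => absurd hi (Nat.not_lt_zero _)⟩
        | succ k ihk =>
          intro hk m hm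
          let Z : Submodule A (Fin n → M) :=
            { carrier := {v | ∑ i, f' i • v i = 0 ∧ ∀ i : Fin n, (i : ℕ) < k → v i = 0}
              add_mem' := fun {v w} hv hw => ⟨by simp [Finset.sum_add_distrib, hv.1, hw.1],
                fun i hi => by simp [hv.2 i hi, hw.2 i hi]⟩
              zero_mem' := ⟨by simp, fun i _ => rfl⟩
              smul_mem' := fun c v hv => ⟨by
                simp_rw [Pi.smul_apply, smul_comm _ c, ← Finset.smul_sum, hv.1, smul_zero],
                fun i hi => by simp [hv.2 i hi]⟩ }
          let π : (Fin n → M) →ₗ[A] M := LinearMap.proj (⟨k, hk⟩ : Fin n)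
          set N := Z.map π
          set N' := (Z ⊓ trivRel f').map π
          have hN : N ≤ N' ⊔ a • N := by
            rintro _ ⟨v, hv, rfl⟩
            obtain ⟨b, hb, u, rfl, hu⟩ := hrec v hv.1
            obtain ⟨c, hc, hcu⟩ := ihk (Nat.le_of_succ_le hk) u hu
            have h1 : u - c ∈ Z := ⟨by
              simp [smul_sub, Finset.sum_sub_distrib, hu, trivRel_sum_eq_zero f' hc], hcu⟩
            have h2 : b + a • c ∈ Z ⊓ trivRel f' := by
              refine ⟨?_, add_mem hb (Submodule.smul_mem _ _ hc)⟩
              have : b + a • c = (b + a • u) - a • (u - c) := by rw [smul_sub]; abel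
              rw [this]
              exact sub_mem hv (Submodule.smul_mem _ _ h1)
            have : π (b + a • u) = π (b + a • c) + a • π (u - c) := by
              rw [← map_smul, ← map_add, smul_sub]; congr 1; abel
            rw [this]
            exact Submodule.add_mem_sup ⟨_, h2, rfl⟩
              (Submodule.smul_mem_pointwise_smul _ a _ ⟨_, h1, rfl⟩)
          have hNN' : N ≤ N' := le_of_le_sup_smul I N N' (Submodule.map_mono inf_le_left)
            (hsep N _) (hfI _) hN
          obtain ⟨b, hb, hbm⟩ := ihk (Nat.le_of_succ_le hk) m hm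
          have h1 : m - b ∈ Z := ⟨by
            simp [smul_sub, Finset.sum_sub_distrib, hm, trivRel_sum_eq_zero f' hb], hbm⟩
          obtain ⟨c, hc, hck⟩ := hNN' ⟨_, h1, rfl⟩
          refine ⟨b + c, add_mem hb hc.2, fun i hi => ?_⟩
          rcases Nat.lt_succ_iff_lt_or_eq.mp hi with hi' | hi'
          · have h3 := hbm i hi'
            have h4 := hc.1.2 i hi'
            simp only [Pi.sub_apply, Pi.add_apply] at h3 ⊢
            rw [h4, add_zero, h3]
          · obtain rfl : i = ⟨k, hk⟩ := Fin.ext hi'
            simp only [π, LinearMap.proj_apply, Pi.sub_apply] at hck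
            simp only [Pi.sub_apply, Pi.add_apply, hck]
            abel
      intro m hm
      obtain ⟨b, hb, hbm⟩ := key n le_rfl m hm
      have : m = b := funext fun i => sub_eq_zero.mp (hbm i i.isLt)
      exact this ▸ hb
    rw [List.ofFn_succ', List.concat_eq_append, isWeaklyRegular_append_iff,
      isWeaklyRegular_singleton_iff]
    refine ⟨ih f' (fun i => hfI _) hH, IsSMulRegular.of_right_eq_zero_of_smul fun q hq => ?_⟩
    obtain ⟨x, rfl⟩ := Submodule.Quotient.mk_surjective _ q
    let L : (Fin n → M) →ₗ[A] M := ∑ i, f' i • LinearMap.proj i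
    have hL : Ideal.ofList (List.ofFn f') • (⊤ : Submodule A M) ≤ LinearMap.range L := by
      rw [Ideal.ofList, Submodule.smul_le]
      intro r hr y _
      induction hr using Submodule.span_induction with
      | mem r hr =>
        obtain ⟨i, rfl⟩ := List.mem_ofFn.mp hr
        exact ⟨Pi.single i y, by simp [L, Pi.single_apply]⟩
      | zero => simp
      | add r s _ _ h1 h2 => rw [add_smul]; exact add_mem h1 h2
      | smul c r _ h1 => rw [smul_assoc]; exact Submodule.smul_mem _ c h1
    have hx : a • x ∈ Ideal.ofList (List.ofFn f') • (⊤ : Submodule A M) :=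
      (Submodule.Quotient.mk_eq_zero _).mp hq
    obtain ⟨m, hm⟩ := hL hx
    obtain ⟨b, hb, u, -, h2⟩ := trivRel_succ f (h (Fin.snoc m (-x)) (by
      simp only [L, LinearMap.coe_sum, Finset.sum_apply, LinearMap.smul_apply,
        LinearMap.proj_apply] at hm
      simp [Fin.sum_univ_castSucc, f', a] at hm ⊢
      rw [hm]; simp))
    rw [Fin.snoc_last, neg_inj] at h2
    refine (Submodule.Quotient.mk_eq_zero _).mpr ?_
    rw [h2]
    exact Submodule.sum_mem _ fun i _ => Submodule.smul_mem_smul
      (Ideal.subset_span (List.mem_ofFn.mpr ⟨i, rfl⟩)) trivial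

end Groth.Ega4b
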