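import Groth.Agent.Ega4Algebra1.RegularLocal
import Groth.Prelude.Def_CInt
import Mathlib

/-!
# Ideals of regular local rings with regular quotient
-/

set_option linter.style.haveILetI false

universe u

namespace Groth.Ega4b

open IsLocalRing RingTheory.Sequence

lemma map_maximalIdeal_mk {R : Type u} [CommRing R] [IsLocalRing R] (I : Ideal R) [IsLocalRing (R ⧸ I)] :
    (maximalIdeal R).map (Ideal.Quotient.mk I) = maximalIdeal (R ⧸ I) :=
  IsLocalRing.map_maximalIdeal_of_surjective _ Ideal.Quotient.mk_surjective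

theorem eq_bot_of_le_sq (R : Type u) [CommRing R] [IsRegularLocalRing R] (J : Ideal R)
    [IsRegularLocalRing (R ⧸ J)] (hJ : J ≤ maximalIdeal R ^ 2) : J = ⊥ := by
  by_contra hne
  obtain ⟨x, hxJ, hx0⟩ := Submodule.exists_mem_ne_zero_of_ne_bot hne
  have hxm : x ∈ maximalIdeal R := Ideal.pow_le_self two_ne_zero (hJ hxJ)
  have := Groth.Ega4Algebra1.isDomain_of_isRegularLocalRing R
  have hxn : x ∈ nonZeroDivisors R := mem_nonZeroDivisors_of_ne_zero hx0
  have := Groth.Ega4Algebra1.isLocalRing_quotient_of_le (Ideal.span {x}) (by simpa [Ideal.span_le] using hxm)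
  have h1 := ringKrullDim_quotient_span_singleton_succ_eq_ringKrullDim_of_mem_nonZeroDivisors hxn hxm
  have h2 : ringKrullDim (R ⧸ J) ≤ ringKrullDim (R ⧸ Ideal.span {x}) :=
    ringKrullDim_le_of_surjective (Ideal.Quotient.factor ((Ideal.span_singleton_le_iff_mem J).mpr hxJ))
      (Ideal.Quotient.factor_surjective _)
  classical
  set m' := maximalIdeal (R ⧸ J)
  have hfin := Submodule.FG.finite_generators (IsNoetherian.noetherian m')
  choose z hz using fun y : R ⧸ J => Ideal.Quotient.mk_surjective y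
  let T : Finset R := hfin.toFinset.image z
  have hTm : maximalIdeal R ≤ Ideal.span (T : Set R) ⊔ J := by
    rw [← Ideal.comap_map_quotientMk J (Ideal.span (T : Set R)) |>.trans (sup_comm _ _),
      ← Ideal.map_le_iff_le_comap, map_maximalIdeal_mk, Ideal.map_span]
    refine le_of_eq ?_
    rw [show Ideal.Quotient.mk J '' (T : Set R) = m'.generators by
      simp [T, Set.image_image, hz]]
    exact (Submodule.span_generators m').symm
  have hT : maximalIdeal R ≤ Ideal.span (T : Set R) := by
    refine Submodule.le_of_le_smul_of_le_jacobson_bot (IsNoetherian.noetherian _)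
      (maximalIdeal_le_jacobson _) (hTm.trans ?_)
    rw [smul_eq_mul, ← pow_two]
    exact sup_le_sup_left hJ _
  have hTeq : maximalIdeal R = Ideal.span (T : Set R) := by
    refine le_antisymm hT (Ideal.span_le.mpr ?_)
    intro t ht
    obtain ⟨y, hy, rfl⟩ := Finset.mem_image.mp ht
    have hy' : y ∈ m' := by
      rw [← Submodule.span_generators m']
      exact Ideal.subset_span (hfin.mem_toFinset.mp hy)
    rw [← hz y] at hy'
    exact (IsLocalRing.mem_maximalIdeal _).mpr fun hu =>
      (IsLocalRing.mem_maximalIdeal _).mp hy' (hu.map _)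
  have h3 : (maximalIdeal R).spanFinrank ≤ m'.spanFinrank := by
    rw [hTeq]
    refine (Submodule.spanFinrank_span_le_ncard_of_finite T.finite_toSet).trans ?_
    rw [Set.ncard_coe_finset]
    refine Finset.card_image_le.trans (le_of_eq ?_)
    rw [← Set.ncard_eq_toFinset_card _ hfin]
    exact Submodule.FG.generators_ncard (IsNoetherian.noetherian m')
  have h4 : ringKrullDim R ≤ ringKrullDim (R ⧸ J) := by
    rw [← IsRegularLocalRing.spanFinrank_maximalIdeal (R := R),
      ← IsRegularLocalRing.spanFinrank_maximalIdeal (R := R ⧸ J), Nat.cast_le]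
    exact h3
  rw [← h1] at h4
  have h5 := h4.trans h2
  obtain ⟨d, hd⟩ : ∃ d : ℕ, ringKrullDim (R ⧸ Ideal.span {x}) = d := by
    have hne1 : ringKrullDim (R ⧸ Ideal.span {x}) ≠ ⊥ := ringKrullDim_ne_bot
    have hne2 : ringKrullDim (R ⧸ Ideal.span {x}) ≠ ⊤ := ringKrullDim_ne_top
    generalize ringKrullDim (R ⧸ Ideal.span {x}) = e at hne1 hne2
    induction e with
    | bot => exact absurd rfl hne1
    | coe e =>
      induction e with
      | top => exact absurd rfl hne2
      | coe n => exact ⟨n, rfl⟩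
  rw [hd] at h5
  norm_cast at h5
  omega

theorem exists_regularSeq_of_regular_quotient (R : Type u) [CommRing R] [IsRegularLocalRing R] (J : Ideal R)
    [IsRegularLocalRing (R ⧸ J)] :
    ∃ rs : List R, IsWeaklyRegular R rs ∧ (∀ r ∈ rs, r ∈ maximalIdeal R) ∧ Ideal.ofList rs = J := by
  generalize hn : (maximalIdeal R).spanFinrank = n
  induction n using Nat.strong_induction_on generalizing R with
  | _ n ih =>
    by_cases hJ : J ≤ maximalIdeal R ^ 2
    · exact ⟨[], .nil R R, by simp, by rw [Ideal.ofList_nil, eq_bot_of_le_sq R J hJ]⟩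
    obtain ⟨x, hxJ, hx2⟩ := SetLike.not_le_iff_exists.mp hJ
    have hJm : J ≤ maximalIdeal R := le_maximalIdeal (Ideal.Quotient.nontrivial_iff.mp inferInstance)
    have hxm := hJm hxJ
    obtain ⟨hreg, -⟩ := Groth.Ega4Algebra1.isRegularLocalRing_quotient_span_singleton hxm hx2
    set I := Ideal.span {x}
    have hIJ : I ≤ J := (Ideal.span_singleton_le_iff_mem J).mpr hxJ
    haveI : IsRegularLocalRing ((R ⧸ I) ⧸ J.map (Ideal.Quotient.mk I)) :=
      IsRegularLocalRing.of_ringEquiv (DoubleQuot.quotQuotEquivQuotOfLE hIJ).symm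
    have hlt : (maximalIdeal (R ⧸ I)).spanFinrank + 1 ≤ (maximalIdeal R).spanFinrank :=
      Groth.Ega4Algebra1.spanFinrank_maximalIdeal_quotient_lt hxm hx2
    obtain ⟨rs', h1, h2, h3⟩ := ih _ (by omega) (R ⧸ I) (J.map (Ideal.Quotient.mk I)) rfl
    obtain ⟨rs, rfl⟩ := List.map_surjective_iff.mpr Ideal.Quotient.mk_surjective rs'
    have hx0 : x ≠ 0 := fun h => hx2 (h ▸ zero_mem _)
    refine ⟨x :: rs, ?_, ?_, ?_⟩
    · rw [isWeaklyRegular_cons_iff]
      refine ⟨Groth.Ega4Algebra1.isSMulRegular_of_ne_zero_of_isRegularLocalRing R hx0, ?_⟩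
      refine ((Submodule.quotEquivOfEq _ (Ideal.span {x}) ?_).isWeaklyRegular_congr rs).mpr
        ((isWeaklyRegular_map_algebraMap_iff (R ⧸ I) _ rs).mp h1)
      rw [← Submodule.ideal_span_singleton_smul, smul_eq_mul, Ideal.mul_top]
    · intro r hr
      rcases List.mem_cons.mp hr with rfl | hr
      · exact hxm
      · exact (IsLocalRing.mem_maximalIdeal _).mpr fun hu =>
          (IsLocalRing.mem_maximalIdeal _).mp (h2 _ (List.mem_map_of_mem hr)) (hu.map _)
    · rw [← Ideal.map_ofList] at h3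
      have := congrArg (Ideal.comap (Ideal.Quotient.mk I)) h3
      rw [Ideal.comap_map_quotientMk, Ideal.comap_map_quotientMk, sup_eq_right.mpr hIJ] at this
      rw [Ideal.ofList_cons, this]

end Groth.Ega4b

namespace Groth.Ega4b

open IsLocalRing RingTheory.Sequence

theorem isRegularLocalRing_of_regularSeq : ∀ (n : ℕ) (A : Type u) [CommRing A] [IsNoetherianRing A]
    [IsLocalRing A] (rs : List A), rs.length = n → IsWeaklyRegular A rs →
    (∀ r ∈ rs, r ∈ maximalIdeal A) → IsRegularLocalRing (A ⧸ Ideal.ofList rs) → IsRegularLocalRing A := by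
  intro n
  induction n with
  | zero =>
    intro A _ _ _ rs hlen _ _ h
    haveI := h
    obtain rfl := List.length_eq_zero_iff.mp hlen
    exact IsRegularLocalRing.of_ringEquiv ((Ideal.quotEquivOfEq (Ideal.ofList_nil)).trans (RingEquiv.quotientBot A))
  | succ n ih =>
    intro A _ _ _ rs hlen hw hm h
    obtain ⟨x, rest, rfl⟩ : ∃ x rest, rs = x :: rest := by
      cases rs with
      | nil => simp at hlen
      | cons x rest => exact ⟨x, rest, rfl⟩
    haveI := h
    set I := Ideal.span {x}
    have hxm := hm x List.mem_cons_self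
    haveI : IsLocalRing (A ⧸ I) :=
      Groth.Ega4Algebra1.isLocalRing_quotient_of_le I (by simpa [I, Ideal.span_le] using hxm)
    obtain ⟨h1, h2⟩ := (isWeaklyRegular_cons_iff A x rest).mp hw
    have e : QuotSMulTop x A ≃ₗ[A] A ⧸ I := Submodule.quotEquivOfEq _ _ (by
      rw [← Submodule.ideal_span_singleton_smul, smul_eq_mul, Ideal.mul_top])
    haveI : IsRegularLocalRing ((A ⧸ I) ⧸ Ideal.ofList (rest.map (Ideal.Quotient.mk I))) :=
      IsRegularLocalRing.of_ringEquiv
        ((Ideal.quotEquivOfEq (Ideal.ofList_cons x rest)).trans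
          ((DoubleQuot.quotQuotEquivQuotSup I (Ideal.ofList rest)).symm.trans
            (Ideal.quotEquivOfEq (Ideal.map_ofList (Ideal.Quotient.mk I) rest))))
    haveI : IsRegularLocalRing (A ⧸ I) := by
      refine ih (A ⧸ I) (rest.map (Ideal.Quotient.mk I)) (by simpa using hlen) ?_ ?_ inferInstance
      · exact (isWeaklyRegular_map_algebraMap_iff (A ⧸ I) _ rest).mpr ((e.isWeaklyRegular_congr rest).mp h2)
      · intro r hr
        obtain ⟨r, hr', rfl⟩ := List.mem_map.mp hr
        rw [← map_maximalIdeal_mk I]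
        exact Ideal.mem_map_of_mem _ (hm r (List.mem_cons_of_mem _ hr'))
    exact Groth.Ega4Algebra1.isRegularLocalRing_of_quotient_span_singleton hxm
      (mem_nonZeroDivisors_iff_right.mpr fun c hc => h1 (show x • c = x • 0 by
        rw [smul_eq_mul, mul_comm, hc, smul_zero]))

theorem isRegularLocalRing_iff_isRegularIdeal (A : Type u) [CommRing A] [IsNoetherianRing A]
    [IsLocalRing A] (J : Ideal A) [IsRegularLocalRing (A ⧸ J)] :
    IsRegularLocalRing A ↔ CInt.IsRegularIdeal J := by
  constructor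
  · intro h
    obtain ⟨rs, h1, h2, h3⟩ := exists_regularSeq_of_regular_quotient A J
    exact ⟨rs, (IsLocalRing.isRegular_iff_isWeaklyRegular_of_subset_maximalIdeal h2).mpr h1, h3⟩
  · rintro ⟨rs, h1, rfl⟩
    refine isRegularLocalRing_of_regularSeq rs.length A rs rfl h1.toIsWeaklyRegular (fun r hr => ?_) inferInstance
    have hr' : r ∈ Ideal.ofList rs := Ideal.subset_span hr
    exact le_maximalIdeal (Ideal.Quotient.nontrivial_iff.mp inferInstance) hr'

end Groth.Ega4b

namespace Groth.Ega4b

open IsLocalRing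

theorem inf_sq_le_mul_of_regular_quotient (R : Type u) [CommRing R] [IsRegularLocalRing R] (J : Ideal R)
    [IsRegularLocalRing (R ⧸ J)] : J ⊓ maximalIdeal R ^ 2 ≤ maximalIdeal R * J := by
  generalize hn : (maximalIdeal R).spanFinrank = n
  induction n using Nat.strong_induction_on generalizing R with
  | _ n ih =>
    by_cases hJ : J ≤ maximalIdeal R ^ 2
    · rw [eq_bot_of_le_sq R J hJ]; simp
    obtain ⟨x, hxJ, hx2⟩ := SetLike.not_le_iff_exists.mp hJ
    have hJm : J ≤ maximalIdeal R := le_maximalIdeal (Ideal.Quotient.nontrivial_iff.mp inferInstance)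
    have hxm := hJm hxJ
    obtain ⟨hreg, -⟩ := Groth.Ega4Algebra1.isRegularLocalRing_quotient_span_singleton hxm hx2
    set I := Ideal.span {x}
    have hIJ : I ≤ J := (Ideal.span_singleton_le_iff_mem J).mpr hxJ
    haveI : IsRegularLocalRing ((R ⧸ I) ⧸ J.map (Ideal.Quotient.mk I)) :=
      IsRegularLocalRing.of_ringEquiv (DoubleQuot.quotQuotEquivQuotOfLE hIJ).symm
    have hlt : (maximalIdeal (R ⧸ I)).spanFinrank + 1 ≤ (maximalIdeal R).spanFinrank :=
      Groth.Ega4Algebra1.spanFinrank_maximalIdeal_quotient_lt hxm hx2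
    have h1 := ih _ (by omega) (R ⧸ I) (J.map (Ideal.Quotient.mk I)) rfl
    rintro y ⟨hyJ, hy2⟩
    have h2 : Ideal.Quotient.mk I y ∈ (maximalIdeal R * J).map (Ideal.Quotient.mk I) := by
      rw [Ideal.map_mul, map_maximalIdeal_mk I]
      refine h1 ⟨Ideal.mem_map_of_mem _ hyJ, ?_⟩
      rw [← map_maximalIdeal_mk I, ← Ideal.map_pow]
      exact Ideal.mem_map_of_mem _ hy2
    obtain ⟨z, hz, w, hw, rfl⟩ := Submodule.mem_sup.mp (Ideal.mem_quotient_iff_mem_sup.mp h2)
    obtain ⟨a, rfl⟩ := Ideal.mem_span_singleton'.mp hw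
    have hax : a * x ∈ maximalIdeal R ^ 2 := by
      have hz2 : z ∈ maximalIdeal R ^ 2 := by
        rw [pow_two]; exact Ideal.mul_mono le_rfl hJm hz
      have := sub_mem hy2 hz2
      rwa [add_sub_cancel_left] at this
    have ha : a ∈ maximalIdeal R := (IsLocalRing.mem_maximalIdeal _).mpr fun hu =>
      hx2 ((Ideal.unit_mul_mem_iff_mem _ hu).mp hax)
    exact add_mem hz (Ideal.mul_mem_mul ha hxJ)

end Groth.Ega4b
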