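import Groth.Agent.Ega4Algebra2.FibreChange
import Groth.Agent.Calg1.Completion
import Mathlib

/-!
# Completion of a quotient of a Noetherian local ring
-/

set_option linter.style.haveILetI false
set_option linter.unusedSectionVars false

universe u

namespace Groth.Ega4b

open IsLocalRing

variable (A : Type u) [CommRing A] [IsNoetherianRing A] [IsLocalRing A] (I : Ideal A) [Nontrivial (A ⧸ I)]

omit [IsNoetherianRing A] in
lemma map_maximalIdeal_quotient :
    (maximalIdeal A).map (Ideal.Quotient.mk I) = maximalIdeal (A ⧸ I) := by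
  have hI : I ≤ maximalIdeal A := le_maximalIdeal (Ideal.Quotient.nontrivial_iff.mp ‹_›)
  refine eq_maximalIdeal ((Ideal.map_eq_top_or_isMaximal_of_surjective _
    Ideal.Quotient.mk_surjective (maximalIdeal.isMaximal A)).resolve_left fun h => ?_)
  have := congrArg (Ideal.comap (Ideal.Quotient.mk I)) h
  rw [Ideal.comap_map_quotientMk, sup_eq_right.mpr hI, Ideal.comap_top] at this
  exact (maximalIdeal.isMaximal A).ne_top this

lemma pow_le_comap (n : ℕ) :
    maximalIdeal A ^ n ≤ (maximalIdeal (A ⧸ I) ^ n).comap (Ideal.Quotient.mk I) := by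
  rw [← Ideal.map_le_iff_le_comap, Ideal.map_pow, map_maximalIdeal_quotient]

/-- the `n`th component -/
noncomputable def cplQuotAux (n : ℕ) : EGA4.Cpl A →+* (A ⧸ I) ⧸ maximalIdeal (A ⧸ I) ^ n :=
  (Ideal.quotientMap _ (Ideal.Quotient.mk I) (pow_le_comap A I n)).comp
    (AdicCompletion.evalₐ (maximalIdeal A) n).toRingHom

lemma cplQuotAux_compat {m n : ℕ} (hle : m ≤ n) :
    (Ideal.Quotient.factorPow (maximalIdeal (A ⧸ I)) hle).comp (cplQuotAux A I n) =
      cplQuotAux A I m := by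
  refine RingHom.ext fun x => ?_
  apply AdicCompletion.induction_on (maximalIdeal A) A x
  intro a
  simp only [cplQuotAux, RingHom.coe_comp, Function.comp_apply, AlgHom.toRingHom_eq_coe,
    RingHom.coe_coe, AdicCompletion.evalₐ_mk, Ideal.quotientMap_mk, Ideal.Quotient.factor_mk,
    Ideal.Quotient.factorPow]
  rw [Ideal.Quotient.eq, ← map_sub]
  refine pow_le_comap A I m ?_
  have := SModEq.sub_mem.mp (a.2 hle)
  rw [smul_eq_mul, Ideal.mul_top] at this
  simpa [neg_sub] using neg_mem this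

/-- `Â → (A/I)^` -/
noncomputable def cplQuot : EGA4.Cpl A →+* EGA4.Cpl (A ⧸ I) :=
  AdicCompletion.liftRingHom (maximalIdeal (A ⧸ I)) (cplQuotAux A I) (cplQuotAux_compat A I)

lemma evalₐ_cplQuot (n : ℕ) (x : EGA4.Cpl A) :
    AdicCompletion.evalₐ (maximalIdeal (A ⧸ I)) n (cplQuot A I x) = cplQuotAux A I n x :=
  AdicCompletion.evalₐ_liftRingHom _ _ (cplQuotAux_compat A I) n x

lemma cplQuot_algebraMap (a : A) :
    cplQuot A I (algebraMap A (EGA4.Cpl A) a) =
      algebraMap (A ⧸ I) (EGA4.Cpl (A ⧸ I)) (Ideal.Quotient.mk I a) := by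
  refine AdicCompletion.ext_evalₐ fun n => ?_
  rw [evalₐ_cplQuot]
  simp [cplQuotAux, Ideal.quotientMap_mk]

lemma isNoetherianRing_cpl : IsNoetherianRing (EGA4.Cpl A) :=
  Groth.Calg1.isNoetherianRing_adicCompletion _ (IsNoetherian.noetherian _)

lemma cplQuot_surjective : Function.Surjective (cplQuot A I) := by
  have hmap : (maximalIdeal (EGA4.Cpl A)).map (cplQuot A I) = maximalIdeal (EGA4.Cpl (A ⧸ I)) := by
    rw [AdicCompletion.maximalIdeal_eq_map, AdicCompletion.maximalIdeal_eq_map, Ideal.map_map,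
      ← (congrArg (Ideal.map (algebraMap (A ⧸ I) (EGA4.Cpl (A ⧸ I))))
        (map_maximalIdeal_quotient A I)), Ideal.map_map]
    rw [RingHom.ext (f := (cplQuot A I).comp (algebraMap A (EGA4.Cpl A)))
      (g := (algebraMap (A ⧸ I) (EGA4.Cpl (A ⧸ I))).comp (Ideal.Quotient.mk I))
      (fun a => cplQuot_algebraMap A I a)]
  haveI : IsHausdorff ((maximalIdeal (EGA4.Cpl A)).map (cplQuot A I)) (EGA4.Cpl (A ⧸ I)) := by
    rw [hmap]; infer_instance
  refine surjective_of_mk_map_comp_surjective (I := maximalIdeal (EGA4.Cpl A)) (cplQuot A I) ?_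
  intro y
  obtain ⟨y, rfl⟩ := Ideal.Quotient.mk_surjective y
  obtain ⟨r, hr⟩ := (AdicCompletion.residueField_map_bijective (A ⧸ I)).2 (residue _ y)
  obtain ⟨r, rfl⟩ := residue_surjective r
  obtain ⟨a, rfl⟩ := Ideal.Quotient.mk_surjective r
  refine ⟨algebraMap A (EGA4.Cpl A) a, ?_⟩
  rw [RingHom.comp_apply, cplQuot_algebraMap]
  rw [ResidueField.map_residue] at hr
  rw [Ideal.Quotient.eq, hmap]
  exact Ideal.Quotient.eq.mp hr

lemma ker_cplQuot : RingHom.ker (cplQuot A I) = I.map (algebraMap A (EGA4.Cpl A)) := by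
  haveI := isNoetherianRing_cpl A
  refine le_antisymm (fun x hx => ?_) ?_
  · set J := I.map (algebraMap A (EGA4.Cpl A))
    have hI : I ≤ maximalIdeal A := le_maximalIdeal (Ideal.Quotient.nontrivial_iff.mp ‹_›)
    have key : ∀ n : ℕ, Ideal.Quotient.mk J x ∈
        maximalIdeal (EGA4.Cpl A) ^ n • (⊤ : Submodule (EGA4.Cpl A) (EGA4.Cpl A ⧸ J)) := by
      intro n
      obtain ⟨a, ha⟩ := Ideal.Quotient.mk_surjective (AdicCompletion.evalₐ (maximalIdeal A) n x)
      have h0 := evalₐ_cplQuot A I n x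
      rw [(RingHom.mem_ker.mp hx : cplQuot A I x = 0), map_zero] at h0
      simp only [cplQuotAux, RingHom.coe_comp, Function.comp_apply, AlgHom.toRingHom_eq_coe,
        RingHom.coe_coe, ← ha, Ideal.quotientMap_mk] at h0
      have h1 : a ∈ maximalIdeal A ^ n ⊔ I := by
        rw [← Ideal.mem_quotient_iff_mem_sup, Ideal.map_pow, map_maximalIdeal_quotient]
        exact Ideal.Quotient.eq_zero_iff_mem.mp h0.symm
      have h2 : x - algebraMap A (EGA4.Cpl A) a ∈ maximalIdeal (EGA4.Cpl A) ^ n := by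
        rw [AdicCompletion.maximalIdeal_eq_map, ← Ideal.map_pow, ← Submodule.restrictScalars_mem A,
          ← Ideal.smul_top_eq_map,
          AdicCompletion.pow_smul_top_eq_ker_eval (IsNoetherian.noetherian (maximalIdeal A))]
        have h3 : AdicCompletion.evalₐ (maximalIdeal A) n (x - algebraMap A (EGA4.Cpl A) a) = 0 := by
          rw [map_sub, ← ha]; simp
        rw [LinearMap.mem_ker, ← AdicCompletion.factor_evalₐ_eq_eval _ _
          (by rw [smul_eq_mul, Ideal.mul_top]), h3, map_zero]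
      obtain ⟨b, hb, c, hc, rfl⟩ := Submodule.mem_sup.mp h1
      have h4 : x - algebraMap A (EGA4.Cpl A) c ∈ maximalIdeal (EGA4.Cpl A) ^ n := by
        have hb' : algebraMap A (EGA4.Cpl A) b ∈ maximalIdeal (EGA4.Cpl A) ^ n := by
          rw [AdicCompletion.maximalIdeal_eq_map, ← Ideal.map_pow]
          exact Ideal.mem_map_of_mem _ hb
        have : x - algebraMap A (EGA4.Cpl A) c =
            (x - algebraMap A (EGA4.Cpl A) (b + c)) + algebraMap A (EGA4.Cpl A) b := by
          rw [map_add]; ring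
        rw [this]; exact add_mem h2 hb'
      have h5 : Ideal.Quotient.mk J x = Ideal.Quotient.mk J (x - algebraMap A (EGA4.Cpl A) c) := by
        rw [Ideal.Quotient.eq]; simpa using Ideal.mem_map_of_mem _ hc
      rw [h5, Ideal.smul_top_eq_map, Submodule.restrictScalars_mem, Ideal.Quotient.algebraMap_eq]
      exact Ideal.mem_map_of_mem _ h4
    have : Ideal.Quotient.mk J x ∈ (⨅ n : ℕ, maximalIdeal (EGA4.Cpl A) ^ n •
        (⊤ : Submodule (EGA4.Cpl A) (EGA4.Cpl A ⧸ J))) := (Submodule.mem_iInf _).mpr key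
    rw [Ideal.iInf_pow_smul_eq_bot_of_le_jacobson _ (maximalIdeal_le_jacobson _),
      Submodule.mem_bot] at this
    exact Ideal.Quotient.eq_zero_iff_mem.mp this
  · rw [Ideal.map_le_iff_le_comap]
    intro a ha
    rw [Ideal.mem_comap, RingHom.mem_ker, cplQuot_algebraMap,
      Ideal.Quotient.eq_zero_iff_mem.mpr ha, map_zero]

/-- the fibres of `A/I → (A/I)^` are fibres of `A → Â` -/
lemma exists_fibreEquiv_cplQuot (p' : Ideal (A ⧸ I)) [p'.IsPrime] :
    ∃ (ψ : (p'.comap (Ideal.Quotient.mk I)).ResidueField ≃+* p'.ResidueField)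
      (e : (p'.comap (Ideal.Quotient.mk I)).Fiber (EGA4.Cpl A) ≃+* p'.Fiber (EGA4.Cpl (A ⧸ I))),
      ∀ x, e (algebraMap _ _ x) = algebraMap _ _ (ψ x) := by
  letI : Algebra (EGA4.Cpl A) (EGA4.Cpl (A ⧸ I)) := (cplQuot A I).toAlgebra
  haveI : IsScalarTower A (A ⧸ I) (EGA4.Cpl (A ⧸ I)) := IsScalarTower.of_algebraMap_eq fun _ => rfl
  haveI : IsScalarTower A (EGA4.Cpl A) (EGA4.Cpl (A ⧸ I)) :=
    IsScalarTower.of_algebraMap_eq fun a => (cplQuot_algebraMap A I a).symm
  haveI : Algebra.IsPushout A (A ⧸ I) (EGA4.Cpl A) (EGA4.Cpl (A ⧸ I)) := by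
    let e : EGA4.Cpl A ⧸ I.map (algebraMap A (EGA4.Cpl A)) ≃+* EGA4.Cpl (A ⧸ I) :=
      (Ideal.quotEquivOfEq (ker_cplQuot A I).symm).trans
        (RingHom.quotientKerEquivOfSurjective (cplQuot_surjective A I))
    let f : (EGA4.Cpl A ⧸ I.map (algebraMap A (EGA4.Cpl A))) ≃ₐ[EGA4.Cpl A] EGA4.Cpl (A ⧸ I) :=
      AlgEquiv.ofRingEquiv (f := e) fun _ => rfl
    refine Algebra.IsPushout.symm ⟨IsBaseChange.of_equiv
      ((Algebra.TensorProduct.quotIdealMapEquivTensorQuot (EGA4.Cpl A) I).symm.trans f).toLinearEquiv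
      fun r => ?_⟩
    obtain ⟨a, rfl⟩ := Ideal.Quotient.mk_surjective r
    rw [AlgEquiv.toLinearEquiv_apply, AlgEquiv.trans_apply,
      Algebra.TensorProduct.quotIdealMapEquivTensorQuot_symm_tmul]
    show cplQuot A I (a • (1 : EGA4.Cpl A)) = _
    rw [← Algebra.algebraMap_eq_smul_one, cplQuot_algebraMap]
    rfl
  have h := RingHom.SurjectiveOnStalks.residueFieldMap_bijective
    (RingHom.surjectiveOnStalks_of_surjective Ideal.Quotient.mk_surjective)
    (p'.comap (Ideal.Quotient.mk I)) p' rfl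
  exact ⟨RingEquiv.ofBijective _ h, fibreEquiv A (EGA4.Cpl A) (A ⧸ I) (EGA4.Cpl (A ⧸ I)) _ p' rfl h,
    fibreEquiv_algebraMap A (EGA4.Cpl A) (A ⧸ I) (EGA4.Cpl (A ⧸ I)) _ p' rfl h⟩

end Groth.Ega4b
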