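import Mathlib

/-!
# Weakly regular sequences: short exact sequences, powers of the ideal
-/

set_option linter.style.haveILetI false

universe u v w

namespace Groth.Ega4b

open RingTheory.Sequence Submodule
open scoped Pointwise

variable {A : Type u} [CommRing A]

lemma quotSMulTop_map_injective {M' : Type v} {M : Type v} {M'' : Type v} [AddCommGroup M']
    [Module A M'] [AddCommGroup M] [Module A M] [AddCommGroup M''] [Module A M'']
    (i : M' →ₗ[A] M) (p : M →ₗ[A] M'') (hi : Function.Injective i) (hex : Function.Exact i p) (r : A)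
    (hr : IsSMulRegular M'' r) : Function.Injective (QuotSMulTop.map r i) := by
  refine (injective_iff_map_eq_zero _).mpr fun z hz => ?_
  obtain ⟨x, rfl⟩ := Submodule.Quotient.mk_surjective _ z
  rw [QuotSMulTop.map_apply_mk, Submodule.Quotient.mk_eq_zero, Submodule.mem_smul_pointwise_iff_exists] at hz
  obtain ⟨m, -, hm⟩ := hz
  obtain ⟨y, rfl⟩ := (hex m).mp (hr (show r • p m = r • 0 by
    rw [← map_smul, hm, hex.apply_apply_eq_zero, smul_zero]))
  rw [Submodule.Quotient.mk_eq_zero, Submodule.mem_smul_pointwise_iff_exists]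
  exact ⟨y, Submodule.mem_top, hi (by rw [map_smul, hm])⟩

/-- weak regularity passes to the kernel -/
lemma isWeaklyRegular_sub {fs : List A} : ∀ {M' M M'' : Type v} [AddCommGroup M'] [Module A M']
    [AddCommGroup M] [Module A M] [AddCommGroup M''] [Module A M''] (i : M' →ₗ[A] M)
    (p : M →ₗ[A] M''), Function.Injective i → Function.Surjective p → Function.Exact i p →
    IsWeaklyRegular M fs → IsWeaklyRegular M'' fs → IsWeaklyRegular M' fs := by
  induction fs with
  | nil => intros; exact .nil A _
  | cons r rs ih =>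
    intro M' M M'' _ _ _ _ _ _ i p hi hp hex hM hM''
    rw [isWeaklyRegular_cons_iff] at hM hM'' ⊢
    refine ⟨hM.1.of_injective i hi, ih (QuotSMulTop.map r i) (QuotSMulTop.map r p)
      (quotSMulTop_map_injective i p hi hex r hM''.1) (QuotSMulTop.map_surjective r hp)
      (QuotSMulTop.map_exact r hex hp) hM.2 hM''.2⟩

/-- weak regularity of an extension -/
lemma isWeaklyRegular_middle {fs : List A} : ∀ {M' M M'' : Type v} [AddCommGroup M'] [Module A M']
    [AddCommGroup M] [Module A M] [AddCommGroup M''] [Module A M''] (i : M' →ₗ[A] M)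
    (p : M →ₗ[A] M''), Function.Injective i → Function.Surjective p → Function.Exact i p →
    IsWeaklyRegular M' fs → IsWeaklyRegular M'' fs → IsWeaklyRegular M fs := by
  induction fs with
  | nil => intros; exact .nil A _
  | cons r rs ih =>
    intro M' M M'' _ _ _ _ _ _ i p hi hp hex hM' hM''
    rw [isWeaklyRegular_cons_iff] at hM' hM'' ⊢
    refine ⟨isSMulRegular_of_range_eq_ker hi (LinearMap.exact_iff.mp hex).symm hM'.1 hM''.1,
      ih (QuotSMulTop.map r i) (QuotSMulTop.map r p)
      (quotSMulTop_map_injective i p hi hex r hM''.1) (QuotSMulTop.map_surjective r hp)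
      (QuotSMulTop.map_exact r hex hp) hM'.2 hM''.2⟩

lemma span_pow_succ_le (I : Ideal A) (g : A) (n : ℕ) :
    (I ⊔ Ideal.span {g}) ^ (n + 1) ≤
      I ^ (n + 1) ⊔ Ideal.span {g} * (I ⊔ Ideal.span {g}) ^ n := by
  induction n with
  | zero => simp
  | succ n ih =>
    set G := Ideal.span {g}
    rw [pow_succ (I ⊔ G) (n + 1), pow_succ I (n + 1)]
    refine (Ideal.mul_mono ih le_rfl).trans ?_
    rw [Ideal.sup_mul, Ideal.mul_sup]
    refine sup_le (sup_le le_sup_left (le_sup_of_le_right ?_)) (le_sup_of_le_right ?_)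
    · rw [mul_comm _ G]
      exact Ideal.mul_mono le_rfl (Ideal.pow_right_mono le_sup_left _)
    · rw [mul_assoc, ← pow_succ]

lemma ofList_concat (pre : List A) (g : A) :
    Ideal.ofList (pre ++ [g]) = Ideal.ofList pre ⊔ Ideal.span {g} := by
  simp

/-- the tail of a weakly regular sequence is weakly regular modulo any power of the head ideal -/
lemma isWeaklyRegular_quot_pow (M : Type v) [AddCommGroup M] [Module A M] (pre : List A) :
    ∀ (T : List A), IsWeaklyRegular M (pre ++ T) → ∀ n : ℕ,
      IsWeaklyRegular (M ⧸ (Ideal.ofList pre ^ n • (⊤ : Submodule A M))) T := by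
  induction pre using List.reverseRecOn with
  | nil =>
    intro T hT n
    rcases n with _ | n
    · have : Subsingleton (M ⧸ (Ideal.ofList ([] : List A) ^ 0 • (⊤ : Submodule A M))) :=
        Submodule.Quotient.subsingleton_iff.mpr (by simp)
      exact ⟨fun i hi => fun a b _ => Subsingleton.elim _ _⟩
    · exact ((Submodule.quotEquivOfEqBot _ (by simp [Submodule.bot_smul])).isWeaklyRegular_congr T).mpr hT
  | append_singleton pre g ih =>
    intro T hT n
    rw [List.append_assoc, List.singleton_append] at hT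
    induction n with
    | zero =>
      have : Subsingleton (M ⧸ (Ideal.ofList (pre ++ [g]) ^ 0 • (⊤ : Submodule A M))) :=
        Submodule.Quotient.subsingleton_iff.mpr (by simp)
      exact ⟨fun i hi => fun a b _ => Subsingleton.elim _ _⟩
    | succ n ihn =>
      set I' := Ideal.ofList (pre ++ [g]) with hI'
      set I := Ideal.ofList pre with hI
      have hII : I' = I ⊔ Ideal.span {g} := ofList_concat pre g
      set N₁ := I' ^ n • (⊤ : Submodule A M)
      set N₂ := I' ^ (n + 1) • (⊤ : Submodule A M)
      set N₀ := I ^ (n + 1) • (⊤ : Submodule A M)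
      obtain ⟨hg, hT'⟩ := (isWeaklyRegular_cons_iff _ _ _).mp (ih (g :: T) hT (n + 1))
      have hN : N₀ ⊔ g • (⊤ : Submodule A M) = N₂ ⊔ g • (⊤ : Submodule A M) := by
        refine le_antisymm (sup_le (le_sup_of_le_left (Submodule.smul_mono_left
          (Ideal.pow_right_mono (hII ▸ le_sup_left) _))) le_sup_right) (sup_le ?_ le_sup_right)
        refine (Submodule.smul_mono_left (hII ▸ span_pow_succ_le I g n)).trans ?_
        rw [Submodule.sup_smul, mul_smul, Submodule.ideal_span_singleton_smul]
        exact sup_le le_sup_left (le_sup_of_le_right (smul_mono_right g le_top))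
      have hle : N₁ ≤ N₂.comap (LinearMap.lsmul A M g) := fun x hx => by
        show g • x ∈ I' ^ (n + 1) • (⊤ : Submodule A M)
        rw [pow_succ', mul_smul]
        exact Submodule.smul_mem_smul (hII ▸ Ideal.mem_sup_right (Ideal.mem_span_singleton_self g)) hx
      let φ : (M ⧸ N₁) →ₗ[A] (M ⧸ N₂) := Submodule.mapQ N₁ N₂ (LinearMap.lsmul A M g) hle
      let ψ : (M ⧸ N₂) →ₗ[A] (M ⧸ (N₀ ⊔ g • (⊤ : Submodule A M))) :=
        Submodule.mapQ N₂ _ LinearMap.id (by rw [Submodule.comap_id, hN]; exact le_sup_left)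
      have hφ : Function.Injective φ := by
        refine (injective_iff_map_eq_zero _).mpr fun z hz => ?_
        obtain ⟨x, rfl⟩ := Submodule.Quotient.mk_surjective _ z
        have hx : g • x ∈ N₂ := (Submodule.Quotient.mk_eq_zero _).mp hz
        have hx' := Submodule.smul_mono_left (hII ▸ span_pow_succ_le I g n) hx
        rw [Submodule.sup_smul, mul_smul, Submodule.ideal_span_singleton_smul] at hx'
        obtain ⟨z₀, hz₀, w, hw, hzw⟩ := Submodule.mem_sup.mp hx'
        obtain ⟨y, hy, rfl⟩ := (Submodule.mem_smul_pointwise_iff_exists _ _ _).mp hw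
        have h0 : g • (x - y) ∈ N₀ := by rw [smul_sub, ← hzw, add_sub_cancel_right]; exact hz₀
        have h1 : x - y ∈ N₀ := mem_of_isSMulRegular_quotient_of_smul_mem hg h0
        refine (Submodule.Quotient.mk_eq_zero _).mpr ?_
        rw [← sub_add_cancel x y]
        refine add_mem ?_ hy
        exact Submodule.smul_mono_left
          ((Ideal.pow_le_pow_right n.le_succ).trans (Ideal.pow_right_mono (hII ▸ le_sup_left) _)) h1
      have hex : Function.Exact φ ψ := by
        intro z
        obtain ⟨x, rfl⟩ := Submodule.Quotient.mk_surjective _ z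
        refine ⟨fun hz => ?_, ?_⟩
        · have hx : x ∈ N₂ ⊔ g • (⊤ : Submodule A M) := hN ▸ (Submodule.Quotient.mk_eq_zero _).mp hz
          obtain ⟨a, ha, b, hb, rfl⟩ := Submodule.mem_sup.mp hx
          obtain ⟨y, -, rfl⟩ := (Submodule.mem_smul_pointwise_iff_exists _ _ _).mp hb
          refine ⟨Submodule.Quotient.mk y, (Submodule.Quotient.eq _).mpr ?_⟩
          show g • y - (a + g • y) ∈ N₂
          rw [sub_add_cancel_right]; exact neg_mem ha
        · rintro ⟨w, hw⟩
          obtain ⟨y, rfl⟩ := Submodule.Quotient.mk_surjective _ w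
          rw [← hw]
          exact (Submodule.Quotient.mk_eq_zero _).mpr
            (Submodule.mem_sup_right (Submodule.smul_mem_pointwise_smul y g _ trivial))
      have hψ : Function.Surjective ψ := fun z => by
        obtain ⟨x, rfl⟩ := Submodule.Quotient.mk_surjective _ z
        exact ⟨Submodule.Quotient.mk x, rfl⟩
      refine isWeaklyRegular_middle φ ψ hφ hψ hex ihn ?_
      have e : ((M ⧸ N₀) ⧸ (g • (⊤ : Submodule A (M ⧸ N₀)))) ≃ₗ[A]
          M ⧸ (N₀ ⊔ g • (⊤ : Submodule A M)) :=
        Submodule.quotEquivOfEq _ _ (by rw [map_pointwise_smul, Submodule.map_top, range_mkQ]) ≪≫ₗ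
          Submodule.quotientQuotientEquivQuotientSup N₀ (g • ⊤)
      exact (e.isWeaklyRegular_congr T).mp hT'

/-- `J ∩ Rⁿ = J Rⁿ` for a sequence weakly regular on `A/J` -/
lemma inf_pow_eq_mul_pow (J : Ideal A) (rs : List A) (h : IsWeaklyRegular (A ⧸ J) rs) (n : ℕ) :
    J ⊓ Ideal.ofList rs ^ n = J * Ideal.ofList rs ^ n := by
  refine le_antisymm ?_ Ideal.mul_le_inf
  induction rs using List.reverseRecOn generalizing n with
  | nil =>
    rcases n with _ | n <;> simp [pow_succ]
  | append_singleton pre g ih =>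
    have hpre := ((isWeaklyRegular_append_iff _ _ _).mp h).1
    induction n with
    | zero => simp
    | succ n ihn =>
      rintro x ⟨hxJ, hxI⟩
      rw [ofList_concat] at hxI ⊢
      set I := Ideal.ofList pre
      have hxI' := span_pow_succ_le I g n hxI
      obtain ⟨y, hy, w, hw, rfl⟩ := Submodule.mem_sup.mp hxI'
      obtain ⟨z, hz, rfl⟩ := Ideal.mem_span_singleton_mul.mp hw
      have hg : IsSMulRegular ((A ⧸ J) ⧸ (I ^ (n + 1) • (⊤ : Submodule A (A ⧸ J)))) g :=
        ((isWeaklyRegular_singleton_iff _ g).mp (isWeaklyRegular_quot_pow (A ⧸ J) pre [g] h (n + 1)))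
      have hc : ∀ a : A, (Ideal.Quotient.mk J a) ∈ I ^ (n + 1) • (⊤ : Submodule A (A ⧸ J)) ↔
          a ∈ I ^ (n + 1) ⊔ J := by
        intro a
        rw [Ideal.smul_top_eq_map, Submodule.restrictScalars_mem, Ideal.Quotient.algebraMap_eq,
          Ideal.mem_quotient_iff_mem_sup]
      have h1 : g • Ideal.Quotient.mk J z ∈ I ^ (n + 1) • (⊤ : Submodule A (A ⧸ J)) := by
        rw [← Ideal.Quotient.algebraMap_eq, Algebra.smul_def, ← map_mul, Ideal.Quotient.algebraMap_eq, hc]
        have : g * z = -y + (y + g * z) := by ring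
        rw [this]
        exact Submodule.add_mem_sup (neg_mem hy) hxJ
      have h2 := (hc z).mp (mem_of_isSMulRegular_quotient_of_smul_mem hg h1)
      obtain ⟨a, ha, b, hb, rfl⟩ := Submodule.mem_sup.mp h2
      have hI_le : I ≤ I ⊔ Ideal.span {g} := le_sup_left
      have hb' : b ∈ J * (I ⊔ Ideal.span {g}) ^ n := by
        rw [← ofList_concat]
        refine ihn ⟨hb, ?_⟩
        rw [ofList_concat]
        have := Ideal.sub_mem _ hz ((Ideal.pow_right_mono hI_le n) (Ideal.pow_le_pow_right n.le_succ ha))
        rwa [add_sub_cancel_left] at this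
      have hgb : g * b ∈ J * (I ⊔ Ideal.span {g}) ^ (n + 1) := by
        rw [pow_succ, ← mul_assoc, mul_comm g]
        exact Ideal.mul_mem_mul hb' (Ideal.mem_sup_right (Ideal.mem_span_singleton_self g))
      have hya : y + g * a ∈ J * (I ⊔ Ideal.span {g}) ^ (n + 1) := by
        refine Ideal.mul_mono le_rfl (Ideal.pow_right_mono hI_le _) (ih hpre (n + 1) ⟨?_, ?_⟩)
        · have : y + g * a = (y + g * (a + b)) - g * b := by ring
          rw [this]
          exact Ideal.sub_mem _ hxJ (Ideal.mul_mem_left _ _ hb)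
        · exact add_mem hy (Ideal.mul_mem_left _ _ ha)
      have : y + g * (a + b) = (y + g * a) + g * b := by ring
      rw [this]
      exact add_mem hya hgb

lemma mk_mem_smul_top_iff {M : Type v} [AddCommGroup M] [Module A M] (r : A) (rs : List A) (x : M) :
    (Submodule.Quotient.mk x : QuotSMulTop r M) ∈ Ideal.ofList rs • (⊤ : Submodule A (QuotSMulTop r M))
      ↔ x ∈ Ideal.ofList (r :: rs) • (⊤ : Submodule A M) := by
  have h : Ideal.ofList rs • (⊤ : Submodule A (QuotSMulTop r M)) =
      (Ideal.ofList rs • (⊤ : Submodule A M)).map (r • (⊤ : Submodule A M)).mkQ := by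
    rw [Submodule.map_smul'', Submodule.map_top, range_mkQ]
  rw [h, ← Submodule.mkQ_apply, ← Submodule.mem_comap, Submodule.comap_map_eq, ker_mkQ,
    Ideal.ofList_cons, Submodule.sup_smul, Submodule.ideal_span_singleton_smul, sup_comm]

/-- injectivity modulo a sequence regular on the cokernel -/
lemma mem_smul_top_of_isWeaklyRegular {fs : List A} : ∀ {M' M M'' : Type v} [AddCommGroup M']
    [Module A M'] [AddCommGroup M] [Module A M] [AddCommGroup M''] [Module A M''] (i : M' →ₗ[A] M)
    (p : M →ₗ[A] M''), Function.Injective i → Function.Surjective p → Function.Exact i p →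
    IsWeaklyRegular M'' fs → ∀ x : M', i x ∈ Ideal.ofList fs • (⊤ : Submodule A M) →
      x ∈ Ideal.ofList fs • (⊤ : Submodule A M') := by
  induction fs with
  | nil =>
    intro M' M M'' _ _ _ _ _ _ i p hi hp hex _ x hx
    simp only [Ideal.ofList_nil, Submodule.bot_smul, Submodule.mem_bot] at hx ⊢
    exact hi (by rw [hx, map_zero])
  | cons r rs ih =>
    intro M' M M'' _ _ _ _ _ _ i p hi hp hex hM'' x hx
    rw [isWeaklyRegular_cons_iff] at hM''
    refine (mk_mem_smul_top_iff r rs x).mp
      (ih (QuotSMulTop.map r i) (QuotSMulTop.map r p) (quotSMulTop_map_injective i p hi hex r hM''.1)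
        (QuotSMulTop.map_surjective r hp) (QuotSMulTop.map_exact r hex hp) hM''.2 _ ?_)
    rw [QuotSMulTop.map_apply_mk]
    exact (mk_mem_smul_top_iff r rs (i x)).mpr hx

lemma fg_ker_quotSMulTop_map [IsNoetherianRing A] {M' M M'' : Type v} [AddCommGroup M'] [Module A M']
    [AddCommGroup M] [Module A M] [AddCommGroup M''] [Module A M''] [Module.Finite A M'']
    (i : M' →ₗ[A] M) (p : M →ₗ[A] M'') (hi : Function.Injective i) (hex : Function.Exact i p) (r : A) :
    (LinearMap.ker (QuotSMulTop.map r i)).FG := by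
  let P : Submodule A M := (LinearMap.range i).comap (LinearMap.lsmul A M r)
  let g : P →ₗ[A] QuotSMulTop r M' :=
    (r • (⊤ : Submodule A M')).mkQ ∘ₗ (LinearEquiv.ofInjective i hi).symm.toLinearMap ∘ₗ
      ((LinearMap.lsmul A M r ∘ₗ P.subtype).codRestrict (LinearMap.range i) fun m => m.2)
  have hg : ∀ (m : P) (y : M'), i y = r • (m : M) → g m = Submodule.Quotient.mk y := by
    intro m y hy
    show Submodule.Quotient.mk ((LinearEquiv.ofInjective i hi).symm _) = _
    congr 1
    rw [LinearEquiv.symm_apply_eq]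
    exact Subtype.ext hy.symm
  let q : P →ₗ[A] M'' := p ∘ₗ P.subtype
  have hker : LinearMap.ker q ≤ LinearMap.ker g := by
    intro m hm
    obtain ⟨z, hz⟩ := (hex (m : M)).mp hm
    rw [LinearMap.mem_ker, hg m (r • z) (by rw [map_smul, hz]), Submodule.Quotient.mk_eq_zero]
    exact Submodule.smul_mem_pointwise_smul z r _ trivial
  have hrange : LinearMap.ker (QuotSMulTop.map r i) = LinearMap.range g := by
    refine le_antisymm (fun x hx => ?_) ?_
    · obtain ⟨y, rfl⟩ := Submodule.Quotient.mk_surjective _ x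
      rw [LinearMap.mem_ker, QuotSMulTop.map_apply_mk, Submodule.Quotient.mk_eq_zero,
        Submodule.mem_smul_pointwise_iff_exists] at hx
      obtain ⟨m, -, hm⟩ := hx
      exact ⟨⟨m, ⟨y, hm.symm⟩⟩, hg _ y hm.symm⟩
    · rintro _ ⟨m, rfl⟩
      obtain ⟨y, hy⟩ := (m.2 : r • (m : M) ∈ LinearMap.range i)
      rw [LinearMap.mem_ker, hg m y hy, QuotSMulTop.map_apply_mk, hy, Submodule.Quotient.mk_eq_zero]
      exact Submodule.smul_mem_pointwise_smul _ r _ trivial
  haveI : IsNoetherian A (P ⧸ LinearMap.ker q) :=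
    isNoetherian_of_linearEquiv q.quotKerEquivRange.symm
  rw [hrange, ← Submodule.range_liftQ (LinearMap.ker q) g hker, LinearMap.range_eq_map]
  exact (IsNoetherian.noetherian _).map _

/-- EGA 0_IV 15.1.16, c) ⇒ a) -/
lemma isWeaklyRegular_of_injective_mod [IsNoetherianRing A] (fs : List A)
    (hrad : ∀ f ∈ fs, f ∈ (⊥ : Ideal A).jacobson) :
    ∀ {M' M M'' : Type v} [AddCommGroup M'] [Module A M'] [AddCommGroup M] [Module A M]
      [AddCommGroup M''] [Module A M''] [Module.Finite A M''] (i : M' →ₗ[A] M) (p : M →ₗ[A] M''),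
      Function.Injective i → Function.Surjective p → Function.Exact i p → IsWeaklyRegular M fs →
      (∀ x : M', i x ∈ Ideal.ofList fs • (⊤ : Submodule A M) →
        x ∈ Ideal.ofList fs • (⊤ : Submodule A M')) →
      IsWeaklyRegular M'' fs := by
  induction fs with
  | nil => intros; exact .nil A _
  | cons r rs ih =>
    intro M' M M'' _ _ _ _ _ _ _ i p hi hp hex hM hinj
    rw [isWeaklyRegular_cons_iff] at hM ⊢
    set f := QuotSMulTop.map r i
    set R := LinearMap.range f
    have hexR : Function.Exact R.subtype (QuotSMulTop.map r p) := by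
      rw [LinearMap.exact_iff, range_subtype]
      exact LinearMap.exact_iff.mp (QuotSMulTop.map_exact r hex hp)
    have hq : IsWeaklyRegular (QuotSMulTop r M'') rs := by
      refine ih (fun a ha => hrad a (List.mem_cons_of_mem _ ha)) R.subtype (QuotSMulTop.map r p)
        R.injective_subtype (QuotSMulTop.map_surjective r hp) hexR hM.2 ?_
      rintro ⟨x, z, rfl⟩ hx
      obtain ⟨y, rfl⟩ := Submodule.Quotient.mk_surjective _ z
      simp only [subtype_apply, f, QuotSMulTop.map_apply_mk] at hx
      have hy := (mk_mem_smul_top_iff r rs y).mpr (hinj y ((mk_mem_smul_top_iff r rs (i y)).mp hx))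
      have := Submodule.mem_map_of_mem (f := f.rangeRestrict) hy
      rw [Submodule.map_smul''] at this
      exact Submodule.smul_mono le_rfl le_top this
    have hR : IsWeaklyRegular R rs := isWeaklyRegular_sub R.subtype (QuotSMulTop.map r p)
      R.injective_subtype (QuotSMulTop.map_surjective r hp) hexR hM.2 hq
    have hK : LinearMap.ker f = ⊥ := by
      refine Submodule.eq_bot_of_le_smul_of_le_jacobson_bot (Ideal.ofList rs) _
        (fg_ker_quotSMulTop_map i p hi hex r) (fun x hx => ?_)
        (Ideal.span_le.mpr fun a ha => hrad a (List.mem_cons_of_mem _ ha))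
      obtain ⟨y, rfl⟩ := Submodule.Quotient.mk_surjective _ x
      have hy : i y ∈ Ideal.ofList (r :: rs) • (⊤ : Submodule A M) := by
        rw [Ideal.ofList_cons, Submodule.sup_smul, Submodule.ideal_span_singleton_smul]
        refine Submodule.mem_sup_left ?_
        simpa [f, Submodule.Quotient.mk_eq_zero] using hx
      have h1 := (mk_mem_smul_top_iff r rs y).mpr (hinj y hy)
      have h2 := mem_smul_top_of_isWeaklyRegular (LinearMap.ker f).subtype f.rangeRestrict
        (Submodule.injective_subtype _) f.surjective_rangeRestrict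
        (by rw [LinearMap.exact_iff, range_subtype, LinearMap.ker_rangeRestrict]) hR ⟨_, hx⟩ h1
      have h3 := Submodule.mem_map_of_mem (f := (LinearMap.ker f).subtype) h2
      rwa [Submodule.map_smul'', Submodule.map_top, range_subtype] at h3
    refine ⟨?_, hq⟩
    refine IsSMulRegular.of_right_eq_zero_of_smul ?_
    intro m'' hm
    obtain ⟨m, rfl⟩ := hp m''
    obtain ⟨y, hy⟩ := (hex (r • m)).mp (by rw [map_smul, hm])
    have h0 : (Submodule.Quotient.mk y : QuotSMulTop r M') ∈ LinearMap.ker f := by
      rw [LinearMap.mem_ker, QuotSMulTop.map_apply_mk, hy, Submodule.Quotient.mk_eq_zero]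
      exact Submodule.smul_mem_pointwise_smul m r _ trivial
    rw [hK, Submodule.mem_bot, Submodule.Quotient.mk_eq_zero,
      Submodule.mem_smul_pointwise_iff_exists] at h0
    obtain ⟨z, -, rfl⟩ := h0
    rw [map_smul] at hy
    rw [← hM.1 hy, hex.apply_apply_eq_zero]

end Groth.Ega4b
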