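import Groth.Agent.Ega4Algebra2.H1Regular
import Groth.Agent.Ega4Algebra2.RegSeq
import Groth.Prelude.Def_CInt
import Mathlib

/-!
# Minimal generators of regular ideals
-/

set_option linter.style.haveILetI false
set_option linter.unusedSimpArgs false

universe u v

namespace Groth.Ega4b

open RingTheory.Sequence IsLocalRing
open scoped Pointwise

lemma ofList_ofFn_eq_span {A : Type u} [CommRing A] {n : ℕ} (f : Fin n → A) :
    Ideal.ofList (List.ofFn f) = Ideal.span (Set.range f) := by
  unfold Ideal.ofList; congr 1; ext x; simp [List.mem_ofFn]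

/-- relations of a regular sequence are trivial -/
lemma mem_trivRel_of_isWeaklyRegular {A : Type u} [CommRing A] {M : Type v} [AddCommGroup M] [Module A M] :
    ∀ {n : ℕ} (f : Fin n → A), IsWeaklyRegular M (List.ofFn f) →
      ∀ m : Fin n → M, ∑ i, f i • m i = 0 → m ∈ trivRel f := by
  intro n
  induction n with
  | zero => intro f _ m _; rw [Subsingleton.elim m 0]; exact zero_mem _
  | succ n ih =>
    intro f hf m hm
    rw [List.ofFn_succ', List.concat_eq_append, isWeaklyRegular_append_iff,
      isWeaklyRegular_singleton_iff, ofList_ofFn_eq_span] at hf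
    obtain ⟨hf1, hf2⟩ := hf
    rw [Fin.sum_univ_castSucc] at hm
    have hg : f (Fin.last n) • m (Fin.last n) ∈
        Ideal.span (Set.range fun i : Fin n => f i.castSucc) • (⊤ : Submodule A M) := by
      rw [eq_neg_of_add_eq_zero_right hm]
      exact neg_mem (Submodule.sum_mem _ fun i _ =>
        Submodule.smul_mem_smul (Ideal.subset_span ⟨i, rfl⟩) trivial)
    have hmem := mem_of_isSMulRegular_quotient_of_smul_mem hf2 hg
    obtain ⟨y, hy⟩ : ∃ y : Fin n → M, ∑ i, f i.castSucc • y i = m (Fin.last n) := by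
      refine Submodule.smul_induction_on hmem ?_ ?_
      · intro r hr x _
        obtain ⟨c, rfl⟩ := Ideal.mem_span_range_iff_exists_fun.mp hr
        exact ⟨fun i => c i • x, by simp [Finset.sum_smul, smul_smul, mul_comm]⟩
      · rintro x y ⟨a, rfl⟩ ⟨b, rfl⟩
        exact ⟨a + b, by simp [Finset.sum_add_distrib]⟩
    have h1 := ih (fun i => f i.castSucc) hf1 (fun i => m i.castSucc + f (Fin.last n) • y i) (by
      simp only [smul_add, Finset.sum_add_distrib, smul_comm (f _) (f (Fin.last n)),
        ← Finset.smul_sum, hy, hm])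
    let L : (Fin n → M) →ₗ[A] (Fin (n + 1) → M) :=
      { toFun := fun v => Fin.snoc v 0
        map_add' := fun v w => by ext i; induction i using Fin.lastCases <;> simp
        map_smul' := fun a v => by ext i; induction i using Fin.lastCases <;> simp }
    have h2 : L (fun i => m i.castSucc + f (Fin.last n) • y i) ∈ trivRel f := by
      have h3 := Submodule.mem_map_of_mem (f := L) h1
      rw [trivRel, Submodule.map_span] at h3
      refine Submodule.span_le.mpr ?_ h3
      rintro _ ⟨v, ⟨i, j, x, rfl⟩, rfl⟩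
      refine Submodule.subset_span ⟨i.castSucc, j.castSucc, x, ?_⟩
      ext k
      induction k using Fin.lastCases with
      | last => simp [L, Pi.single_apply, (Fin.castSucc_lt_last _).ne']
      | cast k => simp [L, Pi.single_apply, Fin.castSucc_inj]
    have h4 : m = L (fun i => m i.castSucc + f (Fin.last n) • y i) -
        ∑ i : Fin n, (f (Fin.last n) • (Pi.single i.castSucc (y i) : Fin (n + 1) → M) -
          f i.castSucc • (Pi.single (Fin.last n) (y i) : Fin (n + 1) → M)) := by
      ext k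
      induction k using Fin.lastCases with
      | last =>
        simp [L, Finset.sum_apply, Pi.single_apply, (Fin.castSucc_lt_last _).ne', ← hy]
      | cast k =>
        simp [L, Finset.sum_apply, Pi.single_apply, Fin.castSucc_inj, (Fin.castSucc_lt_last _).ne,
          Finset.sum_ite_eq]
    rw [h4]
    exact sub_mem h2 (Submodule.sum_mem _ fun i _ => Submodule.subset_span ⟨_, _, _, rfl⟩)

lemma trivRel_apply_mem {A : Type u} [CommRing A] {n : ℕ} (f : Fin n → A) {v : Fin n → A}
    (hv : v ∈ trivRel f) (k : Fin n) : v k ∈ Ideal.span (Set.range f) := by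
  induction hv using Submodule.span_induction with
  | mem v hv =>
    obtain ⟨i, j, x, rfl⟩ := hv
    simp only [Pi.sub_apply, Pi.smul_apply, smul_eq_mul]
    exact sub_mem (Ideal.mul_mem_right _ _ (Ideal.subset_span ⟨j, rfl⟩))
      (Ideal.mul_mem_right _ _ (Ideal.subset_span ⟨i, rfl⟩))
  | zero => exact zero_mem _
  | add v w _ _ hv hw => exact add_mem hv hw
  | smul a v _ hv => exact Ideal.mul_mem_left _ a hv

lemma trivRel_transform {A : Type u} [CommRing A] {n : ℕ} (f f' : Fin n → A) (U V : Matrix (Fin n) (Fin n) A)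
    (hf' : ∀ i, f' i = ∑ j, U i j * f j) (hf : ∀ i, f i = ∑ j, V i j * f' j) (hUV : U * V = 1)
    (h : ∀ m : Fin n → A, ∑ i, f i • m i = 0 → m ∈ trivRel f) :
    ∀ m : Fin n → A, ∑ i, f' i • m i = 0 → m ∈ trivRel f' := by
  intro m hm
  have h1 : Matrix.vecMul m U ∈ trivRel f := by
    refine h _ ?_
    simp only [smul_eq_mul, Matrix.vecMul, dotProduct, Finset.mul_sum]
    rw [Finset.sum_comm, ← hm]
    refine Finset.sum_congr rfl fun i _ => ?_
    rw [hf', smul_eq_mul, Finset.sum_mul]
    exact Finset.sum_congr rfl fun j _ => by ring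
  have h2 := Submodule.mem_map_of_mem (f := Matrix.vecMulLinear V) h1
  rw [Matrix.vecMulLinear_apply, Matrix.vecMul_vecMul, hUV, Matrix.vecMul_one, trivRel,
    Submodule.map_span] at h2
  refine Submodule.span_le.mpr ?_ h2
  rintro _ ⟨v, ⟨i, j, x, rfl⟩, rfl⟩
  have h3 : Matrix.vecMulLinear V (f j • (Pi.single i x : Fin n → A) - f i • (Pi.single j x : Fin n → A)) =
      ∑ k, ∑ l, (V i k * V j l * x) •
        (f' l • (Pi.single k (1 : A) : Fin n → A) - f' k • (Pi.single l (1 : A) : Fin n → A)) := by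
    rw [map_sub, map_smul, map_smul, Matrix.vecMulLinear_apply, Matrix.vecMulLinear_apply]
    ext t
    simp only [Pi.sub_apply, Pi.smul_apply, smul_eq_mul, Finset.sum_apply, Pi.single_apply,
      Matrix.single_vecMul, mul_sub, Finset.sum_sub_distrib, mul_ite, mul_one, mul_zero]
    rw [hf j, hf i, Finset.sum_mul, Finset.sum_mul]
    simp only [Finset.sum_ite_irrel, Finset.sum_const_zero, Finset.sum_ite_eq, Finset.mem_univ, if_true]
    congr 1 <;> exact Finset.sum_congr rfl fun k _ => by simp [mul_comm, mul_assoc, mul_left_comm]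
  rw [SetLike.mem_coe, h3]
  exact Submodule.sum_mem _ fun k _ => Submodule.sum_mem _ fun l _ =>
    Submodule.smul_mem _ _ (Submodule.subset_span ⟨k, l, 1, rfl⟩)

variable {A : Type u} [CommRing A] [IsNoetherianRing A] [IsLocalRing A]

lemma isWeaklyRegular_of_trivRel {n : ℕ} (f : Fin n → A) (hm : ∀ i, f i ∈ maximalIdeal A)
    (h : ∀ m : Fin n → A, ∑ i, f i • m i = 0 → m ∈ trivRel f) :
    IsWeaklyRegular A (List.ofFn f) := by
  refine isWeaklyRegular_of_h1_zero (maximalIdeal A) (fun N N' => ?_) f hm h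
  refine ⟨fun x hx => (Submodule.mem_bot A).mp ?_⟩
  rw [← Ideal.iInf_pow_smul_eq_bot_of_le_jacobson (M := ↥N ⧸ N') (maximalIdeal A)
    (maximalIdeal_le_jacobson _)]
  exact (Submodule.mem_iInf _).mpr fun i => SModEq.zero.mp (hx i)

/-- `e` has no relations modulo `𝔪 (e)` -/
def Minimal {n : ℕ} (e : Fin n → A) : Prop :=
  ∀ c : Fin n → A, ∑ i, c i * e i ∈ maximalIdeal A * Ideal.span (Set.range e) → ∀ i, c i ∈ maximalIdeal A

lemma exists_coeff_mem_mul {n : ℕ} {e : Fin n → A} {x : A}
    (hx : x ∈ maximalIdeal A * Ideal.span (Set.range e)) :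
    ∃ d : Fin n → A, (∀ i, d i ∈ maximalIdeal A) ∧ ∑ i, d i * e i = x := by
  refine Submodule.mul_induction_on hx (fun a ha b hb => ?_) ?_
  · obtain ⟨c, rfl⟩ := Ideal.mem_span_range_iff_exists_fun.mp hb
    exact ⟨fun i => a * c i, fun i => Ideal.mul_mem_right _ _ ha, by
      simp [Finset.mul_sum, mul_assoc]⟩
  · rintro x y ⟨a, ha, rfl⟩ ⟨b, hb, rfl⟩
    exact ⟨a + b, fun i => add_mem (ha i) (hb i), by simp [add_mul, Finset.sum_add_distrib]⟩

lemma minimal_of_isWeaklyRegular {n : ℕ} (f : Fin n → A) (hm : ∀ i, f i ∈ maximalIdeal A)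
    (h : IsWeaklyRegular A (List.ofFn f)) : Minimal f := by
  intro c hc i
  obtain ⟨d, hd, hdc⟩ := exists_coeff_mem_mul hc
  have h1 : c - d ∈ trivRel f := mem_trivRel_of_isWeaklyRegular f h _ (by
    simp only [smul_eq_mul, Pi.sub_apply, mul_sub, Finset.sum_sub_distrib]
    rw [sub_eq_zero]
    refine (Finset.sum_congr rfl fun j _ => mul_comm _ _).trans (hdc.symm.trans ?_)
    exact Finset.sum_congr rfl fun j _ => mul_comm _ _)
  have h2 := Ideal.span_le.mpr (Set.range_subset_iff.mpr hm) (trivRel_apply_mem f h1 i)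
  simpa using add_mem h2 (hd i)

/-- minimal generators of an ideal generated by a regular sequence form a regular sequence -/
theorem isWeaklyRegular_of_minimal {n n' : ℕ} (f : Fin n → A) (hm : ∀ i, f i ∈ maximalIdeal A)
    (hf : IsWeaklyRegular A (List.ofFn f)) (e : Fin n' → A)
    (he : Ideal.span (Set.range e) = Ideal.span (Set.range f)) (hmin : Minimal e) :
    IsWeaklyRegular A (List.ofFn e) := by
  classical
  have hU : ∀ i, ∃ u : Fin n → A, ∑ j, u j * f j = e i := fun i =>
    Ideal.mem_span_range_iff_exists_fun.mp (he ▸ Ideal.subset_span ⟨i, rfl⟩)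
  have hV : ∀ i, ∃ v : Fin n' → A, ∑ j, v j * e j = f i := fun i =>
    Ideal.mem_span_range_iff_exists_fun.mp (he.symm ▸ Ideal.subset_span ⟨i, rfl⟩)
  choose U hU using hU
  choose V hV using hV
  let π := Ideal.Quotient.mk (maximalIdeal A)
  have key : ∀ {a b : ℕ} (x : Fin a → A) (y : Fin b → A) (P : Matrix (Fin a) (Fin b) A)
      (R : Matrix (Fin b) (Fin a) A), (∀ i, ∑ j, P i j * y j = x i) → (∀ i, ∑ j, R i j * x j = y i) →
      Minimal x → (P.map π) * (R.map π) = 1 := by
    intro a b x y P R hP hR hx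
    rw [← Matrix.map_mul]
    ext i j
    have h := hx ((P * R) i - (1 : Matrix (Fin a) (Fin a) A) i) (by
      simp only [Pi.sub_apply, sub_mul, Finset.sum_sub_distrib, Matrix.mul_apply, Finset.sum_mul]
      rw [Finset.sum_comm]
      simp_rw [mul_assoc, ← Finset.mul_sum, hR, hP]
      simp [Matrix.one_apply]) j
    rw [Matrix.map_apply, ← sub_eq_zero]
    have h' : π (((P * R) i - (1 : Matrix (Fin a) (Fin a) A) i) j) = 0 :=
      Ideal.Quotient.eq_zero_iff_mem.mpr h
    rw [Pi.sub_apply, map_sub] at h'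
    rw [Matrix.one_apply] at h' ⊢
    split_ifs at h' ⊢ <;> simpa using h'
  have h1 := key e f U V hU hV hmin
  have h2 := key f e V U hV hU (minimal_of_isWeaklyRegular f hm hf)
  haveI : Nontrivial (A ⧸ maximalIdeal A) :=
    Ideal.Quotient.nontrivial_iff.mpr (maximalIdeal.isMaximal A).ne_top
  obtain rfl : n = n' := by
    have := Matrix.square_of_invertible (Matrix.map U π) (Matrix.map V π) h1 h2
    simpa using this.symm
  let U' : Matrix (Fin n) (Fin n) A := U
  have hdet : IsUnit U'.det := by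
    refine (IsLocalRing.notMem_maximalIdeal (x := U'.det)).mp fun hmem => ?_
    have h3 : π U'.det = 0 := Ideal.Quotient.eq_zero_iff_mem.mpr hmem
    have h4 := congrArg Matrix.det h1
    rw [Matrix.det_mul, Matrix.det_one] at h4
    have h5 : (Matrix.map U π).det = π U'.det := (RingHom.map_det π U').symm
    rw [h5, h3, zero_mul] at h4
    exact zero_ne_one h4
  have he' : ∀ i, e i ∈ maximalIdeal A := fun i =>
    Ideal.span_le.mpr (Set.range_subset_iff.mpr hm) (he ▸ Ideal.subset_span ⟨i, rfl⟩)
  refine isWeaklyRegular_of_trivRel e he' (trivRel_transform f e U' U'⁻¹ (fun i => (hU i).symm) ?_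
    (Matrix.mul_nonsing_inv _ hdet) (mem_trivRel_of_isWeaklyRegular f hf))
  intro i
  have h6 : U'⁻¹.mulVec e = f := by
    rw [show e = U'.mulVec f from funext fun i => (hU i).symm, Matrix.mulVec_mulVec,
      Matrix.nonsing_inv_mul _ hdet, Matrix.one_mulVec]
  exact (congrFun h6 i).symm

/-- completing a family to a generating family, minimally -/
theorem exists_minimal_complement {r : ℕ} (h : Fin r → A) (J K : Ideal A)
    (hK : K = Ideal.span (Set.range h) ⊔ J) :
    ∃ (m : ℕ) (g : Fin m → A), (∀ i, g i ∈ J) ∧ Ideal.span (Set.range (Fin.append h g)) = K ∧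
      ∀ c : Fin (r + m) → A, ∑ i, c i * Fin.append h g i ∈ maximalIdeal A * K →
        ∀ i : Fin m, c (Fin.natAdd r i) ∈ maximalIdeal A := by
  classical
  have hspan : ∀ {m : ℕ} (g : Fin m → A), Ideal.span (Set.range (Fin.append h g)) =
      Ideal.span (Set.range h) ⊔ Ideal.span (Set.range g) := by
    intro m g
    rw [← Ideal.span_union]
    congr 1
    ext x
    constructor
    · rintro ⟨i, rfl⟩
      induction i using Fin.addCases with
      | left i => exact Or.inl ⟨i, (Fin.append_left h g i).symm⟩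
      | right i => exact Or.inr ⟨i, (Fin.append_right h g i).symm⟩
    · rintro (⟨i, rfl⟩ | ⟨i, rfl⟩)
      · exact ⟨Fin.castAdd m i, Fin.append_left h g i⟩
      · exact ⟨Fin.natAdd r i, Fin.append_right h g i⟩
  let P : ℕ → Prop := fun m => ∃ g : Fin m → A, (∀ i, g i ∈ J) ∧
    Ideal.span (Set.range h) ⊔ Ideal.span (Set.range g) = K
  have hP : ∃ m, P m := by
    obtain ⟨m, g, hg⟩ := Submodule.fg_iff_exists_fin_generating_family.mp (IsNoetherian.noetherian J)
    refine ⟨m, g, fun i => hg ▸ Submodule.subset_span ⟨i, rfl⟩, ?_⟩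
    rw [hK]; exact congrArg _ hg
  obtain ⟨g, hgJ, hgK⟩ := Nat.find_spec hP
  refine ⟨Nat.find hP, g, hgJ, (hspan g).trans hgK, fun c hc i => ?_⟩
  by_contra hu
  rw [IsLocalRing.notMem_maximalIdeal] at hu
  obtain ⟨m', hm'⟩ : ∃ m', Nat.find hP = m' + 1 := ⟨Nat.find hP - 1, by have := i.isLt; omega⟩
  let g' : Fin m' → A := fun k => g (Fin.cast hm'.symm ((Fin.cast hm' i).succAbove k))
  set N := Ideal.span (Set.range h) ⊔ Ideal.span (Set.range g') with hN
  have hgi : g i ∈ N ⊔ maximalIdeal A * K := by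
    refine (Ideal.unit_mul_mem_iff_mem _ hu).mp ?_
    rw [Fin.sum_univ_add, ← Finset.add_sum_erase _ _ (Finset.mem_univ i)] at hc
    simp only [Fin.append_left, Fin.append_right] at hc
    have : c (Fin.natAdd r i) * g i = -(∑ k, c (Fin.castAdd _ k) * h k) -
        (∑ k ∈ Finset.univ.erase i, c (Fin.natAdd r k) * g k) +
        ((∑ k, c (Fin.castAdd _ k) * h k) + (c (Fin.natAdd r i) * g i +
          ∑ k ∈ Finset.univ.erase i, c (Fin.natAdd r k) * g k)) := by ring
    rw [this]
    refine add_mem (Ideal.mem_sup_left (sub_mem (neg_mem (Submodule.sum_mem _ fun k _ =>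
      Ideal.mul_mem_left _ _ (Ideal.mem_sup_left (Ideal.subset_span ⟨k, rfl⟩)))) ?_)) (Ideal.mem_sup_right hc)
    refine Submodule.sum_mem _ fun k hk => Ideal.mul_mem_left _ _ (Ideal.mem_sup_right ?_)
    obtain ⟨l, hl⟩ := Fin.exists_succAbove_eq (x := Fin.cast hm' k) (y := Fin.cast hm' i)
      fun he => (Finset.ne_of_mem_erase hk) (Fin.cast_injective _ he)
    exact Ideal.subset_span ⟨l, by simp [g', hl]⟩
  have hKN : K ≤ N := by
    refine Submodule.le_of_le_smul_of_le_jacobson_bot (IsNoetherian.noetherian K)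
      (maximalIdeal_le_jacobson _) ?_
    rw [smul_eq_mul]
    nth_rewrite 1 [← hgK]
    refine sup_le (le_sup_of_le_left le_sup_left) (Ideal.span_le.mpr ?_)
    rintro _ ⟨k, rfl⟩
    by_cases hk : k = i
    · exact hk ▸ hgi
    · obtain ⟨l, hl⟩ := Fin.exists_succAbove_eq (x := Fin.cast hm' k) (y := Fin.cast hm' i)
        fun he => hk (Fin.cast_injective _ he)
      exact Ideal.mem_sup_left (Ideal.mem_sup_right (Ideal.subset_span ⟨l, by simp [g', hl]⟩))
  refine Nat.find_min hP (show m' < Nat.find hP by omega) ⟨g', fun k => hgJ _, le_antisymm ?_ hKN⟩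
  rw [← hgK]
  exact sup_le_sup_left (Ideal.span_mono (by rintro _ ⟨k, rfl⟩; exact ⟨_, rfl⟩)) _

theorem isRegularIdeal_of_regular_of_quotient (J K : Ideal A) (hJK : J ≤ K) (hK : K ≤ maximalIdeal A)
    (hKreg : CInt.IsRegularIdeal K) (hKJ : CInt.IsRegularIdeal (K.map (Ideal.Quotient.mk J))) :
    CInt.IsRegularIdeal J := by
  obtain ⟨fs, hfs, hfK⟩ := hKreg
  obtain ⟨gs', hgs, hgK'⟩ := hKJ
  obtain ⟨gs, rfl⟩ := List.map_surjective_iff.mpr Ideal.Quotient.mk_surjective gs'
  let f : Fin fs.length → A := fun i => fs.get i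
  let g : Fin gs.length → A := fun i => gs.get i
  have hf : List.ofFn f = fs := List.ofFn_get fs
  have hg : List.ofFn g = gs := List.ofFn_get gs
  have hGK : Ideal.span (Set.range g) ⊔ J = K := by
    rw [← Ideal.map_ofList, ← hg, ofList_ofFn_eq_span] at hgK'
    have := congrArg (Ideal.comap (Ideal.Quotient.mk J)) hgK'
    rw [Ideal.comap_map_quotientMk, Ideal.comap_map_quotientMk, sup_eq_right.mpr hJK] at this
    rw [sup_comm, this]
  obtain ⟨m, h, hhJ, hspan, hmin⟩ := exists_minimal_complement g J K hGK.symm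
  have hgreg : IsWeaklyRegular (A ⧸ J) gs :=
    (isWeaklyRegular_map_algebraMap_iff (A ⧸ J) _ gs).mp hgs.toIsWeaklyRegular
  have hgm : ∀ i, g i ∈ maximalIdeal A := fun i => hK (hGK.le (Ideal.mem_sup_left (Ideal.subset_span ⟨i, rfl⟩)))
  let e : Fin (m + gs.length) → A := Fin.append h g
  have herange : Ideal.span (Set.range e) = K := by
    rw [← hspan]
    congr 1
    ext x
    constructor
    · rintro ⟨i, rfl⟩
      induction i using Fin.addCases with
      | left i => exact ⟨Fin.natAdd _ i, by simp [e]⟩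
      | right i => exact ⟨Fin.castAdd m i, by simp [e]⟩
    · rintro ⟨i, rfl⟩
      induction i using Fin.addCases with
      | left i => exact ⟨Fin.natAdd m i, by simp [e]⟩
      | right i => exact ⟨Fin.castAdd _ i, by simp [e]⟩
  have hemin : Minimal e := by
    intro c hc
    rw [herange] at hc
    have hb : ∀ i : Fin m, c (Fin.castAdd _ i) ∈ maximalIdeal A := by
      intro i
      have := hmin (Fin.append (fun k => c (Fin.natAdd m k)) fun k => c (Fin.castAdd _ k)) (by
        rw [Fin.sum_univ_add] at hc ⊢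
        simpa [e, add_comm] using hc) i
      simpa using this
    intro i
    induction i using Fin.addCases with
    | left i => exact hb i
    | right i =>
      rw [Fin.sum_univ_add] at hc
      simp only [e, Fin.append_left, Fin.append_right] at hc
      rw [← hGK, Ideal.mul_sup] at hc
      obtain ⟨x, hx, y, hy, hxy⟩ := Submodule.mem_sup.mp hc
      obtain ⟨d, hd, hdx⟩ := exists_coeff_mem_mul hx
      have h3 : ∑ k, Ideal.Quotient.mk J (g k) • Ideal.Quotient.mk J (c (Fin.natAdd m k) - d k) = 0 := by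
        simp only [smul_eq_mul, ← map_mul, ← map_sum]
        rw [Ideal.Quotient.eq_zero_iff_mem]
        have : ∑ k, g k * (c (Fin.natAdd m k) - d k) =
            y - ∑ k, c (Fin.castAdd _ k) * h k := by
          rw [show ∑ k, g k * (c (Fin.natAdd m k) - d k) =
            (∑ k, c (Fin.natAdd m k) * g k) - ∑ k, d k * g k by
              rw [← Finset.sum_sub_distrib]; exact Finset.sum_congr rfl fun k _ => by ring, hdx]
          linear_combination (-1 : A) * hxy
        rw [this]
        exact sub_mem (Ideal.mul_le_right hy) (Submodule.sum_mem _ fun k _ => Ideal.mul_mem_left _ _ (hhJ k))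
      have h4 := trivRel_apply_mem _ (mem_trivRel_of_isWeaklyRegular (M := A ⧸ J)
        (fun k => Ideal.Quotient.mk J (g k)) (by
          have h5 := hgs.toIsWeaklyRegular
          rw [← hg, List.map_ofFn] at h5
          exact h5) _ h3) i
      rw [Set.range_comp' (Ideal.Quotient.mk J) g, ← Ideal.map_span, Ideal.mem_quotient_iff_mem_sup] at h4
      have h8 := add_mem (hK (hGK ▸ h4)) (hd i)
      rwa [sub_add_cancel] at h8
  have hreg := isWeaklyRegular_of_minimal f
    (fun i => hK (hfK ▸ Ideal.subset_span (List.get_mem fs i)))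
    (hf.symm ▸ hfs.toIsWeaklyRegular) e (by rw [herange, ← ofList_ofFn_eq_span f, hf, hfK]) hemin
  rw [List.ofFn_fin_append, isWeaklyRegular_append_iff] at hreg
  refine ⟨List.ofFn h, (IsLocalRing.isRegular_iff_isWeaklyRegular_of_subset_maximalIdeal fun r hr => ?_).mpr hreg.1, ?_⟩
  · obtain ⟨i, rfl⟩ := List.mem_ofFn.mp hr
    exact hK (hJK (hhJ i))
  rw [ofList_ofFn_eq_span]
  refine le_antisymm (Ideal.span_le.mpr (Set.range_subset_iff.mpr hhJ)) ?_
  refine Submodule.le_of_le_smul_of_le_jacobson_bot (IsNoetherian.noetherian J)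
    (maximalIdeal_le_jacobson _) ?_
  rw [smul_eq_mul]
  intro x hx
  have hxK : x ∈ Ideal.span (Set.range h) ⊔ Ideal.span (Set.range g) := by
    have : x ∈ Ideal.span (Set.range e) := herange.symm ▸ hJK hx
    refine Ideal.span_le.mpr ?_ this
    rintro _ ⟨i, rfl⟩
    induction i using Fin.addCases with
    | left i => simp only [e, Fin.append_left]; exact Ideal.mem_sup_left (Ideal.subset_span ⟨i, rfl⟩)
    | right i => simp only [e, Fin.append_right]; exact Ideal.mem_sup_right (Ideal.subset_span ⟨i, rfl⟩)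
  obtain ⟨a, ha, b, hb, rfl⟩ := Submodule.mem_sup.mp hxK
  have hbJ : b ∈ J := by
    simpa using sub_mem hx (Ideal.span_le.mpr (Set.range_subset_iff.mpr hhJ) ha)
  refine Submodule.add_mem_sup ha ?_
  have h6 := inf_pow_eq_mul_pow J gs hgreg 1
  rw [pow_one, ← hg, ofList_ofFn_eq_span] at h6
  have h7 : b ∈ J * Ideal.span (Set.range g) := h6 ▸ ⟨hbJ, hb⟩
  rw [mul_comm J] at h7
  exact Ideal.mul_mono (Ideal.span_le.mpr (Set.range_subset_iff.mpr hgm)) le_rfl h7

end Groth.Ega4b
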