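import Groth.Agent.Calg4.RegularAscent
import Groth.Agent.Ega4Algebra2.CMEquiv
import Groth.Agent.Ega4Algebra2.SkFlat
import Mathlib

/-!
# Cohen–Macaulay rings along flat maps with Cohen–Macaulay fibres
-/

set_option linter.style.haveILetI false

universe u

namespace Groth.Ega4b

open IsLocalRing

lemma isCM_local_of_dim_eq_zero (F : Type u) [CommRing F] [IsLocalRing F] [IsNoetherianRing F]
    (h : ringKrullDim F = 0) : LocCoh.IsCohenMacaulayLocalRing F := by
  rw [Groth.Calg4.isCohenMacaulayLocalRing_iff_dim_eq]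
  refine le_antisymm ?_ (Groth.Calg4.depth_le_ringKrullDim F)
  rw [h]
  exact WithBot.coe_le_coe.mpr zero_le

/-- Noetherian rings of dimension zero are Cohen–Macaulay -/
lemma isCM_of_krullDimLE_zero (F : Type u) [CommRing F] [IsNoetherianRing F] [Ring.KrullDimLE 0 F] :
    LocCoh.IsCohenMacaulayRing F := by
  refine { isCohenMacaulayLocalRing_localization := fun p _ => isCM_local_of_dim_eq_zero _ ?_ }
  rw [IsLocalization.AtPrime.ringKrullDim_eq_height p (Localization.AtPrime p)]
  refine le_antisymm ?_ (WithBot.coe_le_coe.mpr zero_le)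
  refine (Ideal.height_le_ringKrullDim_of_ne_top (Ideal.IsPrime.ne_top ‹_›)).trans ?_
  exact Ring.krullDimLE_iff.mp inferInstance

section

variable (A B : Type u) [CommRing A] [CommRing B] [Algebra A B]

lemma exists_localization_fibre_equiv (p : Ideal A) [p.IsPrime] (Q : Ideal (p.Fiber B)) [Q.IsPrime]
    (r : Ideal B) [r.IsPrime] (hr : Q.comap Algebra.TensorProduct.includeRight = r)
    (hp : r.comap (algebraMap A B) = p) :
    Nonempty (Localization.AtPrime Q ≃+* EGA4.FibLocRing A B r) := by
  subst hr
  refine ⟨(Ideal.Fiber.algEquivAux₂ p Q).toRingEquiv.trans (Ideal.quotEquivOfEq ?_)⟩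
  rw [hp, Ideal.map_map, ← IsScalarTower.algebraMap_eq]

lemma isCM_fibLocRing (r : Ideal B) [r.IsPrime]
    (h : LocCoh.IsCohenMacaulayRing ((r.comap (algebraMap A B)).Fiber B)) :
    LocCoh.IsCohenMacaulayLocalRing (EGA4.FibLocRing A B r) := by
  set p := r.comap (algebraMap A B)
  let Q := PrimeSpectrum.preimageEquivFiber A B ⟨p, inferInstance⟩ ⟨⟨r, inferInstance⟩, rfl⟩
  have hQ : Q.asIdeal.comap Algebra.TensorProduct.includeRight = r :=
    congrArg (fun x => x.1.asIdeal) ((PrimeSpectrum.preimageEquivFiber A B ⟨p, inferInstance⟩).symm_apply_apply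
      ⟨⟨r, inferInstance⟩, rfl⟩)
  obtain ⟨e⟩ := exists_localization_fibre_equiv A B p Q.asIdeal r hQ rfl
  exact isCohenMacaulayLocalRing_of_ringEquiv e (h.isCohenMacaulayLocalRing_localization _)

lemma isCM_fiber_of_forall (p : Ideal A) [p.IsPrime] [IsNoetherianRing (p.Fiber B)]
    (h : ∀ (r : Ideal B) [r.IsPrime], r.comap (algebraMap A B) = p →
      LocCoh.IsCohenMacaulayLocalRing (EGA4.FibLocRing A B r)) :
    LocCoh.IsCohenMacaulayRing (p.Fiber B) := by
  refine { isCohenMacaulayLocalRing_localization := fun Q _ => ?_ }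
  let x := (PrimeSpectrum.preimageEquivFiber A B ⟨p, inferInstance⟩).symm ⟨Q, inferInstance⟩
  have hrp : (Q.comap (Algebra.TensorProduct.includeRight (R := A) (A := p.ResidueField) (B := B))).comap
      (algebraMap A B) = p := congrArg PrimeSpectrum.asIdeal x.2
  obtain ⟨e⟩ := exists_localization_fibre_equiv A B p Q _ rfl hrp
  exact isCohenMacaulayLocalRing_of_ringEquiv e.symm (h _ hrp)

end

/-- Along a flat map with Cohen–Macaulay fibres, Cohen–Macaulay rings go to Cohen–Macaulay rings. -/
theorem isCM_of_flat_of_CM_fibers (R S : Type u) [CommRing R] [CommRing S]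
    [Algebra R S] [Module.Flat R S] [IsNoetherianRing S] [hR : LocCoh.IsCohenMacaulayRing R]
    (h : ∀ (p : Ideal R) [p.IsPrime], LocCoh.IsCohenMacaulayRing (p.Fiber S)) :
    LocCoh.IsCohenMacaulayRing S := by
  refine ⟨fun q _ => ?_⟩
  set p := q.comap (algebraMap R S)
  let := (Localization.localRingHom p q (algebraMap R S) rfl).toAlgebra
  have : IsScalarTower R (Localization.AtPrime p) (Localization.AtPrime q) :=
    IsScalarTower.of_algebraMap_eq fun a => by
      rw [RingHom.algebraMap_toAlgebra, Localization.localRingHom_to_map,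
        IsScalarTower.algebraMap_apply R S (Localization.AtPrime q)]
  have : IsLocalHom (algebraMap (Localization.AtPrime p) (Localization.AtPrime q)) :=
    Localization.isLocalHom_localRingHom p q (algebraMap R S) rfl
  have : Module.Flat R (Localization.AtPrime q) := Module.Flat.trans R S _
  have : Module.Flat (Localization.AtPrime p) (Localization.AtPrime q) :=
    (Module.flat_iff_of_isLocalization (Localization.AtPrime p) p.primeCompl _).mpr inferInstance
  refine Groth.Calg4.isCohenMacaulayLocalRing_of_flat (Localization.AtPrime p) _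
    (hR.isCohenMacaulayLocalRing_localization p) ?_
  rw [← Localization.AtPrime.map_eq_maximalIdeal, Ideal.map_map, ← IsScalarTower.algebraMap_eq]
  exact isCM_fibLocRing R S q (h p)

/-- A finite flat algebra over a Cohen–Macaulay ring is Cohen–Macaulay. -/
theorem isCM_of_finite_flat (R S : Type u) [CommRing R] [CommRing S] [Algebra R S] [Module.Flat R S]
    [Module.Finite R S] [hR : LocCoh.IsCohenMacaulayRing R] : LocCoh.IsCohenMacaulayRing S := by
  haveI := hR.toIsNoetherian
  haveI : IsNoetherianRing S := IsNoetherianRing.of_finite R S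
  refine isCM_of_flat_of_CM_fibers R S fun p _ => ?_
  haveI : IsArtinianRing (p.Fiber S) := IsArtinianRing.of_finite p.ResidueField _
  exact isCM_of_krullDimLE_zero _

end Groth.Ega4b
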