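import Groth.Agent.Ega4Algebra2.FibreChange
import Groth.Agent.Calg4.CompletionFlat
import Groth.Agent.Calg1.Completion
import Mathlib

/-!
# The completed homomorphism `Â → B̂` and its fibres
-/

set_option linter.style.haveILetI false

universe u

namespace Groth.Ega4b

open TensorProduct IsLocalRing

/-- The map between fibres induced by `B → C` -/
noncomputable def fibreMap (A B C : Type u) [CommRing A] [CommRing B] [CommRing C] [Algebra A B]
    [Algebra B C] [Algebra A C] [IsScalarTower A B C] (p : Ideal A) [p.IsPrime] :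
    p.Fiber B →ₐ[p.ResidueField] p.Fiber C :=
  Algebra.TensorProduct.map (AlgHom.id p.ResidueField p.ResidueField) (IsScalarTower.toAlgHom A B C)

lemma fibreMap_injective (A B C : Type u) [CommRing A] [CommRing B] [CommRing C] [Algebra A B]
    [Algebra B C] [Algebra A C] [IsScalarTower A B C] [Module.FaithfullyFlat B C] (p : Ideal A)
    [p.IsPrime] : Function.Injective (fibreMap A B C p) := by
  let D := B ⊗[A] p.ResidueField
  have h1 := Module.FaithfullyFlat.tensorProduct_mk_injective (A := B) (B := C) D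
  let e := AlgebraTensorModule.cancelBaseChange A B B C p.ResidueField
  have key : ∀ z : p.Fiber B, fibreMap A B C p z =
      TensorProduct.comm A C p.ResidueField (e ((1 : C) ⊗ₜ[B] (TensorProduct.comm A p.ResidueField B z))) := by
    intro z
    induction z using TensorProduct.induction_on with
    | zero => simp
    | add a b ha hb => simp only [map_add, tmul_add, ha, hb]
    | tmul k b =>
      simp [e, D, fibreMap, Algebra.smul_def]
  intro a b hab
  rw [key, key] at hab
  exact (TensorProduct.comm A p.ResidueField B).injective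
    (h1 (e.injective ((TensorProduct.comm A C p.ResidueField).injective hab)))

/-- the fibre at a maximal ideal is the quotient -/
lemma exists_fibre_equiv_quotient (A B : Type u) [CommRing A] [CommRing B] [Algebra A B]
    (n : Ideal A) [n.IsMaximal] :
    ∃ e : n.Fiber B ≃+* B ⧸ n.map (algebraMap A B),
      ∀ a : A, e (algebraMap n.ResidueField (n.Fiber B) (algebraMap A n.ResidueField a)) =
        Ideal.Quotient.mk _ (algebraMap A B a) := by
  let ψ : (A ⧸ n) ≃ₐ[A] n.ResidueField :=
    AlgEquiv.ofBijective (IsScalarTower.toAlgHom A (A ⧸ n) n.ResidueField)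
      (Ideal.bijective_algebraMap_quotient_residueField n)
  let f := ((Algebra.TensorProduct.congr ψ (AlgEquiv.refl : B ≃ₐ[A] B)).symm.trans
    (Algebra.TensorProduct.comm A (A ⧸ n) B)).trans
    ((Algebra.TensorProduct.quotIdealMapEquivTensorQuot B n).symm.restrictScalars A)
  refine ⟨f.toRingEquiv, fun a => ?_⟩
  show f (algebraMap n.ResidueField (n.Fiber B) (algebraMap A n.ResidueField a)) = _
  rw [← IsScalarTower.algebraMap_apply, f.commutes]
  rfl

variable (A B : Type u) [CommRing A] [CommRing B] [IsNoetherianRing A] [IsNoetherianRing B]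
  [IsLocalRing A] [IsLocalRing B] [Algebra A B] [IsLocalHom (algebraMap A B)]

/-- `Â → B̂` -/
noncomputable def cplHom : EGA4.Cpl A →+* EGA4.Cpl B :=
  Groth.PropsBasic.GRingLocal.cplMap _ _ (algebraMap A B) (((local_hom_TFAE _).out 0 2).mp ‹_›)

omit [IsNoetherianRing A] [IsNoetherianRing B] in
lemma cplHom_algebraMap (a : A) :
    cplHom A B (algebraMap A (EGA4.Cpl A) a) = algebraMap A (EGA4.Cpl B) a := by
  rw [IsScalarTower.algebraMap_apply A B (EGA4.Cpl B)]
  exact Groth.Calg4.cplMap_algebraMap _ _ _ _ a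

lemma isLocalHom_cpl : IsLocalHom (algebraMap A (EGA4.Cpl B)) := by
  rw [IsScalarTower.algebraMap_eq A B (EGA4.Cpl B)]
  infer_instance

lemma flat_cpl [Module.Flat A B] : Module.Flat A (EGA4.Cpl B) := Module.Flat.trans A B _

lemma faithfullyFlat_cpl : Module.FaithfullyFlat B (EGA4.Cpl B) :=
  Module.FaithfullyFlat.of_flat_of_isLocalHom

variable [Algebra (EGA4.Cpl A) (EGA4.Cpl B)] [IsScalarTower A (EGA4.Cpl A) (EGA4.Cpl B)]

lemma flat_cplHom [Module.Flat A B] : Module.FaithfullyFlat (EGA4.Cpl A) (EGA4.Cpl B) := by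
  haveI := Groth.Calg1.isNoetherianRing_adicCompletion (maximalIdeal B) (IsNoetherian.noetherian _)
  haveI := isLocalHom_cpl A B
  haveI := flat_cpl A B
  exact Groth.Calg4.faithfullyFlat_completion_of_flat A (EGA4.Cpl B)

/-- the closed fibres of `A → B̂` and `Â → B̂` agree -/
lemma exists_closedFibre_equiv :
    ∃ (ψ : (maximalIdeal A).ResidueField ≃+* (maximalIdeal (EGA4.Cpl A)).ResidueField)
      (e : (maximalIdeal A).Fiber (EGA4.Cpl B) ≃+* (maximalIdeal (EGA4.Cpl A)).Fiber (EGA4.Cpl B)),
      ∀ x, e (algebraMap _ _ x) = algebraMap _ _ (ψ x) := by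
  have hbij : Function.Bijective (Ideal.ResidueField.map (maximalIdeal A) (maximalIdeal (EGA4.Cpl A))
      (algebraMap A (EGA4.Cpl A)) (maximalIdeal_comap _).symm) := by
    refine ⟨RingHom.injective _, fun y => ?_⟩
    obtain ⟨y, rfl⟩ := (Ideal.bijective_algebraMap_quotient_residueField (maximalIdeal (EGA4.Cpl A))).2 y
    obtain ⟨r, hr⟩ := (AdicCompletion.residueField_map_bijective A).2 y
    obtain ⟨r, rfl⟩ := residue_surjective r
    refine ⟨algebraMap A _ r, ?_⟩
    rw [← hr, Ideal.ResidueField.map_algebraMap, ResidueField.map_residue]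
    rfl
  obtain ⟨e₁, he₁⟩ := exists_fibre_equiv_quotient A (EGA4.Cpl B) (maximalIdeal A)
  obtain ⟨e₂, he₂⟩ := exists_fibre_equiv_quotient (EGA4.Cpl A) (EGA4.Cpl B) (maximalIdeal (EGA4.Cpl A))
  have hI : (maximalIdeal A).map (algebraMap A (EGA4.Cpl B)) =
      (maximalIdeal (EGA4.Cpl A)).map (algebraMap (EGA4.Cpl A) (EGA4.Cpl B)) := by
    rw [AdicCompletion.maximalIdeal_eq_map, Ideal.map_map, ← IsScalarTower.algebraMap_eq]
  refine ⟨RingEquiv.ofBijective _ hbij, (e₁.trans (Ideal.quotEquivOfEq hI)).trans e₂.symm, fun x => ?_⟩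
  obtain ⟨x, rfl⟩ := (Ideal.bijective_algebraMap_quotient_residueField (maximalIdeal A)).2 x
  obtain ⟨a, rfl⟩ := Ideal.Quotient.mk_surjective x
  show e₂.symm (Ideal.quotEquivOfEq hI (e₁ _)) = _
  rw [RingEquiv.symm_apply_eq]
  erw [he₁ a, Ideal.ResidueField.map_algebraMap, he₂, ← IsScalarTower.algebraMap_apply]
  show Ideal.quotEquivOfEq hI (Ideal.Quotient.mk _ (algebraMap A (EGA4.Cpl B) a)) = _
  rw [Ideal.quotEquivOfEq_mk, ← IsScalarTower.algebraMap_apply A (EGA4.Cpl A) (EGA4.Cpl B)]

end Groth.Ega4b
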