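import Groth.Agent.Ega4Algebra2.FiniteFS
import Groth.Agent.Ega4Algebra2.CompletedFibres
import Groth.Agent.Calg4.RegularHom
import Groth.Agent.S2038
import Groth.Agent.Calg1.IndEtaleFibre
import Mathlib

/-!
# Formally smooth maps of complete local rings are regular; localization of geometric regularity
-/

set_option autoImplicit false
set_option linter.style.haveILetI false

universe u

open IsLocalRing TensorProduct

namespace Groth.Ega4b

variable (A B : Type u) [CommRing A] [CommRing B] [IsLocalRing A] [IsLocalRing B] [IsNoetherianRing A]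
  [IsNoetherianRing B] [Algebra A B] [IsLocalHom (algebraMap A B)]

/-- A formally smooth local map of complete Noetherian local rings is regular. -/
theorem isRegularHom_of_fs_complete [IsAdicComplete (maximalIdeal A) A] [IsAdicComplete (maximalIdeal B) B]
    (hfs : EGA41.IsFormallySmoothAdic A (maximalIdeal A) B (maximalIdeal B)) : CAlg.IsRegularHom A B := by
  refine ⟨Groth.Ega41Flat.flat_of_formallySmooth hfs, fun q _ => ?_⟩
  let K := q.ResidueField
  have key : ∀ (k' : Type u) [Field k'] [Algebra K k'], Module.Finite K k' →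
      IsRegularRing (k' ⊗[K] q.Fiber B) := by
    intro k' _ _ hk
    letI : Algebra A k' := ((algebraMap K k').comp (algebraMap A K)).toAlgebra
    haveI : IsScalarTower A K k' := IsScalarTower.of_algebraMap_eq fun _ => rfl
    obtain ⟨A', hfin, hfrac⟩ := exists_finite_domain A q k'
    haveI := hfin
    haveI := hfrac
    haveI : IsNoetherianRing (B ⊗[A] A') := Algebra.FiniteType.isNoetherianRing B _
    haveI : IsNoetherianRing (A' ⊗[A] B) :=
      isNoetherianRing_of_ringEquiv (B ⊗[A] A') (Algebra.TensorProduct.comm A B A').toRingEquiv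
    haveI := (isRegularRing_tensor_iff A A' B k').2 fun Q _ hQ => isRegularLocalRing_tensor_of_fs A B hfs A' Q hQ
    exact IsRegularRing.of_ringEquiv
      (Algebra.TensorProduct.cancelBaseChange A K k' k' B).symm.toRingEquiv
  refine ⟨?_, key⟩
  haveI : IsNoetherianRing (K ⊗[K] q.Fiber B) := (key K inferInstance).toIsNoetherian
  exact isNoetherianRing_of_ringEquiv (K ⊗[K] q.Fiber B) (Algebra.TensorProduct.lid K (q.Fiber B)).toRingEquiv

/-- Regularity over complete local rings from the closed fibre. -/
theorem isRegularHom_iff_fs_complete [IsAdicComplete (maximalIdeal A) A] [IsAdicComplete (maximalIdeal B) B] :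
    CAlg.IsRegularHom A B ↔ CAlgX.IsAdicFormallySmooth A B (maximalIdeal B) :=
  ⟨fun h => Groth.Agent.S2038.result.mp ⟨h.1, (h.2 _).2⟩,
    fun h => isRegularHom_of_fs_complete A B (Groth.Ega41Flat.isAdicFormallySmooth_iff_local.mp h)⟩

/-- André's localization theorem: regular formal fibres and a geometrically regular completed closed fibre
give a regular homomorphism. -/
theorem isRegularHom_of_cpl_closed_fibre [Module.Flat A B] (hA : CAlg.IsRegularHom A (EGA4.Cpl A))
    (h : CAlg.IsGeometricallyRegular (maximalIdeal A).ResidueField ((maximalIdeal A).Fiber (EGA4.Cpl B))) :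
    CAlg.IsRegularHom A B := by
  letI : Algebra (EGA4.Cpl A) (EGA4.Cpl B) := (cplHom A B).toAlgebra
  haveI : IsScalarTower A (EGA4.Cpl A) (EGA4.Cpl B) :=
    IsScalarTower.of_algebraMap_eq fun a => (cplHom_algebraMap A B a).symm
  haveI := isNoetherianRing_cpl A
  haveI := isNoetherianRing_cpl B
  haveI : IsAdicComplete (maximalIdeal (EGA4.Cpl A)) (EGA4.Cpl A) := by
    rw [AdicCompletion.maximalIdeal_eq_map]
    exact AdicCompletion.isAdicComplete_self _ (IsNoetherian.noetherian _)
  haveI : IsAdicComplete (maximalIdeal (EGA4.Cpl B)) (EGA4.Cpl B) := by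
    rw [AdicCompletion.maximalIdeal_eq_map]
    exact AdicCompletion.isAdicComplete_self _ (IsNoetherian.noetherian _)
  haveI := isLocalHom_cpl A B
  haveI : IsLocalHom (algebraMap (EGA4.Cpl A) (EGA4.Cpl B)) := by
    refine ((local_hom_TFAE _).out 0 2).mpr ?_
    rw [AdicCompletion.maximalIdeal_eq_map, Ideal.map_map, ← IsScalarTower.algebraMap_eq A (EGA4.Cpl A) (EGA4.Cpl B)]
    exact ((local_hom_TFAE (algebraMap A (EGA4.Cpl B))).out 0 2).mp (isLocalHom_cpl A B)
  haveI := flat_cplHom A B
  obtain ⟨ψ, e, he⟩ := exists_closedFibre_equiv A B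
  have h1 : CAlg.IsRegularHom (EGA4.Cpl A) (EGA4.Cpl B) :=
    isRegularHom_of_fs_complete _ _ (Groth.Ega41Flat.isAdicFormallySmooth_iff_local.mp
      ((Groth.Agent.S2038.result (A := EGA4.Cpl A) (B := EGA4.Cpl B)).mp ⟨(inferInstance : Module.Flat (EGA4.Cpl A) (EGA4.Cpl B)), isGeometricallyRegular_of_equiv ψ e he h⟩))
  have h2 : CAlg.IsRegularHom A (EGA4.Cpl B) := Groth.Calg4.IsRegularHom.trans hA h1 fun p _ =>
    Groth.Calg1.isNoetherianRing_fiber A (EGA4.Cpl B) p
  haveI := faithfullyFlat_cpl B
  exact Groth.Calg4.IsRegularHom.of_faithfullyFlat (B := B) h2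

/-- A formally smooth local map out of a ring with regular completion map is regular. -/
theorem isRegularHom_of_fs (hA : CAlg.IsRegularHom A (EGA4.Cpl A))
    (h : EGA41.IsFormallySmoothAdic A (maximalIdeal A) B (maximalIdeal B)) : CAlg.IsRegularHom A B := by
  haveI := Groth.Ega41Flat.flat_of_formallySmooth h
  haveI := isNoetherianRing_cpl B
  haveI := isLocalHom_cpl A B
  have h1 := (Groth.Agent.S2461.result _ _).mp h
  rw [← AdicCompletion.maximalIdeal_eq_map] at h1
  exact isRegularHom_of_cpl_closed_fibre A B hA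
    (Groth.Agent.S2038.result.mpr (Groth.Ega41Flat.isAdicFormallySmooth_iff_local.mpr h1)).2

end Groth.Ega4b
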