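import Groth.Agent.Ega4Algebra2.CompletedFibres
import Groth.Agent.Ega4Algebra2.FibreChange
import Groth.Agent.Ega4Algebra2.CplQuot
import Groth.Prelude.Def_Found
import Mathlib

/-!
# Regular formal fibres via finite domains
-/

set_option autoImplicit false
set_option linter.style.haveILetI false

universe u

open IsLocalRing TensorProduct

namespace Groth.Ega4b

attribute [local instance] Algebra.TensorProduct.rightAlgebra

section

variable (A : Type u) [CommRing A] (B : Type u) [CommRing B] [IsDomain B] [Algebra A B] (C : Type u) [CommRing C]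
  [Algebra A C] (L : Type u) [Field L] [Algebra B L] [IsFractionRing B L] [Algebra A L] [IsScalarTower A B L]

/-- `L ⊗ C` is regular iff `B ⊗ C` is regular over the generic point of `B`, for `L = Frac B`. -/
theorem isRegularRing_tensor_iff [IsNoetherianRing (B ⊗[A] C)] :
    IsRegularRing (L ⊗[A] C) ↔ ∀ (Q : Ideal (B ⊗[A] C)) [Q.IsPrime],
      Q.comap (algebraMap B (B ⊗[A] C)) = ⊥ → IsRegularLocalRing (Localization.AtPrime Q) := by
  classical
  let T := B ⊗[A] C
  let W := L ⊗[A] C
  let φ : T →ₐ[A] W := Algebra.TensorProduct.map (IsScalarTower.toAlgHom A B L) (AlgHom.id A C)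
  letI : Algebra T W := φ.toRingHom.toAlgebra
  haveI : IsScalarTower A T W := IsScalarTower.of_algebraMap_eq fun a => (φ.commutes a).symm
  haveI : IsScalarTower B T W := IsScalarTower.of_algebraMap_eq fun b => by
    show algebraMap B W b = φ (b ⊗ₜ[A] (1 : C))
    rw [Algebra.TensorProduct.map_tmul]
    rfl
  haveI : IsScalarTower C T W := IsScalarTower.of_algebraMap_eq fun c => by
    show (1 : L) ⊗ₜ[A] c = φ ((1 : B) ⊗ₜ[A] c)
    rw [Algebra.TensorProduct.map_tmul, map_one]
    rfl
  haveI : Algebra.IsPushout B L T W := by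
    exact (Algebra.IsPushout.comp_iff A B (T := L) C T (T' := W)).mp inferInstance
  let M := Algebra.algebraMapSubmonoid T (nonZeroDivisors B)
  haveI : IsLocalization M W := (Algebra.isLocalization_iff_isPushout (nonZeroDivisors B) L).mpr (Algebra.IsPushout.symm inferInstance)
  haveI : IsNoetherianRing W := IsLocalization.isNoetherianRing M W inferInstance
  constructor
  · intro hreg Q _ hQ
    have hdisj : Disjoint (M : Set T) (Q : Set T) := by
      rw [Set.disjoint_left]
      rintro _ ⟨b, hb, rfl⟩ hbQ
      exact nonZeroDivisors.ne_zero hb (Ideal.mem_bot.1 (hQ ▸ (hbQ : b ∈ Q.comap (algebraMap B T))))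
    haveI := IsLocalization.isPrime_of_isPrime_disjoint M W Q inferInstance hdisj
    let Q' := Q.map (algebraMap T W)
    have hcomap : Q'.comap (algebraMap T W) = Q := IsLocalization.under_map_of_isPrime_disjoint M W inferInstance hdisj
    haveI : IsLocalization.AtPrime (Localization.AtPrime Q') Q := by
      have := IsLocalization.isLocalization_isLocalization_atPrime_isLocalization M (Localization.AtPrime Q') Q'
      simpa only [hcomap] using this
    exact IsRegularLocalRing.of_ringEquiv
      (IsLocalization.algEquiv Q.primeCompl (Localization.AtPrime Q') (Localization.AtPrime Q)).toRingEquiv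
  · intro h
    refine { toIsNoetherian := inferInstance, isRegularLocalRing_localization := fun Q' _ => ?_ }
    let Q := Q'.comap (algebraMap T W)
    haveI := IsLocalization.isLocalization_isLocalization_atPrime_isLocalization M (Localization.AtPrime Q') Q'
    haveI := h Q (by
      ext b
      rw [Ideal.mem_comap, Ideal.mem_bot]
      refine ⟨fun hb => by_contra fun hb0 => ?_, fun hb => by rw [hb, map_zero]; exact Q.zero_mem⟩
      exact ‹Q'.IsPrime›.ne_top (Ideal.eq_top_of_isUnit_mem _ hb
        (IsLocalization.map_units W (⟨_, ⟨b, mem_nonZeroDivisors_of_ne_zero hb0, rfl⟩⟩ : M))))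
    exact IsRegularLocalRing.of_ringEquiv
      (IsLocalization.algEquiv Q.primeCompl (Localization.AtPrime Q) (Localization.AtPrime Q')).toRingEquiv

end

/-- A monic equation with scalars clearable by `A` gives an integral multiple. -/
theorem exists_isIntegral_mul {A K L : Type u} [CommRing A] [Field K] [Field L] [Algebra A L] [Algebra K L]
    (hfrac : ∀ c : K, ∃ a s : A, algebraMap A L s ≠ 0 ∧
      algebraMap K L c * algebraMap A L s = algebraMap A L a)
    (x : L) (F : Polynomial K) (hF : F.Monic) (hFx : Polynomial.eval₂ (algebraMap K L) x F = 0) :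
    ∃ s : A, algebraMap A L s ≠ 0 ∧ IsIntegral A (algebraMap A L s * x) := by
  classical
  choose a s hs has using fun i : ℕ => hfrac (F.coeff i)
  let t := ∏ i ∈ Finset.range F.natDegree, s i
  have ht : algebraMap A L t ≠ 0 := by
    rw [map_prod]; exact Finset.prod_ne_zero_iff.2 fun i _ => hs i
  refine ⟨t, ht, ?_⟩
  let G := (F.map (algebraMap K L)).scaleRoots (algebraMap A L t)
  have hmonic : G.Monic := (Polynomial.monic_scaleRoots_iff _).2 (hF.map _)
  have hlift : G ∈ Polynomial.lifts (algebraMap A L) := by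
    rw [Polynomial.lifts_iff_coeff_lifts]
    intro i
    rw [Polynomial.coeff_scaleRoots, Polynomial.coeff_map, Polynomial.natDegree_map]
    rcases lt_trichotomy i F.natDegree with hi | hi | hi
    · obtain ⟨c, hc⟩ : ∃ c : A, t = s i * c :=
        ⟨_, (Finset.mul_prod_erase _ _ (Finset.mem_range.2 hi)).symm⟩
      obtain ⟨m, hm⟩ : ∃ m, F.natDegree - i = m + 1 := ⟨F.natDegree - i - 1, by omega⟩
      refine ⟨a i * c * t ^ m, ?_⟩
      rw [hm, map_mul, map_mul, map_pow, ← has i, pow_succ', hc, map_mul]
      ring
    · exact ⟨1, by rw [map_one, hi, Nat.sub_self, pow_zero, mul_one, hF.coeff_natDegree, map_one]⟩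
    · exact ⟨0, by rw [map_zero, Polynomial.coeff_eq_zero_of_natDegree_lt hi, map_zero, zero_mul]⟩
  obtain ⟨G', hG', -, hG'm⟩ := Polynomial.lifts_and_degree_eq_and_monic hlift hmonic
  refine ⟨G', hG'm, ?_⟩
  have h0 : (F.map (algebraMap K L)).eval₂ (RingHom.id L) x = 0 := by
    rw [Polynomial.eval₂_map, RingHom.id_comp]; exact hFx
  have h1 := Polynomial.scaleRoots_eval₂_eq_zero (RingHom.id L) (s := algebraMap A L t) h0
  rw [← Polynomial.eval_map, hG', Polynomial.eval]
  exact h1

theorem exists_frac_residueField (A : Type u) [CommRing A] (q : Ideal A) [q.IsPrime] (L : Type u) [Field L]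
    [Algebra A L] [Algebra q.ResidueField L] [IsScalarTower A q.ResidueField L] (c : q.ResidueField) :
    ∃ a s : A, algebraMap A L s ≠ 0 ∧ algebraMap q.ResidueField L c * algebraMap A L s = algebraMap A L a := by
  obtain ⟨a, s, hs, rfl⟩ := IsFractionRing.div_surjective (A ⧸ q) c
  obtain ⟨a, rfl⟩ := Ideal.Quotient.mk_surjective a
  obtain ⟨s, rfl⟩ := Ideal.Quotient.mk_surjective s
  have hs0 : algebraMap (A ⧸ q) q.ResidueField (Ideal.Quotient.mk q s) ≠ 0 :=
    IsFractionRing.to_map_ne_zero_of_mem_nonZeroDivisors hs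
  refine ⟨a, s, ?_, ?_⟩
  · rw [IsScalarTower.algebraMap_apply A q.ResidueField L]
    exact (map_ne_zero _).2 hs0
  · rw [IsScalarTower.algebraMap_apply A q.ResidueField L, IsScalarTower.algebraMap_apply A q.ResidueField L,
      ← map_mul]
    exact congrArg _ (div_mul_cancel₀ _ hs0)

/-- A finite field extension of a residue field is the fraction field of a finite domain. -/
theorem exists_finite_domain (A : Type u) [CommRing A] (q : Ideal A) [q.IsPrime] (L : Type u) [Field L]
    [Algebra A L] [Algebra q.ResidueField L] [IsScalarTower A q.ResidueField L]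
    [Module.Finite q.ResidueField L] :
    ∃ (B : Subalgebra A L), Module.Finite A B ∧ IsFractionRing B L := by
  classical
  have hfrac := exists_frac_residueField A q L
  have hint : ∀ x : L, ∃ s : A, algebraMap A L s ≠ 0 ∧ IsIntegral A (algebraMap A L s * x) := fun x => by
    obtain ⟨F, hF, hFx⟩ := Algebra.IsIntegral.isIntegral (R := q.ResidueField) x
    exact exists_isIntegral_mul hfrac x F hF hFx
  choose t ht hti using hint
  let e := Module.finBasis q.ResidueField L
  let S : Set L := Set.range fun i => algebraMap A L (t (e i)) * e i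
  obtain ⟨B, hfin, hSB⟩ : ∃ B : Subalgebra A L, Module.Finite A B ∧ S ⊆ (B : Set L) :=
    ⟨_, Algebra.finite_adjoin_of_finite_of_isIntegral (Set.finite_range _)
      (by rintro _ ⟨i, rfl⟩; exact hti _), Algebra.subset_adjoin⟩
  refine ⟨B, hfin, ?_⟩
  haveI : FaithfulSMul B L := (faithfulSMul_iff_algebraMap_injective B L).2 Subtype.val_injective
  let F : Subfield L := Subfield.closure (B : Set L)
  have hB : ∀ b ∈ B, b ∈ F := fun b hb => Subfield.subset_closure hb
  have halg : ∀ a : A, algebraMap A L a ∈ F := fun a => hB _ (B.algebraMap_mem a)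
  have hall : ∀ x : L, x ∈ F := fun x => by
    rw [← e.sum_repr x]
    refine F.sum_mem fun i _ => ?_
    rw [Algebra.smul_def]
    refine F.mul_mem ?_ ?_
    · obtain ⟨a, s, hs, has⟩ := hfrac (e.repr x i)
      rw [eq_div_of_mul_eq hs has]
      exact F.div_mem (halg a) (halg s)
    · have h1 : algebraMap A L (t (e i)) * e i / algebraMap A L (t (e i)) ∈ F :=
        F.div_mem (hB _ (hSB ⟨i, rfl⟩)) (halg _)
      rwa [mul_div_cancel_left₀ _ (ht (e i))] at h1
  refine IsFractionRing.of_field B L fun z => ?_
  obtain ⟨y, hy, w, hw, rfl⟩ := Subfield.mem_closure_iff.1 (hall z)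
  have hle : Subring.closure (B : Set L) ≤ B.toSubring := Subring.closure_le.2 fun b hb => hb
  exact ⟨⟨y, hle hy⟩, ⟨w, hle hw⟩, rfl⟩

/-- The completion map is regular once `B ⊗ Â` is regular over the generic point for finite domains `B`. -/
theorem isRegularHom_cpl_of_finite_domains (A : Type u) [CommRing A] [IsNoetherianRing A] [IsLocalRing A]
    (h : ∀ (B : Type u) [CommRing B] [IsDomain B] [Algebra A B] [Module.Finite A B]
      (Q : Ideal (B ⊗[A] EGA4.Cpl A)) [Q.IsPrime],
      Q.comap (algebraMap B (B ⊗[A] EGA4.Cpl A)) = ⊥ → IsRegularLocalRing (Localization.AtPrime Q)) :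
    CAlg.IsRegularHom A (EGA4.Cpl A) := by
  let C := EGA4.Cpl A
  haveI : IsNoetherianRing C := isNoetherianRing_cpl A
  refine ⟨inferInstance, fun q _ => ?_⟩
  let K := q.ResidueField
  have key : ∀ (k' : Type u) [Field k'] [Algebra K k'], Module.Finite K k' →
      IsRegularRing (k' ⊗[K] q.Fiber C) := by
    intro k' _ _ hk
    letI : Algebra A k' := ((algebraMap K k').comp (algebraMap A K)).toAlgebra
    haveI : IsScalarTower A K k' := IsScalarTower.of_algebraMap_eq fun _ => rfl
    obtain ⟨B, hBfin, hBfrac⟩ := exists_finite_domain A q k'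
    haveI := hBfin
    haveI := hBfrac
    haveI : IsNoetherianRing (C ⊗[A] B) := Algebra.FiniteType.isNoetherianRing C _
    haveI : IsNoetherianRing (B ⊗[A] C) :=
      isNoetherianRing_of_ringEquiv (C ⊗[A] B) (Algebra.TensorProduct.comm A C B).toRingEquiv
    haveI := (isRegularRing_tensor_iff A B C k').2 fun Q _ hQ => h B Q hQ
    exact IsRegularRing.of_ringEquiv
      (Algebra.TensorProduct.cancelBaseChange A K k' k' C).symm.toRingEquiv
  refine ⟨?_, key⟩
  haveI : IsNoetherianRing (K ⊗[K] q.Fiber C) := (key K inferInstance).toIsNoetherian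
  exact isNoetherianRing_of_ringEquiv (K ⊗[K] q.Fiber C) (Algebra.TensorProduct.lid K (q.Fiber C)).toRingEquiv

/-- Regular completion map: `B ⊗ Â` is regular over the generic point for finite domains `B`. -/
theorem isRegularLocalRing_of_isRegularHom (A : Type u) [CommRing A] [IsNoetherianRing A] [IsLocalRing A]
    (h : CAlg.IsRegularHom A (EGA4.Cpl A)) (B : Type u) [CommRing B] [IsDomain B] [Algebra A B]
    [Module.Finite A B] (Q : Ideal (B ⊗[A] EGA4.Cpl A)) [Q.IsPrime]
    (hQ : Q.comap (algebraMap B (B ⊗[A] EGA4.Cpl A)) = ⊥) : IsRegularLocalRing (Localization.AtPrime Q) := by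
  let C := EGA4.Cpl A
  haveI : IsNoetherianRing C := isNoetherianRing_cpl A
  let q : Ideal A := (⊥ : Ideal B).under A
  haveI : (⊥ : Ideal B).IsPrime := Ideal.isPrime_bot
  haveI : (⊥ : Ideal B).LiesOver q := ⟨rfl⟩
  let L := (⊥ : Ideal B).ResidueField
  letI : Algebra (Localization.AtPrime q) (Localization.AtPrime (⊥ : Ideal B)) :=
    (Localization.localRingHom q ⊥ (algebraMap A B) rfl).toAlgebra
  haveI : IsScalarTower A (Localization.AtPrime q) (Localization.AtPrime (⊥ : Ideal B)) :=
    IsScalarTower.of_algebraMap_eq fun a => by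
      rw [IsScalarTower.algebraMap_apply A B (Localization.AtPrime (⊥ : Ideal B))]
      exact (Localization.localRingHom_to_map q ⊥ (algebraMap A B) rfl a).symm
  haveI : Localization.AtPrime.IsLiesOverAlgebra q (⊥ : Ideal B) := ⟨rfl⟩
  haveI : Algebra.QuasiFinite A B := inferInstance
  haveI : Module.Finite q.ResidueField L := inferInstance
  haveI : IsNoetherianRing (C ⊗[A] B) := Algebra.FiniteType.isNoetherianRing C _
  haveI : IsNoetherianRing (B ⊗[A] C) :=
    isNoetherianRing_of_ringEquiv (C ⊗[A] B) (Algebra.TensorProduct.comm A C B).toRingEquiv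
  haveI := (h.2 q).2 L inferInstance
  refine (isRegularRing_tensor_iff A B C L).1 ?_ Q hQ
  exact IsRegularRing.of_ringEquiv
    (Algebra.TensorProduct.cancelBaseChange A q.ResidueField L L C).toRingEquiv

end Groth.Ega4b
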