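import Groth.Agent.Ega4Algebra1.RegularLocal
import Mathlib

/-!
# Elements independent modulo the square of the maximal ideal of a regular local ring
-/

set_option linter.style.haveILetI false

universe u

namespace Groth.Ega4b

open IsLocalRing RingTheory.Sequence

theorem isWeaklyRegular_of_independent_mod_sq : ∀ (n : ℕ) (R : Type u) [CommRing R] [IsRegularLocalRing R]
    (f : Fin n → R), (∀ i, f i ∈ maximalIdeal R) →
    (∀ c : Fin n → R, ∑ i, c i * f i ∈ maximalIdeal R ^ 2 → ∀ i, c i ∈ maximalIdeal R) →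
    IsWeaklyRegular R (List.ofFn f) := by
  intro n
  induction n with
  | zero => intro R _ _ f _ _; rw [List.ofFn_zero]; exact .nil R R
  | succ n ih =>
    intro R _ _ f hm hind
    have hx2 : f 0 ∉ maximalIdeal R ^ 2 := by
      intro h
      have := hind (Pi.single 0 1) (by simpa [Pi.single_apply] using h) 0
      rw [Pi.single_eq_same] at this
      exact (maximalIdeal.isMaximal R).ne_top ((Ideal.eq_top_iff_one _).mpr this)
    have hx0 : f 0 ≠ 0 := fun h => hx2 (h ▸ zero_mem _)
    obtain ⟨hreg, -⟩ := Groth.Ega4Algebra1.isRegularLocalRing_quotient_span_singleton (hm 0) hx2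
    set I := Ideal.span {f 0}
    rw [List.ofFn_succ, isWeaklyRegular_cons_iff]
    refine ⟨Groth.Ega4Algebra1.isSMulRegular_of_ne_zero_of_isRegularLocalRing R hx0, ?_⟩
    refine ((Submodule.quotEquivOfEq _ I ?_).isWeaklyRegular_congr _).mpr
      ((isWeaklyRegular_map_algebraMap_iff (R ⧸ I) _ _).mp ?_)
    · rw [← Submodule.ideal_span_singleton_smul, smul_eq_mul, Ideal.mul_top]
    rw [List.map_ofFn]
    have hmk : (maximalIdeal R).map (Ideal.Quotient.mk I) = maximalIdeal (R ⧸ I) :=
      IsLocalRing.map_maximalIdeal_of_surjective _ Ideal.Quotient.mk_surjective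
    refine ih (R ⧸ I) _ (fun i => hmk ▸ Ideal.mem_map_of_mem _ (hm i.succ)) fun c hc i => ?_
    choose d hd using fun j => Ideal.Quotient.mk_surjective (c j)
    have h1 : Ideal.Quotient.mk I (∑ j, d j * f j.succ) ∈ (maximalIdeal R ^ 2).map (Ideal.Quotient.mk I) := by
      rw [Ideal.map_pow, hmk, map_sum]
      simpa [hd] using hc
    obtain ⟨z, hz, w, hw, hzw⟩ := Submodule.mem_sup.mp (Ideal.mem_quotient_iff_mem_sup.mp h1)
    obtain ⟨a, rfl⟩ := Ideal.mem_span_singleton'.mp hw
    have h2 := hind (Fin.cons (-a) d) (by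
      have e : ∑ j, (Fin.cons (-a) d : Fin (n + 1) → R) j * f j = z := by
        rw [Fin.sum_univ_succ]
        simp only [Fin.cons_zero, Fin.cons_succ]
        linear_combination -hzw
      rw [e]; exact hz) i.succ
    rw [← hd, ← hmk]
    exact Ideal.mem_map_of_mem _ (by simpa using h2)

lemma take_ofFn_span {R : Type u} [CommRing R] {n : ℕ} (f : Fin n → R) (k : ℕ) :
    Ideal.ofList ((List.ofFn f).take k) = Ideal.span (f '' {l | (l : ℕ) < k}) := by
  unfold Ideal.ofList
  congr 1
  ext x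
  simp only [Set.mem_ofPred_eq, List.mem_take_iff_getElem, List.length_ofFn, List.getElem_ofFn,
    Set.mem_image, lt_min_iff]
  constructor
  · rintro ⟨i, ⟨hik, hin⟩, rfl⟩; exact ⟨⟨i, hin⟩, hik, rfl⟩
  · rintro ⟨l, hl, rfl⟩; exact ⟨l, ⟨hl, l.isLt⟩, rfl⟩

lemma isWeaklyRegular_ofFn_iff {R : Type u} [CommRing R] {n : ℕ} (f : Fin n → R) :
    IsWeaklyRegular R (List.ofFn f) ↔ ∀ (k : Fin n) (y : R),
      f k * y ∈ Ideal.span (f '' {l | l < k}) → y ∈ Ideal.span (f '' {l | l < k}) := by
  rw [RingTheory.Sequence.isWeaklyRegular_iff_Fin]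
  have key : ∀ (k : Fin n), IsSMulRegular (R ⧸ (Ideal.ofList ((List.ofFn f).take k) • (⊤ : Submodule R R))) (f k) ↔
      ∀ y : R, f k * y ∈ Ideal.span (f '' {l | l < k}) → y ∈ Ideal.span (f '' {l | l < k}) := by
    intro k
    rw [isSMulRegular_quotient_iff_mem_of_smul_mem, smul_eq_mul, Ideal.mul_top,
      take_ofFn_span f k]
    rfl
  constructor
  · intro h k
    have := h ⟨k, by simp⟩
    rw [Fin.getElem_fin, List.getElem_ofFn] at this
    exact (key k).mp this
  · intro h i
    have hi : (i : ℕ) < n := by simpa using i.isLt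
    rw [Fin.getElem_fin, List.getElem_ofFn]
    exact (key ⟨i, hi⟩).mpr (h ⟨i, hi⟩)

end Groth.Ega4b
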