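import Groth.Agent.Ega4Algebra2.RelRegular
import Groth.Agent.Ega4Algebra2.FlatRegular
import Groth.Agent.Calg6.FlatAdic
import Groth.Agent.EtaleAlgebra.GlueFlat
import Mathlib

/-!
# Flatness modulo an ideal of subquotients
-/

set_option linter.style.haveILetI false

universe u

namespace Groth.Ega4b

open TensorProduct
open scoped Pointwise

variable {A : Type u} [CommRing A] (Q : Ideal A)

/-- `E ⊗ A/Q` is flat over `A/Q` -/
def FlatQ (E : Type u) [AddCommGroup E] [Module A E] : Prop :=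
  Module.Flat (A ⧸ Q) ((A ⧸ Q) ⊗[A] E)

variable {Q}

lemma flatQ_of_linearEquiv {E E' : Type u} [AddCommGroup E] [Module A E] [AddCommGroup E'] [Module A E']
    (e : E ≃ₗ[A] E') (h : FlatQ Q E) : FlatQ Q E' := by
  haveI : Module.Flat (A ⧸ Q) ((A ⧸ Q) ⊗[A] E) := h
  exact Module.Flat.of_linearEquiv (TensorProduct.AlgebraTensorModule.congr
    (LinearEquiv.refl (A ⧸ Q) (A ⧸ Q)) e).symm

lemma flatQ_of_subsingleton (E : Type u) [AddCommGroup E] [Module A E] [Subsingleton E] : FlatQ Q E := by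
  haveI : Subsingleton ((A ⧸ Q) ⊗[A] E) := ⟨fun a b => by
    have : ∀ z : (A ⧸ Q) ⊗[A] E, z = 0 := fun z => by
      induction z with
      | zero => rfl
      | tmul c x => rw [Subsingleton.elim x 0, tmul_zero]
      | add a b ha hb => rw [ha, hb, add_zero]
    rw [this a, this b]⟩
  exact inferInstanceAs (Module.Flat (A ⧸ Q) ((A ⧸ Q) ⊗[A] E))

section killed

variable {E : Type u} [AddCommGroup E] [Module A E]

/-- `E ⊗ A/Q = E` for a killed module -/
noncomputable def killEquiv (hE : Q • (⊤ : Submodule A E) = ⊥) : ((A ⧸ Q) ⊗[A] E) ≃ₗ[A] E :=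
  TensorProduct.quotTensorEquivQuotSMul E Q ≪≫ₗ Submodule.quotEquivOfEqBot _ hE

lemma killEquiv_tmul (hE : Q • (⊤ : Submodule A E) = ⊥) (a : A) (x : E) :
    killEquiv hE (Ideal.Quotient.mk Q a ⊗ₜ[A] x) = a • x := by
  simp [killEquiv]

lemma killEquiv_natural {E' : Type u} [AddCommGroup E'] [Module A E'] (hE : Q • (⊤ : Submodule A E) = ⊥)
    (hE' : Q • (⊤ : Submodule A E') = ⊥) (f : E →ₗ[A] E') (z : (A ⧸ Q) ⊗[A] E) :
    killEquiv hE' (f.baseChange (A ⧸ Q) z) = f (killEquiv hE z) := by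
  induction z with
  | zero => simp
  | add a b ha hb => simp [map_add, ha, hb]
  | tmul c x =>
    obtain ⟨c, rfl⟩ := Ideal.Quotient.mk_surjective c
    rw [LinearMap.baseChange_tmul, killEquiv_tmul, killEquiv_tmul, map_smul]

variable {E' E'' : Type u} [AddCommGroup E'] [Module A E'] [AddCommGroup E''] [Module A E'']
  (i : E' →ₗ[A] E) (p : E →ₗ[A] E'') (hi : Function.Injective i) (hex : Function.Exact i p)
  (hp : Function.Surjective p) (hE : Q • (⊤ : Submodule A E) = ⊥)

include hi hex hp hE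

omit hex in
lemma killed_sub_quot : Q • (⊤ : Submodule A E') = ⊥ ∧ Q • (⊤ : Submodule A E'') = ⊥ := by
  constructor
  · refine eq_bot_iff.mpr fun x hx => ?_
    have := Submodule.mem_map_of_mem (f := i) hx
    rw [Submodule.map_smul''] at this
    have h2 := Submodule.smul_mono le_rfl le_top this
    rw [hE, Submodule.mem_bot] at h2
    exact hi (h2.trans (map_zero i).symm)
  · rw [← LinearMap.range_eq_top.mpr hp, LinearMap.range_eq_map, ← Submodule.map_smul'', hE,
      Submodule.map_bot]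

lemma baseChange_shortExact :
    Function.Injective (i.baseChange (A ⧸ Q)) ∧
      Function.Exact (i.baseChange (A ⧸ Q)) (p.baseChange (A ⧸ Q)) ∧
      Function.Surjective (p.baseChange (A ⧸ Q)) := by
  obtain ⟨hE', hE''⟩ := killed_sub_quot i p hi hp hE
  refine ⟨fun a b hab => (killEquiv hE').injective (hi ?_), fun z => ?_, fun z => ?_⟩
  · rw [← killEquiv_natural hE' hE, ← killEquiv_natural hE' hE, hab]
  · constructor
    · intro hz
      obtain ⟨w, hw⟩ := (hex (killEquiv hE z)).mp (by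
        rw [← killEquiv_natural hE hE'', hz, map_zero])
      exact ⟨(killEquiv hE').symm w, (killEquiv hE).injective (by
        rw [killEquiv_natural hE' hE, LinearEquiv.apply_symm_apply, hw])⟩
    · rintro ⟨w, rfl⟩
      apply (killEquiv hE'').injective
      rw [killEquiv_natural hE hE'', killEquiv_natural hE' hE, hex.apply_apply_eq_zero, map_zero]
  · obtain ⟨w, hw⟩ := hp (killEquiv hE'' z)
    exact ⟨(killEquiv hE).symm w, (killEquiv hE'').injective (by
      rw [killEquiv_natural hE hE'', LinearEquiv.apply_symm_apply, hw])⟩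

lemma flatQ_middle (h' : FlatQ Q E') (h'' : FlatQ Q E'') : FlatQ Q E := by
  haveI : Module.Flat (A ⧸ Q) ((A ⧸ Q) ⊗[A] E') := h'
  haveI : Module.Flat (A ⧸ Q) ((A ⧸ Q) ⊗[A] E'') := h''
  obtain ⟨h1, h2, h3⟩ := baseChange_shortExact i p hi hex hp hE
  exact Groth.Calg6.flat_of_extension _ _ h1 h2 h3

lemma flatQ_sub (h : FlatQ Q E) (h'' : FlatQ Q E'') : FlatQ Q E' := by
  haveI : Module.Flat (A ⧸ Q) ((A ⧸ Q) ⊗[A] E) := h
  haveI : Module.Flat (A ⧸ Q) ((A ⧸ Q) ⊗[A] E'') := h''
  obtain ⟨h1, h2, h3⟩ := baseChange_shortExact i p hi hex hp hE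
  show Module.Flat (A ⧸ Q) ((A ⧸ Q) ⊗[A] E')
  rw [Module.Flat.iff_rTensor_injective]
  intro J _ a b hab
  have hJ := Groth.EtaleAlgebra.rTensor_injective_of_exact h1 h3 h2 J
  have hJ' : Function.Injective ((i.baseChange (A ⧸ Q)).lTensor J) :=
    (LinearMap.lTensor_inj_iff_rTensor_inj _ _).mpr hJ
  apply hJ'
  apply Module.Flat.rTensor_preserves_injective_linearMap (M := (A ⧸ Q) ⊗[A] E) J.subtype
    (Submodule.injective_subtype J)
  rw [← LinearMap.comp_apply, ← LinearMap.comp_apply, LinearMap.rTensor_comp_lTensor,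
    ← LinearMap.lTensor_comp_rTensor, LinearMap.comp_apply, LinearMap.comp_apply, hab]

omit hi hex hp in
lemma eq_zero_of_smul_eq_zero (h : FlatQ Q E) (a : A) (ha : ∀ c, a * c ∈ Q → c ∈ Q) (x : E)
    (hx : a • x = 0) : x = 0 := by
  haveI : Module.Flat (A ⧸ Q) ((A ⧸ Q) ⊗[A] E) := h
  have hnzd : Ideal.Quotient.mk Q a ∈ nonZeroDivisors (A ⧸ Q) := by
    refine mem_nonZeroDivisors_iff_right.mpr fun c hc => ?_
    obtain ⟨c, rfl⟩ := Ideal.Quotient.mk_surjective c
    rw [← map_mul, Ideal.Quotient.eq_zero_iff_mem, mul_comm] at hc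
    exact Ideal.Quotient.eq_zero_iff_mem.mpr (ha c hc)
  have hreg : IsSMulRegular ((A ⧸ Q) ⊗[A] E) (Ideal.Quotient.mk Q a) :=
    Module.Flat.isSMulRegular_of_nonZeroDivisors (R := A ⧸ Q) (M := (A ⧸ Q) ⊗[A] E) hnzd
  set z : (A ⧸ Q) ⊗[A] E := (killEquiv hE).symm x with hz
  have h2 : (Ideal.Quotient.mk Q a) • z = a • z :=
    algebraMap_smul (A ⧸ Q) a z
  have h3 : a • z = 0 := by rw [hz, ← map_smul, hx, map_zero]
  have h1 : z = 0 := hreg.right_eq_zero_of_smul (h2.trans h3)
  have h4 := congrArg (killEquiv hE) h1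
  rwa [hz, LinearEquiv.apply_symm_apply, map_zero] at h4

end killed

lemma flatQ_iff_quotient {E : Type u} [AddCommGroup E] [Module A E] :
    FlatQ Q E ↔ Module.Flat (A ⧸ Q) (E ⧸ Q • (⊤ : Submodule A E)) := by
  let e : ((A ⧸ Q) ⊗[A] E) ≃+ (E ⧸ Q • (⊤ : Submodule A E)) :=
    (TensorProduct.quotTensorEquivQuotSMul E Q).toAddEquiv
  have he : ∀ (r : A ⧸ Q) (x : (A ⧸ Q) ⊗[A] E), e (r • x) = r • e x := fun r x => by
    obtain ⟨r, rfl⟩ := Ideal.Quotient.mk_surjective r
    rw [← Ideal.Quotient.algebraMap_eq, algebraMap_smul, algebraMap_smul]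
    exact map_smul (TensorProduct.quotTensorEquivQuotSMul E Q) r x
  constructor
  · intro h
    haveI : Module.Flat (A ⧸ Q) ((A ⧸ Q) ⊗[A] E) := h
    exact flat_of_semilinear (RingEquiv.refl _) e he
  · intro h
    exact flat_of_semilinear (RingEquiv.refl _) e.symm fun r x => by
      apply e.injective
      rw [he]; simp

lemma flatQ_iff_flat {E : Type u} [AddCommGroup E] [Module A E] [Module (A ⧸ Q) E]
    [IsScalarTower A (A ⧸ Q) E] : FlatQ Q E ↔ Module.Flat (A ⧸ Q) E := by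
  have hE : Q • (⊤ : Submodule A E) = ⊥ := by
    refine eq_bot_iff.mpr (Submodule.smul_le.mpr fun r hr x _ => ?_)
    rw [Submodule.mem_bot, ← algebraMap_smul (A ⧸ Q) r, Ideal.Quotient.algebraMap_eq,
      Ideal.Quotient.eq_zero_iff_mem.mpr hr, zero_smul]
  let e : ((A ⧸ Q) ⊗[A] E) ≃ₗ[A ⧸ Q] E :=
    { killEquiv hE with
      map_smul' := fun r x => by
        obtain ⟨r, rfl⟩ := Ideal.Quotient.mk_surjective r
        simp only [RingHom.id_apply, ← Ideal.Quotient.algebraMap_eq, algebraMap_smul]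
        exact map_smul (killEquiv hE) r x }
  exact ⟨fun h => @Module.Flat.of_linearEquiv _ _ _ _ _ _ _ _ h e.symm, fun h => Module.Flat.of_linearEquiv e⟩

section Piece

variable {M : Type u} [AddCommGroup M] [Module A M]

/-- map of subquotients induced by an endomorphism -/
def pieceMap (f : M →ₗ[A] M) {X Y X' Y' : Submodule A M} (hX : ∀ x ∈ X, f x ∈ X')
    (hY : ∀ x ∈ X, x ∈ Y → f x ∈ Y') : Piece X Y →ₗ[A] Piece X' Y' :=
  Submodule.mapQ _ _ (f.restrict hX) fun x hx => hY x x.2 hx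

lemma pieceMap_mk (f : M →ₗ[A] M) {X Y X' Y' : Submodule A M} (hX : ∀ x ∈ X, f x ∈ X')
    (hY : ∀ x ∈ X, x ∈ Y → f x ∈ Y') (x : X) :
    pieceMap f hX hY (Submodule.Quotient.mk x) = Submodule.Quotient.mk ⟨f x, hX x x.2⟩ := rfl

lemma piece_mk_eq_zero {X Y : Submodule A M} {x : X} :
    (Submodule.Quotient.mk x : Piece X Y) = 0 ↔ (x : M) ∈ Y :=
  Submodule.Quotient.mk_eq_zero (Y.comap X.subtype)

lemma piece_killed {X Y : Submodule A M} (h : Q • X ≤ Y) : Q • (⊤ : Submodule A (Piece X Y)) = ⊥ := by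
  refine eq_bot_iff.mpr (Submodule.smul_le.mpr fun r hr q _ => ?_)
  obtain ⟨x, rfl⟩ := Submodule.Quotient.mk_surjective _ q
  rw [Submodule.mem_bot, ← Submodule.Quotient.mk_smul, piece_mk_eq_zero]
  exact h (Submodule.smul_mem_smul hr x.2)

lemma piece_shortExact {X U Y : Submodule A M} (hYU : Y ≤ U) (hUX : U ≤ X) :
    ∃ (i : Piece U Y →ₗ[A] Piece X Y) (p : Piece X Y →ₗ[A] Piece X U),
      Function.Injective i ∧ Function.Exact i p ∧ Function.Surjective p := by
  refine ⟨pieceMap LinearMap.id (fun x hx => hUX hx) (fun x _ hx => hx),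
    pieceMap LinearMap.id (fun x hx => hx) (fun x _ hx => hYU hx), ?_, ?_, ?_⟩
  · refine (injective_iff_map_eq_zero _).mpr fun q hq => ?_
    obtain ⟨x, rfl⟩ := Submodule.Quotient.mk_surjective _ q
    rw [pieceMap_mk, piece_mk_eq_zero] at hq
    exact piece_mk_eq_zero.mpr hq
  · intro q
    obtain ⟨x, rfl⟩ := Submodule.Quotient.mk_surjective _ q
    rw [pieceMap_mk, piece_mk_eq_zero]
    constructor
    · intro hx
      exact ⟨Submodule.Quotient.mk ⟨x, hx⟩, rfl⟩
    · rintro ⟨w, hw⟩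
      obtain ⟨w, rfl⟩ := Submodule.Quotient.mk_surjective _ w
      rw [pieceMap_mk, Submodule.Quotient.eq] at hw
      have h1 : (w : M) - x ∈ Y := hw
      have : (x : M) = w - (w - x) := by abel
      show (x : M) ∈ U
      rw [this]
      exact sub_mem w.2 (hYU h1)
  · intro q
    obtain ⟨x, rfl⟩ := Submodule.Quotient.mk_surjective _ q
    exact ⟨Submodule.Quotient.mk x, rfl⟩

lemma flatQ_piece_trans {X U Y : Submodule A M} (hYU : Y ≤ U) (hUX : U ≤ X) (hQ : Q • X ≤ Y)
    (h1 : FlatQ Q (Piece U Y)) (h2 : FlatQ Q (Piece X U)) : FlatQ Q (Piece X Y) := by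
  obtain ⟨i, p, hi, hex, hp⟩ := piece_shortExact hYU hUX
  exact flatQ_middle i p hi hex hp (piece_killed hQ) h1 h2

lemma flatQ_piece_sub {X U Y : Submodule A M} (hYU : Y ≤ U) (hUX : U ≤ X) (hQ : Q • X ≤ Y)
    (h1 : FlatQ Q (Piece X Y)) (h2 : FlatQ Q (Piece X U)) : FlatQ Q (Piece U Y) := by
  obtain ⟨i, p, hi, hex, hp⟩ := piece_shortExact hYU hUX
  exact flatQ_sub i p hi hex hp (piece_killed hQ) h1 h2

lemma flatQ_piece_congr {X Y X' Y' : Submodule A M} (hX : X = X') (hY : Y = Y')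
    (h : FlatQ Q (Piece X Y)) : FlatQ Q (Piece X' Y') := by
  subst hX hY; exact h

lemma flatQ_piece_self (X Y : Submodule A M) (h : X ≤ Y) : FlatQ Q (Piece X Y) := by
  haveI : Subsingleton (Piece X Y) := Submodule.Quotient.subsingleton_iff.mpr
    (eq_top_iff.mpr fun x _ => h x.2)
  exact flatQ_of_subsingleton _

/-- second isomorphism -/
noncomputable def pieceSupEquiv (X B : Submodule A M) : Piece X B ≃ₗ[A] Piece (X ⊔ B) B :=
  LinearEquiv.ofBijective (pieceMap LinearMap.id (fun x hx => Submodule.mem_sup_left hx) (fun x _ hx => hx))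
    ⟨(injective_iff_map_eq_zero _).mpr fun q hq => by
      obtain ⟨x, rfl⟩ := Submodule.Quotient.mk_surjective _ q
      rw [pieceMap_mk, piece_mk_eq_zero] at hq
      exact piece_mk_eq_zero.mpr hq,
    fun q => by
      obtain ⟨⟨x, hx⟩, rfl⟩ := Submodule.Quotient.mk_surjective _ q
      obtain ⟨y, hy, b, hb, rfl⟩ := Submodule.mem_sup.mp hx
      refine ⟨Submodule.Quotient.mk ⟨y, hy⟩, ?_⟩
      rw [pieceMap_mk, Submodule.Quotient.eq]
      show y - (y + b) ∈ B
      rw [sub_add_cancel_left]; exact neg_mem hb⟩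

lemma flatQ_piece_of_inf_eq {X B B' : Submodule A M} (h : X ⊓ B = X ⊓ B')
    (hf : FlatQ Q (Piece (X ⊔ B) B)) : FlatQ Q (Piece (X ⊔ B') B') := by
  have hc : B.comap X.subtype = B'.comap X.subtype := by
    ext x
    exact ⟨fun hx => (h.le ⟨x.2, hx⟩).2, fun hx => (h.ge ⟨x.2, hx⟩).2⟩
  exact flatQ_of_linearEquiv ((pieceSupEquiv X B).symm ≪≫ₗ
    (Submodule.quotEquivOfEq _ _ hc ≪≫ₗ pieceSupEquiv X B')) hf

/-- graded pieces for a regular sequence are flat modulo `Q` -/
theorem flatQ_gr : ∀ {gs : List A} {X K : Submodule A M}, K ≤ X → RegS ⊥ gs X K →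
    Q • X ≤ K ⊔ Ideal.ofList gs • X → FlatQ Q (Piece X (K ⊔ Ideal.ofList gs • X)) →
    ∀ l : ℕ, FlatQ Q (Piece (K ⊔ Ideal.ofList gs ^ l • X) (K ⊔ Ideal.ofList gs ^ (l + 1) • X)) := by
  intro gs
  induction gs with
  | nil =>
    intro X K hKX _ _ h0 l
    rcases l with _ | l
    · exact flatQ_piece_congr (by simp [hKX]) (by simp) h0
    · exact flatQ_piece_self _ _ (by simp [pow_succ])
  | cons g gs ih =>
    intro X K hKX hR hQ h0
    have hgX : g • X ≤ X := fun y hy => by
      obtain ⟨x, hx, rfl⟩ := (Submodule.mem_smul_pointwise_iff_exists _ _ _).mp hy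
      exact X.smul_mem _ hx
    have hKX' : K ⊔ g • X ≤ X := sup_le hKX hgX
    have e1 : K ⊔ g • X ⊔ Ideal.ofList gs • X = K ⊔ Ideal.ofList (g :: gs) • X := by
      rw [Ideal.ofList_cons, Submodule.sup_smul, Submodule.ideal_span_singleton_smul, sup_assoc]
    have ih' := ih hKX' hR.2 (e1 ▸ hQ) (flatQ_piece_congr rfl e1.symm h0)
    set G := Ideal.ofList (g :: gs) with hG
    have hgU : ∀ l, ∀ x ∈ K ⊔ G ^ l • X, g • x ∈ K ⊔ G ^ (l + 1) • X := fun l x hx => by
      obtain ⟨k, hk, y, hy, rfl⟩ := Submodule.mem_sup.mp hx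
      rw [smul_add]
      exact Submodule.add_mem_sup (K.smul_mem _ hk) (smul_mem_pow_succ hy)
    intro l
    induction l with
    | zero =>
      exact flatQ_piece_congr (by simp [hKX]) (by simp) h0
    | succ l ihl =>
      have hkill : Q • (K ⊔ G ^ (l + 1) • X) ≤ K ⊔ G ^ (l + 1 + 1) • X := by
        rw [Submodule.smul_sup, ← Submodule.mul_smul, mul_comm, Submodule.mul_smul]
        refine sup_le (le_sup_of_le_left Submodule.smul_le_right)
          ((Submodule.smul_mono le_rfl hQ).trans ?_)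
        rw [Submodule.smul_sup, ← Submodule.mul_smul, ← pow_succ]
        exact sup_le_sup_right Submodule.smul_le_right _
      have hV : ∀ m, K ⊔ g • X ⊔ G ^ m • X = K ⊔ g • X ⊔ Ideal.ofList gs ^ m • X := by
        intro m
        rcases m with _ | m
        · simp
        refine le_antisymm (sup_le le_sup_left ((ofList_cons_pow_succ_le g gs m X).trans
          (sup_le le_sup_right (le_sup_of_le_left (le_sup_of_le_right
            (smul_mono_right g Submodule.smul_le_right)))))) ?_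
        exact sup_le_sup_left (pow_le_mono (ofList_le_cons g gs) _ _) _
      have hU : ∀ m, K ⊔ G ^ m • X ≤ K ⊔ g • X ⊔ G ^ m • X := fun m =>
        sup_le_sup_right le_sup_left _
      let φ : Piece (K ⊔ G ^ l • X) (K ⊔ G ^ (l + 1) • X) →ₗ[A]
          Piece (K ⊔ G ^ (l + 1) • X) (K ⊔ G ^ (l + 1 + 1) • X) :=
        pieceMap (LinearMap.lsmul A M g) (fun x hx => hgU l x hx) (fun x _ hx => hgU (l + 1) x hx)
      let ψ : Piece (K ⊔ G ^ (l + 1) • X) (K ⊔ G ^ (l + 1 + 1) • X) →ₗ[A]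
          Piece (K ⊔ g • X ⊔ G ^ (l + 1) • X) (K ⊔ g • X ⊔ G ^ (l + 1 + 1) • X) :=
        pieceMap LinearMap.id (fun x hx => hU _ hx) (fun x _ hx => hU _ hx)
      have hφ : ∀ (x : M) (hx : x ∈ K ⊔ G ^ l • X),
          φ (Submodule.Quotient.mk ⟨x, hx⟩) = Submodule.Quotient.mk ⟨g • x, hgU l x hx⟩ :=
        fun x hx => rfl
      have hψ : ∀ (x : M) (hx : x ∈ K ⊔ G ^ (l + 1) • X),
          ψ (Submodule.Quotient.mk ⟨x, hx⟩) = Submodule.Quotient.mk ⟨x, hU _ hx⟩ :=
        fun x hx => rfl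
      refine flatQ_middle φ ψ ?_ ?_ ?_ (piece_killed hkill) ihl
        (flatQ_piece_congr (hV _).symm (hV _).symm (ih' (l + 1)))
      · refine (injective_iff_map_eq_zero _).mpr fun q hq => ?_
        obtain ⟨⟨w, hw⟩, rfl⟩ := Submodule.Quotient.mk_surjective _ q
        rw [hφ, piece_mk_eq_zero] at hq
        exact piece_mk_eq_zero.mpr
          (div_of_regS_bot hKX hR (sup_le hKX Submodule.smul_le_right hw) hq)
      · intro q
        obtain ⟨⟨u, hu⟩, rfl⟩ := Submodule.Quotient.mk_surjective _ q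
        rw [hψ, piece_mk_eq_zero]
        constructor
        · intro hmem
          have hmem' : u ∈ K ⊔ G ^ (l + 1 + 1) • X ⊔ g • X := by
            rw [sup_right_comm]; exact hmem
          obtain ⟨u', hu', y, hy, huy⟩ := Submodule.mem_sup.mp hmem'
          obtain ⟨x, hx, rfl⟩ := (Submodule.mem_smul_pointwise_iff_exists _ _ _).mp hy
          have hgx : g • x ∈ K ⊔ G ^ (l + 1) • X := by
            have : g • x = u - u' := by rw [← huy]; abel
            rw [this]
            exact sub_mem hu ((sup_le_sup_left (pow_le_pow_smul (I := G) (Nat.le_succ (l + 1)) X) K : K ⊔ G ^ (l + 1 + 1) • X ≤ K ⊔ G ^ (l + 1) • X) hu')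
          refine ⟨Submodule.Quotient.mk ⟨x, div_of_regS_bot hKX hR hx hgx⟩, ?_⟩
          rw [hφ]
          rw [Submodule.Quotient.eq]
          show g • x - u ∈ K ⊔ G ^ (l + 1 + 1) • X
          have : g • x - u = -u' := by rw [← huy]; abel
          rw [this]; exact neg_mem hu'
        · rintro ⟨w, hw⟩
          obtain ⟨⟨w, hwU⟩, rfl⟩ := Submodule.Quotient.mk_surjective _ w
          rw [hφ] at hw
          rw [Submodule.Quotient.eq] at hw
          have h1 : g • w - u ∈ K ⊔ G ^ (l + 1 + 1) • X := hw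
          show u ∈ K ⊔ g • X ⊔ G ^ (l + 1 + 1) • X
          have : u = g • w - (g • w - u) := by abel
          rw [this]
          exact sub_mem (Submodule.mem_sup_left (Submodule.mem_sup_right
            (Submodule.smul_mem_pointwise_smul _ g _ (sup_le hKX Submodule.smul_le_right hwU)))) (hU _ h1)
      · intro q
        obtain ⟨⟨v, hv⟩, rfl⟩ := Submodule.Quotient.mk_surjective _ q
        have hv' : v ∈ K ⊔ G ^ (l + 1) • X ⊔ g • X := by rw [sup_right_comm]; exact hv
        obtain ⟨u, hu, y, hy, rfl⟩ := Submodule.mem_sup.mp hv'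
        refine ⟨Submodule.Quotient.mk ⟨u, hu⟩, ?_⟩
        rw [hψ]
        rw [Submodule.Quotient.eq]
        show u - (u + y) ∈ K ⊔ g • X ⊔ G ^ (l + 1 + 1) • X
        rw [sub_add_cancel_left]
        exact neg_mem (Submodule.mem_sup_left (Submodule.mem_sup_right hy))

end Piece

end Groth.Ega4b
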