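import Groth.Agent.Ega4Algebra2.DerivationExt
import Groth.Agent.Calg6.PowerSeries
import Mathlib

/-!
# Derivations on power series rings and subfields killed by derivations
-/

set_option autoImplicit false

universe u

open MvPowerSeries Groth.SGA7.PS IsLocalRing

namespace Groth.Ega4b.Jac

variable {k : Type u} [CommRing k] {d : ℕ}

lemma monomial_eq_mul_prod (D : Fin d →₀ ℕ) (c : k) :
    monomial D c = (C c : MvPowerSeries (Fin d) k) * ∏ i, X i ^ D i := by
  rw [← MvPolynomial.coe_monomial, MvPolynomial.monomial_eq, Finsupp.prod_fintype _ _ (fun i => pow_zero _)]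
  simp only [← MvPolynomial.coeToMvPowerSeries.ringHom_apply, map_mul, map_prod, map_pow]
  simp only [MvPolynomial.coeToMvPowerSeries.ringHom_apply, MvPolynomial.coe_C, MvPolynomial.coe_X]

/-- Every power series is congruent to a finite sum of its monomials. -/
lemma exists_sub_sum_mem (z : MvPowerSeries (Fin d) k) (j : ℕ) :
    ∃ s : Finset (Fin d →₀ ℕ), z - ∑ D ∈ s, monomial D (coeff D z) ∈ varIdeal (Fin d) k ^ j := by
  classical
  refine ⟨(Finsupp.finite_of_degree_lt (σ := Fin d) j).toFinset, mem_varIdeal_pow j _ fun D hD => ?_⟩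
  rw [map_sub, map_sum, Finset.sum_eq_single D]
  · rw [coeff_monomial, if_pos rfl, sub_self]
  · intro b _ hb; rw [coeff_monomial, if_neg (Ne.symm hb)]
  · intro h; exact absurd ((Finsupp.finite_of_degree_lt (σ := Fin d) j).mem_toFinset.2 hD) h

/-- A derivation killing the images of the monomials of a series kills the image of the series. -/
theorem derivation_image_eq_zero {R : Type u} [CommRing R] [IsNoetherianRing R] [IsLocalRing R]
    (g : MvPowerSeries (Fin d) k →+* R) (hg : ∀ i, g (X i) ∈ maximalIdeal R) (δ : IDer R)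
    (z : MvPowerSeries (Fin d) k) (hz : ∀ D, δ (g (monomial D (coeff D z))) = 0) : δ (g z) = 0 := by
  have hmap : (varIdeal (Fin d) k).map g ≤ maximalIdeal R := by
    rw [varIdeal, Ideal.map_span, Ideal.span_le]
    rintro _ ⟨_, ⟨i, rfl⟩, rfl⟩
    exact hg i
  have h : δ (g z) ∈ ⨅ j : ℕ, maximalIdeal R ^ j := by
    refine Ideal.mem_iInf.2 fun j => ?_
    obtain ⟨s, hs⟩ := exists_sub_sum_mem z (j + 1)
    have h1 := Ideal.mem_map_of_mem g hs
    rw [Ideal.map_pow] at h1
    have h2 := map_pow_succ_le (maximalIdeal R) δ j (Ideal.pow_right_mono hmap _ h1)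
    rwa [map_sub, map_sum, map_sub, map_sum, Finset.sum_eq_zero (fun D _ => hz D), sub_zero] at h2
  rwa [Ideal.iInf_pow_eq_bot_of_isLocalRing _ (maximalIdeal.isMaximal R).ne_top, Ideal.mem_bot] at h

/-- The derivation acting on coefficients. -/
noncomputable def coeffDer (δ : IDer k) :
    IDer (MvPowerSeries (Fin d) k) :=
  mkIDer (fun z => (fun D => δ (coeff D z) : MvPowerSeries (Fin d) k)) (fun a b => by
      ext D
      show δ (coeff D (a + b)) = δ (coeff D a) + δ (coeff D b)
      rw [map_add, map_add]) fun a b => by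
    classical
    ext D
    show δ (coeff D (a * b)) = coeff D (a * _ + b * _)
    rw [map_add, mul_comm b, coeff_mul, coeff_mul, coeff_mul, map_sum, ← Finset.sum_add_distrib]
    refine Finset.sum_congr rfl fun x _ => ?_
    rw [δ.leibniz, smul_eq_mul, smul_eq_mul]
    exact congrArg₂ (· + ·) rfl (mul_comm _ _)

@[simp] lemma coeff_coeffDer (δ : IDer k) (z : MvPowerSeries (Fin d) k) (D : Fin d →₀ ℕ) :
    coeff D (coeffDer δ z) = δ (coeff D z) := rfl

lemma coeffDer_C (δ : IDer k) (c : k) :
    coeffDer δ (C c : MvPowerSeries (Fin d) k) = C (δ c) := by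
  classical
  ext D
  rw [coeff_coeffDer, coeff_C, coeff_C]
  split_ifs <;> simp

lemma coeffDer_X (δ : IDer k) (i : Fin d) : coeffDer δ (X i : MvPowerSeries (Fin d) k) = 0 := by
  classical
  ext D
  rw [coeff_coeffDer, coeff_X, map_zero]
  split_ifs <;> simp

/-- The constants of a derivation on a field. -/
def kerSubfield {K : Type u} [Field K] (δ : IDer K) : Subfield K where
  carrier := {x | δ x = 0}
  zero_mem' := map_zero δ
  one_mem' := δ.map_one_eq_zero
  add_mem' := fun {a b} (ha : δ a = 0) (hb : δ b = 0) => by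
    show δ (a + b) = 0
    rw [map_add, ha, hb, add_zero]
  mul_mem' := fun {a b} (ha : δ a = 0) (hb : δ b = 0) => by
    show δ (a * b) = 0
    rw [δ.leibniz, ha, hb, smul_zero, smul_zero, add_zero]
  neg_mem' := fun {a} (ha : δ a = 0) => by
    show δ (-a) = 0
    rw [map_neg, ha, neg_zero]
  inv_mem' := fun a (ha : δ a = 0) => by
    show δ a⁻¹ = 0
    rw [δ.leibniz_inv, ha, smul_zero]

@[simp] lemma mem_kerSubfield {K : Type u} [Field K] (δ : IDer K) (x : K) :
    x ∈ kerSubfield δ ↔ δ x = 0 := Iff.rfl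

end Groth.Ega4b.Jac
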