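import Groth.Agent.Ega4Algebra2.SmallSubfield
import Groth.Agent.Ega4Algebra2.PowerSeriesDer
import Mathlib

/-!
# Small subfields of fields of power series in characteristic `p`
-/

set_option autoImplicit false

universe u

open MvPowerSeries

namespace Groth.Ega4b.Jac

section

variable (p : ℕ) {k : Type u} [Field k] (B : Set k)

/-- `k^p` with all elements of `B` outside `S`. -/
def smallField (S : Finset k) : Subfield k :=
  Subfield.closure (Set.range (fun c : k => c ^ p) ∪ (B \ S))

variable (d : ℕ)

/-- Series in `p`-th powers of the variables with coefficients in the small field. -/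
def pSeries (S : Finset k) : Set (MvPowerSeries (Fin d) k) :=
  {z | ∀ D, coeff D z ∈ smallField p B S ∧ ((∃ i, ¬ p ∣ D i) → coeff D z = 0)}

/-- The small subfield of the field of power series. -/
noncomputable def seriesField (S : Finset k) : Subfield (FractionRing (MvPowerSeries (Fin d) k)) :=
  Subfield.closure (Set.range (fun z : FractionRing (MvPowerSeries (Fin d) k) => z ^ p) ∪
    algebraMap (MvPowerSeries (Fin d) k) (FractionRing (MvPowerSeries (Fin d) k)) '' pSeries p B d S)

lemma seriesField_anti {S T : Finset k} (h : S ⊆ T) : seriesField p B d T ≤ seriesField p B d S := by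
  refine Subfield.closure_mono (Set.union_subset_union_right _ (Set.image_mono fun z hz D => ⟨?_, (hz D).2⟩))
  exact Subfield.closure_mono
    (Set.union_subset_union_right _ (Set.diff_subset_diff_right (Finset.coe_subset.2 h))) (hz D).1

end

variable {p : ℕ} [hp : Fact p.Prime] {k : Type u} [Field k] [CharP k p] {B : Set k} {d : ℕ}

set_option maxHeartbeats 1000000 in
/-- The field of power series has degree at most `p ^ (d + |S|)` over the small subfield. -/
theorem finrank_seriesField (hB : ∀ F : Subfield k, (∀ c, c ^ p ∈ F) → B ⊆ F → F = ⊤) (S : Finset k) :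
    FiniteDimensional (seriesField p B d S) (FractionRing (MvPowerSeries (Fin d) k)) ∧
      Module.finrank (seriesField p B d S) (FractionRing (MvPowerSeries (Fin d) k)) ≤ p ^ (d + S.card) := by
  classical
  let L := FractionRing (MvPowerSeries (Fin d) k)
  let f : MvPowerSeries (Fin d) k →+* L := algebraMap _ L
  let kS := smallField p B S
  have hfinS : FiniteDimensional kS (IntermediateField.adjoin kS (S : Set k)) :=
    (finrank_adjoin_le (F := kS) hp.out S fun g _ =>
      ⟨⟨g ^ p, Subfield.subset_closure (Or.inl ⟨g, rfl⟩)⟩, rfl⟩).1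
  have htop : IntermediateField.adjoin kS (S : Set k) = ⊤ := by
    have h1 : (IntermediateField.adjoin kS (S : Set k)).toSubfield = ⊤ := hB _
      (fun c => IntermediateField.algebraMap_mem _ (⟨c ^ p, Subfield.subset_closure (Or.inl ⟨c, rfl⟩)⟩ : kS))
      (fun b hb => by
        by_cases hbS : b ∈ S
        · exact IntermediateField.subset_adjoin kS _ hbS
        · exact IntermediateField.algebraMap_mem _ (⟨b, Subfield.subset_closure (Or.inr ⟨hb, hbS⟩)⟩ : kS))
    exact eq_top_iff.2 fun x _ => (h1.ge : (⊤ : Subfield k) ≤ _) trivial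
  haveI : FiniteDimensional kS k := by
    rw [htop] at hfinS
    exact Module.Finite.equiv (IntermediateField.topEquiv (F := kS) (E := k)).toLinearEquiv
  let bas := Module.finBasis kS k
  let G : Finset L := (Finset.univ.image fun i : Fin d => f (X i)) ∪ S.image fun b => f (C b)
  have hG : ∀ g ∈ G, g ^ p ∈ (algebraMap (seriesField p B d S) L).range := fun g _ =>
    ⟨⟨g ^ p, Subfield.subset_closure (Or.inl ⟨g, rfl⟩)⟩, rfl⟩
  obtain ⟨hfin, hle⟩ := finrank_adjoin_le hp.out G hG
  let E := IntermediateField.adjoin (seriesField p B d S) (G : Set L)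
  have hX : ∀ i, f (X i) ∈ E := fun i =>
    IntermediateField.subset_adjoin _ _ (by simp [G])
  have hPS : ∀ z ∈ pSeries p B d S, f z ∈ E := fun z hz =>
    IntermediateField.algebraMap_mem E (⟨f z, Subfield.subset_closure (Or.inr ⟨z, hz, rfl⟩)⟩ : seriesField p B d S)
  have hCkS : ∀ c ∈ kS, (C c : MvPowerSeries (Fin d) k) ∈ pSeries p B d S := fun c hc D => by
    rw [coeff_C]
    split_ifs with h
    · exact ⟨hc, fun ⟨i, hi⟩ => absurd (by simp [h] : p ∣ D i) hi⟩
    · exact ⟨zero_mem _, fun _ => rfl⟩
  have hC : ∀ c : k, f (C c) ∈ E := by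
    have h1 : Subfield.comap (f.comp C) E.toSubfield = ⊤ := hB _ (fun c => hPS _ (hCkS _ (Subfield.subset_closure (Or.inl ⟨c, rfl⟩))))
      (fun b hb => by
        by_cases hbS : b ∈ S
        · exact IntermediateField.subset_adjoin _ _ (Finset.mem_union_right _ (Finset.mem_image_of_mem _ hbS))
        · exact hPS _ (hCkS _ (Subfield.subset_closure (Or.inr ⟨hb, hbS⟩))))
    exact fun c => (h1.ge : (⊤ : Subfield k) ≤ _) (Subfield.mem_top c)
  have hdecomp : ∀ z : MvPowerSeries (Fin d) k, f z ∈ E := by
    intro z
    let ex : (Fin d → Fin p) → (Fin d →₀ ℕ) := fun e => Finsupp.equivFunOnFinite.symm fun i => (e i : ℕ)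
    let comp : (Fin d → Fin p) → Fin (Module.finrank kS k) → MvPowerSeries (Fin d) k := fun e l D =>
      if ∀ i, p ∣ D i then ((bas.repr (coeff (D + ex e) z) l : kS) : k) else 0
    have hcomp : ∀ e l, comp e l ∈ pSeries p B d S := fun e l D => by
      show (if ∀ i, p ∣ D i then ((bas.repr (coeff (D + ex e) z) l : kS) : k) else 0) ∈ kS ∧
        ((∃ i, ¬ p ∣ D i) → (if ∀ i, p ∣ D i then ((bas.repr (coeff (D + ex e) z) l : kS) : k) else 0) = 0)
      refine ⟨?_, fun ⟨i, hi⟩ => if_neg fun h => hi (h i)⟩
      split_ifs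
      · exact (bas.repr (coeff (D + ex e) z) l).2
      · exact zero_mem _
    have hz : z = ∑ e, ∑ l, monomial (ex e) (bas l) * comp e l := by
      ext D
      rw [map_sum]
      simp only [map_sum, coeff_monomial_mul]
      let e₀ : Fin d → Fin p := fun i => ⟨D i % p, Nat.mod_lt _ hp.out.pos⟩
      rw [Finset.sum_eq_single e₀]
      · have hle : ex e₀ ≤ D := fun i => by simpa [ex, e₀] using Nat.mod_le (D i) p
        have hdvd : ∀ i, p ∣ (D - ex e₀) i := fun i => by
          simpa [ex, e₀] using Nat.dvd_sub_mod (D i)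
        have hc : ∀ l, coeff (D - ex e₀) (comp e₀ l) = ((bas.repr (coeff D z) l : kS) : k) := fun l => by
          show (if ∀ i, p ∣ (D - ex e₀) i then ((bas.repr (coeff (D - ex e₀ + ex e₀) z) l : kS) : k) else 0) = _
          rw [if_pos hdvd, tsub_add_cancel_of_le hle]
        simp only [if_pos hle, hc]
        conv_lhs => rw [← bas.sum_repr (coeff D z)]
        exact Finset.sum_congr rfl fun l _ => mul_comm _ _
      · intro e _ hne
        refine Finset.sum_eq_zero fun l _ => ?_
        split_ifs with hle
        · have : ¬ ∀ i, p ∣ (D - ex e) i := fun hdvd => hne (funext fun i => Fin.ext (by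
            have h1 : (e i : ℕ) ≤ D i := by simpa [ex] using hle i
            have h2 : p ∣ D i - (e i : ℕ) := by simpa [ex] using hdvd i
            show (e i : ℕ) = D i % p
            obtain ⟨q, hq⟩ := h2
            rw [show D i = (e i : ℕ) + p * q by omega, Nat.add_mul_mod_self_left, Nat.mod_eq_of_lt (e i).2]))
          show bas l * (if ∀ i, p ∣ (D - ex e) i then ((bas.repr (coeff (D - ex e + ex e) z) l : kS) : k) else 0) = 0
          rw [if_neg this, mul_zero]
        · rfl
      · exact fun h => absurd (Finset.mem_univ _) h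
    rw [hz, map_sum]
    refine sum_mem fun e _ => ?_
    rw [map_sum]
    refine sum_mem fun l _ => ?_
    rw [map_mul, monomial_eq_mul_prod, map_mul, map_prod]
    exact mul_mem (mul_mem (hC _) (prod_mem fun i _ => by rw [map_pow]; exact pow_mem (hX i) _)) (hPS _ (hcomp e l))
  have hEtop : E = ⊤ := eq_top_iff.2 fun x _ => by
    obtain ⟨a, b, -, rfl⟩ := IsFractionRing.div_surjective (MvPowerSeries (Fin d) k) x
    exact div_mem (hdecomp a) (hdecomp b)
  change FiniteDimensional (seriesField p B d S) E at hfin
  change Module.finrank (seriesField p B d S) E ≤ _ at hle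
  rw [hEtop] at hfin hle
  rw [(IntermediateField.topEquiv (F := seriesField p B d S) (E := L)).toLinearEquiv.finrank_eq] at hle
  refine ⟨Module.Finite.equiv (IntermediateField.topEquiv (F := seriesField p B d S) (E := L)).toLinearEquiv, hle.trans ?_⟩
  refine Nat.pow_le_pow_right hp.out.pos ((Finset.card_union_le _ _).trans ?_)
  exact add_le_add (Finset.card_image_le.trans (by simp)) Finset.card_image_le

set_option maxHeartbeats 1000000 in
/-- The small subfields intersect in the `p`-th powers. -/
theorem exists_pow_eq_of_forall_mem_seriesField {δ : B → IDer k}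
    (hδ : ∀ b b' : B, (b = b' → δ b b' = 1) ∧ (b ≠ b' → δ b b' = 0))
    (hker : ∀ z, (∀ b, δ b z = 0) → ∃ c, c ^ p = z)
    (z : FractionRing (MvPowerSeries (Fin d) k)) (hz : ∀ S, z ∈ seriesField p B d S) : ∃ y, y ^ p = z := by
  classical
  let L := FractionRing (MvPowerSeries (Fin d) k)
  let f : MvPowerSeries (Fin d) k →+* L := algebraMap _ L
  have hinj : Function.Injective f := IsFractionRing.injective _ L
  haveI : CharP (MvPowerSeries (Fin d) k) p := charP_of_injective_ringHom (f := C) (C_injective) p
  haveI : CharP L p := charP_of_injective_ringHom hinj p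
  obtain ⟨a, b, hb, rfl⟩ := IsFractionRing.div_surjective (MvPowerSeries (Fin d) k) z
  set w := a * b ^ (p - 1)
  have hw : f w = algebraMap _ L a / algebraMap _ L b * f b ^ p := by
    have hb0 : f b ≠ 0 := (map_ne_zero_iff _ hinj).2 (nonZeroDivisors.ne_zero hb)
    show f (a * b ^ (p - 1)) = f a / f b * f b ^ p
    obtain ⟨q, hq⟩ : ∃ q, p = q + 1 := ⟨p - 1, by have := hp.out.pos; omega⟩
    rw [hq, Nat.add_sub_cancel, map_mul, map_pow, pow_succ, mul_comm (f b ^ q) (f b), ← mul_assoc,
      div_mul_cancel₀ _ hb0]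
  -- derivations kill `w`
  have key : ∀ (S : Finset k) (Δ : IDer (MvPowerSeries (Fin d) k)),
      (∀ y ∈ pSeries p B d S, Δ y = 0) → Δ w = 0 := by
    intro S Δ hΔ
    obtain ⟨Δ', hΔ'⟩ := exists_derivation_localization (nonZeroDivisors (MvPowerSeries (Fin d) k)) L Δ
    have hpow : ∀ y : L, Δ' (y ^ p) = 0 := fun y => IDer_pow_char p Δ' y
    have hle : seriesField p B d S ≤ kerSubfield Δ' := Subfield.closure_le.2 (Set.union_subset
      (by rintro _ ⟨y, rfl⟩; exact hpow y)
      (by rintro _ ⟨y, hy, rfl⟩; show Δ' (f y) = 0; rw [hΔ', hΔ y hy, map_zero]))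
    have h1 : Δ' (f w) = 0 := by
      rw [hw, IDer_mul, hpow, show Δ' (algebraMap _ L a / algebraMap _ L b) = 0 from hle (hz S)]
      simp
    rw [hΔ'] at h1
    exact hinj (h1.trans (map_zero _).symm)
  have hexp : ∀ D i, ¬ p ∣ D i → coeff D w = 0 := by
    intro D i hi
    have h1 := key ∅ (toIDer (pderiv k i)) fun y hy => by
      ext E
      show coeff E (pderiv k i y) = coeff E 0
      rw [coeff_pderiv, map_zero]
      by_cases hd : p ∣ E i + 1
      · rw [show ((E i : k) + 1) = ((E i + 1 : ℕ) : k) by push_cast; rfl, (CharP.cast_eq_zero_iff k p _).2 hd, mul_zero]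
      · rw [(hy _).2 ⟨i, by simpa using hd⟩, zero_mul]
    obtain ⟨n, hn⟩ : ∃ n, D i = n + 1 := ⟨D i - 1, by
      have : D i ≠ 0 := fun h => hi (h ▸ dvd_zero p)
      omega⟩
    have hle : Finsupp.single i 1 ≤ D := Finsupp.single_le_iff.2 (by omega)
    have h2 := congrArg (coeff (D - Finsupp.single i 1)) h1
    rw [map_zero] at h2
    change coeff (D - Finsupp.single i 1) (pderiv k i w) = 0 at h2
    rw [coeff_pderiv, tsub_add_cancel_of_le hle] at h2
    refine (mul_eq_zero.1 h2).resolve_right fun h => hi ?_
    rw [show (((D - Finsupp.single i 1 : Fin d →₀ ℕ) i : k) + 1) = ((D i : ℕ) : k) by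
      simp [hn]] at h
    exact (CharP.cast_eq_zero_iff k p _).1 h
  have hcoef : ∀ D, ∃ c, c ^ p = coeff D w := fun D => hker _ fun e => by
    have h1 := key {(e : k)} (coeffDer (δ e)) fun y hy => by
      ext E
      rw [coeff_coeffDer, map_zero]
      have hle : smallField p B {(e : k)} ≤ kerSubfield (δ e) := Subfield.closure_le.2 (Set.union_subset
        (by rintro _ ⟨c, rfl⟩; exact IDer_pow_char p (δ e) c)
        (by
          rintro c ⟨hc, hce⟩
          exact (hδ e ⟨c, hc⟩).2 fun h => hce (by simp [h])))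
      exact hle (hy E).1
    have := congrArg (coeff D) h1
    rwa [coeff_coeffDer, map_zero] at this
  choose c hc using hcoef
  let v : MvPowerSeries (Fin d) k := fun D => c (p • D)
  have hv : v ^ p = w := by
    rw [← map_frobenius_expand p hp.out.ne_zero (f := v)]
    ext D
    rw [coeff_map]
    by_cases hD : ∀ i, p ∣ D i
    · obtain ⟨E, rfl⟩ : ∃ E, D = p • E := ⟨D.mapRange (· / p) (Nat.zero_div p), Finsupp.ext fun i => by
        simp [Nat.mul_div_cancel' (hD i)]⟩
      rw [coeff_expand_smul]
      exact hc _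
    · push_neg at hD
      obtain ⟨i, hi⟩ := hD
      rw [coeff_expand_of_not_dvd p hp.out.ne_zero v hi, map_zero, hexp D i hi]
  refine ⟨f v / f b, ?_⟩
  have hb0 : f b ≠ 0 := (map_ne_zero_iff _ hinj).2 (nonZeroDivisors.ne_zero hb)
  rw [div_pow, ← map_pow, hv, hw]
  field_simp
  rfl

/-- Finitely many vectors independent over an intersection stay independent over some member. -/
theorem exists_linearIndependent_of_directed {K : Type u} [Field K] {σ : Type u} (F : Finset σ → Subfield K)
    (hF : ∀ {S T}, S ⊆ T → F T ≤ F S) (F₀ : Subfield K) (h₀ : ∀ x, (∀ S, x ∈ F S) → x ∈ F₀)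
    {ι : Type u} (v : ι → K) (hv : LinearIndependent F₀ v) (t : Finset ι) :
    ∃ S, ∀ c : ι → K, (∀ i, c i ∈ F S) → ∑ i ∈ t, c i * v i = 0 → ∀ i ∈ t, c i = 0 := by
  classical
  induction t using Finset.induction with
  | empty => exact ⟨∅, fun c _ _ i hi => absurd hi (Finset.notMem_empty i)⟩
  | insert a t ha ih =>
    obtain ⟨S, hS⟩ := ih
    by_contra hne
    push_neg at hne
    obtain ⟨c, hcS, hsum, i₁, hi₁, hc₁⟩ := hne S
    have hca : c a ≠ 0 := fun h => by
      rw [Finset.sum_insert ha, h, zero_mul, zero_add] at hsum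
      rcases Finset.mem_insert.1 hi₁ with rfl | hi
      · exact hc₁ h
      · exact hc₁ (hS c hcS hsum i₁ hi)
    let c' : ι → K := fun i => c i / c a
    have hc'S : ∀ i, c' i ∈ F S := fun i => div_mem (hcS i) (hcS a)
    have hsum' : ∑ i ∈ insert a t, c' i * v i = 0 := by
      rw [← mul_zero (c a)⁻¹, ← hsum, Finset.mul_sum]
      exact Finset.sum_congr rfl fun i _ => by simp [c', div_eq_inv_mul, mul_assoc]
    obtain ⟨i, hit, hi0⟩ : ∃ i ∈ insert a t, c' i ∉ F₀ := by
      by_contra hall
      push_neg at hall
      let g : ι → F₀ := fun i => if h : i ∈ insert a t then ⟨c' i, hall i h⟩ else 0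
      have hg := linearIndependent_iff'.1 hv (insert a t) g (by
        rw [← hsum']
        exact Finset.sum_congr rfl fun i hi => by
          simp only [g]
          rw [dif_pos hi]; rfl) a (Finset.mem_insert_self _ _)
      have h1 := congrArg Subtype.val hg
      simp [g, c', div_self hca] at h1
    obtain ⟨U, hU⟩ : ∃ U, c' i ∉ F U := by
      by_contra hall
      push_neg at hall
      exact hi0 (h₀ _ hall)
    obtain ⟨e, heST, hesum, i₂, hi₂, he₂⟩ := hne (S ∪ U)
    have he : ∀ i, e i ∈ F S := fun i => hF Finset.subset_union_left (heST i)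
    let g : ι → K := fun i => e i - e a * c' i
    have hg : ∀ i ∈ t, g i = 0 := hS g (fun i => sub_mem (he i) (mul_mem (he a) (hc'S i))) (by
      have h1 : ∑ i ∈ insert a t, g i * v i = 0 := by
        simp only [g, sub_mul, Finset.sum_sub_distrib, hesum, mul_assoc, ← Finset.mul_sum, hsum', mul_zero, sub_zero]
      rw [Finset.sum_insert ha] at h1
      simpa [g, c', div_self hca] using h1)
    by_cases hea : e a = 0
    · rcases Finset.mem_insert.1 hi₂ with rfl | hi
      · exact he₂ hea
      · exact he₂ (by simpa [g, hea] using hg i₂ hi)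
    · refine hU (hF (T := S ∪ U) Finset.subset_union_right ?_)
      rcases Finset.mem_insert.1 hit with rfl | hi
      · simp [c', div_self hca, one_mem]
      · have h2 : e i = e a * c' i := sub_eq_zero.1 (hg i hi)
        rw [show c' i = e i / e a by rw [h2, mul_div_cancel_left₀ _ hea]]
        exact div_mem (heST i) (heST a)

end Groth.Ega4b.Jac
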