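import Groth.Agent.Ega4Algebra2.SmallSubfield
import Groth.Agent.Ega4Algebra2.PowerSeriesSubfield
import Mathlib

/-!
# Degrees over small subfields, with a transcendence basis
-/

set_option autoImplicit false
set_option linter.style.haveILetI false

universe u

namespace Groth.Ega4b.Jac

variable {L K : Type u} [Field L] [Field K] (ψ : L →+* K) {σ : Type u} (F : Finset σ → Subfield L)

open MvPolynomial in
/-- Intersections commute with adjoining algebraically independent elements. -/
theorem mem_closure_of_forall (F₀ : Subfield L) (h₀ : ∀ x, (∀ S, x ∈ F S) → x ∈ F₀) {ι : Type*} (U : ι → K)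
    (hU : ∀ P : MvPolynomial ι L, eval₂Hom ψ U P = 0 → P = 0) (x : K)
    (hx : ∀ S, x ∈ Subfield.closure (ψ '' (F S : Set L) ∪ Set.range U)) :
    x ∈ Subfield.closure (ψ '' (F₀ : Set L) ∪ Set.range U) := by
  classical
  let ev : MvPolynomial ι L →+* K := eval₂Hom ψ U
  have hrep : ∀ E : Subfield L, x ∈ Subfield.closure (ψ '' (E : Set L) ∪ Set.range U) →
      ∃ a b : MvPolynomial ι L, (∀ D, a.coeff D ∈ E) ∧ (∀ D, b.coeff D ∈ E) ∧ b ≠ 0 ∧ x * ev b = ev a := by
    intro E hE
    obtain ⟨y, hy, z, hz, rfl⟩ := Subfield.mem_closure_iff.1 hE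
    have hle : Subring.closure (ψ '' (E : Set L) ∪ Set.range U) ≤ (ev.comp (map E.subtype)).range := by
      refine Subring.closure_le.2 (Set.union_subset ?_ ?_)
      · rintro _ ⟨c, hc, rfl⟩; exact ⟨C ⟨c, hc⟩, by simp [ev]⟩
      · rintro _ ⟨i, rfl⟩; exact ⟨X i, by simp [ev]⟩
    obtain ⟨a, ha⟩ := hle hy
    obtain ⟨b, hb⟩ := hle hz
    have hco : ∀ (q : MvPolynomial ι E) D, (map E.subtype q).coeff D ∈ E := fun q D => by
      rw [coeff_map]; exact (q.coeff D).2
    by_cases hz0 : z = 0
    · exact ⟨0, 1, fun D => by simp, fun D => by rw [coeff_one]; split_ifs <;> simp, one_ne_zero, by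
        simp [hz0]⟩
    · exact ⟨map E.subtype a, map E.subtype b, hco a, hco b, fun h0 => hz0 (by
        rw [← hb, RingHom.comp_apply, h0, map_zero]), by
        rw [show ev (map E.subtype b) = z from hb, show ev (map E.subtype a) = y from ha, div_mul_cancel₀ _ hz0]⟩
  -- a denominator of least support
  have hex : ∃ (n : ℕ) (a b : MvPolynomial ι L), b.support.card = n ∧ b ≠ 0 ∧ x * ev b = ev a := by
    obtain ⟨a, b, -, -, hb, hab⟩ := hrep _ (hx ∅)
    exact ⟨_, a, b, rfl, hb, hab⟩
  obtain ⟨a₁, b₁, hn, hb₁, hab₁⟩ := Nat.find_spec hex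
  obtain ⟨α, hα⟩ : ∃ α, b₁.coeff α ≠ 0 := ne_zero_iff.1 hb₁
  let a := C (b₁.coeff α)⁻¹ * a₁
  let b := C (b₁.coeff α)⁻¹ * b₁
  have hbα : b.coeff α = 1 := by simp [b, coeff_C_mul, hα]
  have hsupp : b.support = b₁.support := by
    ext D; simp [b, mem_support_iff, coeff_C_mul, hα]
  have hab : x * ev b = ev a := by
    simp only [a, b, map_mul, ← hab₁]; ring
  have key : ∀ S, (∀ D, a.coeff D ∈ F S) ∧ ∀ D, b.coeff D ∈ F S := by
    intro S
    obtain ⟨q, r, hq, hr, hr0, hqr⟩ := hrep _ (hx S)
    let incl : F S →ₗ[F S] L := Algebra.linearMap (F S) L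
    obtain ⟨π, hπ⟩ := LinearMap.exists_leftInverse_of_injective incl
      (LinearMap.ker_eq_bot.2 (algebraMap (F S) L).injective)
    let Φ : MvPolynomial ι L → MvPolynomial ι L := fun f =>
      ∑ D ∈ f.support, monomial D ((π (f.coeff D) : F S) : L)
    have hΦc : ∀ f D, (Φ f).coeff D = ((π (f.coeff D) : F S) : L) := fun f D => by
      simp only [Φ, coeff_sum, coeff_monomial, Finset.sum_ite_eq']
      by_cases hD : D ∈ f.support
      · rw [if_pos hD]
      · rw [if_neg hD, notMem_support_iff.1 hD, map_zero, ZeroMemClass.coe_zero]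
    have hmul : ∀ f g : MvPolynomial ι L, (∀ D, g.coeff D ∈ F S) → Φ (f * g) = Φ f * g := fun f g hg => by
      ext D
      rw [hΦc, coeff_mul, coeff_mul, map_sum, AddSubmonoidClass.coe_finsetSum]
      refine Finset.sum_congr rfl fun y _ => ?_
      rw [hΦc, mul_comm (f.coeff y.1), show g.coeff y.2 * f.coeff y.1 = (⟨_, hg y.2⟩ : F S) • f.coeff y.1 from rfl,
        map_smul, smul_eq_mul, Subfield.coe_mul, mul_comm]
    have h1 : a * r = b * q := sub_eq_zero.1 (hU _ (by
      show ev (a * r - b * q) = 0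
      rw [map_sub, map_mul ev a r, map_mul ev b q, ← hab, ← hqr]; ring))
    have h2 : Φ a * r = Φ b * q := by rw [← hmul a r hr, h1, hmul b q hq]
    have h3 : x * ev (Φ b) = ev (Φ a) := by
      have h4 : ev r ≠ 0 := fun h => hr0 (hU r h)
      refine mul_right_cancel₀ h4 ?_
      rw [← map_mul ev (Φ a), h2, map_mul, ← hqr]; ring
    have hπ1 : ((π 1 : F S) : L) = 1 := by
      have := LinearMap.congr_fun hπ 1
      simp [incl] at this
      simp [this]
    have hb' : b - Φ b = 0 := by
      by_contra h0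
      refine Nat.find_min hex ?_ ⟨a - Φ a, b - Φ b, rfl, h0, by rw [map_sub, mul_sub, hab, h3, map_sub]⟩
      rw [← hn, ← hsupp]
      refine Finset.card_lt_card (Finset.ssubset_iff_of_subset (fun D hD => ?_) |>.2 ⟨α, ?_, ?_⟩)
      · rw [mem_support_iff, coeff_sub, hΦc] at hD
        rw [mem_support_iff]
        intro hbD
        exact hD (by rw [hbD, map_zero, ZeroMemClass.coe_zero, sub_zero])
      · rw [mem_support_iff, hbα]; exact one_ne_zero
      · rw [mem_support_iff, not_not, coeff_sub, hΦc, hbα, hπ1, sub_self]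
    have ha' : a - Φ a = 0 := hU _ (by
      show ev (a - Φ a) = 0
      rw [map_sub, ← hab, ← h3, ← mul_sub, ← map_sub, hb', map_zero, mul_zero])
    exact ⟨fun D => by rw [sub_eq_zero.1 ha', hΦc]; exact (π _).2,
      fun D => by rw [sub_eq_zero.1 hb', hΦc]; exact (π _).2⟩
  have hmem : ∀ f : MvPolynomial ι L, (∀ D, f.coeff D ∈ F₀) →
      ev f ∈ Subfield.closure (ψ '' (F₀ : Set L) ∪ Set.range U) := fun f hf => by
    rw [f.as_sum, map_sum]
    refine sum_mem fun D _ => ?_
    simp only [ev, eval₂Hom_monomial, Finsupp.prod]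
    refine mul_mem (Subfield.subset_closure (Or.inl ⟨_, hf D, rfl⟩)) (prod_mem fun i _ => pow_mem ?_ _)
    exact Subfield.subset_closure (Or.inr (Set.mem_range_self i))
  have hb0 : ev b ≠ 0 := fun h => by
    have := congrArg (coeff α) (hU b h)
    simp [hbα] at this
  rw [eq_div_of_mul_eq hb0 hab]
  exact div_mem (hmem a fun D => h₀ _ fun S => (key S).1 D) (hmem b fun D => h₀ _ fun S => (key S).2 D)

set_option maxHeartbeats 1000000 in
/-- The degree over a small subfield containing the `p`th powers. -/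
theorem exists_small_degree (p : ℕ) [hp : Fact p.Prime] [CharP K p] [CharP L p]
    (hanti : ∀ {S T}, S ⊆ T → F T ≤ F S) (hpow : ∀ S y, y ^ p ∈ F S)
    (h₀ : ∀ x, (∀ S, x ∈ F S) → ∃ y, y ^ p = x) (b : Finset σ → ℕ)
    (hgen : ∀ S, ∃ G : Finset L, G.card ≤ b S ∧ ∀ E : Subfield L, F S ≤ E → (G : Set L) ⊆ E → E = ⊤)
    {e : ℕ} (T : Fin e → K) (hT : ∀ P : MvPolynomial (Fin e) L, MvPolynomial.eval₂Hom ψ T P = 0 → P = 0)
    (M : Subfield K) (hM : M ≤ Subfield.closure (Set.range ψ ∪ Set.range T)) (hψM : ∀ x, ψ x ∈ M)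
    (hTM : ∀ i, T i ∈ M) [FiniteDimensional M K] :
    ∃ (S : Finset σ) (N : Subfield K), FiniteDimensional N K ∧ Module.finrank N K ≤ p ^ (b S + e) ∧
      (∀ x : K, x ^ p ∈ N) ∧ N ≤ Subfield.closure (ψ '' (F S : Set L) ∪ Set.range fun x : K => x ^ p) := by
  classical
  let U : Fin e → K := fun i => T i ^ p
  let NS : Finset σ → Subfield K := fun S => Subfield.closure (ψ '' (F S : Set L) ∪ Set.range U)
  have hU : ∀ P : MvPolynomial (Fin e) L, MvPolynomial.eval₂Hom ψ U P = 0 → P = 0 := fun P hP =>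
    MvPolynomial.expand_injective hp.out.pos (by
      rw [map_zero]
      refine hT _ ?_
      rw [MvPolynomial.coe_eval₂Hom, MvPolynomial.eval₂_expand]
      exact hP)
  let L₀ : Subfield L := (frobenius L p).fieldRange
  let Mp : Subfield K := M.map (frobenius K p)
  let v := Module.finBasis M K
  have hind : LinearIndependent Mp fun i : ULift.{u} (Fin (Module.finrank M K)) => v i.down ^ p := by
    rw [Fintype.linearIndependent_iff]
    intro c hc i
    have hc' : ∀ i, ∃ a : M, (a : K) ^ p = (c i : K) := fun i => by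
      obtain ⟨a, ha, hac⟩ := (c i).2
      exact ⟨⟨a, ha⟩, hac⟩
    choose a ha using hc'
    have h0 : (∑ i, a i • v i.down) ^ p = 0 := by
      rw [sum_pow_char, ← hc]
      exact Finset.sum_congr rfl fun i _ => by
        rw [Subfield.smul_def, smul_eq_mul, mul_pow, Subfield.smul_def, smul_eq_mul, ← ha i]
    have h1 := (Fintype.linearIndependent_iff.1 (v.linearIndependent.comp _ ULift.down_injective)) a
      (by simpa using (pow_eq_zero_iff hp.out.ne_zero).1 h0) i
    exact Subtype.ext (by rw [← ha i, h1, ZeroMemClass.coe_zero, zero_pow hp.out.ne_zero]; rfl)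
  have hinter : ∀ x, (∀ S, x ∈ NS S) → x ∈ Mp := fun x hx => by
    have h1 := mem_closure_of_forall ψ F L₀ (fun y hy => (h₀ y hy).imp fun z hz => hz) U hU x hx
    refine (Subfield.closure_le.2 (Set.union_subset ?_ ?_) : _ ≤ Mp) h1
    · rintro _ ⟨_, ⟨y, rfl⟩, rfl⟩
      exact ⟨ψ y, hψM y, by simp [frobenius_def]⟩
    · rintro _ ⟨i, rfl⟩
      exact ⟨T i, hTM i, rfl⟩
  obtain ⟨S, hS⟩ := exists_linearIndependent_of_directed NS
    (fun {S T} hST => Subfield.closure_mono (Set.union_subset_union_left _ (Set.image_mono (hanti hST)))) Mp hinter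
    (fun i : ULift.{u} (Fin (Module.finrank M K)) => v i.down ^ p) hind Finset.univ
  obtain ⟨G₀, hG₀card, hG₀⟩ := hgen S
  let N₀ := NS S
  let G : Finset K := Finset.univ.image T ∪ G₀.image ψ
  have hGpow : ∀ g ∈ G, g ^ p ∈ (algebraMap N₀ K).range := by
    intro g hg
    rcases Finset.mem_union.1 hg with hg | hg
    · obtain ⟨i, -, rfl⟩ := Finset.mem_image.1 hg
      exact ⟨⟨T i ^ p, Subfield.subset_closure (Or.inr ⟨i, rfl⟩)⟩, rfl⟩
    · obtain ⟨y, -, rfl⟩ := Finset.mem_image.1 hg
      exact ⟨⟨ψ y ^ p, Subfield.subset_closure (Or.inl ⟨y ^ p, hpow S y, map_pow ψ y p⟩)⟩, rfl⟩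
  obtain ⟨hfinE, hdegE⟩ := finrank_adjoin_le hp.out G hGpow
  let E := IntermediateField.adjoin N₀ (G : Set K)
  haveI : FiniteDimensional N₀ E := hfinE
  have hME : M ≤ E.toSubfield := by
    refine hM.trans (Subfield.closure_le.2 (Set.union_subset ?_ ?_))
    · rintro _ ⟨y, rfl⟩
      have h1 : E.toSubfield.comap ψ = ⊤ := hG₀ _
        (fun c hc => IntermediateField.algebraMap_mem E (⟨ψ c, Subfield.subset_closure (Or.inl ⟨c, hc, rfl⟩)⟩ : N₀))
        (fun g hg => IntermediateField.subset_adjoin _ _ (Finset.mem_union_right _ (Finset.mem_image_of_mem _ hg)))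
      exact (h1.ge : (⊤ : Subfield L) ≤ _) (Subfield.mem_top y)
    · rintro _ ⟨i, rfl⟩
      exact IntermediateField.subset_adjoin _ _ (Finset.mem_union_left _ (Finset.mem_image_of_mem _ (Finset.mem_univ i)))
  have hspan : Submodule.span E (Set.range v) = ⊤ := eq_top_iff.2 fun x _ => by
    rw [← v.sum_repr x]
    refine Submodule.sum_mem _ fun i _ => ?_
    rw [Subfield.smul_def, smul_eq_mul]
    exact Submodule.smul_mem _ (⟨_, hME (v.repr x i).2⟩ : E) (Submodule.subset_span ⟨i, rfl⟩)
  haveI : Module.Finite E K := Module.Finite.of_fg_top ⟨Finset.univ.image v, by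
    rw [Finset.coe_image, Finset.coe_univ, Set.image_univ, hspan]⟩
  have hEK : Module.finrank E K ≤ Module.finrank M K := by
    rw [← finrank_top E K, ← hspan]
    exact (finrank_range_le_card _).trans (by rw [Fintype.card_fin])
  haveI : FiniteDimensional N₀ K := FiniteDimensional.trans N₀ E K
  let N' : IntermediateField N₀ K := IntermediateField.adjoin N₀ (Set.range fun x : K => x ^ p)
  let w : ULift.{u} (Fin (Module.finrank M K)) → N' := fun i =>
    ⟨v i.down ^ p, IntermediateField.subset_adjoin N₀ _ ⟨_, rfl⟩⟩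
  have hw : LinearIndependent N₀ w := Fintype.linearIndependent_iff.2 fun c hc i => by
    refine Subtype.ext (hS (fun i => (c i : K)) (fun i => (c i).2) ?_ i (Finset.mem_univ i))
    have h4 := congrArg (algebraMap N' K) hc
    rw [map_sum, map_zero] at h4
    rw [← h4]
    exact Finset.sum_congr rfl fun i _ => by rw [Algebra.smul_def, map_mul]; rfl
  have h5 : Module.finrank M K ≤ Module.finrank N₀ N' := by simpa using hw.fintype_card_le_finrank
  have hdeg : Module.finrank N' K ≤ p ^ (b S + e) := by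
    have h1 := Module.finrank_mul_finrank N₀ N' K
    have h2 := Module.finrank_mul_finrank N₀ E K
    have hG : G.card ≤ b S + e := by
      refine (Finset.card_union_le _ _).trans ?_
      rw [add_comm (b S)]
      exact add_le_add (Finset.card_image_le.trans (by simp)) (Finset.card_image_le.trans hG₀card)
    have hpos : 0 < Module.finrank N₀ N' := Module.finrank_pos
    refine Nat.le_of_mul_le_mul_left ?_ hpos
    rw [h1, ← h2]
    calc Module.finrank N₀ E * Module.finrank E K
        ≤ p ^ (b S + e) * Module.finrank M K :=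
          Nat.mul_le_mul (hdegE.trans (Nat.pow_le_pow_right hp.out.pos hG)) hEK
      _ ≤ p ^ (b S + e) * Module.finrank N₀ N' := Nat.mul_le_mul_left _ h5
      _ = Module.finrank N₀ N' * p ^ (b S + e) := Nat.mul_comm _ _
  refine ⟨S, N'.toSubfield, (inferInstance : FiniteDimensional N' K), hdeg,
    fun x => IntermediateField.subset_adjoin N₀ _ ⟨x, rfl⟩, fun x hx => ?_⟩
  induction hx using IntermediateField.adjoin_induction with
  | mem y hy => exact Subfield.subset_closure (Or.inr hy)
  | algebraMap a =>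
    refine (Subfield.closure_le.2 (Set.union_subset (fun y hy => Subfield.subset_closure (Or.inl hy)) ?_) : N₀ ≤ _) a.2
    rintro _ ⟨i, rfl⟩
    exact Subfield.subset_closure (Or.inr ⟨T i, rfl⟩)
  | add a b _ _ ha hb => exact add_mem ha hb
  | inv a _ ha => exact inv_mem ha
  | mul a b _ _ ha hb => exact mul_mem ha hb

end Groth.Ega4b.Jac
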