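import Groth.Agent.Ega4Algebra2.NagataJacobian
import Groth.Agent.Ega4Algebra2.FieldDegree
import Groth.Agent.FibreDim.DimensionFormula
import Mathlib

/-!
# Nagata's Jacobian criterion for domains of finite type over complete Noetherian local rings
-/

set_option autoImplicit false
set_option linter.style.haveILetI false

universe u

open MvPowerSeries IsLocalRing Groth.SGA7.PS

namespace Groth.Ega4b.Jac

/-- A derivation of the coefficients extends to polynomials, killing the variables. -/
theorem exists_derivation_mvPolynomial {P : Type u} [CommRing P] (σ : Type) (D : IDer P) :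
    ∃ D' : IDer (MvPolynomial σ P),
      (∀ c, D' (MvPolynomial.C c) = MvPolynomial.C (D c)) ∧ ∀ i, D' (MvPolynomial.X i) = 0 := by
  classical
  let f : MvPolynomial σ P → MvPolynomial σ P := fun x => ∑ d ∈ x.support, MvPolynomial.monomial d (D (x.coeff d))
  have hf : ∀ x d, (f x).coeff d = D (x.coeff d) := fun x d => by
    simp only [f, MvPolynomial.coeff_sum, MvPolynomial.coeff_monomial, Finset.sum_ite_eq']
    by_cases hd : d ∈ x.support
    · rw [if_pos hd]
    · rw [if_neg hd, MvPolynomial.notMem_support_iff.1 hd, map_zero]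
  refine ⟨mkIDer f (fun a b => ?_) (fun a b => ?_), fun c => ?_, fun i => ?_⟩
  · ext d; simp only [MvPolynomial.coeff_add, hf, map_add]
  · ext d
    rw [MvPolynomial.coeff_add, hf, mul_comm b, MvPolynomial.coeff_mul, MvPolynomial.coeff_mul,
      MvPolynomial.coeff_mul, map_sum, ← Finset.sum_add_distrib]
    refine Finset.sum_congr rfl fun x _ => ?_
    rw [IDer_mul, hf, hf, mul_comm (b.coeff x.2)]
  · ext d
    show (f (MvPolynomial.C c)).coeff d = _
    rw [hf, MvPolynomial.coeff_C, MvPolynomial.coeff_C]
    split_ifs <;> simp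
  · ext d
    show (f (MvPolynomial.X i)).coeff d = _
    rw [hf, MvPolynomial.coeff_X', MvPolynomial.coeff_zero]
    split_ifs <;> simp

/-- A derivation into a domain, with values in a finite module over a local ring, is continuous. -/
theorem derivation_image_eq_zero_of_finite {k : Type u} [CommRing k] {d : ℕ} {R A : Type u} [CommRing R]
    [IsNoetherianRing R] [IsLocalRing R] [CommRing A] [Algebra R A] (g : MvPowerSeries (Fin d) k →+* R)
    (hg : ∀ i, g (X i) ∈ maximalIdeal R) (δ : IDer A) (W : Submodule R A) (hW : W.FG)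
    (hδW : ∀ r, δ (algebraMap R A r) ∈ W) (z : MvPowerSeries (Fin d) k)
    (hz : ∀ D, δ (algebraMap R A (g (monomial D (coeff D z)))) = 0) : δ (algebraMap R A (g z)) = 0 := by
  let m := maximalIdeal R
  have hpow : ∀ (j : ℕ) {x : R}, x ∈ m ^ (j + 1) → δ (algebraMap R A x) ∈ m ^ j • W := by
    intro j
    induction j with
    | zero => intro x _; simpa using hδW x
    | succ j ih =>
      intro x hx
      rw [pow_succ] at hx
      refine Submodule.mul_induction_on hx (fun a ha b hb => ?_) (fun a b ha hb => ?_)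
      · rw [map_mul, IDer_mul, ← Algebra.smul_def, ← Algebra.smul_def]
        refine add_mem (Submodule.smul_mem_smul ha (hδW b)) ?_
        rw [pow_succ', ← smul_eq_mul m, Submodule.smul_assoc]
        exact Submodule.smul_mem_smul hb (ih ha)
      · rw [map_add, map_add]; exact add_mem ha hb
  have hmap : (varIdeal (Fin d) k).map g ≤ m := by
    rw [varIdeal, Ideal.map_span, Ideal.span_le]
    rintro _ ⟨_, ⟨i, rfl⟩, rfl⟩
    exact hg i
  haveI : Module.Finite R W := Module.Finite.iff_fg.2 hW
  let y : W := ⟨_, hδW (g z)⟩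
  have hy : y ∈ ⨅ j : ℕ, m ^ j • (⊤ : Submodule R W) := by
    refine Submodule.mem_iInf _ |>.2 fun j => ?_
    rw [Submodule.mem_smul_top_iff]
    obtain ⟨s, hs⟩ := exists_sub_sum_mem z (j + 1)
    have h1 := Ideal.mem_map_of_mem g hs
    rw [Ideal.map_pow] at h1
    have h2 := hpow j (Ideal.pow_right_mono hmap _ h1)
    rwa [map_sub, map_sum, map_sub, map_sum, map_sub, map_sum, Finset.sum_eq_zero (fun D _ => hz D), sub_zero] at h2
  rw [Ideal.iInf_pow_smul_eq_bot_of_le_jacobson _ (maximalIdeal_le_jacobson _), Submodule.mem_bot] at hy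
  exact congrArg Subtype.val hy

/-- A derivation killing the constant and the `X i`-powers occurring kills the monomial. -/
lemma derivation_monomial_eq_zero {k A : Type u} [CommRing k] [CommRing A] {d : ℕ}
    (g : MvPowerSeries (Fin d) k →+* A) (δ : IDer A) (c : k) (D : Fin d →₀ ℕ) (hc : δ (g (C c)) = 0)
    (hX : ∀ i, D i ≠ 0 → δ (g (X i) ^ D i) = 0) : δ (g (monomial D c)) = 0 := by
  classical
  rw [monomial_eq_mul_prod, map_mul, map_prod, IDer_mul, hc, mul_zero, add_zero]
  suffices ∀ s : Finset (Fin d), δ (∏ i ∈ s, g (X i ^ D i)) = 0 by rw [this, mul_zero]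
  intro s
  induction s using Finset.induction with
  | empty => rw [Finset.prod_empty, Derivation.map_one_eq_zero]
  | insert a s ha ih =>
    rw [Finset.prod_insert ha, IDer_mul, ih, mul_zero, zero_add, map_pow]
    rcases eq_or_ne (D a) 0 with h | h
    · rw [h, pow_zero, Derivation.map_one_eq_zero, mul_zero]
    · rw [hX a h, mul_zero]

section

variable {R A : Type u} [CommRing R] [IsDomain R] [IsLocalRing R] [IsNoetherianRing R] [CommRing A] [IsDomain A]
  [Algebra R A] {Λ : Type u} [CommRing Λ] [IsDomain Λ] {d n m e : ℕ}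
  (g : MvPowerSeries (Fin d) Λ →+* R) (hginj : Function.Injective ((algebraMap R A).comp g))

/-- The map of fraction fields induced by `g`. -/
noncomputable def fracHom : FractionRing (MvPowerSeries (Fin d) Λ) →+* FractionRing A :=
  IsFractionRing.lift (g := (algebraMap A (FractionRing A)).comp ((algebraMap R A).comp g))
    ((IsFractionRing.injective A (FractionRing A)).comp hginj)

omit [IsDomain R] [IsLocalRing R] [IsNoetherianRing R] in
lemma fracHom_algebraMap (z : MvPowerSeries (Fin d) Λ) :
    fracHom g hginj (algebraMap _ _ z) = algebraMap A (FractionRing A) (algebraMap R A (g z)) :=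
  IsFractionRing.lift_algebraMap _ z

/-- The subfield generated by the series and the transcendence basis. -/
noncomputable def baseField (T : Fin e → A) : Subfield (FractionRing A) :=
  Subfield.closure (Set.range (fracHom g hginj) ∪ Set.range (algebraMap A (FractionRing A) ∘ T))

omit [IsLocalRing R] [IsNoetherianRing R] [IsDomain R] in
theorem finiteDimensional_baseField (hfin : g.Finite)
    (π₀ : MvPowerSeries (Fin n) Λ →+* R)
    (π : MvPolynomial (Fin m) (MvPowerSeries (Fin n) Λ) →+* A) (hπ : Function.Surjective π)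
    (hcompat : ∀ z, π (MvPolynomial.C z) = algebraMap R A (π₀ z)) (T : Fin e → A)
    (halg : ∀ a : A, IsAlgebraic (Algebra.adjoin R (Set.range T)) a) :
    FiniteDimensional (baseField g hginj T) (FractionRing A) := by
  classical
  let K := FractionRing A
  let M := baseField g hginj T
  let ι : R →+* K := (algebraMap A K).comp (algebraMap R A)
  have hQ : ∀ z, ι (g z) ∈ M := fun z =>
    Subfield.subset_closure (Or.inl ⟨algebraMap _ _ z, fracHom_algebraMap g hginj z⟩)
  have hR : ∀ r : R, IsAlgebraic M (ι r) := fun r => by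
    obtain ⟨F, hF, hFr⟩ := hfin.to_isIntegral r
    let f : MvPowerSeries (Fin d) Λ →+* M := (ι.comp g).codRestrict M hQ
    refine (show IsIntegral M (ι r) from ⟨F.map f, hF.map f, ?_⟩).isAlgebraic
    rw [Polynomial.eval₂_map, show (algebraMap M K).comp f = ι.comp g from RingHom.ext fun z => rfl,
      ← Polynomial.hom_eval₂, hFr, map_zero]
  let Mbar := algebraicClosure M K
  have hMbar : ∀ x : A, x ∈ Algebra.adjoin R (Set.range T) → algebraMap A K x ∈ Mbar := fun x hx => by
    induction hx using Algebra.adjoin_induction with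
    | mem y hy =>
      obtain ⟨i, rfl⟩ := hy
      exact IntermediateField.algebraMap_mem Mbar (⟨_, Subfield.subset_closure (Or.inr ⟨i, rfl⟩)⟩ : M)
    | algebraMap r => exact mem_algebraicClosure_iff'.2 (hR r).isIntegral
    | add a b _ _ ha hb => rw [map_add]; exact add_mem ha hb
    | mul a b _ _ ha hb => rw [map_mul]; exact mul_mem ha hb
  have hA : ∀ a : A, IsIntegral M (algebraMap A K a) := fun a => by
    obtain ⟨F, hF0, hFa⟩ := halg a
    let f : Algebra.adjoin R (Set.range T) →+* Mbar :=
      ((algebraMap A K).comp (Algebra.adjoin R (Set.range T)).subtype).codRestrict Mbar fun x => hMbar x x.2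
    have hf : Function.Injective f := fun x y hxy =>
      Subtype.ext (IsFractionRing.injective A K (congrArg Subtype.val hxy))
    have h1 : IsAlgebraic Mbar (algebraMap A K a) := by
      refine ⟨F.map f, (Polynomial.map_ne_zero_iff hf).2 hF0, ?_⟩
      rw [Polynomial.aeval_def, Polynomial.eval₂_map,
        show (algebraMap Mbar K).comp f = (algebraMap A K).comp (Algebra.adjoin R (Set.range T)).subtype from
          RingHom.ext fun z => rfl, ← Polynomial.hom_eval₂]
      rw [Polynomial.aeval_def] at hFa
      exact (congrArg (algebraMap A K) hFa).trans (map_zero _)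
    exact isIntegral_trans (R := M) (A := Mbar) _ h1.isIntegral
  letI := g.toAlgebra
  haveI : Module.Finite (MvPowerSeries (Fin d) Λ) R := hfin
  obtain ⟨G₀, hG₀⟩ := (Module.finite_def.1 (inferInstance : Module.Finite (MvPowerSeries (Fin d) Λ) R))
  let G : Set K := ι '' (G₀ : Set R) ∪ Set.range fun j => algebraMap A K (π (MvPolynomial.X j))
  haveI : Finite G := ((G₀.finite_toSet.image _).union (Set.finite_range _)).to_subtype
  haveI := IntermediateField.finiteDimensional_adjoin (K := M) (S := G) (by
    rintro x (⟨r, -, rfl⟩ | ⟨j, rfl⟩)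
    · exact (hR r).isIntegral
    · exact hA _)
  have hι : ∀ r : R, ι r ∈ IntermediateField.adjoin M G := fun r => by
    have hr : r ∈ Submodule.span (MvPowerSeries (Fin d) Λ) (G₀ : Set R) := hG₀ ▸ Submodule.mem_top
    induction hr using Submodule.span_induction with
    | mem x hx => exact IntermediateField.subset_adjoin M G (Or.inl ⟨x, hx, rfl⟩)
    | zero => rw [map_zero]; exact zero_mem _
    | add a b _ _ ha hb => rw [map_add]; exact add_mem ha hb
    | smul c a _ ha =>
      rw [Algebra.smul_def, map_mul]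
      exact mul_mem (IntermediateField.algebraMap_mem _ (⟨_, hQ c⟩ : M)) ha
  have hall : ∀ a : A, algebraMap A K a ∈ IntermediateField.adjoin M G := fun a => by
    obtain ⟨P, rfl⟩ := hπ a
    induction P using MvPolynomial.induction_on with
    | C z => rw [hcompat]; exact hι _
    | add P P' hP hP' => rw [map_add, map_add]; exact add_mem hP hP'
    | mul_X P j hP =>
      rw [map_mul, map_mul]
      exact mul_mem hP (IntermediateField.subset_adjoin M G (Or.inr ⟨j, rfl⟩))
  have htop : IntermediateField.adjoin M G = ⊤ := eq_top_iff.2 fun x _ => by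
    obtain ⟨a, b, -, rfl⟩ := IsFractionRing.div_surjective A x
    exact div_mem (hall a) (hall b)
  exact Module.Finite.equiv ((IntermediateField.equivOfEq htop).trans IntermediateField.topEquiv).toLinearEquiv

omit [IsDomain R] [IsLocalRing R] [IsNoetherianRing R] in
lemma indep_fracHom (T : Fin e → A)
    (hT : ∀ P : MvPolynomial (Fin e) (MvPowerSeries (Fin d) Λ),
      MvPolynomial.eval₂Hom ((algebraMap R A).comp g) T P = 0 → P = 0)
    (P : MvPolynomial (Fin e) (FractionRing (MvPowerSeries (Fin d) Λ)))
    (hP : MvPolynomial.eval₂Hom (fracHom g hginj) (algebraMap A (FractionRing A) ∘ T) P = 0) : P = 0 := by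
  classical
  let Q := MvPowerSeries (Fin d) Λ
  obtain ⟨s, hs⟩ := IsLocalization.exist_integer_multiples (nonZeroDivisors Q) P.support fun D => P.coeff D
  choose c hc using hs
  let P' : MvPolynomial (Fin e) Q := ∑ D ∈ P.support.attach, MvPolynomial.monomial D.1 (c D.1 D.2)
  have hmap : MvPolynomial.map (algebraMap Q (FractionRing Q)) P' =
      MvPolynomial.C (algebraMap Q (FractionRing Q) (s : Q)) * P := by
    conv_rhs => rw [P.as_sum, ← Finset.sum_attach, Finset.mul_sum]
    rw [map_sum]
    refine Finset.sum_congr rfl fun D _ => ?_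
    rw [MvPolynomial.map_monomial, MvPolynomial.C_mul_monomial, hc D.1 D.2, Algebra.smul_def]
  have h0 : P' = 0 := hT P' (IsFractionRing.injective A (FractionRing A) (by
    rw [map_zero, MvPolynomial.map_eval₂Hom, show (algebraMap A (FractionRing A)).comp ((algebraMap R A).comp g) =
      (fracHom g hginj).comp (algebraMap Q (FractionRing Q)) from
        RingHom.ext fun z => (fracHom_algebraMap g hginj z).symm, ← MvPolynomial.eval₂Hom_map_hom, hmap,
      map_mul, show MvPolynomial.eval₂Hom (fracHom g hginj) (fun i => algebraMap A (FractionRing A) (T i)) P = 0 from hP,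
      mul_zero]))
  rw [h0, map_zero] at hmap
  exact (mul_eq_zero.1 hmap.symm).resolve_left fun h => (map_ne_zero_iff _ (IsFractionRing.injective Q _)).2
    (nonZeroDivisors.ne_zero s.2) (MvPolynomial.C_eq_zero.1 h)

end

section

variable {R A : Type u} [CommRing R] [IsDomain R] [IsLocalRing R] [IsNoetherianRing R] [CommRing A] [IsDomain A]
  [Algebra R A] {d n m e : ℕ}

/-- Derivations of the combination kill the module generated by their coefficients. -/
lemma exists_fg_values {k : Type u} [CommRing k] {ι : Type u} [Fintype ι]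
    (π₀ : MvPowerSeries (Fin n) k →+* R) (hπ₀ : Function.Surjective π₀)
    (π : MvPolynomial (Fin m) (MvPowerSeries (Fin n) k) →+* A)
    (hcompat : ∀ z, π (MvPolynomial.C z) = algebraMap R A (π₀ z))
    (D : ι → IDer (MvPolynomial (Fin m) (MvPowerSeries (Fin n) k)))
    (hD : ∀ i z, ∃ z', D i (MvPolynomial.C z) = MvPolynomial.C z') (δ : IDer A) (w : ι → A)
    (hδ : ∀ x, δ (π x) = ∑ i, w i * π (D i x)) :
    ∃ W : Submodule R A, W.FG ∧ ∀ r, δ (algebraMap R A r) ∈ W := by
  classical
  refine ⟨Submodule.span R (Set.range w), Submodule.fg_span (Set.finite_range w), fun r => ?_⟩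
  obtain ⟨z, rfl⟩ := hπ₀ r
  rw [← hcompat, hδ]
  refine Submodule.sum_mem _ fun i _ => ?_
  obtain ⟨z', hz'⟩ := hD i z
  rw [hz', hcompat, mul_comm, ← Algebra.smul_def]
  exact Submodule.smul_mem _ _ (Submodule.subset_span ⟨i, rfl⟩)

set_option maxHeartbeats 1000000 in
theorem exists_jacobian_finType_charZero [CharZero A] {Λ : Type u} [CommRing Λ] [IsDomain Λ] [IsNoetherianRing Λ]
    (g : MvPowerSeries (Fin d) Λ →+* R) (hginj : Function.Injective ((algebraMap R A).comp g))
    (hg : ∀ i, g (X i) ∈ maximalIdeal R)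
    (π₀ : MvPowerSeries (Fin n) Λ →+* R) (hπ₀ : Function.Surjective π₀) (hC : ∀ c, π₀ (C c) = g (C c))
    (π : MvPolynomial (Fin m) (MvPowerSeries (Fin n) Λ) →+* A) (hπ : Function.Surjective π)
    (hcompat : ∀ z, π (MvPolynomial.C z) = algebraMap R A (π₀ z)) (T : Fin e → A)
    [FiniteDimensional (baseField g hginj T) (FractionRing A)] {h : ℕ} (hh : h + d + e ≤ n + m) :
    ∃ (f : Fin h → MvPolynomial (Fin m) (MvPowerSeries (Fin n) Λ))
      (D : Fin h → IDer (MvPolynomial (Fin m) (MvPowerSeries (Fin n) Λ))),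
      (∀ i, π (f i) = 0) ∧ π (Matrix.of fun i j => D i (f j)).det ≠ 0 := by
  classical
  let K := FractionRing A
  let M := baseField g hginj T
  choose y hy using fun l : Fin d => hπ₀ (g (X l))
  choose u hu using fun l : Fin e => hπ (T l)
  choose Dx hDxC hDxX using fun i : Fin n => exists_derivation_mvPolynomial (Fin m) (toIDer (MvPowerSeries.pderiv Λ i))
  refine exists_jacobian_of_bound (ι := ULift.{u} (Fin n) ⊕ ULift.{u} (Fin m))
    (κ := ULift.{u} (Fin d) ⊕ ULift.{u} (Fin e)) π hπ
    (Sum.elim (fun i => Dx i.down) fun j => toIDer (MvPolynomial.pderiv j.down))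
    (Sum.elim (fun l => MvPolynomial.C (y l.down)) fun l => u l.down)
    (by simp only [Fintype.card_sum, Fintype.card_ulift, Fintype.card_fin]; omega) fun δ w hδ hkill => ?_
  have hδC : ∀ c, δ (algebraMap R A (g (C c))) = 0 := fun c => by
    rw [← hC, ← hcompat, hδ]
    refine Finset.sum_eq_zero fun i _ => ?_
    rcases i with i | j
    · rw [Sum.elim_inl, hDxC, toIDer_apply, MvPowerSeries.pderiv_C, map_zero, map_zero, mul_zero]
    · rw [Sum.elim_inr, toIDer_apply, MvPolynomial.pderiv_C, map_zero, mul_zero]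
  obtain ⟨W, hW, hδW⟩ := exists_fg_values π₀ hπ₀ π hcompat _ (fun i z => by
    rcases i with i | j
    · exact ⟨_, hDxC _ z⟩
    · exact ⟨0, by rw [Sum.elim_inr, toIDer_apply, MvPolynomial.pderiv_C, map_zero]⟩) δ w hδ
  have hδg : ∀ z, δ (algebraMap R A (g z)) = 0 := fun z =>
    derivation_image_eq_zero_of_finite g hg δ W hW hδW z fun D =>
      derivation_monomial_eq_zero ((algebraMap R A).comp g) δ _ D (hδC _) fun l _ => by
        have h0 : δ (π (MvPolynomial.C (y l))) = 0 := hkill (Sum.inl ⟨l⟩)
        rw [hcompat, hy] at h0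
        rw [δ.leibniz_pow, RingHom.comp_apply, h0, smul_zero, smul_zero]
  obtain ⟨δK, hδK⟩ := exists_derivation_localization (nonZeroDivisors A) K δ
  have hM : M ≤ kerSubfield δK := Subfield.closure_le.2 (Set.union_subset
    (by
      rintro _ ⟨x, rfl⟩
      obtain ⟨a, b, -, rfl⟩ := IsFractionRing.div_surjective (MvPowerSeries (Fin d) Λ) x
      rw [map_div₀, fracHom_algebraMap, fracHom_algebraMap]
      exact div_mem (show δK _ = 0 by rw [hδK, hδg, map_zero]) (show δK _ = 0 by rw [hδK, hδg, map_zero]))
    (by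
      rintro _ ⟨l, rfl⟩
      show δK (algebraMap A K (T l)) = 0
      have h0 : δ (π (u l)) = 0 := hkill (Sum.inr ⟨l⟩)
      rw [hu] at h0
      rw [hδK, h0, map_zero]))
  haveI : CharZero K := charZero_of_injective_ringHom (IsFractionRing.injective A K)
  have hint : M.subtype.IsIntegral := fun x => Algebra.IsIntegral.isIntegral x
  have hδ0 : ∀ a, δ a = 0 := fun a => IsFractionRing.injective A K (by
    rw [map_zero, ← hδK, derivation_eq_zero_of_charZero M.subtype M.subtype.injective hint δK (fun z => hM z.2)])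
  funext i
  rcases i with i | j
  · have h1 := hδ (MvPolynomial.C (X i.down))
    rw [hδ0, Finset.sum_eq_single (Sum.inl i)] at h1
    · rw [Sum.elim_inl, hDxC, toIDer_apply, MvPowerSeries.pderiv_X_self, map_one, map_one, mul_one] at h1
      exact h1.symm
    · rintro (j | c) _ hj
      · rw [Sum.elim_inl, hDxC, toIDer_apply,
          MvPowerSeries.pderiv_X_of_ne (fun h => hj (by rw [ULift.down_injective h.symm])), map_zero, map_zero, mul_zero]
      · rw [Sum.elim_inr, toIDer_apply, MvPolynomial.pderiv_C, map_zero, mul_zero]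
    · exact fun hi => absurd (Finset.mem_univ _) hi
  · have h1 := hδ (MvPolynomial.X j.down)
    rw [hδ0, Finset.sum_eq_single (Sum.inr j)] at h1
    · rw [Sum.elim_inr, toIDer_apply, MvPolynomial.pderiv_X_self, map_one, mul_one] at h1
      exact h1.symm
    · rintro (c | c) _ hj
      · rw [Sum.elim_inl, hDxX, map_zero, mul_zero]
      · rw [Sum.elim_inr, toIDer_apply,
          MvPolynomial.pderiv_X_of_ne (fun h => hj (by rw [ULift.down_injective h.symm])), map_zero, mul_zero]
    · exact fun hi => absurd (Finset.mem_univ _) hi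

set_option maxHeartbeats 1000000 in
theorem exists_jacobian_finType_charP (p : ℕ) [hp : Fact p.Prime] [CharP A p] {k : Type u} [Field k]
    (g : MvPowerSeries (Fin d) k →+* R) (hginj : Function.Injective ((algebraMap R A).comp g))
    (hg : ∀ i, g (X i) ∈ maximalIdeal R)
    (π₀ : MvPowerSeries (Fin n) k →+* R) (hπ₀ : Function.Surjective π₀) (hC : ∀ c, π₀ (C c) = g (C c))
    (π : MvPolynomial (Fin m) (MvPowerSeries (Fin n) k) →+* A) (hπ : Function.Surjective π)
    (hcompat : ∀ z, π (MvPolynomial.C z) = algebraMap R A (π₀ z)) (T : Fin e → A)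
    (hT : ∀ P : MvPolynomial (Fin e) (MvPowerSeries (Fin d) k),
      MvPolynomial.eval₂Hom ((algebraMap R A).comp g) T P = 0 → P = 0)
    [FiniteDimensional (baseField g hginj T) (FractionRing A)] {h : ℕ} (hh : h + d + e ≤ n + m) :
    ∃ (f : Fin h → MvPolynomial (Fin m) (MvPowerSeries (Fin n) k))
      (D : Fin h → IDer (MvPolynomial (Fin m) (MvPowerSeries (Fin n) k))),
      (∀ i, π (f i) = 0) ∧ π (Matrix.of fun i j => D i (f j)).det ≠ 0 := by
  classical
  let Q := MvPowerSeries (Fin d) k
  let K := FractionRing A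
  let L := FractionRing Q
  let ψ : L →+* K := fracHom g hginj
  have hAK : Function.Injective (algebraMap A K) := IsFractionRing.injective A K
  haveI : CharP k p :=
    ((((algebraMap R A).comp g).comp C).charP_iff (hginj.comp C_injective) p).mpr inferInstance
  haveI : CharP K p := charP_of_injective_ringHom hAK p
  haveI : CharP L p := (ψ.charP_iff ψ.injective p).mpr inferInstance
  obtain ⟨B, δB, hδ, hker, hB⟩ := exists_pBasis_derivations p k
  have hSS : ∀ S' : Finset k, seriesField p B d S' = seriesField p B d (S'.filter (· ∈ B)) := fun S' => by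
    have : B \ (S' : Set k) = B \ ((S'.filter (· ∈ B) : Finset k) : Set k) := by
      ext x; simp only [Set.mem_diff, Finset.mem_coe, Finset.mem_filter]; tauto
    simp only [seriesField, pSeries, smallField, this]
  have hgenL : ∀ S' : Finset k, ∃ G : Finset L, G.card ≤ d + (S'.filter (· ∈ B)).card ∧
      ∀ E : Subfield L, seriesField p B d S' ≤ E → (G : Set L) ⊆ E → E = ⊤ := fun S' => by
      rw [hSS S']
      obtain ⟨hfinLS, hleLS⟩ := finrank_seriesField (p := p) (B := B) (d := d) hB (S'.filter (· ∈ B))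
      haveI := hfinLS
      obtain ⟨G, -, hGtop, hGcard⟩ := exists_generators hp.out
        (fun x : L => (⟨⟨x ^ p, Subfield.subset_closure (Or.inl ⟨x, rfl⟩)⟩, rfl⟩ :
          x ^ p ∈ (algebraMap (seriesField p B d (S'.filter (· ∈ B))) L).range))
        Set.univ (IntermediateField.adjoin_univ _ _)
      refine ⟨G, (Nat.pow_le_pow_iff_right hp.out.one_lt).1 (hGcard.trans hleLS), fun E hE hGE => eq_top_iff.2 ?_⟩
      intro x hxt; clear hxt
      have hx : x ∈ IntermediateField.adjoin (seriesField p B d (S'.filter (· ∈ B))) (G : Set L) :=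
        hGtop ▸ IntermediateField.mem_top
      induction hx using IntermediateField.adjoin_induction with
      | mem y hy => exact hGE hy
      | algebraMap a => exact hE a.2
      | add a b _ _ ha hb => exact add_mem ha hb
      | inv a _ ha => exact inv_mem ha
      | mul a b _ _ ha hb => exact mul_mem ha hb
  obtain ⟨S', N, hNfin, hNdeg, hNpow, hNle⟩ := exists_small_degree ψ (seriesField p B d) p
    (fun h => seriesField_anti p B d h) (fun S y => Subfield.subset_closure (Or.inl ⟨y, rfl⟩))
    (fun x hx => exists_pow_eq_of_forall_mem_seriesField (p := p) hδ hker x hx)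
    (fun S' => d + (S'.filter (· ∈ B)).card)
    hgenL
    (algebraMap A K ∘ T) (indep_fracHom g hginj T hT) (baseField g hginj T) le_rfl
    (fun x => Subfield.subset_closure (Or.inl ⟨x, rfl⟩)) (fun i => Subfield.subset_closure (Or.inr ⟨i, rfl⟩))
  rw [hSS S'] at hNle
  let S := S'.filter (· ∈ B)
  change Module.finrank N K ≤ p ^ (d + S.card + e) at hNdeg
  haveI := hNfin
  haveI : CharP N p := ((algebraMap N K).charP_iff (algebraMap N K).injective p).mpr inferInstance
  have hgen : IntermediateField.adjoin N (Set.range (algebraMap A K)) = ⊤ := eq_top_iff.2 fun x _ => by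
    obtain ⟨a, b, -, rfl⟩ := IsFractionRing.div_surjective A x
    exact div_mem (IntermediateField.subset_adjoin N _ ⟨a, rfl⟩) (IntermediateField.subset_adjoin N _ ⟨b, rfl⟩)
  obtain ⟨G, hGR, hGtop, hGcard⟩ := exists_generators hp.out
    (fun x : K => (⟨⟨x ^ p, hNpow x⟩, rfl⟩ : x ^ p ∈ (algebraMap N K).range)) _ hgen
  have hGle : G.card ≤ d + S.card + e := (Nat.pow_le_pow_iff_right hp.out.one_lt).1 (hGcard.trans hNdeg)
  choose r hr using fun x : (G : Set K) => hGR x.2
  choose u hu using fun x : (G : Set K) => hπ (r x)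
  haveI : Fintype (G : Set K) := FinsetCoe.fintype G
  choose Dx hDxC hDxX using fun i : Fin n => exists_derivation_mvPolynomial (Fin m) (toIDer (MvPowerSeries.pderiv k i))
  choose Db hDbC hDbX using fun b : {b // b ∈ S} => exists_derivation_mvPolynomial (Fin m)
    (coeffDer (d := n) (δB ⟨b.1, (Finset.mem_filter.1 b.2).2⟩))
  refine exists_jacobian_of_bound (ι := (ULift.{u} (Fin n) ⊕ {b // b ∈ S}) ⊕ ULift.{u} (Fin m))
    (κ := (G : Set K)) π hπ
    (Sum.elim (Sum.elim (fun i => Dx i.down) Db) fun j => toIDer (MvPolynomial.pderiv j.down)) u ?_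
    fun δ w hδw hkill => ?_
  · simp only [Fintype.card_sum, Fintype.card_ulift, Fintype.card_fin, Fintype.card_coe]
    have : Fintype.card (G : Set K) = G.card := Fintype.card_coe G
    omega
  obtain ⟨W, hW, hδW⟩ := exists_fg_values π₀ hπ₀ π hcompat _ (fun i z => by
    rcases i with (i | b) | j
    · exact ⟨_, hDxC _ z⟩
    · exact ⟨_, hDbC _ z⟩
    · exact ⟨0, by rw [Sum.elim_inr, toIDer_apply, MvPolynomial.pderiv_C, map_zero]⟩) δ w hδw
  obtain ⟨δK, hδK⟩ := exists_derivation_localization (nonZeroDivisors A) K δ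
  have hsmall : ∀ c ∈ smallField p B S, δ (algebraMap R A (g (C c))) = 0 := by
    intro c hc
    rw [← hC, ← hcompat, hδw]
    refine Finset.sum_eq_zero fun i _ => ?_
    rcases i with (i | b) | j
    · rw [Sum.elim_inl, Sum.elim_inl, hDxC, toIDer_apply, MvPowerSeries.pderiv_C, map_zero, map_zero, mul_zero]
    · rw [Sum.elim_inl, Sum.elim_inr, hDbC, coeffDer_C]
      have hle : smallField p B S ≤ kerSubfield (δB ⟨b.1, (Finset.mem_filter.1 b.2).2⟩) :=
        Subfield.closure_le.2 (Set.union_subset
          (by rintro _ ⟨x, rfl⟩; exact IDer_pow_char p _ x)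
          (by
            rintro x ⟨hx, hxS⟩
            exact (hδ _ ⟨x, hx⟩).2 fun he => hxS (by
              have := congrArg Subtype.val he
              simp only at this
              exact this ▸ b.2)))
      rw [show δB ⟨b.1, (Finset.mem_filter.1 b.2).2⟩ c = 0 from hle hc, map_zero, map_zero, map_zero, mul_zero]
    · rw [Sum.elim_inr, toIDer_apply, MvPolynomial.pderiv_C, map_zero, mul_zero]
  have hP : ∀ z ∈ pSeries p B d S, δ (algebraMap R A (g z)) = 0 := fun z hz =>
    derivation_image_eq_zero_of_finite g hg δ W hW hδW z fun D => by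
      by_cases hD : ∃ i, ¬ p ∣ D i
      · rw [(hz D).2 hD, map_zero, map_zero, map_zero, map_zero]
      · push_neg at hD
        refine derivation_monomial_eq_zero ((algebraMap R A).comp g) δ _ D (hsmall _ (hz D).1) fun l _ => ?_
        obtain ⟨q, hq⟩ := hD l
        rw [hq, mul_comm, pow_mul, IDer_pow_char p]
  have hKN : N ≤ kerSubfield δK := hNle.trans (Subfield.closure_le.2 (Set.union_subset
    (by
      rintro _ ⟨y, hy, rfl⟩
      have hle : seriesField p B d S ≤ (kerSubfield δK).comap ψ := Subfield.closure_le.2 (Set.union_subset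
        (by rintro _ ⟨z, rfl⟩; show δK (ψ (z ^ p)) = 0; rw [map_pow]; exact IDer_pow_char p δK _)
        (by
          rintro _ ⟨z, hz, rfl⟩
          show δK (ψ (algebraMap Q L z)) = 0
          rw [fracHom_algebraMap, hδK, hP z hz, map_zero]))
      exact hle hy)
    (by rintro _ ⟨x, rfl⟩; exact IDer_pow_char p δK x)))
  have hall : ∀ x : K, δK x = 0 := by
    intro x
    have hx : x ∈ IntermediateField.adjoin N (G : Set K) := hGtop ▸ IntermediateField.mem_top
    show x ∈ kerSubfield δK
    induction hx using IntermediateField.adjoin_induction with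
    | mem y hy =>
      show δK y = 0
      have h0 : δ (π (u ⟨y, hy⟩)) = 0 := hkill ⟨y, hy⟩
      rw [hu] at h0
      rw [show y = algebraMap A K (r ⟨y, hy⟩) from (hr ⟨y, hy⟩).symm, hδK, h0, map_zero]
    | algebraMap a => exact hKN a.2
    | add a b _ _ ha hb => exact add_mem ha hb
    | inv a _ ha => exact inv_mem ha
    | mul a b _ _ ha hb => exact mul_mem ha hb
  have hδ0 : ∀ a, δ a = 0 := fun a => hAK (by rw [← hδK, hall, map_zero])
  funext i
  rcases i with (i | b) | j
  · have h1 := hδw (MvPolynomial.C (X i.down))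
    rw [hδ0, Finset.sum_eq_single (Sum.inl (Sum.inl i))] at h1
    · rw [Sum.elim_inl, Sum.elim_inl, hDxC, toIDer_apply, MvPowerSeries.pderiv_X_self, map_one, map_one, mul_one] at h1
      exact h1.symm
    · rintro ((c | c) | c) _ hj
      · rw [Sum.elim_inl, Sum.elim_inl, hDxC, toIDer_apply,
          MvPowerSeries.pderiv_X_of_ne (fun h => hj (by rw [ULift.down_injective h.symm])), map_zero, map_zero, mul_zero]
      · rw [Sum.elim_inl, Sum.elim_inr, hDbC, coeffDer_X, map_zero, map_zero, mul_zero]
      · rw [Sum.elim_inr, toIDer_apply, MvPolynomial.pderiv_C, map_zero, mul_zero]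
    · exact fun hi => absurd (Finset.mem_univ _) hi
  · have h1 := hδw (MvPolynomial.C (C b.1))
    rw [hδ0, Finset.sum_eq_single (Sum.inl (Sum.inr b))] at h1
    · rw [Sum.elim_inl, Sum.elim_inr, hDbC, coeffDer_C, (hδ _ ⟨b.1, (Finset.mem_filter.1 b.2).2⟩).1 rfl, map_one,
        map_one, map_one, mul_one] at h1
      exact h1.symm
    · rintro ((c | c) | c) _ hj
      · rw [Sum.elim_inl, Sum.elim_inl, hDxC, toIDer_apply, MvPowerSeries.pderiv_C, map_zero, map_zero, mul_zero]
      · rw [Sum.elim_inl, Sum.elim_inr, hDbC, coeffDer_C,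
          (hδ _ ⟨b.1, (Finset.mem_filter.1 b.2).2⟩).2 (fun h => hj (by
            have := congrArg Subtype.val h
            simp only at this
            rw [Subtype.ext this])), map_zero, map_zero, map_zero, mul_zero]
      · rw [Sum.elim_inr, toIDer_apply, MvPolynomial.pderiv_C, map_zero, mul_zero]
    · exact fun hi => absurd (Finset.mem_univ _) hi
  · have h1 := hδw (MvPolynomial.X j.down)
    rw [hδ0, Finset.sum_eq_single (Sum.inr j)] at h1
    · rw [Sum.elim_inr, toIDer_apply, MvPolynomial.pderiv_X_self, map_one, mul_one] at h1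
      exact h1.symm
    · rintro ((c | c) | c) _ hj
      · rw [Sum.elim_inl, Sum.elim_inl, hDxX, map_zero, mul_zero]
      · rw [Sum.elim_inl, Sum.elim_inr, hDbX, map_zero, mul_zero]
      · rw [Sum.elim_inr, toIDer_apply,
          MvPolynomial.pderiv_X_of_ne (fun h => hj (by rw [ULift.down_injective h.symm])), map_zero, mul_zero]
    · exact fun hi => absurd (Finset.mem_univ _) hi

end

set_option maxHeartbeats 1000000 in
/-- Nagata's Jacobian criterion for domains of finite type over a complete Noetherian local domain. -/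
theorem exists_jacobian_finType (R : Type u) [CommRing R] [IsDomain R] [IsLocalRing R] [IsNoetherianRing R]
    [IsAdicComplete (maximalIdeal R) R] (A : Type u) [CommRing A] [IsDomain A] [Algebra R A] [FaithfulSMul R A]
    [Algebra.FiniteType R A] :
    ∃ (P : Type u) (_ : CommRing P) (_ : IsRegularRing P) (π : P →+* A) (h : ℕ) (f : Fin h → P)
      (D : Fin h → IDer P), Function.Surjective π ∧ (∀ i, π (f i) = 0) ∧
        π (Matrix.of fun i j => D i (f j)).det ≠ 0 ∧ (RingHom.ker π).height ≤ h := by
  classical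
  obtain ⟨Λ, _, d, g, hcase, hinj, hfin, hres⟩ := Groth.Calg2.CompleteStructure.exists_finite_injective R
  obtain ⟨hΛreg, hΛc⟩ : ∃ _ : IsRegularLocalRing Λ, IsAdicComplete (maximalIdeal Λ) Λ := by
    rcases hcase with hF | ⟨hdom, hdvr, hcomp, -⟩
    · letI := hF.toField
      refine ⟨inferInstance, ?_⟩
      rw [IsLocalRing.isField_iff_maximalIdeal_eq.1 hF]
      infer_instance
    · exact ⟨inferInstance, hcomp⟩
  haveI := hΛreg
  haveI := hΛc
  haveI : IsDomain Λ := Groth.Ega4Algebra1.isDomain_of_isRegularLocalRing Λ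
  haveI : IsLocalHom g := RingHom.IsIntegral.isLocalHom hfin.to_isIntegral hinj
  have hg : ∀ i, g (X i) ∈ maximalIdeal R := fun i hu => by
    have h1 := ((isUnit_map_iff g _).1 hu).map (constantCoeff (σ := Fin d) (R := Λ))
    rw [constantCoeff_X] at h1
    exact not_isUnit_zero h1
  have hι : Function.Surjective ((residue R).comp (g.comp C)) := fun y => by
    obtain ⟨z, rfl⟩ := hres y
    refine ⟨constantCoeff z, ?_⟩
    show residue R (g (C (constantCoeff z))) = residue R (g z)
    rw [← sub_eq_zero, ← map_sub, ← map_sub, residue_eq_zero_iff]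
    intro hu
    have h1 := ((isUnit_map_iff g _).1 hu).map (constantCoeff (σ := Fin d) (R := Λ))
    rw [map_sub, constantCoeff_C, sub_self] at h1
    exact not_isUnit_zero h1
  obtain ⟨n, a, ha⟩ := Submodule.fg_iff_exists_fin_generating_family.1 (maximalIdeal R).fg_of_isNoetherianRing
  have ham : ∀ i, a i ∈ maximalIdeal R := fun i => ha ▸ Submodule.subset_span ⟨i, rfl⟩
  let π₀ := Groth.Calg2.CompleteStructure.ev (g.comp C) a ham
  have hπ₀ : Function.Surjective π₀ := Groth.Calg2.CompleteStructure.surjective_ev _ hι a ham ha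
  have hC : ∀ c, π₀ (C c) = g (C c) := Groth.Calg2.CompleteStructure.ev_C _ a ham
  haveI := Groth.LocDual.isRegularLocalRing_mvPowerSeries Λ n
  let Pn := MvPowerSeries (Fin n) Λ
  haveI : IsRegularRing Pn :=
    { isRegularLocalRing_localization := fun p _ =>
        Groth.Ega4Algebra1.isRegularLocalRing_localization_atPrime Pn p }
  let J₀ := RingHom.ker π₀
  haveI : J₀.IsPrime := RingHom.ker_isPrime π₀
  -- dimensions
  obtain ⟨c, hc⟩ : ∃ c : ℕ, ringKrullDim Λ = c := ⟨_, (IsRegularLocalRing.spanFinrank_maximalIdeal (R := Λ)).symm⟩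
  have hdimR : ringKrullDim R = ((c + d : ℕ) : WithBot ℕ∞) := by
    letI := g.toAlgebra
    haveI : Algebra.IsIntegral (MvPowerSeries (Fin d) Λ) R := ⟨hfin.to_isIntegral⟩
    rw [Groth.Calg8.ringKrullDim_eq_of_integral (MvPowerSeries (Fin d) Λ) R hinj,
      Groth.Ega41Flat.ringKrullDim_mvPowerSeries_eq Λ d, hc]
    push_cast; rfl
  have hdimle := height_add_ringKrullDim_quotient_le J₀
  rw [ringKrullDim_eq_of_ringEquiv (RingHom.quotientKerEquivOfSurjective hπ₀), hdimR,
    Groth.Ega41Flat.ringKrullDim_mvPowerSeries_eq Λ n, hc] at hdimle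
  obtain ⟨t₀, ht₀⟩ : ∃ t : ℕ, J₀.height = t := by
    obtain ⟨t, ht⟩ := ENat.ne_top_iff_exists.1 (Ideal.height_ne_top (RingHom.ker_ne_top π₀))
    exact ⟨t, ht.symm⟩
  rw [ht₀] at hdimle
  have htd : t₀ + d ≤ n := by
    have : t₀ + (c + d) ≤ c + n := by exact_mod_cast hdimle
    omega
  -- the presentation
  obtain ⟨m, q, hq⟩ := Algebra.FiniteType.iff_quotient_mvPolynomial''.mp ‹Algebra.FiniteType R A›
  let π : MvPolynomial (Fin m) Pn →+* A := q.toRingHom.comp (MvPolynomial.map π₀)
  have hπ : Function.Surjective π := hq.comp (MvPolynomial.map_surjective _ hπ₀)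
  have hcompat : ∀ z, π (MvPolynomial.C z) = algebraMap R A (π₀ z) := fun z => by
    show q (MvPolynomial.map π₀ (MvPolynomial.C z)) = _
    rw [MvPolynomial.map_C]
    exact q.commutes (π₀ z)
  let J := RingHom.ker π
  haveI : J.IsPrime := RingHom.ker_isPrime π
  haveI : J.LiesOver J₀ := ⟨by
    ext z
    show π₀ z = 0 ↔ π (MvPolynomial.C z) = 0
    rw [hcompat, map_eq_zero_iff _ (FaithfulSMul.algebraMap_injective R A)]⟩
  obtain ⟨t, ht, hheight⟩ := Groth.FibreDim.exists_trdeg_mvPolynomial (R := Pn) m J₀ J
  -- `A` as an algebra over `Pn ⧸ J₀`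
  let e₀ : (Pn ⧸ J₀) ≃+* R := RingHom.quotientKerEquivOfSurjective hπ₀
  letI : Algebra (Pn ⧸ J₀) A := ((algebraMap R A).comp e₀.toRingHom).toAlgebra
  let φ : (MvPolynomial (Fin m) Pn ⧸ J) ≃ₐ[Pn ⧸ J₀] A :=
    AlgEquiv.ofRingEquiv (f := RingHom.quotientKerEquivOfSurjective hπ) fun z => by
      obtain ⟨z, rfl⟩ := Ideal.Quotient.mk_surjective z
      exact hcompat z
  have htA : Algebra.trdeg (Pn ⧸ J₀) A = t := φ.trdeg_eq.symm.trans ht
  haveI : FaithfulSMul (Pn ⧸ J₀) A := (faithfulSMul_iff_algebraMap_injective _ _).2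
    ((FaithfulSMul.algebraMap_injective R A).comp e₀.injective)
  obtain ⟨ι₀, x, hx⟩ := exists_isTranscendenceBasis' (Pn ⧸ J₀) A
  have hcard : Cardinal.mk ι₀ = t := hx.cardinalMk_eq_trdeg.trans htA
  haveI : Finite ι₀ := Cardinal.lt_aleph0_iff_finite.1 (hcard ▸ Cardinal.natCast_lt_aleph0)
  haveI := Fintype.ofFinite ι₀
  let eι : ι₀ ≃ Fin t := Fintype.equivFinOfCardEq (by exact_mod_cast (Cardinal.mk_fintype ι₀).symm.trans hcard)
  let T : Fin t → A := fun i => x (eι.symm i)
  have hTind : ∀ P : MvPolynomial (Fin t) (MvPowerSeries (Fin d) Λ),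
      MvPolynomial.eval₂Hom ((algebraMap R A).comp g) T P = 0 → P = 0 := fun P hP => by
    have h1 : AlgebraicIndependent (Pn ⧸ J₀) T :=
      hx.1.comp _ eι.symm.injective
    have h2 := h1.eq_zero_of_aeval_eq_zero (MvPolynomial.map (e₀.symm.toRingHom.comp g) P) (by
      rw [MvPolynomial.aeval_def, MvPolynomial.eval₂_map]
      rw [show (algebraMap (Pn ⧸ J₀) A).comp (e₀.symm.toRingHom.comp g) = (algebraMap R A).comp g from
        RingHom.ext fun z => congrArg (algebraMap R A) (e₀.apply_symm_apply (g z))]
      exact hP)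
    exact MvPolynomial.map_injective _ (e₀.symm.injective.comp hinj) (h2.trans (map_zero _).symm)
  have halg : ∀ a : A, IsAlgebraic (Algebra.adjoin R (Set.range T)) a := fun a => by
    obtain ⟨F, hF0, hFa⟩ := hx.isAlgebraic.isAlgebraic a
    have hle : ∀ z ∈ Algebra.adjoin (Pn ⧸ J₀) (Set.range x), z ∈ Algebra.adjoin R (Set.range T) := fun z hz => by
      induction hz using Algebra.adjoin_induction with
      | mem y hy =>
        obtain ⟨i, rfl⟩ := hy
        exact Algebra.subset_adjoin ⟨eι i, by simp [T]⟩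
      | algebraMap r => exact Subalgebra.algebraMap_mem _ (e₀ r)
      | add a b _ _ ha hb => exact add_mem ha hb
      | mul a b _ _ ha hb => exact mul_mem ha hb
    let f : Algebra.adjoin (Pn ⧸ J₀) (Set.range x) →+* Algebra.adjoin R (Set.range T) :=
      (Algebra.adjoin (Pn ⧸ J₀) (Set.range x)).subtype.codRestrict _ fun z => hle z z.2
    refine ⟨F.map f, (Polynomial.map_ne_zero_iff (f := f) fun u v huv =>
      Subtype.ext (congrArg (fun z : Algebra.adjoin R (Set.range T) => (z : A)) huv)).2 hF0, ?_⟩
    rw [Polynomial.aeval_def, Polynomial.eval₂_map]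
    exact hFa
  have hginj : Function.Injective ((algebraMap R A).comp g) :=
    (FaithfulSMul.algebraMap_injective R A).comp hinj
  haveI := finiteDimensional_baseField g hginj hfin π₀ π hπ hcompat T halg
  obtain ⟨hJ, hhJ⟩ : ∃ h : ℕ, J.height = h := by
    obtain ⟨t, ht⟩ := ENat.ne_top_iff_exists.1 (Ideal.height_ne_top (RingHom.ker_ne_top π))
    exact ⟨t, ht.symm⟩
  rw [hhJ, ht₀] at hheight
  have hbound : hJ + d + t ≤ n + m := by
    have : hJ + t = t₀ + m := by exact_mod_cast hheight
    omega
  obtain ⟨f, D, hf, hdet⟩ : ∃ (f : Fin hJ → MvPolynomial (Fin m) Pn) (D : Fin hJ → IDer (MvPolynomial (Fin m) Pn)),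
      (∀ i, π (f i) = 0) ∧ π (Matrix.of fun i j => D i (f j)).det ≠ 0 := by
    rcases CharP.exists' A with h0 | ⟨p, hp, hA⟩
    · exact exists_jacobian_finType_charZero g hginj hg π₀ hπ₀ hC π hπ hcompat T hbound
    · haveI := hp
      haveI := hA
      haveI : CharP R p := ((algebraMap R A).charP_iff (FaithfulSMul.algebraMap_injective R A) p).mpr hA
      have hF : IsField Λ := by
        refine hcase.resolve_right fun ⟨hdom, hdvr, _, q, hq, hmq⟩ => ?_
        have hq0 : residue R ((q : ℕ) : R) = 0 := by
          rw [residue_eq_zero_iff, ← map_natCast (g.comp C)]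
          intro hu
          have h1 := ((isUnit_map_iff g _).1 hu).map (constantCoeff (σ := Fin d) (R := Λ))
          rw [constantCoeff_C] at h1
          exact (mem_maximalIdeal _).1 (hmq ▸ Ideal.mem_span_singleton_self _) h1
        haveI : CharP (ResidueField R) p := (CharP.charP_iff_prime_eq_zero hp.out).2 (by
          rw [← map_natCast (residue R), CharP.cast_eq_zero, map_zero])
        rw [map_natCast] at hq0
        obtain rfl : q = p := ((Nat.prime_dvd_prime_iff_eq hp.out hq).1
          ((CharP.cast_eq_zero_iff (ResidueField R) p q).1 hq0)).symm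
        have hq' : (q : Λ) = 0 := hinj.comp C_injective (by
          show g (C (q : Λ)) = g (C 0)
          rw [map_zero, map_zero, map_natCast, map_natCast, CharP.cast_eq_zero])
        refine hdvr.not_a_field' ?_
        rw [hmq, hq', Ideal.span_singleton_eq_bot]
      letI := hF.toField
      exact exists_jacobian_finType_charP p g hginj hg π₀ hπ₀ hC π hπ hcompat T hTind hbound
  exact ⟨_, inferInstance, inferInstance, π, hJ, f, D, hπ, hf, hdet, hhJ.le⟩

end Groth.Ega4b.Jac
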