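import Groth.Agent.Ega4Algebra2.GRingComplete
import Groth.Agent.Ega4Algebra2.JacobianFinType
import Mathlib

/-!
# Rings of finite type over complete Noetherian local rings are G-rings
-/

set_option autoImplicit false
set_option linter.style.haveILetI false

universe u

open IsLocalRing TensorProduct

namespace Groth.Ega4b

/-- The generic formal fibres of finite domains over local rings of finite type over a complete local ring
are regular. -/
theorem isRegularLocalRing_tensor_cpl_of_finiteType (R₀ : Type u) [CommRing R₀] [IsLocalRing R₀]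
    [IsNoetherianRing R₀] [IsAdicComplete (maximalIdeal R₀) R₀] (R : Type u) [CommRing R] [Algebra R₀ R]
    [Algebra.FiniteType R₀ R] (p : Ideal R) [p.IsPrime] (Rp : Type u) [CommRing Rp] [IsLocalRing Rp]
    [IsNoetherianRing Rp] [Algebra R Rp] [IsLocalization.AtPrime Rp p] (B : Type u) [CommRing B] [IsDomain B]
    [Algebra Rp B] [Module.Finite Rp B] (Q : Ideal (B ⊗[Rp] EGA4.Cpl Rp)) [Q.IsPrime]
    (hQ : Q.comap (algebraMap B (B ⊗[Rp] EGA4.Cpl Rp)) = ⊥) :
    IsRegularLocalRing (Localization.AtPrime Q) := by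
  haveI : IsNoetherianRing R := Algebra.FiniteType.isNoetherianRing R₀ R
  classical
  let C := EGA4.Cpl Rp
  letI : Algebra R B := ((algebraMap Rp B).comp (algebraMap R Rp)).toAlgebra
  haveI : IsScalarTower R Rp B := IsScalarTower.of_algebraMap_eq fun _ => rfl
  obtain ⟨G, hG⟩ := (Module.finite_def.1 (inferInstance : Module.Finite Rp B))
  choose t ht using fun g : {g // g ∈ G} =>
    IsIntegral.exists_multiple_integral_of_isLocalization p.primeCompl (Rₘ := Rp) (g : B)
      (Algebra.IsIntegral.isIntegral _)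
  obtain ⟨A, hAfin, hSA⟩ : ∃ A : Subalgebra R B, Module.Finite R A ∧ ∀ g, t g • (g : B) ∈ A :=
    ⟨Algebra.adjoin R (Set.range fun g => t g • (g : B)),
      Algebra.finite_adjoin_of_finite_of_isIntegral (Set.finite_range _) (by rintro _ ⟨g, rfl⟩; exact ht g),
      fun g => Algebra.subset_adjoin ⟨g, rfl⟩⟩
  haveI := hAfin
  let M := Algebra.algebraMapSubmonoid A p.primeCompl
  have hsurj : ∀ b : B, ∃ s : p.primeCompl, (s : R) • b ∈ A := by
    intro b
    have hb : b ∈ Submodule.span Rp (G : Set B) := hG ▸ Submodule.mem_top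
    induction hb using Submodule.span_induction with
    | mem x hx => exact ⟨t ⟨x, hx⟩, hSA ⟨x, hx⟩⟩
    | zero => exact ⟨1, by rw [smul_zero]; exact A.zero_mem⟩
    | add x y _ _ hx hy =>
      obtain ⟨s, hs⟩ := hx
      obtain ⟨s', hs'⟩ := hy
      refine ⟨s * s', ?_⟩
      rw [Submonoid.coe_mul, smul_add, mul_smul (s : R) (s' : R) y, mul_comm, mul_smul]
      exact A.add_mem (A.smul_mem hs _) (A.smul_mem hs' _)
    | smul c x _ hx =>
      obtain ⟨s, hs⟩ := hx
      obtain ⟨a, u, rfl⟩ := IsLocalization.exists_mk'_eq p.primeCompl c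
      refine ⟨u * s, ?_⟩
      rw [Submonoid.coe_mul, mul_smul, smul_comm (s : R), ← smul_assoc (u : R), IsLocalization.smul_mk'_self,
        algebraMap_smul]
      exact A.smul_mem hs a
  haveI : IsLocalization M B := by
    refine { map_units := ?_, surj := fun b => ?_, exists_of_eq := ?_ }
    · rintro ⟨_, s, hs, rfl⟩
      exact (IsLocalization.map_units Rp (⟨s, hs⟩ : p.primeCompl)).map (algebraMap Rp B)
    · obtain ⟨s, hs⟩ := hsurj b
      refine ⟨⟨⟨_, hs⟩, ⟨_, s, s.2, rfl⟩⟩, ?_⟩
      show b * algebraMap R B s = (s : R) • b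
      rw [Algebra.smul_def, mul_comm]
    · intro x y hxy
      exact ⟨1, by rw [show x = y from Subtype.ext hxy]⟩
  letI : Algebra R₀ A := ((algebraMap R A).comp (algebraMap R₀ R)).toAlgebra
  haveI : IsScalarTower R₀ R A := IsScalarTower.of_algebraMap_eq fun _ => rfl
  haveI : Algebra.FiniteType R₀ A := Algebra.FiniteType.trans (S := R) inferInstance inferInstance
  haveI : IsNoetherianRing A := Algebra.FiniteType.isNoetherianRing R₀ A
  let I := RingHom.ker (algebraMap R₀ A)
  haveI : I.IsPrime := RingHom.ker_isPrime _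
  obtain ⟨hloc, hcomp⟩ := exists_isAdicComplete_finite_domain R₀ (R₀ ⧸ I)
  haveI := hloc
  haveI := hcomp
  letI : Algebra (R₀ ⧸ I) A := (RingHom.kerLift (algebraMap R₀ A)).toAlgebra
  haveI : IsScalarTower R₀ (R₀ ⧸ I) A := IsScalarTower.of_algebraMap_eq fun _ => rfl
  haveI : FaithfulSMul (R₀ ⧸ I) A := (faithfulSMul_iff_algebraMap_injective _ _).2 (RingHom.kerLift_injective _)
  haveI : Algebra.FiniteType (R₀ ⧸ I) A := Algebra.FiniteType.of_restrictScalars_finiteType R₀ (R₀ ⧸ I) A
  obtain ⟨P, _, _, π, h, f, D, hπ, hf, hdet, hht⟩ := Jac.exists_jacobian_finType (R₀ ⧸ I) A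
  let τ : (C ⊗[Rp] B) ≃ₐ[Rp] (B ⊗[Rp] C) := Algebra.TensorProduct.comm Rp C B
  let Q₁ : Ideal (C ⊗[Rp] B) := Q.comap τ.toRingEquiv
  haveI : IsNoetherianRing C := isNoetherianRing_cpl Rp
  haveI : IsRegularLocalRing (Localization.AtPrime Q₁) := by
    refine isRegularLocalRing_cpl_tensor Rp B ⊥ (fun n _ Q' _ hQ' => ?_) Q₁ ?_
    · let Bn := Localization.AtPrime n
      let n₀ := n.comap (algebraMap A B)
      haveI := IsLocalization.isLocalization_isLocalization_atPrime_isLocalization M Bn n
      let e : Localization.AtPrime n₀ ≃ₐ[A] Bn := IsLocalization.algEquiv n₀.primeCompl _ _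
      obtain ⟨σ, hσ⟩ := Groth.PropsBasic.GRingLocal.exists_cplEquiv (maximalIdeal (Localization.AtPrime n₀))
        (maximalIdeal Bn) e.toRingEquiv (IsLocalRing.eq_maximalIdeal (Ideal.map_isMaximal_of_equiv e.toRingEquiv))
      let Q₂ : Ideal (EGA4.Cpl (Localization.AtPrime n₀)) := Q'.comap σ
      haveI : IsRegularLocalRing (Localization.AtPrime Q₂) := by
        refine isRegularLocalRing_cpl_atPrime_of_jacobian π f D hπ hf hdet hht n₀ Q₂ ?_
        ext a
        have h1 : σ (algebraMap A (EGA4.Cpl (Localization.AtPrime n₀)) a) =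
            algebraMap B (EGA4.Cpl Bn) (a : B) := by
          rw [IsScalarTower.algebraMap_apply A (Localization.AtPrime n₀)]
          erw [hσ]
          rw [IsScalarTower.algebraMap_apply B Bn (EGA4.Cpl Bn)]
          exact congrArg _ (e.commutes a)
        rw [Ideal.mem_comap, Ideal.mem_bot, Ideal.mem_comap]
        erw [h1]
        rw [← Ideal.mem_comap, hQ', Ideal.mem_bot, Subtype.ext_iff]
        rfl
      exact IsRegularLocalRing.of_ringEquiv
        (IsLocalization.ringEquivOfRingEquiv (Localization.AtPrime Q₂) (Localization.AtPrime Q') σ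
          (M := Q₂.primeCompl) (T := Q'.primeCompl) (by
            ext y
            exact ⟨by rintro ⟨x, hx, rfl⟩; exact hx, fun hy => ⟨σ.symm y,
              fun h => hy (by simpa [Q₂] using h), σ.apply_symm_apply y⟩⟩))
    · rw [← hQ]
      ext b
      rw [Ideal.mem_comap, Ideal.mem_comap, Ideal.mem_comap]
      show τ ((1 : C) ⊗ₜ[Rp] b) ∈ Q ↔ _
      rw [Algebra.TensorProduct.comm_tmul]
      rfl
  exact IsRegularLocalRing.of_ringEquiv (R := Localization.AtPrime Q₁)
    (IsLocalization.ringEquivOfRingEquiv (Localization.AtPrime Q₁) (Localization.AtPrime Q) τ.toRingEquiv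
      (M := Q₁.primeCompl) (T := Q.primeCompl) (by
        ext y
        exact ⟨by rintro ⟨x, hx, rfl⟩; exact hx, fun hy => ⟨τ.symm y,
          fun h => hy (by simpa [Q₁] using h), τ.apply_symm_apply y⟩⟩))

/-- A ring of finite type over a complete Noetherian local ring is a G-ring. -/
theorem isGRing_of_finiteType_complete (R : Type u) [CommRing R] [IsLocalRing R] [IsNoetherianRing R]
    [IsAdicComplete (maximalIdeal R) R] (S : Type u) [CommRing S] [Algebra R S] [Algebra.FiniteType R S] :
    CAlg.IsGRing S := by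
  haveI : IsNoetherianRing S := Algebra.FiniteType.isNoetherianRing R S
  exact ⟨inferInstance, fun p _ => isRegularHom_cpl_of_finite_domains (Localization.AtPrime p)
    fun B _ _ _ _ Q _ hQ => isRegularLocalRing_tensor_cpl_of_finiteType R S p (Localization.AtPrime p) B Q hQ⟩

end Groth.Ega4b
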