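import Groth.Agent.Ega4Algebra2.FibreChange
import Groth.Agent.Ega4Algebra1.FlatDescent
import Mathlib

/-!
# Normal rings: localization, faithfully flat descent; normal homomorphisms
-/

set_option linter.style.haveILetI false

universe u

namespace Groth.Ega4b

open TensorProduct

lemma isNormalRing_of_isLocalization {R : Type u} [CommRing R] (M : Submonoid R) (S : Type u)
    [CommRing S] [Algebra R S] [IsLocalization M S] (h : EGA4.IsNormalRing R) :
    EGA4.IsNormalRing S := by
  intro p hp
  obtain ⟨h1, h2⟩ := h (p.comap (algebraMap R S))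
  haveI : IsLocalization.AtPrime (Localization.AtPrime p) (p.comap (algebraMap R S)) :=
    IsLocalization.isLocalization_isLocalization_atPrime_isLocalization M _ p
  let e : Localization.AtPrime (p.comap (algebraMap R S)) ≃ₐ[R] Localization.AtPrime p :=
    IsLocalization.algEquiv (p.comap (algebraMap R S)).primeCompl _ _
  exact ⟨e.toRingEquiv.toMulEquiv.isDomain_iff.mp h1, IsIntegrallyClosed.of_equiv e.toRingEquiv⟩

lemma isNormalRing_of_faithfullyFlat (A B : Type u) [CommRing A] [CommRing B] [Algebra A B]
    [Module.FaithfullyFlat A B] (h : EGA4.IsNormalRing B) : EGA4.IsNormalRing A := by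
  intro p hp
  obtain ⟨⟨q, hq⟩, hqp⟩ := PrimeSpectrum.comap_surjective_of_faithfullyFlat (B := B) ⟨p, hp⟩
  obtain rfl : q.comap (algebraMap A B) = p := congrArg PrimeSpectrum.asIdeal hqp
  obtain ⟨h1, h2⟩ := h q
  letI := (Localization.localRingHom (q.comap (algebraMap A B)) q (algebraMap A B) rfl).toAlgebra
  haveI := Groth.Ega4Algebra1.faithfullyFlat_localization_atPrime A B q
  exact ⟨Groth.Ega4Algebra1.isDomain_of_faithfullyFlat _ (Localization.AtPrime q),
    Groth.Ega4Algebra1.isIntegrallyClosed_of_faithfullyFlat _ (Localization.AtPrime q)⟩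

lemma isGeomNormal_of_isLocalization (k : Type u) [Field k] (A : Type u) [CommRing A] [Algebra k A]
    (M : Submonoid A) (B : Type u) [CommRing B] [Algebra A B] [IsLocalization M B] [Algebra k B]
    [IsScalarTower k A B] (h : EGA4.IsGeomNormal k A) : EGA4.IsGeomNormal k B := by
  intro K _ _ hK
  letI : Algebra (K ⊗[k] A) (K ⊗[k] B) :=
    (Algebra.TensorProduct.map (AlgHom.id k K) (IsScalarTower.toAlgHom k A B)).toAlgebra
  haveI : IsScalarTower K (K ⊗[k] A) (K ⊗[k] B) :=
    .of_algebraMap_eq <| by intro; simp [RingHom.algebraMap_toAlgebra]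
  haveI := IsLocalization.tensorProduct_tensorProduct_right k K M B
    (by ext; simp [RingHom.algebraMap_toAlgebra])
  exact isNormalRing_of_isLocalization
    (M.map (Algebra.TensorProduct.includeRight (R := k) (A := K))) _ (h K hK)

lemma isGeomNormal_fiber_of_faithfullyFlat (A B C : Type u) [CommRing A] [CommRing B] [CommRing C]
    [Algebra A B] [Algebra B C] [Algebra A C] [IsScalarTower A B C] [Module.FaithfullyFlat B C]
    (p : Ideal A) [p.IsPrime] (h : EGA4.IsGeomNormal p.ResidueField (p.Fiber C)) :
    EGA4.IsGeomNormal p.ResidueField (p.Fiber B) := by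
  intro K _ _ hK
  letI : Algebra A K := ((algebraMap p.ResidueField K).comp (algebraMap A p.ResidueField)).toAlgebra
  haveI : IsScalarTower A p.ResidueField K := IsScalarTower.of_algebraMap_eq fun _ => rfl
  have h1 : EGA4.IsNormalRing (K ⊗[A] C) := isNormalRing_of_ringEquiv
    (Algebra.TensorProduct.cancelBaseChange A p.ResidueField K K C).toRingEquiv (h K hK)
  have h2 : EGA4.IsNormalRing ((B ⊗[A] K) ⊗[B] C) := isNormalRing_of_ringEquiv
    (((Algebra.TensorProduct.comm A K C).toRingEquiv.trans
      (Algebra.TensorProduct.cancelBaseChange A B C C K).symm.toRingEquiv).trans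
      (Algebra.TensorProduct.comm B C (B ⊗[A] K)).toRingEquiv) h1
  exact isNormalRing_of_ringEquiv
    ((Algebra.TensorProduct.comm A B K).toRingEquiv.trans
      (Algebra.TensorProduct.cancelBaseChange A p.ResidueField K K B).symm.toRingEquiv)
    (isNormalRing_of_faithfullyFlat _ _ h2)

end Groth.Ega4b
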