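import Groth.Agent.Ega4Algebra2.SchemeFibre
import Groth.Agent.Calg6.CMSop
import Groth.Agent.VarietyBC.SmoothChart
import Mathlib

/-!
# Codimension of a smooth closed subscheme of a smooth scheme
-/

set_option linter.style.haveILetI false

universe u

namespace Groth.Ega4b

open AlgebraicGeometry CategoryTheory IsLocalRing TopologicalSpace

/-- dimension at a maximal point of a closed subscheme cut out by `rs` at a specialization -/
theorem ringKrullDim_stalk_le_length {X Y : Scheme.{u}} [IsLocallyNoetherian X] (i : Y ⟶ X) [IsClosedImmersion i]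
    (y : ↥Y) (rs : List ↑(X.presheaf.stalk (i y)))
    (hker : RingHom.ker (i.stalkMap y).hom = Ideal.ofList rs) (z : ↥Y) (hzy : z ⤳ y)
    (hmax : ∀ z' : ↥Y, z' ⤳ z → z' = z) : ringKrullDim (X.presheaf.stalk (i z)) ≤ rs.length := by
  obtain ⟨_, ⟨U, hU, rfl⟩, hyU, -⟩ :=
    X.isBasis_affineOpens.exists_subset_of_mem_open (Set.mem_univ (i y)) isOpen_univ
  have hsp : i z ⤳ i y := hzy.map i.continuous
  have hzU : i z ∈ U := hsp.mem_open U.isOpen hyU
  let φ : (X.presheaf.stalk (i y)) →+* (X.presheaf.stalk (i z)) := (X.presheaf.stalkSpecializes hsp).hom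
  letI : Algebra (X.presheaf.stalk (i y)) (X.presheaf.stalk (i z)) := φ.toAlgebra
  letI algR : Algebra Γ(X, U) (X.presheaf.stalk (i y)) := TopCat.Presheaf.algebra_section_stalk X.presheaf (⟨i y, hyU⟩ : U)
  letI algS : Algebra Γ(X, U) (X.presheaf.stalk (i z)) := TopCat.Presheaf.algebra_section_stalk X.presheaf (⟨i z, hzU⟩ : U)
  have tower : ∀ a : Γ(X, U), φ (algebraMap Γ(X, U) (X.presheaf.stalk (i y)) a) = algebraMap Γ(X, U) (X.presheaf.stalk (i z)) a := fun a =>
    X.presheaf.germ_stalkSpecializes_apply (U := U) hyU hsp a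
  haveI : IsScalarTower Γ(X, U) (X.presheaf.stalk (i y)) (X.presheaf.stalk (i z)) := IsScalarTower.of_algebraMap_eq fun a => (tower a).symm
  set P := (hU.primeIdealOf ⟨i y, hyU⟩).asIdeal
  set Q := (hU.primeIdealOf ⟨i z, hzU⟩).asIdeal
  haveI : IsLocalization.AtPrime (X.presheaf.stalk (i y)) P := hU.isLocalization_stalk ⟨i y, hyU⟩
  haveI : IsLocalization.AtPrime (X.presheaf.stalk (i z)) Q := hU.isLocalization_stalk ⟨i z, hzU⟩
  have hQP : Q ≤ P := by
    intro a ha
    by_contra hP
    have h1 : IsUnit (algebraMap Γ(X, U) (X.presheaf.stalk (i y)) a) := IsLocalization.map_units (X.presheaf.stalk (i y)) (⟨a, hP⟩ : P.primeCompl)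
    have h2 := h1.map φ
    rw [tower] at h2
    exact (IsLocalization.AtPrime.isUnit_to_map_iff (X.presheaf.stalk (i z)) Q a).mp h2 ha
  -- naturality
  have hnat : ∀ r : (X.presheaf.stalk (i y)), (i.stalkMap z).hom (φ r) = (Y.presheaf.stalkSpecializes hzy).hom ((i.stalkMap y).hom r) := by
    intro r
    exact Scheme.Hom.stalkSpecializes_stalkMap_apply i z y hzy r
  have hmem : ∀ r ∈ rs, φ r ∈ IsLocalRing.maximalIdeal (X.presheaf.stalk (i z)) := by
    intro r hr
    have h0 : (i.stalkMap y).hom r = 0 := by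
      rw [← RingHom.mem_ker, hker]; exact Ideal.subset_span hr
    refine (IsLocalRing.mem_maximalIdeal _).mpr fun hu => ?_
    have := hu.map (i.stalkMap z).hom
    rw [hnat, h0, map_zero] at this
    exact not_isUnit_zero this
  have hdim : ringKrullDim ((X.presheaf.stalk (i z)) ⧸ Ideal.ofList (rs.map φ)) = 0 := by
    haveI : Nontrivial ((X.presheaf.stalk (i z)) ⧸ Ideal.ofList (rs.map φ)) := by
      refine Ideal.Quotient.nontrivial_iff.mpr fun h => (IsLocalRing.maximalIdeal.isMaximal (X.presheaf.stalk (i z))).ne_top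
        (top_le_iff.mp (h ▸ Ideal.span_le.mpr ?_))
      intro r hr
      obtain ⟨r, hr', rfl⟩ := List.mem_map.mp hr
      exact hmem r hr'
    have hmax : ∀ q : Ideal (X.presheaf.stalk (i z)), q.IsPrime → Ideal.ofList (rs.map φ) ≤ q → q = IsLocalRing.maximalIdeal (X.presheaf.stalk (i z)) := by
      intro q hq hle
      let q' : PrimeSpectrum Γ(X, U) := ⟨q.comap (algebraMap Γ(X, U) (X.presheaf.stalk (i z))), inferInstance⟩
      have hq'Q : q'.asIdeal ≤ Q := by
        intro a ha
        by_contra h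
        exact hq.ne_top (Ideal.eq_top_of_isUnit_mem _ ha (IsLocalization.map_units (X.presheaf.stalk (i z)) (⟨a, h⟩ : Q.primeCompl)))
      have hx : hU.fromSpec q' ∈ U := by
        rw [← SetLike.mem_coe, ← hU.range_fromSpec]; exact Set.mem_range_self _
      have hxr : hU.fromSpec q' ∈ Set.range i := by
        have h1 : hU.fromSpec q' ∈ i.ker.support := by
          rw [Scheme.IdealSheafData.mem_support_iff_of_mem (U := ⟨U, hU⟩) hx, Scheme.mem_zeroLocus_iff]
          intro f hf hfx
          have h0 : (i.stalkMap y).hom (algebraMap Γ(X, U) (X.presheaf.stalk (i y)) f) = 0 := by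
            rw [Scheme.Hom.ker_apply, SetLike.mem_coe, RingHom.mem_ker] at hf
            refine (Scheme.Hom.germ_stalkMap_apply i U y hyU f).trans ?_
            rw [hf, map_zero]
          have h2 : algebraMap Γ(X, U) (X.presheaf.stalk (i y)) f ∈ Ideal.ofList rs := by
            rw [← hker]; exact RingHom.mem_ker.mpr h0
          have h3 := Ideal.mem_map_of_mem φ h2
          rw [Ideal.map_ofList, tower] at h3
          have h4 : q' ∈ hU.fromSpec ⁻¹ᵁ X.basicOpen f := hfx
          rw [hU.fromSpec_preimage_basicOpen] at h4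
          exact h4 (hle h3)
        have h5 : hU.fromSpec q' ∈ (i.ker.support : Set X) := h1
        rw [Scheme.Hom.support_ker, i.isClosedEmbedding.isClosed_range.closure_eq] at h5
        exact h5
      obtain ⟨z', hz'⟩ := hxr
      have hspec : hU.fromSpec q' ⤳ i z := by
        have := ((PrimeSpectrum.le_iff_specializes q' (hU.primeIdealOf ⟨i z, hzU⟩)).mp hq'Q).map
          hU.fromSpec.continuous
        rwa [hU.fromSpec_primeIdealOf] at this
      rw [← hz'] at hspec
      obtain rfl := hmax z' (i.isClosedEmbedding.isInducing.specializes_iff.mp hspec)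
      have hQ : q' = hU.primeIdealOf ⟨i z', hzU⟩ := hU.fromSpec.isOpenEmbedding.injective
        (by rw [hU.fromSpec_primeIdealOf]; exact hz'.symm)
      rw [← IsLocalization.map_comap Q.primeCompl (X.presheaf.stalk (i z')) q, ← IsLocalization.AtPrime.map_eq_maximalIdeal Q (X.presheaf.stalk (i z'))]
      congr 1
      exact congrArg PrimeSpectrum.asIdeal hQ
    haveI : Ring.KrullDimLE 0 ((X.presheaf.stalk (i z)) ⧸ Ideal.ofList (rs.map φ)) := by
      refine Ring.KrullDimLE.mk₀ fun p hp => ?_
      have h := hmax (p.comap (Ideal.Quotient.mk _)) inferInstance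
        (fun x hx => by simp [Ideal.Quotient.eq_zero_iff_mem.mpr hx])
      refine Ideal.isMaximal_iff.mpr ⟨fun h1 => hp.ne_top ((Ideal.eq_top_iff_one _).mpr h1), ?_⟩
      intro J x hpJ hx hxJ
      have hlt : p.comap (Ideal.Quotient.mk _) < J.comap (Ideal.Quotient.mk (Ideal.ofList (rs.map φ))) := by
        obtain ⟨x, rfl⟩ := Ideal.Quotient.mk_surjective x
        exact lt_of_le_of_ne (Ideal.comap_mono hpJ) fun e => hx (e ▸ hxJ : x ∈ p.comap _)
      rw [h] at hlt
      have := (IsLocalRing.maximalIdeal.isMaximal (X.presheaf.stalk (i z))).1.2 _ hlt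
      simpa using (Ideal.eq_top_iff_one _).mp this
    exact ringKrullDimZero_iff_ringKrullDim_eq_zero.mp ‹_›
  have h1 := Groth.Calg6.supportDim_le_quotient_ofList_add_length (R := X.presheaf.stalk (i z)) (rs.map φ)
    (X.presheaf.stalk (i z)) (fun r hr => by
      obtain ⟨r, hr', rfl⟩ := List.mem_map.mp hr
      exact hmem r hr')
  rw [Module.supportDim_self_eq_ringKrullDim, Module.supportDim_eq_of_equiv (Submodule.quotEquivOfEq _ (Ideal.ofList (rs.map φ))
    (by rw [smul_eq_mul, Ideal.mul_top])), Module.supportDim_quotient_eq_ringKrullDim, hdim, List.length_map,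
    zero_add] at h1
  exact h1

lemma mem_mul_of_flat_quotient {R A B : Type u} [CommRing R] [CommRing A] [CommRing B] [Algebra R A] [Algebra R B]
    [Module.Flat R B] (φ : A →ₐ[R] B) (hφ : Function.Surjective φ) (I : Ideal R) :
    RingHom.ker φ ⊓ I.map (algebraMap R A) ≤ I.map (algebraMap R A) * RingHom.ker φ := by
  rintro z ⟨hz, hzI⟩
  have hz' : φ z = 0 := RingHom.mem_ker.mp hz
  rw [SetLike.mem_coe, ← Submodule.restrictScalars_mem R, ← Ideal.smul_top_eq_map] at hzI
  obtain ⟨n, r, a, hr, rfl⟩ : ∃ (n : ℕ) (r : Fin n → R) (a : Fin n → A), (∀ i, r i ∈ I) ∧ ∑ i, r i • a i = z := by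
    clear hz hz'
    refine Submodule.smul_induction_on hzI (fun r hr a _ => ⟨1, fun _ => r, fun _ => a, fun _ => hr, by simp⟩) ?_
    rintro x y ⟨n, r, a, hr, rfl⟩ ⟨m, r', a', hr', rfl⟩
    exact ⟨n + m, Fin.append r r', Fin.append a a', fun i => Fin.addCases (fun i => by simpa using hr i)
      (fun i => by simpa using hr' i) i, by simp [Fin.sum_univ_add]⟩
  obtain ⟨k, c, y, hy, hc⟩ := Module.Flat.isTrivialRelation_of_sum_smul_eq_zero (f := r) (x := fun i => φ (a i)) (by simpa using hz')
  choose Y hY using fun j => hφ (y j)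
  have hj : ∀ i, a i - ∑ j, c i j • Y j ∈ RingHom.ker φ := fun i => by
    rw [RingHom.mem_ker, map_sub, map_sum, sub_eq_zero]; refine (hy i).trans ?_
    exact Finset.sum_congr rfl fun j _ => by rw [map_smul, hY]
  have : ∑ i, r i • a i = ∑ i, algebraMap R A (r i) * (a i - ∑ j, c i j • Y j) := by
    simp only [← Algebra.smul_def, smul_sub, Finset.sum_sub_distrib, Finset.smul_sum, smul_smul]
    rw [Finset.sum_comm (f := fun x j => (r x * c x j) • Y j)]
    simp only [← Finset.sum_smul, hc, zero_smul, Finset.sum_const_zero, sub_zero]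
  rw [this]
  exact Submodule.sum_mem _ fun i _ => Ideal.mul_mem_mul (Ideal.mem_map_of_mem _ (hr i)) (hj i)

lemma ringKrullDim_stalk_le_of_specializes {Z : Scheme.{u}} {u v : Z} (h : u ⤳ v) :
    ringKrullDim (Z.presheaf.stalk u) ≤ ringKrullDim (Z.presheaf.stalk v) := by
  rw [ringKrullDim_stalk_eq_coheight, ringKrullDim_stalk_eq_coheight]
  exact WithBot.coe_le_coe.mpr (Order.coheight_anti h)

lemma isRegularLocalRing_fiberStalk {X S : Scheme.{u}} (f : X ⟶ S) [Smooth f] (x : X) :
    IsRegularLocalRing (CInt.fiberStalk f x) := by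
  letI : (f.fiber (f x)).Over (Spec (CommRingCat.of (S.residueField (f x)))) := ⟨f.fiberToSpecResidueField (f x)⟩
  haveI : Smooth ((f.fiber (f x)) ↘ Spec (CommRingCat.of (S.residueField (f x)))) :=
    inferInstanceAs (Smooth (Limits.pullback.snd f (S.fromSpecResidueField (f x))))
  refine Groth.VarietyBC.isRegularLocalRing_of_mem_smoothLocus (k := S.residueField (f x)) ?_
  rw [Scheme.Hom.smoothLocus_eq_top]
  trivial

theorem exists_ringKrullDim_le_fiberStalk {X Y S : Scheme.{u}} [IsLocallyNoetherian X] [IsLocallyNoetherian S]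
    (f : X ⟶ S) [Smooth f] (i : Y ⟶ X) [IsClosedImmersion i] [Smooth (i ≫ f)] (a : Y) :
    ∃ a0 : Y, ringKrullDim (X.presheaf.stalk (i a0)) ≤ ringKrullDim (CInt.fiberStalk f (i a)) := by
  classical
  obtain ⟨w, hw, hwa⟩ := Groth.Limits.exists_maximal_specializes ((i ≫ f).asFiber a)
  obtain ⟨η, hη⟩ : ∃ η, (i ≫ f).fiberι ((i ≫ f) a) w = η := ⟨_, rfl⟩
  have hηs : (i ≫ f) η = (i ≫ f) a := by
    have : η ∈ (i ≫ f) ⁻¹' {(i ≫ f) a} := by rw [← (i ≫ f).range_fiberι]; exact ⟨w, hη⟩
    exact this
  have hηa : η ⤳ a := by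
    have := hwa.map ((i ≫ f).fiberι ((i ≫ f) a)).continuous
    rwa [hη, Scheme.Hom.fiberι_asFiber] at this
  -- compare the fibres of `f`
  have hcmp : ringKrullDim (CInt.fiberStalk f (i η)) ≤ ringKrullDim (CInt.fiberStalk f (i a)) := by
    obtain ⟨u, hu⟩ : i η ∈ Set.range (f.fiberι (f (i a))) := by
      rw [f.range_fiberι]; exact hηs
    have hsp : u ⤳ f.asFiber (i a) := by
      refine (f.fiberι (f (i a))).isEmbedding.toIsInducing.specializes_iff.mp ?_
      rw [hu, f.fiberι_asFiber]
      exact hηa.map i.continuous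
    obtain ⟨e1⟩ := nonempty_fiber_stalk_equiv f (f (i a)) u _ hu
    obtain ⟨e2⟩ := nonempty_fiberStalk_equiv f (i η)
    rw [← ringKrullDim_eq_of_ringEquiv e2, ringKrullDim_eq_of_ringEquiv e1]
    exact ringKrullDim_stalk_le_of_specializes hsp
  -- the ideal of `Y` at `η`
  letI algA := (f.stalkMap (i η)).hom.toAlgebra
  letI algB : Algebra (S.presheaf.stalk (f (i η))) (Y.presheaf.stalk η) := ((i ≫ f).stalkMap η).hom.toAlgebra
  haveI : Module.Flat (S.presheaf.stalk (f (i η))) (Y.presheaf.stalk η) := Flat.stalkMap (i ≫ f) η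
  let φ : X.presheaf.stalk (i η) →ₐ[S.presheaf.stalk (f (i η))] Y.presheaf.stalk η :=
    { (i.stalkMap η).hom with
      commutes' := fun r => by
        show (f.stalkMap (i η) ≫ i.stalkMap η).hom r = ((i ≫ f).stalkMap η).hom r
        rw [Scheme.Hom.stalkMap_comp]; rfl }
  have hφ : Function.Surjective φ := i.stalkMap_surjective η
  set mA := (maximalIdeal (S.presheaf.stalk (f (i η)))).map (algebraMap _ (X.presheaf.stalk (i η))) with hmA
  obtain ⟨eX⟩ := nonempty_fiberStalk_equiv f (i η)
  haveI := isRegularLocalRing_fiberStalk f (i η)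
  haveI : IsRegularLocalRing (X.presheaf.stalk (i η) ⧸ mA) := IsRegularLocalRing.of_ringEquiv eX.symm
  have hfieldY : IsField (Y.presheaf.stalk η ⧸ (maximalIdeal (S.presheaf.stalk (f (i η)))).map
      (algebraMap _ (Y.presheaf.stalk η))) := by
    obtain ⟨e⟩ := nonempty_fiber_stalk_equiv (i ≫ f) ((i ≫ f) a) w η hη
    obtain ⟨e'⟩ := nonempty_fiberStalk_equiv (i ≫ f) η
    haveI := isRegularLocalRing_fiberStalk (i ≫ f) η
    haveI : IsRegularLocalRing (Y.presheaf.stalk η ⧸ (maximalIdeal (S.presheaf.stalk (f (i η)))).map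
        (algebraMap _ (Y.presheaf.stalk η))) := IsRegularLocalRing.of_ringEquiv e'.symm
    have h0 : ringKrullDim (Y.presheaf.stalk η ⧸ (maximalIdeal (S.presheaf.stalk (f (i η)))).map
        (algebraMap _ (Y.presheaf.stalk η))) = 0 :=
      (ringKrullDim_eq_of_ringEquiv e).trans (ringKrullDim_stalk_eq_zero_of_maximal hw)
    rw [IsLocalRing.isField_iff_maximalIdeal_eq,
      ← Submodule.spanFinrank_eq_zero_iff_eq_bot (IsNoetherian.noetherian _)]
    have h1 := IsRegularLocalRing.spanFinrank_maximalIdeal (R := Y.presheaf.stalk η ⧸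
      (maximalIdeal (S.presheaf.stalk (f (i η)))).map (algebraMap _ (Y.presheaf.stalk η)))
    rw [h0] at h1
    exact_mod_cast h1
  set J := RingHom.ker φ
  have hJm : maximalIdeal (X.presheaf.stalk (i η) ⧸ mA) = J.map (Ideal.Quotient.mk mA) := by
    have hmax : (mA ⊔ J).IsMaximal := by
      have h1 : ((maximalIdeal (S.presheaf.stalk (f (i η)))).map (algebraMap _ (Y.presheaf.stalk η))).IsMaximal :=
        Ideal.Quotient.maximal_of_isField _ hfieldY
      have h2 := Ideal.comap_isMaximal_of_surjective φ.toRingHom hφ (K := (maximalIdeal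
        (S.presheaf.stalk (f (i η)))).map (algebraMap _ (Y.presheaf.stalk η)))
      have h3 : Ideal.comap φ.toRingHom ((maximalIdeal (S.presheaf.stalk (f (i η)))).map
          (algebraMap _ (Y.presheaf.stalk η))) = mA ⊔ J := by
        rw [← φ.comp_algebraMap, ← Ideal.map_map, ← hmA]
        exact (Ideal.comap_map_of_surjective φ.toRingHom hφ mA).trans rfl
      rwa [h3] at h2
    rw [← IsLocalRing.map_maximalIdeal_of_surjective (Ideal.Quotient.mk mA) Ideal.Quotient.mk_surjective,
      ← IsLocalRing.eq_maximalIdeal hmax, Ideal.map_sup, Ideal.map_quotient_self, bot_sup_eq]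
  have hfg := IsNoetherian.noetherian (maximalIdeal (X.presheaf.stalk (i η) ⧸ mA))
  have hlift : ∀ g ∈ (maximalIdeal (X.presheaf.stalk (i η) ⧸ mA)).generators, ∃ x ∈ J, Ideal.Quotient.mk mA x = g := by
    intro g hg
    have h : g ∈ J.map (Ideal.Quotient.mk mA) := by
      rw [← hJm, ← Submodule.span_generators (maximalIdeal _)]; exact Ideal.subset_span hg
    exact (Ideal.mem_map_iff_of_surjective _ Ideal.Quotient.mk_surjective).mp h
  choose x hxJ hx using hlift
  have hfin := Submodule.FG.finite_generators hfg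
  let l := (hfin.toFinset.attach.image fun g => x g.1 (hfin.mem_toFinset.mp g.2)).toList
  have hlJ : Ideal.ofList l ≤ J := Ideal.span_le.mpr fun r hr => by
    simp only [l, Finset.mem_toList, Finset.mem_image, Set.mem_ofPred_eq] at hr
    obtain ⟨g, -, rfl⟩ := hr
    exact hxJ _ _
  have hker : RingHom.ker (i.stalkMap η).hom = Ideal.ofList l := by
    show J = Ideal.ofList l
    refine le_antisymm ?_ hlJ
    refine Submodule.le_of_le_smul_of_le_jacobson_bot (IsNoetherian.noetherian _)
      (maximalIdeal_le_jacobson _) ?_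
    intro z hz
    have hz' : Ideal.Quotient.mk mA z ∈ (Ideal.ofList l).map (Ideal.Quotient.mk mA) := by
      have h1 : Ideal.Quotient.mk mA z ∈ maximalIdeal (X.presheaf.stalk (i η) ⧸ mA) :=
        hJm ▸ Ideal.mem_map_of_mem _ hz
      rw [← Submodule.span_generators (maximalIdeal _)] at h1
      refine Ideal.span_le.mpr (fun g hg => ?_) h1
      rw [← hx g hg]
      refine Ideal.mem_map_of_mem _ (Ideal.subset_span ?_)
      simp only [l, Finset.mem_toList, Finset.mem_image, Set.mem_ofPred_eq]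
      exact ⟨⟨g, hfin.mem_toFinset.mpr hg⟩, Finset.mem_attach _ _, rfl⟩
    obtain ⟨p, hp, q, hq, rfl⟩ := Submodule.mem_sup.mp (Ideal.mem_quotient_iff_mem_sup.mp hz')
    refine Submodule.add_mem_sup hp ?_
    have hqJ : q ∈ J := by simpa using sub_mem hz (hlJ hp)
    rw [smul_eq_mul]
    exact Ideal.mul_mono (((local_hom_TFAE (f.stalkMap (i η)).hom).out 0 2 rfl rfl).mp
      (inferInstanceAs (IsLocalHom (f.stalkMap (i η)).hom))) le_rfl (mem_mul_of_flat_quotient φ hφ _ ⟨hqJ, hq⟩)
  obtain ⟨a0, ha0, ha0η⟩ := Groth.Limits.exists_maximal_specializes η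
  refine ⟨a0, (ringKrullDim_stalk_le_length i η l hker a0 ha0η ha0).trans (le_trans ?_ hcmp)⟩
  rw [← ringKrullDim_eq_of_ringEquiv eX]
  refine le_of_le_of_eq ?_ (IsRegularLocalRing.spanFinrank_maximalIdeal (R := X.presheaf.stalk (i η) ⧸ mA))
  rw [← Submodule.FG.generators_ncard hfg, Set.ncard_eq_toFinset_card _ hfin, Nat.cast_le, Finset.length_toList]
  exact Finset.card_image_le.trans Finset.card_attach.le

end Groth.Ega4b
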