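import Groth.Agent.Ega4Algebra2.CompletedFibres
import Groth.Agent.Ega4Algebra2.CplQuot
import Groth.Agent.AdicLinTop.Adic
import Groth.Agent.AdicLinTop.CompletionQuot
import Mathlib

/-!
# `Â ⊗_A B` for finite `B` and the completions of `B` at its maximal ideals
-/

set_option autoImplicit false

universe u

open IsLocalRing TensorProduct

namespace Groth.Ega4b

/-- A surjection which is locally injective at a prime gives an isomorphism of local rings. -/
theorem isLocalization_atPrime_of_surjective {T C : Type u} [CommRing T] [CommRing C] (φ : T →+* C)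
    (hφ : Function.Surjective φ) (Q : Ideal T) [Q.IsPrime] (Q' : Ideal C) [Q'.IsPrime] (hQ : Q'.comap φ = Q)
    (hker : ∀ x, φ x = 0 → ∃ s ∉ Q, s * x = 0) :
    letI := ((algebraMap C (Localization.AtPrime Q')).comp φ).toAlgebra
    IsLocalization Q.primeCompl (Localization.AtPrime Q') := by
  letI := ((algebraMap C (Localization.AtPrime Q')).comp φ).toAlgebra
  subst hQ
  refine { map_units := ?_, surj := ?_, exists_of_eq := ?_ }
  · rintro ⟨s, hs⟩
    exact IsLocalization.map_units (Localization.AtPrime Q') (⟨φ s, hs⟩ : Q'.primeCompl)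
  · intro z
    obtain ⟨⟨c, ⟨d, hd⟩⟩, hcd⟩ := IsLocalization.surj Q'.primeCompl z
    obtain ⟨x, rfl⟩ := hφ c
    obtain ⟨s, rfl⟩ := hφ d
    exact ⟨⟨x, ⟨s, hd⟩⟩, hcd⟩
  · intro x y hxy
    obtain ⟨⟨d, hd⟩, hdxy⟩ := IsLocalization.exists_of_eq (M := Q'.primeCompl) hxy
    obtain ⟨t, rfl⟩ := hφ d
    obtain ⟨s, hs, hs0⟩ := hker (t * x - t * y) (by rw [map_sub, map_mul, map_mul, sub_eq_zero]; exact hdxy)
    refine ⟨⟨s * t, fun h => ?_⟩, ?_⟩
    · exact (Ideal.IsPrime.mem_or_mem inferInstance h).elim hs hd
    · rw [mul_sub, sub_eq_zero] at hs0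
      simpa [mul_assoc] using hs0

set_option maxHeartbeats 1000000 in
/-- Regularity of `Â ⊗_A B` at primes over `q`, from the completions of `B` at maximal ideals. -/
theorem isRegularLocalRing_cpl_tensor (A : Type u) [CommRing A] [IsNoetherianRing A] [IsLocalRing A]
    (B : Type u) [CommRing B] [Algebra A B] [Module.Finite A B] (q : Ideal B)
    (h : ∀ (n : Ideal B) [n.IsMaximal] (Q' : Ideal (EGA4.Cpl (Localization.AtPrime n))) [Q'.IsPrime],
      Q'.comap (algebraMap B (EGA4.Cpl (Localization.AtPrime n))) = q →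
        IsRegularLocalRing (Localization.AtPrime Q'))
    (Q : Ideal (EGA4.Cpl A ⊗[A] B)) [Q.IsPrime]
    (hQ : Q.comap (Algebra.TensorProduct.includeRight (R := A) (A := EGA4.Cpl A) (B := B)) = q) :
    IsRegularLocalRing (Localization.AtPrime Q) := by
  classical
  set m := maximalIdeal A
  let C := EGA4.Cpl A
  let T := C ⊗[A] B
  haveI : IsNoetherianRing B := IsNoetherianRing.of_finite A B
  let J : Ideal B := m.map (algebraMap A B)
  let mh : Ideal C := m.map (algebraMap A C)
  haveI : IsNoetherianRing C := isNoetherianRing_cpl A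
  haveI : IsAdicComplete mh C := AdicCompletion.isAdicComplete_self _ m.fg_of_isNoetherianRing
  haveI : IsAdicComplete mh T := Groth.AdicLinTop.Adic.isAdicComplete_of_finite
  let K : Ideal T := mh.map (algebraMap C T)
  haveI : IsPrecomplete K T := (IsPrecomplete.map_algebraMap_iff (I := mh) (S := T) (M := T)).2 inferInstance
  haveI : IsHausdorff K T := (IsHausdorff.map_algebraMap_iff (I := mh) (S := T) (M := T)).2 inferInstance
  -- the maximal ideals of `B`
  have hcomap : ∀ (n : Ideal B) [n.IsMaximal], n.comap (algebraMap A B) = m := fun n _ =>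
    IsLocalRing.eq_maximalIdeal (Ideal.isMaximal_comap_of_isIntegral_of_isMaximal n)
  have hJle : ∀ (n : Ideal B) [n.IsMaximal], J ≤ n := fun n _ => by
    rw [Ideal.map_le_iff_le_comap, hcomap n]
  have hover : ∀ p : Ideal B, p.IsPrime → J ≤ p → p.IsMaximal := fun p _ hle => by
    refine Ideal.isMaximal_of_isIntegral_of_isMaximal_comap (R := A) p ?_
    have h1 : m ≤ p.comap (algebraMap A B) := Ideal.map_le_iff_le_comap.1 hle
    rw [← (maximalIdeal.isMaximal A).eq_of_le (Ideal.IsPrime.ne_top inferInstance) h1]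
    exact maximalIdeal.isMaximal A
  have hfinmax : {n : Ideal B | n.IsMaximal}.Finite := by
    refine (Ideal.finite_minimalPrimes_of_isNoetherianRing B J).subset fun n hn => ?_
    have : n.IsMaximal := hn
    exact ⟨⟨inferInstance, hJle n⟩, fun p hp hpn =>
      ((hover p hp.1 hp.2).eq_of_le (Ideal.IsMaximal.ne_top ‹_›) hpn).ge⟩
  let s := hfinmax.toFinset
  obtain ⟨e, he⟩ := Ideal.exists_pow_le_of_le_radical_of_fg (I := ∏ n ∈ s, n) (J := J)
    (by
      rw [Ideal.radical_eq_sInf]
      refine le_sInf fun p ⟨hle, hp⟩ => ?_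
      exact Ideal.prod_le_inf.trans (Finset.inf_le (f := id) (hfinmax.mem_toFinset.2 (hover p hp hle))))
    (IsNoetherian.noetherian _)
  have hcop : ∀ a ∈ s, ∀ b ∈ s, a ≠ b → ∀ i j : ℕ, IsCoprime (a ^ i) (b ^ j) := by
    intro a ha b hb hne i j
    have : a.IsMaximal := hfinmax.mem_toFinset.1 ha
    have : b.IsMaximal := hfinmax.mem_toFinset.1 hb
    exact (Ideal.isCoprime_of_isMaximal hne).pow
  have hglob : ∀ (j : ℕ) (x : B), (∀ n ∈ s, x ∈ n ^ ((e + 1) * j)) → x ∈ J ^ j := by
    intro j x hx
    have hprod : x ∈ ∏ n ∈ s, n ^ ((e + 1) * j) := by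
      rw [Ideal.prod_eq_iInf_of_pairwise_isCoprime]
      · simp only [Ideal.mem_iInf]; exact hx
      · exact fun a ha b hb hne => hcop a ha b hb hne _ _
    rw [Finset.prod_pow] at hprod
    exact Ideal.pow_right_mono he j (by
      rw [← pow_mul]; exact Ideal.pow_le_pow_right (Nat.mul_le_mul_right j (Nat.le_succ e)) hprod)
  -- the maps to the completions
  haveI hmax : ∀ i : s, (i : Ideal B).IsMaximal := fun i => hfinmax.mem_toFinset.1 i.2
  haveI hloc : ∀ i : s, IsLocalHom (algebraMap A (Localization.AtPrime (i : Ideal B))) := fun i => by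
    refine ⟨fun a ha => ?_⟩
    by_contra hna
    have ham : a ∈ (i : Ideal B).comap (algebraMap A B) := by rw [hcomap]; exact hna
    rw [IsScalarTower.algebraMap_apply A B] at ha
    exact (IsLocalization.AtPrime.isUnit_to_map_iff _ (i : Ideal B) _).1 ha ham
  let ι : B →ₐ[A] T := Algebra.TensorProduct.includeRight
  let Cn := fun i : s => EGA4.Cpl (Localization.AtPrime (i : Ideal B))
  let φ : ∀ i : s, T →ₐ[A] Cn i := fun i => Algebra.TensorProduct.lift
    { cplHom A (Localization.AtPrime (i : Ideal B)) with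
      commutes' := cplHom_algebraMap A (Localization.AtPrime (i : Ideal B)) }
    (IsScalarTower.toAlgHom A B (Cn i)) fun _ _ => Commute.all _ _
  have hφι : ∀ i b, φ i (ι b) = algebraMap B (Cn i) b := fun i b => by
    show φ i (1 ⊗ₜ b) = _
    rw [Algebra.TensorProduct.lift_tmul, map_one, one_mul]; rfl
  have hKmap : ∀ i, K.map (φ i).toRingHom = m.map (algebraMap A (Cn i)) := fun i => by
    rw [Ideal.map_map, Ideal.map_map]
    congr 1
    refine RingHom.ext fun a => ?_
    show φ i (algebraMap C T (algebraMap A C a)) = _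
    rw [← IsScalarTower.algebraMap_apply]
    exact (φ i).commutes a
  have hmle : ∀ i, m.map (algebraMap A (Cn i)) ≤ maximalIdeal (Cn i) := fun i => by
    have h1 := isLocalHom_cpl A (Localization.AtPrime (i : Ideal B))
    exact ((local_hom_TFAE (algebraMap A (Cn i))).out 0 2).mp h1
  -- every element of the completion is congruent to an element of `B`
  have happrox : ∀ i (j : ℕ) (y : Cn i), ∃ b : B, y - algebraMap B (Cn i) b ∈ maximalIdeal (Cn i) ^ j := by
    intro i j y
    haveI := isNoetherianRing_cpl (Localization.AtPrime (i : Ideal B))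
    let Bn := Localization.AtPrime (i : Ideal B)
    obtain ⟨b', hb'⟩ := Ideal.Quotient.mk_surjective (AdicCompletion.evalₐ (maximalIdeal Bn) j y)
    obtain ⟨b, hb⟩ := (IsLocalization.AtPrime.equivQuotMaximalIdealPow (i : Ideal B) Bn j).surjective
      (Ideal.Quotient.mk _ b')
    obtain ⟨b, rfl⟩ := Ideal.Quotient.mk_surjective b
    rw [IsLocalization.AtPrime.equivQuotMaximalIdealPow_apply_mk] at hb
    refine ⟨b, ?_⟩
    have h0 : AdicCompletion.evalₐ (maximalIdeal Bn) j (y - algebraMap B (Cn i) b) = 0 := by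
      rw [map_sub, IsScalarTower.algebraMap_apply B Bn (Cn i), AlgHom.commutes, ← hb', ← hb]
      exact sub_self _
    have h1 : y - algebraMap B (Cn i) b ∈ RingHom.ker (AdicCompletion.evalₐ (maximalIdeal Bn) j).toRingHom := h0
    rw [Groth.AdicLinTop.CompletionQuot.ker_evalₐ _ (IsNoetherian.noetherian _)] at h1
    rwa [AdicCompletion.maximalIdeal_eq_map]
  have hmaxpow : ∀ i, maximalIdeal (Cn i) ^ ((e + 1)) ≤ m.map (algebraMap A (Cn i)) := fun i => by
    let Bn := Localization.AtPrime (i : Ideal B)
    have h1 : (i : Ideal B).map (algebraMap B Bn) ^ (e + 1) ≤ J.map (algebraMap B Bn) := by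
      have hprod : (∏ n ∈ s, n).map (algebraMap B Bn) = (i : Ideal B).map (algebraMap B Bn) := by
        rw [← Finset.mul_prod_erase s _ i.2, Ideal.map_mul]
        have : (∏ n ∈ s.erase (i : Ideal B), n).map (algebraMap B Bn) = ⊤ := by
          refine IsLocalization.map_eq_top_of_not_subset (M := (i : Ideal B).primeCompl) Bn fun hsub => ?_
          have hle : ∏ n ∈ s.erase (i : Ideal B), n ≤ (i : Ideal B) := fun x hx => not_not.1 (hsub hx)
          obtain ⟨n, hn, hni⟩ := (hmax i).isPrime.prod_le.1 hle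
          rw [Finset.mem_erase] at hn
          exact hn.1 ((hfinmax.mem_toFinset.1 hn.2).eq_of_le (hmax i).ne_top hni)
        rw [this, Ideal.mul_top]
      rw [← hprod, ← Ideal.map_pow]
      exact Ideal.map_mono ((Ideal.pow_le_pow_right (Nat.le_succ e)).trans he)
    rw [Localization.AtPrime.map_eq_maximalIdeal] at h1
    rw [AdicCompletion.maximalIdeal_eq_map, ← Ideal.map_pow, IsScalarTower.algebraMap_eq A Bn (Cn i),
      ← Ideal.map_map, IsScalarTower.algebraMap_eq A B Bn, ← Ideal.map_map]
    exact Ideal.map_mono h1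
  have hsurj : ∀ i, Function.Surjective (φ i) := fun i => by
    haveI : IsHausdorff (K.map (φ i).toRingHom) (Cn i) := by
      haveI := isNoetherianRing_cpl (Localization.AtPrime (i : Ideal B))
      refine IsHausdorff.of_le_jacobson _ _ ?_
      rw [hKmap, IsLocalRing.jacobson_eq_maximalIdeal _ bot_ne_top]
      exact hmle i
    refine surjective_of_mk_map_comp_surjective (I := K) (φ i).toRingHom fun y => ?_
    obtain ⟨y, rfl⟩ := Ideal.Quotient.mk_surjective y
    obtain ⟨b, hb⟩ := happrox i (e + 1) y
    refine ⟨ι b, ?_⟩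
    rw [RingHom.comp_apply, eq_comm, Ideal.Quotient.eq, hKmap]
    exact (hφι i b).symm ▸ hmaxpow i hb
  -- jointly injective
  have hdense : ∀ (j : ℕ) (z : T), ∃ b : B, z - ι b ∈ K ^ j := by
    intro j z
    induction z using TensorProduct.induction_on with
    | zero => exact ⟨0, by simp⟩
    | add x y hx hy =>
      obtain ⟨b, hb⟩ := hx
      obtain ⟨c, hc⟩ := hy
      exact ⟨b + c, by rw [map_add, add_sub_add_comm]; exact add_mem hb hc⟩
    | tmul c b =>
      obtain ⟨a, ha⟩ := Ideal.Quotient.mk_surjective (AdicCompletion.evalₐ m j c)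
      refine ⟨a • b, ?_⟩
      have h0 : c - algebraMap A C a ∈ mh ^ j := by
        have h0 : AdicCompletion.evalₐ m j (c - algebraMap A C a) = 0 := by
          rw [map_sub, AlgHom.commutes, ← ha]; exact sub_self _
        have h1 : c - algebraMap A C a ∈ RingHom.ker (AdicCompletion.evalₐ m j).toRingHom := h0
        rw [Groth.AdicLinTop.CompletionQuot.ker_evalₐ _ (IsNoetherian.noetherian _)] at h1
        exact h1
      have h1 : c ⊗ₜ[A] b - ι (a • b) = algebraMap C T (c - algebraMap A C a) * ι b := by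
        rw [map_sub, sub_mul, ← IsScalarTower.algebraMap_apply A C T, ← Algebra.smul_def, ← Algebra.smul_def, map_smul]
        congr 1
        show _ = c • ((1 : C) ⊗ₜ[A] b)
        rw [TensorProduct.smul_tmul', smul_eq_mul, mul_one]
      rw [h1, ← Ideal.map_pow]
      exact Ideal.mul_mem_right _ _ (Ideal.mem_map_of_mem _ h0)
  have hinj : ∀ z : T, (∀ i, φ i z = 0) → z = 0 := by
    intro z hz
    refine IsHausdorff.haus (inferInstance : IsHausdorff K T) _ fun j => ?_
    rw [SModEq.zero, smul_eq_mul, Ideal.mul_top]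
    obtain ⟨b, hb⟩ := hdense ((e + 1) * j) z
    have hbn : ∀ n ∈ s, b ∈ n ^ ((e + 1) * j) := by
      intro n hn
      let i : s := ⟨n, hn⟩
      let Bn := Localization.AtPrime (i : Ideal B)
      have h1 : φ i (ι b) ∈ maximalIdeal (Cn i) ^ ((e + 1) * j) := by
        have h2 := Ideal.mem_map_of_mem (φ i).toRingHom hb
        rw [Ideal.map_pow, hKmap] at h2
        have h3 : φ i (ι b) = - (φ i).toRingHom (z - ι b) := by
          show _ = - φ i (z - ι b)
          rw [map_sub, hz, zero_sub, neg_neg]
        rw [h3]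
        exact neg_mem (Ideal.pow_right_mono (hmle i) _ h2)
      haveI := isNoetherianRing_cpl Bn
      rw [hφι, IsScalarTower.algebraMap_apply B Bn (Cn i), AdicCompletion.maximalIdeal_eq_map,
        ← Groth.AdicLinTop.CompletionQuot.ker_evalₐ _ (IsNoetherian.noetherian _), RingHom.mem_ker, AlgHom.toRingHom_eq_coe, RingHom.coe_coe,
        AlgHom.commutes, Ideal.Quotient.algebraMap_eq, Ideal.Quotient.eq_zero_iff_mem] at h1
      have h0 : IsLocalization.AtPrime.equivQuotMaximalIdealPow (i : Ideal B) Bn ((e + 1) * j)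
          (Ideal.Quotient.mk _ b) = 0 := by
        rw [IsLocalization.AtPrime.equivQuotMaximalIdealPow_apply_mk, Ideal.Quotient.eq_zero_iff_mem]; exact h1
      rwa [map_eq_zero_iff _ (AlgEquiv.injective _), Ideal.Quotient.eq_zero_iff_mem] at h0
    have h4 : ι b ∈ K ^ j := by
      have h5 : ι b ∈ (J ^ j).map ι.toRingHom := Ideal.mem_map_of_mem _ (hglob j b hbn)
      rw [Ideal.map_pow, Ideal.map_map, show ι.toRingHom.comp (algebraMap A B) =
        (algebraMap C T).comp (algebraMap A C) from RingHom.ext fun a =>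
          (ι.commutes a).trans (IsScalarTower.algebraMap_apply A C T a), ← Ideal.map_map] at h5
      exact h5
    rw [show z = (z - ι b) + ι b by ring]
    exact add_mem (Ideal.pow_le_pow_right (Nat.le_mul_of_pos_left _ e.succ_pos) hb) h4
  -- the factor containing `Q`
  have hprod : (∏ i : s, RingHom.ker (φ i).toRingHom) ≤ Q := by
    intro z hz
    have : z = 0 := hinj z fun i => Ideal.prod_le_inf.trans (Finset.inf_le (Finset.mem_univ i)) hz
    rw [this]; exact Q.zero_mem
  obtain ⟨i, -, hiQ⟩ := (‹Q.IsPrime›).prod_le.1 hprod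
  let Q' := Q.map (φ i).toRingHom
  haveI : Q'.IsPrime := Ideal.map_isPrime_of_surjective (hsurj i) hiQ
  have hQ' : Q'.comap (φ i).toRingHom = Q := by
    rw [Ideal.comap_map_of_surjective (φ i).toRingHom (hsurj i)]
    exact sup_eq_left.2 hiQ
  have hreg := h (i : Ideal B) Q' (by
    rw [← hQ]
    ext b
    rw [Ideal.mem_comap, Ideal.mem_comap, ← hQ', Ideal.mem_comap]
    rw [← hφι]; rfl)
  have hker : ∀ x, (φ i).toRingHom x = 0 → ∃ t ∉ Q, t * x = 0 := by
    intro x hx
    have hnot : ¬ (∏ k ∈ Finset.univ.erase i, RingHom.ker (φ k).toRingHom) ≤ Q := by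
      intro hle
      obtain ⟨k, hk, hkQ⟩ := (‹Q.IsPrime›).prod_le.1 hle
      obtain ⟨M, hM, hQM⟩ := Ideal.exists_le_maximal Q Ideal.IsPrime.ne_top'
      have key : ∀ i : s, RingHom.ker (φ i).toRingHom ≤ M → M.comap ι.toRingHom = (i : Ideal B) := by
        intro i hiM
        have h1 : (M.map (φ i).toRingHom) = maximalIdeal (Cn i) := by
          haveI := hM
          refine IsLocalRing.eq_maximalIdeal
            ((Ideal.map_eq_top_or_isMaximal_of_surjective _ (hsurj i) hM).resolve_left fun h => hM.ne_top ?_)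
          rw [← sup_eq_left.2 hiM, RingHom.ker_eq_comap_bot, ← Ideal.comap_map_of_surjective (φ i).toRingHom (hsurj i),
            show Ideal.map (φ i).toRingHom M = ⊤ from h,
            Ideal.comap_top]
        have h2 : M = (maximalIdeal (Cn i)).comap (φ i).toRingHom := by
          rw [← h1, Ideal.comap_map_of_surjective (φ i).toRingHom (hsurj i)]
          exact (sup_eq_left.2 hiM).symm
        rw [h2, Ideal.comap_comap, show (φ i).toRingHom.comp ι.toRingHom =
          (algebraMap (Localization.AtPrime (i : Ideal B)) (Cn i)).comp (algebraMap B _) from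
            RingHom.ext fun b => (hφι i b).trans (IsScalarTower.algebraMap_apply B _ (Cn i) b), ← Ideal.comap_comap,
          IsLocalRing.maximalIdeal_comap]
        exact Localization.AtPrime.comap_maximalIdeal
      exact (Finset.ne_of_mem_erase hk) (Subtype.ext ((key k (hkQ.trans hQM)).symm.trans (key i (hiQ.trans hQM))))
    obtain ⟨t, ht, htQ⟩ := Set.not_subset.mp hnot
    refine ⟨t, htQ, hinj _ fun k => ?_⟩
    rw [map_mul]
    by_cases hki : k = i
    · subst hki
      show _ * (φ k).toRingHom x = 0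
      rw [hx, mul_zero]
    · have : t ∈ RingHom.ker (φ k).toRingHom :=
        Ideal.prod_le_inf.trans (Finset.inf_le (Finset.mem_erase.2 ⟨hki, Finset.mem_univ k⟩)) ht
      rw [show φ k t = 0 from this, zero_mul]
  letI := ((algebraMap (Cn i) (Localization.AtPrime Q')).comp (φ i).toRingHom).toAlgebra
  haveI := isLocalization_atPrime_of_surjective (φ i).toRingHom (hsurj i) Q Q' hQ' hker
  exact IsRegularLocalRing.of_ringEquiv
    (IsLocalization.algEquiv Q.primeCompl (Localization.AtPrime Q') (Localization.AtPrime Q)).toRingEquiv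

end Groth.Ega4b
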