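import Groth.Agent.Ega4Algebra2.NagataJacobian
import Groth.Agent.Ega4Algebra2.CplFinite
import Groth.Agent.Ega4Algebra1.RegularLocal
import Groth.Agent.PropsBasic.GRingLocal
import Groth.Agent.Calg1.CompletionLocal
import Mathlib

/-!
# Generic formal fibres of complete Noetherian local domains are regular
-/

set_option autoImplicit false
set_option linter.style.haveILetI false

universe u

open IsLocalRing

namespace Groth.Ega4b

open Jac

/-- Regular local rings are regular rings. -/
theorem isRegularRing_of_isRegularLocalRing (P : Type u) [CommRing P] [IsRegularLocalRing P] : IsRegularRing P :=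
  { isRegularLocalRing_localization := fun p _ => Groth.Ega4Algebra1.isRegularLocalRing_localization_atPrime P p }

variable {P R : Type u} [CommRing P] [IsRegularRing P] [CommRing R] [IsDomain R] (π : P →+* R)

/-- Near the generic point, the kernel is generated by elements with nondegenerate Jacobian. -/
theorem exists_mul_mem_span {h : ℕ} (f : Fin h → P) (D : Fin h → IDer P) (hf : ∀ i, π (f i) = 0)
    (hdet : π (Matrix.of fun i j => D i (f j)).det ≠ 0) (hht : (RingHom.ker π).height ≤ h) :
    ∃ s : P, π s ≠ 0 ∧ ∀ x ∈ RingHom.ker π, s * x ∈ Ideal.span (Set.range f) := by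
  classical
  haveI : (RingHom.ker π).IsPrime := RingHom.ker_isPrime π
  set J := RingHom.ker π
  haveI : IsRegularLocalRing (Localization.AtPrime J) := IsRegularRing.isRegularLocalRing_localization J
  let L := Localization.AtPrime J
  obtain ⟨hreg, hseq⟩ := isRegularLocalRing_quotient_of_det' J f D hf hdet
  have hspan : (Ideal.span (Set.range f)).map (algebraMap P L) = maximalIdeal L := by
    haveI := hreg
    have h1 := ringKrullDim_add_length_eq_ringKrullDim_of_isRegular _ hseq
    rw [List.length_ofFn, IsLocalization.AtPrime.ringKrullDim_eq_height J L,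
      Ideal.ofList, show {r | r ∈ List.ofFn (algebraMap P L ∘ f)} = algebraMap P L '' Set.range f by
        ext; simp, ← Ideal.map_span] at h1
    have h2 : ringKrullDim (L ⧸ (Ideal.span (Set.range f)).map (algebraMap P L)) ≤ 0 := by
      by_contra hlt
      obtain ⟨d, hd⟩ : ∃ d : ℕ, ringKrullDim (L ⧸ (Ideal.span (Set.range f)).map (algebraMap P L)) = d :=
        ⟨_, (IsRegularLocalRing.spanFinrank_maximalIdeal (R := L ⧸ _)).symm⟩
      obtain ⟨t, ht⟩ : ∃ t : ℕ, J.height = t := by
        obtain ⟨t, ht⟩ := ENat.ne_top_iff_exists.1 (Ideal.height_ne_top (RingHom.ker_ne_top π))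
        exact ⟨t, ht.symm⟩
      rw [hd, ht] at h1
      rw [ht] at hht
      rw [hd] at hlt
      have e1 : d + h = t := by exact_mod_cast h1
      have e2 : t ≤ h := by exact_mod_cast hht
      exact hlt (by exact_mod_cast (show d ≤ 0 by omega))
    have h3 : maximalIdeal (L ⧸ (Ideal.span (Set.range f)).map (algebraMap P L)) = ⊥ := by
      rw [← Submodule.spanFinrank_eq_zero_iff_eq_bot (IsNoetherian.noetherian _)]
      have := (IsRegularLocalRing.spanFinrank_maximalIdeal
        (R := L ⧸ (Ideal.span (Set.range f)).map (algebraMap P L))).trans_le h2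
      exact Nat.le_zero.1 (by exact_mod_cast this)
    refine le_antisymm (le_maximalIdeal fun htop => ?_) fun x hx => ?_
    · exact not_subsingleton (L ⧸ (Ideal.span (Set.range f)).map (algebraMap P L))
        (Ideal.Quotient.subsingleton_iff.2 htop)
    · rw [← Ideal.Quotient.eq_zero_iff_mem, ← Ideal.mem_bot, ← h3, mem_maximalIdeal, mem_nonunits_iff]
      intro hu
      haveI : IsLocalHom (Ideal.Quotient.mk ((Ideal.span (Set.range f)).map (algebraMap P L))) :=
        Ideal.Quotient.mk_surjective.isLocalHom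
      exact hx ((isUnit_map_iff (Ideal.Quotient.mk _) x).1 hu)
  have key : ∀ x ∈ J, ∃ s, π s ≠ 0 ∧ s * x ∈ Ideal.span (Set.range f) := fun x hx => by
    have h4 : algebraMap P L x ∈ (Ideal.span (Set.range f)).map (algebraMap P L) := by
      rw [hspan, ← Localization.AtPrime.map_eq_maximalIdeal]
      exact Ideal.mem_map_of_mem _ hx
    obtain ⟨s, hs, hsx⟩ := (IsLocalization.algebraMap_mem_map_algebraMap_iff J.primeCompl L _ _).mp h4
    exact ⟨s, hs, hsx⟩
  obtain ⟨G, hG⟩ := J.fg_of_isNoetherianRing
  choose s hs hsx using fun x : {x // x ∈ G} => key x (hG ▸ Submodule.subset_span x.2)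
  refine ⟨∏ x, s x, by rw [map_prod]; exact Finset.prod_ne_zero_iff.2 fun x _ => hs x, fun x hx => ?_⟩
  rw [← hG] at hx
  induction hx using Submodule.span_induction with
  | mem y hy =>
    rw [← Finset.mul_prod_erase _ _ (Finset.mem_univ (⟨y, hy⟩ : {x // x ∈ G})), mul_right_comm]
    exact Ideal.mul_mem_right _ _ (hsx ⟨y, hy⟩)
  | zero => simp
  | add a b _ _ ha hb => rw [mul_add]; exact add_mem ha hb
  | smul c a _ ha => rw [smul_eq_mul, mul_left_comm]; exact Ideal.mul_mem_left _ _ ha

omit [IsRegularRing P] in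
/-- The Jacobian criterion for a quotient of a regular ring over `P → R`. -/
theorem isRegularLocalRing_of_jacobian {h : ℕ} (f : Fin h → P) (D : Fin h → IDer P) (hf : ∀ i, π (f i) = 0)
    {s : P} (hsJ : ∀ x ∈ RingHom.ker π, s * x ∈ Ideal.span (Set.range f))
    {C C' : Type u} [CommRing C] [CommRing C'] (g : P →+* C) (D' : Fin h → IDer C)
    (hD : ∀ i x, D' i (g x) = g (D i x)) (ψ : C →+* C') (hψ : Function.Surjective ψ)
    (hker : RingHom.ker ψ = (RingHom.ker π).map g) (Q : Ideal C') [Q.IsPrime]
    [IsRegularLocalRing (Localization.AtPrime (Q.comap ψ))]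
    (hs : ψ (g s) ∉ Q) (hdet : ψ (g (Matrix.of fun i j => D i (f j)).det) ∉ Q) :
    IsRegularLocalRing (Localization.AtPrime Q) := by
  classical
  let Q' := Q.comap ψ
  let L := Localization.AtPrime Q'
  have hfQ : ∀ i, g (f i) ∈ Q' := fun i => by
    have : g (f i) ∈ RingHom.ker ψ := hker ▸ Ideal.mem_map_of_mem g (hf i)
    show ψ (g (f i)) ∈ Q
    rw [RingHom.mem_ker.1 this]; exact Q.zero_mem
  haveI := (isRegularLocalRing_quotient_of_det Q' (g ∘ f) D' hfQ (by
    rw [show (Matrix.of fun i j => D' i ((g ∘ f) j)) = g.mapMatrix (Matrix.of fun i j => D i (f j)) from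
      Matrix.ext fun i j => hD i (f j), ← RingHom.map_det]
    exact hdet))
  let Φ : L →+* Localization.AtPrime Q := Localization.localRingHom Q' Q ψ rfl
  have hmap : Q'.primeCompl.map ψ = Q.primeCompl := by
    ext y
    refine ⟨by rintro ⟨x, hx, rfl⟩; exact hx, fun hy => ?_⟩
    obtain ⟨x, rfl⟩ := hψ y
    exact ⟨x, hy, rfl⟩
  have hΦ : Function.Surjective Φ := by
    haveI : IsLocalization (Q'.primeCompl.map ψ) (Localization.AtPrime Q) := by rw [hmap]; infer_instance
    exact IsLocalization.map_surjective_of_surjective Q'.primeCompl L (Localization.AtPrime Q) hψ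
  have hkerΦ : RingHom.ker Φ = (Ideal.span (Set.range (g ∘ f))).map (algebraMap C L) := by
    rw [show RingHom.ker Φ = (RingHom.ker ψ).map (algebraMap C L) from IsLocalization.ker_map _ _ hmap, hker]
    refine le_antisymm ?_ ?_
    · rw [Ideal.map_map, Ideal.map_le_iff_le_comap]
      intro x hx
      rw [Ideal.mem_comap, RingHom.comp_apply]
      have h1 : algebraMap C L (g s) * algebraMap C L (g x) ∈ (Ideal.span (Set.range (g ∘ f))).map (algebraMap C L) := by
        rw [← map_mul, ← map_mul]
        refine Ideal.mem_map_of_mem _ ?_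
        rw [Set.range_comp, ← Ideal.map_span]
        exact Ideal.mem_map_of_mem g (hsJ x hx)
      exact (Ideal.unit_mul_mem_iff_mem _ (IsLocalization.map_units L (⟨g s, hs⟩ : Q'.primeCompl))).mp h1
    · refine Ideal.map_mono (Ideal.span_le.2 ?_)
      rintro _ ⟨i, rfl⟩
      exact Ideal.mem_map_of_mem g (hf i)
  exact IsRegularLocalRing.of_ringEquiv
    ((Ideal.quotEquivOfEq hkerΦ.symm).trans (RingHom.quotientKerEquivOfSurjective hΦ))

/-- The generic formal fibres of localizations of `R` are regular. -/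
theorem isRegularLocalRing_cpl_atPrime_of_jacobian {h : ℕ} (f : Fin h → P) (D : Fin h → IDer P)
    (hπ : Function.Surjective π) (hf : ∀ i, π (f i) = 0)
    (hdet : π (Matrix.of fun i j => D i (f j)).det ≠ 0) (hht : (RingHom.ker π).height ≤ h)
    (n : Ideal R) [n.IsPrime] (Q : Ideal (EGA4.Cpl (Localization.AtPrime n))) [Q.IsPrime]
    (hQ : Q.comap (algebraMap R (EGA4.Cpl (Localization.AtPrime n))) = ⊥) :
    IsRegularLocalRing (Localization.AtPrime Q) := by
  classical
  obtain ⟨s, hs, hsJ⟩ := exists_mul_mem_span π f D hf hdet hht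
  let n' := n.comap π
  let Pn := Localization.AtPrime n'
  let Rn := Localization.AtPrime n
  haveI : IsRegularLocalRing Pn := IsRegularRing.isRegularLocalRing_localization n'
  choose D₁ hD₁ using fun i => exists_derivation_localization n'.primeCompl Pn (D i)
  choose D₂ hD₂ using fun i => exists_derivation_completion (maximalIdeal Pn) (D₁ i)
  let πn : Pn →+* Rn := Localization.localRingHom n' n π rfl
  have hmap : n'.primeCompl.map π = n.primeCompl := by
    ext y
    refine ⟨by rintro ⟨x, hx, rfl⟩; exact hx, fun hy => ?_⟩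
    obtain ⟨x, rfl⟩ := hπ y
    exact ⟨x, hy, rfl⟩
  have hπn : Function.Surjective πn := by
    haveI : IsLocalization (n'.primeCompl.map π) Rn := by rw [hmap]; infer_instance
    exact IsLocalization.map_surjective_of_surjective n'.primeCompl Pn Rn hπ
  let I : Ideal Pn := (RingHom.ker π).map (algebraMap P Pn)
  have hkern : RingHom.ker πn = I := IsLocalization.ker_map _ _ hmap
  let e : Pn ⧸ I ≃+* Rn := (Ideal.quotEquivOfEq hkern.symm).trans (RingHom.quotientKerEquivOfSurjective hπn)
  haveI : Nontrivial (Pn ⧸ I) := e.toEquiv.nontrivial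
  obtain ⟨σ, hσ⟩ := Groth.PropsBasic.GRingLocal.exists_cplEquiv (maximalIdeal (Pn ⧸ I)) (maximalIdeal Rn) e
    (IsLocalRing.eq_maximalIdeal (Ideal.map_isMaximal_of_equiv e))
  let C := EGA4.Cpl Pn
  let g : P →+* C := (algebraMap Pn C).comp (algebraMap P Pn)
  let ψ : C →+* EGA4.Cpl Rn := σ.toRingHom.comp (cplQuot Pn I)
  have hψg : ∀ x, ψ (g x) = algebraMap R (EGA4.Cpl Rn) (π x) := fun x => by
    show σ (cplQuot Pn I (algebraMap Pn C (algebraMap P Pn x))) = _
    rw [cplQuot_algebraMap]
    erw [hσ]
    rw [IsScalarTower.algebraMap_apply R Rn (EGA4.Cpl Rn)]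
    exact congrArg _ (Localization.localRingHom_to_map n' n π rfl x)
  have hgen : ∀ x, π x ≠ 0 → ψ (g x) ∉ Q := fun x hx hQx => hx (by
    rw [hψg] at hQx
    exact (Ideal.mem_bot).1 (hQ ▸ (hQx : π x ∈ Q.comap (algebraMap R _))))
  haveI : IsRegularLocalRing C := (Groth.Calg1.isRegularLocalRing_adicCompletion_iff Pn).mp inferInstance
  haveI := Groth.Ega4Algebra1.isRegularLocalRing_localization_atPrime C (Q.comap ψ)
  refine isRegularLocalRing_of_jacobian π f D hf hsJ g D₂ (fun i x => ?_) ψ
    (σ.surjective.comp (cplQuot_surjective Pn I)) ?_ Q (hgen s hs) (hgen _ hdet)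
  · show D₂ i (algebraMap Pn C (algebraMap P Pn x)) = algebraMap Pn C (algebraMap P Pn (D i x))
    rw [hD₂, hD₁]
  · rw [RingHom.ker_comp_of_injective _ σ.injective, ker_cplQuot, Ideal.map_map]

end Groth.Ega4b
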