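import Groth.Agent.Hensel1.StrictBaseChange
import Groth.Agent.Hensel1.EssEt
import Mathlib

/-! Essentially étale local algebras over a henselian local ring are finite. -/

set_option autoImplicit false
universe u

open IsLocalRing

namespace Groth.Ega4Algebra2

theorem finite_of_isEssentiallyEtale {A E : Type u} [CommRing A] [HenselianLocalRing A] [CommRing E]
    [IsLocalRing E] [Algebra A E] [IsLocalHom (algebraMap A E)] (h : EGA4loc.IsEssentiallyEtale A E) :
    Module.Finite A E := by
  obtain ⟨C, _, _, q, _, hC, -, ⟨ee⟩⟩ := h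
  let j : C →ₐ[A] E := ee.symm.toAlgHom.comp (IsScalarTower.toAlgHom A C _)
  haveI : ((maximalIdeal E).comap j.toRingHom).IsPrime := Ideal.IsPrime.comap _
  haveI : Algebra.QuasiFiniteAt A ((maximalIdeal E).comap j.toRingHom) :=
    Algebra.QuasiFinite.of_isLocalization (S := C) ((maximalIdeal E).comap j.toRingHom).primeCompl
  have hint : ∀ c, IsIntegral A (j c) := fun c =>
    Groth.Hensel1.isIntegral_of_quasiFiniteAt_centre A A C E j.toRingHom (by
      rw [Algebra.algebraMap_self, RingHom.comp_id]; exact j.comp_algebraMap) c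
  haveI : Algebra.IsIntegral A j.range := ⟨fun ⟨x, c, hc⟩ => by
    rw [← isIntegral_algHom_iff j.range.val Subtype.val_injective]
    exact hc ▸ hint c⟩
  obtain ⟨-, hloc⟩ := Groth.Hensel1.henselian_of_isIntegral_subalgebra A E j.range
  haveI : Algebra.FiniteType A j.range :=
    Algebra.FiniteType.of_surjective j.rangeRestrict (AlgHom.rangeRestrict_surjective j)
  haveI : Module.Finite A j.range := Algebra.IsIntegral.finite
  refine Module.Finite.of_surjective j.range.val.toLinearMap fun e => ?_
  obtain ⟨c, d, hcd⟩ := IsLocalization.exists_mk'_eq q.primeCompl (ee e)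
  have h1 : e * j d = j c := by
    apply ee.injective
    show ee (e * ee.symm (algebraMap C _ (d : C))) = ee (ee.symm (algebraMap C _ c))
    rw [map_mul, AlgEquiv.apply_symm_apply, AlgEquiv.apply_symm_apply, ← hcd, IsLocalization.mk'_spec]
  have hu : IsUnit (⟨j d, d, rfl⟩ : j.range) := by
    refine hloc.map_nonunit _ ?_
    exact (IsLocalization.map_units (Localization.AtPrime q) d).map ee.symm
  obtain ⟨v, hv⟩ := hu.exists_right_inv
  have hv' : j d * (v : E) = 1 := congrArg Subtype.val hv
  refine ⟨⟨e, ?_⟩, rfl⟩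
  rw [← mul_one e, ← hv', ← mul_assoc, h1]
  exact j.range.mul_mem ⟨c, rfl⟩ v.2

end Groth.Ega4Algebra2
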