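import Groth.Agent.Calg4.RegularFlat
import Mathlib

/-!
# Extension of derivations to localizations and completions; Jacobian regularity criterion
-/

set_option autoImplicit false

universe u

open IsLocalRing

namespace Groth.Ega4b.Jac

/-- Derivations of a ring into itself, with the canonical `ℤ`-algebra structure. -/
abbrev IDer (P : Type u) [CommRing P] := @Derivation ℤ P P _ _ _ (Ring.toIntAlgebra P) _ _

/-- Forget the base of a derivation. -/
noncomputable def toIDer {R P : Type u} [CommRing R] [CommRing P] [Algebra R P] (D : Derivation R P P) : IDer P :=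
  D.restrictScalars ℤ

@[simp] lemma toIDer_apply {R P : Type u} [CommRing R] [CommRing P] [Algebra R P] (D : Derivation R P P) (x : P) :
    toIDer D x = D x := rfl

/-- A derivation from an additive map satisfying the Leibniz rule. -/
def mkIDer {P : Type u} [CommRing P] (f : P → P) (hadd : ∀ a b, f (a + b) = f a + f b)
    (hmul : ∀ a b, f (a * b) = a * f b + b * f a) : IDer P :=
  Derivation.mk' (AddMonoidHom.mk' f hadd).toIntLinearMap hmul

@[simp] lemma mkIDer_apply {P : Type u} [CommRing P] (f : P → P) (hadd : ∀ a b, f (a + b) = f a + f b)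
    (hmul : ∀ a b, f (a * b) = a * f b + b * f a) (x : P) : mkIDer f hadd hmul x = f x := rfl

lemma IDer_mul {P : Type u} [CommRing P] (D : IDer P) (a b : P) : D (a * b) = a * D b + b * D a := D.leibniz a b

lemma IDer_pow_char {P : Type u} [CommRing P] (p : ℕ) [CharP P p] (D : IDer P) (x : P) : D (x ^ p) = 0 := by
  rw [D.leibniz_pow, ← Nat.cast_smul_eq_nsmul P p, CharP.cast_eq_zero, zero_smul]

/-- A derivation extends to a localization. -/
theorem exists_derivation_localization {P : Type u} [CommRing P] (M : Submonoid P) (L : Type u) [CommRing L]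
    [Algebra P L] [IsLocalization M L] (D : IDer P) :
    ∃ D' : IDer L, ∀ x, D' (algebraMap P L x) = algebraMap P L (D x) := by
  let g : P →+* TrivSqZeroExt L L :=
    { toFun := fun x => TrivSqZeroExt.inl (algebraMap P L x) + TrivSqZeroExt.inr (algebraMap P L (D x))
      map_one' := by ext <;> simp only [TrivSqZeroExt.snd_mul, TrivSqZeroExt.fst_mul, TrivSqZeroExt.snd_add, TrivSqZeroExt.fst_add, TrivSqZeroExt.fst_inl, TrivSqZeroExt.fst_inr, TrivSqZeroExt.snd_inl, TrivSqZeroExt.snd_inr, TrivSqZeroExt.fst_one, TrivSqZeroExt.snd_one, smul_eq_mul, map_mul, map_add, map_one, add_zero, zero_add, Derivation.leibniz, Derivation.map_one_eq_zero, map_zero, op_smul_eq_mul]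
      map_zero' := by ext <;> simp
      map_add' := fun x y => by ext <;> simp only [TrivSqZeroExt.snd_mul, TrivSqZeroExt.fst_mul, TrivSqZeroExt.snd_add, TrivSqZeroExt.fst_add, TrivSqZeroExt.fst_inl, TrivSqZeroExt.fst_inr, TrivSqZeroExt.snd_inl, TrivSqZeroExt.snd_inr, TrivSqZeroExt.fst_one, TrivSqZeroExt.snd_one, smul_eq_mul, map_mul, map_add, map_one, add_zero, zero_add, Derivation.leibniz, Derivation.map_one_eq_zero, map_zero, op_smul_eq_mul]
      map_mul' := fun x y => by
        ext <;> simp only [TrivSqZeroExt.snd_mul, TrivSqZeroExt.fst_mul, TrivSqZeroExt.snd_add, TrivSqZeroExt.fst_add, TrivSqZeroExt.fst_inl, TrivSqZeroExt.fst_inr, TrivSqZeroExt.snd_inl, TrivSqZeroExt.snd_inr, TrivSqZeroExt.fst_one, TrivSqZeroExt.snd_one, smul_eq_mul, map_mul, map_add, map_one, add_zero, zero_add, Derivation.leibniz, Derivation.map_one_eq_zero, map_zero, op_smul_eq_mul] <;> ring }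
  have hg : ∀ s : M, IsUnit (g s) := fun s => TrivSqZeroExt.isUnit_iff_isUnit_fst.mpr (by
    show IsUnit (TrivSqZeroExt.inl (algebraMap P L (s : P)) + TrivSqZeroExt.inr (algebraMap P L (D s)) :
      TrivSqZeroExt L L).fst
    simpa using IsLocalization.map_units L s)
  let h : L →+* TrivSqZeroExt L L := IsLocalization.lift hg
  have hfst : ∀ x, (h x).fst = x := by
    have : (TrivSqZeroExt.fstHom ℤ L L).toRingHom.comp h = RingHom.id L := by
      refine IsLocalization.ringHom_ext M (RingHom.ext fun x => ?_)
      show (h (algebraMap P L x)).fst = algebraMap P L x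
      rw [IsLocalization.lift_eq]
      show (TrivSqZeroExt.inl (algebraMap P L x) + TrivSqZeroExt.inr (algebraMap P L (D x)) : TrivSqZeroExt L L).fst = _
      simp
    exact fun x => RingHom.congr_fun this x
  refine ⟨Derivation.mk' (AddMonoidHom.toIntLinearMap
      { toFun := fun x => (h x).snd, map_zero' := by simp, map_add' := fun x y => by simp })
    (fun a b => ?_), fun x => ?_⟩
  · show (h (a * b)).snd = a • (h b).snd + b • (h a).snd
    rw [map_mul, TrivSqZeroExt.snd_mul, hfst, hfst]
    simp [mul_comm]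
  · show (h (algebraMap P L x)).snd = _
    rw [IsLocalization.lift_eq]
    show (TrivSqZeroExt.inl (algebraMap P L x) + TrivSqZeroExt.inr (algebraMap P L (D x)) : TrivSqZeroExt L L).snd = _
    simp only [TrivSqZeroExt.snd_mul, TrivSqZeroExt.fst_mul, TrivSqZeroExt.snd_add, TrivSqZeroExt.fst_add, TrivSqZeroExt.fst_inl, TrivSqZeroExt.fst_inr, TrivSqZeroExt.snd_inl, TrivSqZeroExt.snd_inr, TrivSqZeroExt.fst_one, TrivSqZeroExt.snd_one, smul_eq_mul, map_mul, map_add, map_one, add_zero, zero_add, Derivation.leibniz, Derivation.map_one_eq_zero, map_zero, op_smul_eq_mul]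

/-- A derivation lowers the order by at most one. -/
theorem map_pow_succ_le {P : Type u} [CommRing P] (I : Ideal P) (D : IDer P) :
    ∀ (n : ℕ) {x : P}, x ∈ I ^ (n + 1) → D x ∈ I ^ n := by
  intro n
  induction n with
  | zero => intro x _; simp
  | succ n ih =>
    intro x hx
    rw [pow_succ] at hx
    refine Submodule.mul_induction_on hx (fun a ha b hb => ?_) (fun a b ha hb => ?_)
    · rw [D.leibniz, smul_eq_mul, smul_eq_mul]
      refine add_mem (Ideal.mul_mem_right _ _ ha) ?_
      rw [pow_succ']
      exact Ideal.mul_mem_mul hb (ih ha)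
    · rw [map_add]; exact add_mem ha hb

/-- A derivation extends to a completion. -/
theorem exists_derivation_completion {P : Type u} [CommRing P] (I : Ideal P) (D : IDer P) :
    ∃ D' : IDer (AdicCompletion I P),
      ∀ x, D' (algebraMap P (AdicCompletion I P) x) = algebraMap P (AdicCompletion I P) (D x) := by
  classical
  let C := AdicCompletion I P
  have hrep : ∀ (c : C) (n : ℕ), ∃ r : P, AdicCompletion.evalₐ I n c = Ideal.Quotient.mk _ r := fun c n =>
    ⟨_, (Ideal.Quotient.mk_surjective (AdicCompletion.evalₐ I n c)).choose_spec.symm⟩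
  choose r hr using hrep
  have hcompat : ∀ (c : C) {m n : ℕ} (_ : m ≤ n), r c m - r c n ∈ I ^ m := fun c m n hmn => by
    obtain ⟨a, rfl⟩ := AdicCompletion.mk_surjective I P c
    have e : ∀ k, a.val k - r (AdicCompletion.mk I P a) k ∈ I ^ k := fun k => by
      rw [← Ideal.Quotient.eq, ← hr, AdicCompletion.evalₐ_mk]
    have h1 : a.val m - a.val n ∈ I ^ m := by
      have := SModEq.sub_mem.1 (a.property hmn)
      rwa [smul_eq_mul, Ideal.mul_top] at this
    rw [show r (AdicCompletion.mk I P a) m - r (AdicCompletion.mk I P a) n =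
      (a.val m - a.val n) + (a.val n - r (AdicCompletion.mk I P a) n) - (a.val m - r (AdicCompletion.mk I P a) m) by ring]
    exact sub_mem (add_mem h1 (Ideal.pow_le_pow_right hmn (e n))) (e m)
  let f : C → C := fun c => AdicCompletion.mk I P ⟨fun n => D (r c (n + 1)), fun {m n} hmn => by
    rw [SModEq.sub_mem, smul_eq_mul, Ideal.mul_top, ← map_sub]
    exact map_pow_succ_le I D m (hcompat c (by omega))⟩
  have hev : ∀ (c : C) (n : ℕ) (y : P), AdicCompletion.evalₐ I (n + 1) c = Ideal.Quotient.mk _ y →
      AdicCompletion.evalₐ I n (f c) = Ideal.Quotient.mk _ (D y) := fun c n y hy => by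
    show AdicCompletion.evalₐ I n (AdicCompletion.mk I P _) = _
    rw [AdicCompletion.evalₐ_mk, Ideal.Quotient.eq]
    show D (r c (n + 1)) - D y ∈ _
    rw [← map_sub]
    refine map_pow_succ_le I D n ?_
    rw [← Ideal.Quotient.eq, ← hr, hy]
  have hadd : ∀ a b, f (a + b) = f a + f b := fun a b => AdicCompletion.ext_evalₐ fun n => by
    rw [map_add, hev a n _ (hr a _), hev b n _ (hr b _),
      hev (a + b) n (r a (n + 1) + r b (n + 1)) (by rw [map_add, hr a, hr b, map_add]), ← map_add, map_add]
  refine ⟨Derivation.mk' (AddMonoidHom.toIntLinearMap (AddMonoidHom.mk' f hadd)) (fun a b => ?_), fun x => ?_⟩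
  · show f (a * b) = a • f b + b • f a
    refine AdicCompletion.ext_evalₐ fun n => ?_
    have ha : AdicCompletion.evalₐ I n a = Ideal.Quotient.mk _ (r a (n + 1)) := by
      rw [hr a n, Ideal.Quotient.eq]; exact hcompat a (Nat.le_succ n)
    have hb : AdicCompletion.evalₐ I n b = Ideal.Quotient.mk _ (r b (n + 1)) := by
      rw [hr b n, Ideal.Quotient.eq]; exact hcompat b (Nat.le_succ n)
    have hab : AdicCompletion.evalₐ I (n + 1) (a * b) = Ideal.Quotient.mk _ (r a (n + 1) * r b (n + 1)) := by
      rw [map_mul (AdicCompletion.evalₐ I (n + 1)), hr a, hr b, ← map_mul]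
    have h1 : AdicCompletion.evalₐ I n (a • f b + b • f a) =
        AdicCompletion.evalₐ I n a * AdicCompletion.evalₐ I n (f b) +
          AdicCompletion.evalₐ I n b * AdicCompletion.evalₐ I n (f a) := by
      simp only [smul_eq_mul, map_add, map_mul]
    rw [hev (a * b) n _ hab, h1, hev a n _ (hr a _), hev b n _ (hr b _), ha, hb, D.leibniz, smul_eq_mul,
      smul_eq_mul, map_add, ← map_mul, ← map_mul]
  · show f (algebraMap P C x) = algebraMap P C (D x)
    refine AdicCompletion.ext_evalₐ fun n => ?_
    rw [hev _ n x (by rw [AlgHom.commutes]; rfl), AlgHom.commutes]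
    rfl

/-- The Jacobian criterion: elements with invertible Jacobian at a regular prime cut out a regular quotient
and form a regular sequence. -/
theorem isRegularLocalRing_quotient_of_det' {C : Type u} [CommRing C] (Q : Ideal C) [Q.IsPrime]
    [IsRegularLocalRing (Localization.AtPrime Q)] {h : ℕ} (f : Fin h → C) (δ : Fin h → IDer C)
    (hf : ∀ i, f i ∈ Q) (hdet : (Matrix.of fun i j => δ i (f j)).det ∉ Q) :
    IsRegularLocalRing (Localization.AtPrime Q ⧸
      (Ideal.span (Set.range f)).map (algebraMap C (Localization.AtPrime Q))) ∧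
    RingTheory.Sequence.IsRegular (Localization.AtPrime Q)
      (List.ofFn (algebraMap C (Localization.AtPrime Q) ∘ f)) := by
  classical
  let L := Localization.AtPrime Q
  have hspan : (Ideal.span (Set.range f)).map (algebraMap C L) =
      Ideal.span (Set.range (algebraMap C L ∘ f)) := by rw [Ideal.map_span, ← Set.range_comp]
  rw [hspan]
  refine Groth.Calg4.isRegularLocalRing_quotient_of_indep h L (algebraMap C L ∘ f) (fun i => ?_) ?_
  · rw [← Localization.AtPrime.map_eq_maximalIdeal]
    exact Ideal.mem_map_of_mem _ (hf i)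
  intro c hc
  obtain ⟨s, hs⟩ := IsLocalization.exist_integer_multiples Q.primeCompl (Finset.univ) c
  choose c' hc' using fun i => hs i (Finset.mem_univ i)
  have h1 : algebraMap C L (∑ i, c' i * f i) ∈ (Q ^ 2).map (algebraMap C L) := by
    rw [Ideal.map_pow, Localization.AtPrime.map_eq_maximalIdeal, map_sum,
      show ∑ i, algebraMap C L (c' i * f i) = algebraMap C L (s : C) * ∑ i, c i * (algebraMap C L ∘ f) i by
        rw [Finset.mul_sum]
        refine Finset.sum_congr rfl fun i _ => ?_
        rw [map_mul, hc' i, Algebra.smul_def, Function.comp_apply, mul_assoc]]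
    exact Ideal.mul_mem_left _ _ hc
  obtain ⟨t, ht, htm⟩ := (IsLocalization.algebraMap_mem_map_algebraMap_iff Q.primeCompl L (Q ^ 2) _).mp h1
  have hmem : ∀ j, (Matrix.of fun i j => δ i (f j)).mulVec c' j ∈ Q := fun j => by
    have h2 : δ j (t * ∑ i, c' i * f i) ∈ Q := by simpa using map_pow_succ_le Q (δ j) 1 htm
    have hQ : ∑ i, c' i * f i ∈ Q := Ideal.sum_mem _ fun i _ => Q.mul_mem_left _ (hf i)
    rw [(δ j).leibniz, smul_eq_mul, smul_eq_mul] at h2
    have h3 : δ j (∑ i, c' i * f i) ∈ Q :=
      (‹Q.IsPrime›.mem_or_mem ((Q.add_mem_iff_left (Q.mul_mem_right _ hQ)).mp h2)).resolve_left ht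
    rw [map_sum] at h3
    have h4 : ∑ i, c' i * δ j (f i) ∈ Q := by
      have h5 : ∑ i, f i * δ j (c' i) ∈ Q := Ideal.sum_mem _ fun i _ => Q.mul_mem_right _ (hf i)
      simp only [Derivation.leibniz, smul_eq_mul, Finset.sum_add_distrib] at h3
      exact (Q.add_mem_iff_left h5).mp h3
    simpa [Matrix.mulVec, dotProduct, mul_comm] using h4
  have hzero : ∀ i, c' i ∈ Q := by
    let π := Ideal.Quotient.mk Q
    have hM : ((Matrix.of fun i j => δ i (f j)).map π).mulVec (π ∘ c') = 0 := funext fun j => by
      rw [← RingHom.map_mulVec]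
      exact Ideal.Quotient.eq_zero_iff_mem.mpr (hmem j)
    have hd : ((Matrix.of fun i j => δ i (f j)).map π).det ≠ 0 := by
      rw [← RingHom.mapMatrix_apply, ← RingHom.map_det, Ne, Ideal.Quotient.eq_zero_iff_mem]
      exact hdet
    have := Matrix.eq_zero_of_mulVec_eq_zero hd hM
    exact fun i => Ideal.Quotient.eq_zero_iff_mem.mp (congrFun this i)
  intro i
  have h6 : algebraMap C L (s : C) * c i ∈ maximalIdeal L := by
    rw [← Localization.AtPrime.map_eq_maximalIdeal, ← Algebra.smul_def]
    have h7 := hc' i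
    rw [show (s : C) • c i = algebraMap C L (c' i) from h7.symm]
    exact Ideal.mem_map_of_mem _ (hzero i)
  exact (Ideal.unit_mul_mem_iff_mem _ (IsLocalization.map_units L s)).mp h6

/-- The Jacobian criterion: elements with invertible Jacobian at a regular prime cut out a regular quotient. -/
theorem isRegularLocalRing_quotient_of_det {C : Type u} [CommRing C] (Q : Ideal C) [Q.IsPrime]
    [IsRegularLocalRing (Localization.AtPrime Q)] {h : ℕ} (f : Fin h → C) (δ : Fin h → IDer C)
    (hf : ∀ i, f i ∈ Q) (hdet : (Matrix.of fun i j => δ i (f j)).det ∉ Q) :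
    IsRegularLocalRing (Localization.AtPrime Q ⧸
      (Ideal.span (Set.range f)).map (algebraMap C (Localization.AtPrime Q))) :=
  (isRegularLocalRing_quotient_of_det' Q f δ hf hdet).1

end Groth.Ega4b.Jac
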