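import Groth.Agent.Ega4Algebra2.JacobianBound
import Groth.Agent.Ega4Algebra2.PowerSeriesSubfield
import Groth.Agent.Calg2.CompleteStructure
import Groth.Agent.Calg8.IntegralDimEq
import Groth.Agent.Ega4Algebra1.CatenaryDim
import Groth.Agent.Ega4Algebra1.RegularLocal
import Groth.Agent.Ega41Flat.PowerSeries
import Mathlib

/-!
# Nagata's Jacobian criterion for complete Noetherian local domains
-/

set_option autoImplicit false

universe u

open MvPowerSeries IsLocalRing Groth.SGA7.PS

namespace Groth.Ega4b.Jac

/-- The height of a prime plus the dimension of the quotient is at most the dimension. -/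
theorem height_add_ringKrullDim_quotient_le {P : Type u} [CommRing P] (J : Ideal P) [hJ : J.IsPrime] :
    (J.height : WithBot ℕ∞) + ringKrullDim (P ⧸ J) ≤ ringKrullDim P := by
  haveI : Nonempty (PrimeSpectrum P) := ⟨⟨J, hJ⟩⟩
  rw [Groth.Ega4Algebra1.ringKrullDim_quotient_eq_coheight P ⟨J, hJ⟩, ← WithBot.coe_add,
    show J.height = Order.height (⟨J, hJ⟩ : PrimeSpectrum P) from (⟨J, hJ⟩ : PrimeSpectrum P).height_eq_orderHeight, ringKrullDim,
    Order.krullDim_eq_iSup_height_add_coheight_of_nonempty]
  exact WithBot.coe_le_coe.2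
    (le_iSup (fun q : PrimeSpectrum P => Order.height q + Order.coheight q) (⟨J, hJ⟩ : PrimeSpectrum P))

variable {R : Type u} [CommRing R] [IsDomain R] [IsLocalRing R] [IsNoetherianRing R]

omit [IsLocalRing R] in
lemma derivation_eq_zero_of_charZero [CharZero R] {Q : Type u} [CommRing Q] (g : Q →+* R)
    (hinj : Function.Injective g) (hint : g.IsIntegral) (δ : IDer R) (hδ : ∀ z, δ (g z) = 0) (r : R) :
    δ r = 0 := by
  classical
  haveI : IsDomain Q := hinj.isDomain g
  haveI : CharZero Q := ⟨fun a b h => Nat.cast_injective (R := R) (by rw [← map_natCast g, ← map_natCast g, h])⟩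
  letI := g.toAlgebra
  have hex : ∃ (n : ℕ) (F : Polynomial Q), F.natDegree = n ∧ F ≠ 0 ∧ Polynomial.aeval r F = 0 := by
    obtain ⟨F, hF, hr⟩ := hint r
    exact ⟨_, F, rfl, hF.ne_zero, hr⟩
  obtain ⟨F, hFn, hF0, hFr⟩ := Nat.find_spec hex
  have hd : F.natDegree ≠ 0 := fun h => by
    obtain ⟨c, rfl⟩ := Polynomial.natDegree_eq_zero.1 h
    rw [Polynomial.aeval_C] at hFr
    exact hF0 (by rw [(map_eq_zero_iff _ hinj).1 hFr, map_zero])
  have hF' : Polynomial.aeval r (Polynomial.derivative F) ≠ 0 := fun h =>
    Nat.find_min hex (hFn ▸ Polynomial.natDegree_derivative_lt hd)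
      ⟨_, rfl, fun h0 => hd (Polynomial.natDegree_eq_zero_of_derivative_eq_zero h0), h⟩
  have h1 : δ (Polynomial.aeval r F) = Polynomial.aeval r (Polynomial.derivative F) * δ r := by
    clear hFn hF0 hFr hd hF'
    induction F using Polynomial.induction_on' with
    | add a b ha hb => simp only [map_add, ha, hb, add_mul]
    | monomial n c =>
      rw [Polynomial.derivative_monomial, Polynomial.aeval_monomial, Polynomial.aeval_monomial, IDer_mul,
        show δ (algebraMap Q R c) = 0 from hδ c, δ.leibniz_pow, map_mul, map_natCast]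
      simp only [nsmul_eq_mul, smul_eq_mul]
      ring
  rw [hFr, map_zero] at h1
  exact (mul_eq_zero.1 h1.symm).resolve_left hF'

lemma derivation_image_prod_eq_zero {Λ : Type u} [CommRing Λ] {d : ℕ} (g : MvPowerSeries (Fin d) Λ →+* R)
    (δ : IDer R) (c : Λ) (D : Fin d →₀ ℕ) (hc : δ (g (C c)) = 0)
    (hX : ∀ i, D i ≠ 0 → δ (g (X i) ^ D i) = 0) : δ (g (monomial D c)) = 0 := by
  classical
  rw [monomial_eq_mul_prod, map_mul, map_prod, IDer_mul, hc, mul_zero, add_zero]
  suffices ∀ s : Finset (Fin d), δ (∏ i ∈ s, g (X i ^ D i)) = 0 by rw [this, mul_zero]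
  intro s
  induction s using Finset.induction with
  | empty => rw [Finset.prod_empty, Derivation.map_one_eq_zero]
  | insert a s ha ih =>
    rw [Finset.prod_insert ha, IDer_mul, ih, mul_zero, zero_add, map_pow]
    rcases eq_or_ne (D a) 0 with h | h
    · rw [h, pow_zero, Derivation.map_one_eq_zero, mul_zero]
    · rw [hX a h, mul_zero]

variable {Λ : Type u} [CommRing Λ] {d n : ℕ}

set_option maxHeartbeats 1000000 in
theorem exists_jacobian_charZero [CharZero R] [IsDomain Λ] [IsNoetherianRing Λ]
    (g : MvPowerSeries (Fin d) Λ →+* R) (hinj : Function.Injective g) (hint : g.IsIntegral)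
    (hg : ∀ i, g (X i) ∈ maximalIdeal R)
    (π : MvPowerSeries (Fin n) Λ →+* R) (hπ : Function.Surjective π) (hC : ∀ c, π (C c) = g (C c)) {h : ℕ}
    (hh : h + d ≤ n) :
    ∃ (f : Fin h → MvPowerSeries (Fin n) Λ) (D : Fin h → IDer (MvPowerSeries (Fin n) Λ)),
      (∀ i, π (f i) = 0) ∧ π (Matrix.of fun i j => D i (f j)).det ≠ 0 := by
  classical
  choose y hy using fun l : Fin d => hπ (g (X l))
  refine exists_jacobian_of_bound (ι := ULift.{u} (Fin n)) (κ := ULift.{u} (Fin d)) π hπ
    (fun i => toIDer (pderiv Λ i.down)) (fun l => y l.down) (by simpa using hh) fun δ w hδ hkill => ?_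
  have hδC : ∀ c, δ (g (C c)) = 0 := fun c => by
    rw [← hC, hδ]
    exact Finset.sum_eq_zero fun i _ => by rw [toIDer_apply, pderiv_C, map_zero, mul_zero]
  have hδg : ∀ z, δ (g z) = 0 := fun z => derivation_image_eq_zero g hg δ z fun D =>
    derivation_image_prod_eq_zero g δ _ D (hδC _) fun l _ => by
      have h0 : δ (g (X l)) = 0 := hy l ▸ hkill ⟨l⟩
      rw [δ.leibniz_pow, h0, smul_zero, smul_zero]
  funext i
  have h1 := hδ (X i.down)
  rw [derivation_eq_zero_of_charZero g hinj hint δ hδg, Finset.sum_eq_single i] at h1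
  · simpa using h1.symm
  · intro j _ hj
    rw [toIDer_apply, pderiv_X_of_ne (fun h => hj (ULift.down_injective h.symm)), map_zero, mul_zero]
  · exact fun hi => absurd (Finset.mem_univ i) hi

variable {k : Type u} [Field k]

set_option maxHeartbeats 1000000 in
theorem exists_jacobian_charP (p : ℕ) [hp : Fact p.Prime] [CharP R p]
    (g : MvPowerSeries (Fin d) k →+* R) (hinj : Function.Injective g) (hfin : g.Finite)
    (hg : ∀ i, g (X i) ∈ maximalIdeal R)
    (π : MvPowerSeries (Fin n) k →+* R) (hπ : Function.Surjective π) (hC : ∀ c, π (C c) = g (C c)) {h : ℕ}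
    (hh : h + d ≤ n) :
    ∃ (f : Fin h → MvPowerSeries (Fin n) k) (D : Fin h → IDer (MvPowerSeries (Fin n) k)),
      (∀ i, π (f i) = 0) ∧ π (Matrix.of fun i j => D i (f j)).det ≠ 0 := by
  classical
  let Q := MvPowerSeries (Fin d) k
  let K := FractionRing R
  let L := FractionRing Q
  have hRK : Function.Injective (algebraMap R K) := IsFractionRing.injective R K
  haveI : CharP k p :=
    ((g.comp C).charP_iff (hinj.comp C_injective) p).mpr inferInstance
  haveI : CharP K p := charP_of_injective_ringHom hRK p
  obtain ⟨B, δB, hδ, hker, hB⟩ := exists_pBasis_derivations p k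
  let ψ : L →+* K := IsFractionRing.lift (show Function.Injective ((algebraMap R K).comp g) from hRK.comp hinj)
  have hψ : ∀ z : Q, ψ (algebraMap Q L z) = algebraMap R K (g z) := fun z =>
    IsFractionRing.lift_algebraMap (show Function.Injective ((algebraMap R K).comp g) from hRK.comp hinj) z
  letI : Algebra L K := ψ.toAlgebra
  haveI : CharP L p := (ψ.charP_iff ψ.injective p).mpr inferInstance
  -- `K` is finite over `L`
  letI := g.toAlgebra
  haveI : Module.Finite Q R := hfin
  obtain ⟨G₀, hG₀⟩ := (Module.finite_def.1 (inferInstance : Module.Finite Q R))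
  haveI : FiniteDimensional L K := by
    let T : Set K := algebraMap R K '' (G₀ : Set R)
    haveI : Finite T := (G₀.finite_toSet.image _).to_subtype
    have hint : ∀ x ∈ T, IsIntegral L x := by
      rintro _ ⟨r, -, rfl⟩
      obtain ⟨F, hF, hFr⟩ := Algebra.IsIntegral.isIntegral (R := Q) r
      refine ⟨F.map (algebraMap Q L), hF.map _, ?_⟩
      rw [Polynomial.eval₂_map, show (algebraMap L K).comp (algebraMap Q L) = (algebraMap R K).comp g from
        RingHom.ext hψ, ← Polynomial.hom_eval₂]
      erw [hFr]; rw [map_zero]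
    haveI := IntermediateField.finiteDimensional_adjoin hint
    have hmem : ∀ r : R, algebraMap R K r ∈ IntermediateField.adjoin L T := by
      intro r
      have hr : r ∈ Submodule.span Q (G₀ : Set R) := hG₀ ▸ Submodule.mem_top
      induction hr using Submodule.span_induction with
      | mem x hx => exact IntermediateField.subset_adjoin L T ⟨x, hx, rfl⟩
      | zero => rw [map_zero]; exact zero_mem _
      | add a b _ _ ha hb => rw [map_add]; exact add_mem ha hb
      | smul c a _ ha =>
        rw [Algebra.smul_def, map_mul]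
        refine mul_mem ?_ ha
        rw [show algebraMap R K (algebraMap Q R c) = algebraMap L K (algebraMap Q L c) from (hψ c).symm]
        exact IntermediateField.algebraMap_mem _ _
    have htop : IntermediateField.adjoin L T = ⊤ := eq_top_iff.2 fun x _ => by
      obtain ⟨a, b, -, rfl⟩ := IsFractionRing.div_surjective R x
      exact div_mem (hmem a) (hmem b)
    exact Module.Finite.equiv ((IntermediateField.equivOfEq htop).trans IntermediateField.topEquiv).toLinearEquiv
  let v := Module.finBasis L K
  let F₀ : Subfield K := ((frobenius L p).fieldRange).map ψ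
  have hind : LinearIndependent F₀ fun i : ULift.{u} (Fin (Module.finrank L K)) => v i.down ^ p := by
    rw [Fintype.linearIndependent_iff]
    intro c hc i
    have hc' : ∀ i, ∃ a : L, ψ a ^ p = (c i : K) := fun i => by
      obtain ⟨_, ⟨a, rfl⟩, ha⟩ := (c i).2
      exact ⟨a, (map_pow ψ a p).symm.trans ha⟩
    choose a ha using hc'
    have h0 : (∑ i, a i • v i.down) ^ p = 0 := by
      rw [sum_pow_char, ← hc]
      exact Finset.sum_congr rfl fun i _ => by
        rw [Algebra.smul_def, mul_pow, Subfield.smul_def, ← ha i]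
        rfl
    have h1 := (Fintype.linearIndependent_iff.1 (v.linearIndependent.comp _ ULift.down_injective)) a
      (by simpa using pow_eq_zero_iff hp.out.ne_zero |>.1 h0) i
    exact Subtype.ext (by rw [← ha i, h1, map_zero, zero_pow hp.out.ne_zero]; rfl)
  obtain ⟨S', hS'⟩ := exists_linearIndependent_of_directed (σ := k)
    (fun S => (seriesField p B d S).map ψ)
    (fun {S T} hST => (Subfield.gc_map_comap ψ).monotone_l (seriesField_anti p B d hST)) F₀
    (fun x hx => by
      obtain ⟨z, hz, rfl⟩ := hx ∅
      obtain ⟨y, hy⟩ := exists_pow_eq_of_forall_mem_seriesField (p := p) hδ hker z fun S => by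
        obtain ⟨z', hz', hzz⟩ := hx S
        exact ψ.injective hzz ▸ hz'
      exact ⟨z, ⟨y, hy⟩, rfl⟩)
    (fun i : ULift.{u} (Fin (Module.finrank L K)) => v i.down ^ p) hind Finset.univ
  let S := S'.filter (· ∈ B)
  have hSS : seriesField p B d S' = seriesField p B d S := by
    have : B \ (S' : Set k) = B \ (S : Set k) := by
      ext x; simp only [S, Set.mem_diff, Finset.mem_coe, Finset.mem_filter]; tauto
    simp only [seriesField, pSeries, smallField, this]
  let LS := seriesField p B d S
  obtain ⟨hfinLS, hleLS⟩ := finrank_seriesField (p := p) (B := B) (d := d) hB S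
  haveI := hfinLS
  haveI : IsScalarTower LS L K := inferInstance
  haveI : FiniteDimensional LS K := FiniteDimensional.trans LS L K
  let KS : IntermediateField LS K := IntermediateField.adjoin LS (Set.range fun x : K => x ^ p)
  have hdeg : Module.finrank KS K ≤ p ^ (d + S.card) := by
    have h1 := Module.finrank_mul_finrank LS KS K
    have h2 := Module.finrank_mul_finrank LS L K
    have h3 : Module.finrank L K ≤ Module.finrank LS KS := by
      let w : ULift.{u} (Fin (Module.finrank L K)) → KS := fun i =>
        ⟨v i.down ^ p, IntermediateField.subset_adjoin LS _ ⟨_, rfl⟩⟩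
      have hw : LinearIndependent LS w := Fintype.linearIndependent_iff.2 fun c hc i => by
        have h4 := hS' (fun i => algebraMap LS K (c i)) (fun i => ⟨c i, hSS ▸ (c i).2, rfl⟩) (by
          have := congrArg (algebraMap KS K) hc
          rw [map_sum, map_zero] at this
          rw [← this]
          exact Finset.sum_congr rfl fun i _ => by rw [Algebra.smul_def, map_mul]; rfl) i (Finset.mem_univ i)
        exact (_root_.map_eq_zero _).1 h4
      simpa using hw.fintype_card_le_finrank
    have hpos : 0 < Module.finrank LS KS := Module.finrank_pos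
    have h5 : Module.finrank LS KS * Module.finrank KS K ≤ Module.finrank LS KS * Module.finrank LS L := by
      rw [h1, ← h2, mul_comm]
      exact Nat.mul_le_mul_right _ h3
    exact (Nat.le_of_mul_le_mul_left h5 hpos).trans hleLS
  haveI : CharP KS p := ((algebraMap KS K).charP_iff (algebraMap KS K).injective p).mpr inferInstance
  have hgen : IntermediateField.adjoin KS (Set.range (algebraMap R K)) = ⊤ := eq_top_iff.2 fun x _ => by
    obtain ⟨a, b, -, rfl⟩ := IsFractionRing.div_surjective R x
    exact div_mem (IntermediateField.subset_adjoin KS _ ⟨a, rfl⟩) (IntermediateField.subset_adjoin KS _ ⟨b, rfl⟩)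
  obtain ⟨G, hGR, hGtop, hGcard⟩ := exists_generators hp.out
    (fun x : K => ⟨⟨x ^ p, IntermediateField.subset_adjoin LS _ ⟨x, rfl⟩⟩, rfl⟩) _ hgen
  have hGle : G.card ≤ d + S.card := (Nat.pow_le_pow_iff_right hp.out.one_lt).1 (hGcard.trans hdeg)
  choose r hr using fun x : (G : Set K) => hGR x.2
  choose u hu using fun x : (G : Set K) => hπ (r x)
  haveI : Fintype (G : Set K) := FinsetCoe.fintype G
  refine exists_jacobian_of_bound (ι := ULift.{u} (Fin n) ⊕ {b // b ∈ S}) (κ := (G : Set K)) π hπ
    (Sum.elim (fun i => toIDer (pderiv k i.down)) fun b => coeffDer (δB ⟨b.1, (Finset.mem_filter.1 b.2).2⟩))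
    u ?_ fun δ w hδw hkill => ?_
  · simp only [Fintype.card_sum, Fintype.card_ulift, Fintype.card_fin, Fintype.card_coe]
    have : Fintype.card (G : Set K) = G.card := Fintype.card_coe G
    omega
  obtain ⟨δK, hδK⟩ := exists_derivation_localization (nonZeroDivisors R) K δ
  have hsmall : ∀ c ∈ smallField p B S, δ (g (C c)) = 0 := by
    intro c hc
    rw [← hC, hδw]
    refine Finset.sum_eq_zero fun i _ => ?_
    rcases i with i | b
    · rw [Sum.elim_inl, toIDer_apply, pderiv_C, map_zero, mul_zero]
    · rw [Sum.elim_inr, coeffDer_C]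
      have hle : smallField p B S ≤ kerSubfield (δB ⟨b.1, (Finset.mem_filter.1 b.2).2⟩) :=
        Subfield.closure_le.2 (Set.union_subset
          (by rintro _ ⟨x, rfl⟩; exact IDer_pow_char p _ x)
          (by
            rintro x ⟨hx, hxS⟩
            exact (hδ _ ⟨x, hx⟩).2 fun he => hxS (by
              have := congrArg Subtype.val he
              simp only at this
              exact this ▸ b.2)))
      rw [show δB ⟨b.1, (Finset.mem_filter.1 b.2).2⟩ c = 0 from hle hc, map_zero, map_zero, mul_zero]
  have hP : ∀ z ∈ pSeries p B d S, δ (g z) = 0 := fun z hz => derivation_image_eq_zero g hg δ z fun D => by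
    by_cases hD : ∃ i, ¬ p ∣ D i
    · rw [(hz D).2 hD, map_zero, map_zero, map_zero]
    · push_neg at hD
      refine derivation_image_prod_eq_zero g δ _ D (hsmall _ (hz D).1) fun l _ => ?_
      obtain ⟨q, hq⟩ := hD l
      rw [hq, mul_comm, pow_mul, IDer_pow_char p]
  have hKS : ∀ x ∈ KS, x ∈ kerSubfield δK := by
    intro x hx
    induction hx using IntermediateField.adjoin_induction with
    | mem y hy => obtain ⟨z, rfl⟩ := hy; exact IDer_pow_char p δK z
    | algebraMap a =>
      have hle : LS ≤ (kerSubfield δK).comap ψ := Subfield.closure_le.2 (Set.union_subset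
        (by rintro _ ⟨z, rfl⟩; show δK (ψ (z ^ p)) = 0; rw [map_pow]; exact IDer_pow_char p δK _)
        (by rintro _ ⟨z, hz, rfl⟩; show δK (ψ (algebraMap Q L z)) = 0; rw [hψ, hδK, hP z hz, map_zero]))
      exact hle a.2
    | add a b _ _ ha hb => exact add_mem ha hb
    | inv a _ ha => exact inv_mem ha
    | mul a b _ _ ha hb => exact mul_mem ha hb
  have hall : ∀ x : K, δK x = 0 := by
    intro x
    have hx : x ∈ IntermediateField.adjoin KS (G : Set K) := hGtop ▸ IntermediateField.mem_top
    show x ∈ kerSubfield δK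
    induction hx using IntermediateField.adjoin_induction with
    | mem y hy =>
      show δK y = 0
      have h0 : δ (π (u ⟨y, hy⟩)) = 0 := hkill ⟨y, hy⟩
      rw [hu] at h0
      rw [show y = algebraMap R K (r ⟨y, hy⟩) from (hr ⟨y, hy⟩).symm, hδK, h0, map_zero]
    | algebraMap a => exact hKS a a.2
    | add a b _ _ ha hb => exact add_mem ha hb
    | inv a _ ha => exact inv_mem ha
    | mul a b _ _ ha hb => exact mul_mem ha hb
  have hδ0 : ∀ a, δ a = 0 := fun a => hRK (by rw [← hδK, hall, map_zero])
  funext i
  rcases i with i | b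
  · have h1 := hδw (X i.down)
    rw [hδ0, Finset.sum_eq_single (Sum.inl i)] at h1
    · simpa using h1.symm
    · rintro (j | c) _ hj
      · rw [Sum.elim_inl, toIDer_apply, pderiv_X_of_ne (fun h => hj (by rw [ULift.down_injective h.symm])), map_zero,
          mul_zero]
      · rw [Sum.elim_inr, coeffDer_X, map_zero, mul_zero]
    · exact fun hi => absurd (Finset.mem_univ _) hi
  · have h1 := hδw (C b.1)
    rw [hδ0, Finset.sum_eq_single (Sum.inr b)] at h1
    · rw [Sum.elim_inr, coeffDer_C, (hδ _ ⟨b.1, (Finset.mem_filter.1 b.2).2⟩).1 rfl, map_one, map_one, mul_one] at h1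
      exact h1.symm
    · rintro (j | c) _ hj
      · rw [Sum.elim_inl, toIDer_apply, pderiv_C, map_zero, mul_zero]
      · rw [Sum.elim_inr, coeffDer_C,
          (hδ _ ⟨b.1, (Finset.mem_filter.1 b.2).2⟩).2 (fun h => hj (by
            have := congrArg Subtype.val h
            simp only at this
            rw [Subtype.ext this])), map_zero, map_zero, mul_zero]
    · exact fun hi => absurd (Finset.mem_univ _) hi

set_option maxHeartbeats 1000000 in
/-- Nagata's Jacobian criterion: a complete Noetherian local domain is cut out of a regular ring by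
equations with nondegenerate Jacobian at the generic point. -/
theorem exists_jacobian (R : Type u) [CommRing R] [IsDomain R] [IsLocalRing R] [IsNoetherianRing R]
    [IsAdicComplete (maximalIdeal R) R] :
    ∃ (P : Type u) (_ : CommRing P) (_ : IsRegularLocalRing P) (π : P →+* R) (h : ℕ) (f : Fin h → P)
      (D : Fin h → IDer P), Function.Surjective π ∧ (∀ i, π (f i) = 0) ∧
        π (Matrix.of fun i j => D i (f j)).det ≠ 0 ∧ (RingHom.ker π).height ≤ h := by
  classical
  obtain ⟨Λ, _, d, g, hcase, hinj, hfin, hres⟩ := Groth.Calg2.CompleteStructure.exists_finite_injective R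
  obtain ⟨hΛreg, hΛc⟩ : ∃ _ : IsRegularLocalRing Λ, IsAdicComplete (maximalIdeal Λ) Λ := by
    rcases hcase with hF | ⟨hdom, hdvr, hcomp, -⟩
    · letI := hF.toField
      refine ⟨inferInstance, ?_⟩
      rw [IsLocalRing.isField_iff_maximalIdeal_eq.1 hF]
      infer_instance
    · exact ⟨inferInstance, hcomp⟩
  haveI := hΛreg
  haveI := hΛc
  haveI : IsDomain Λ := Groth.Ega4Algebra1.isDomain_of_isRegularLocalRing Λ
  haveI : IsLocalHom g := RingHom.IsIntegral.isLocalHom hfin.to_isIntegral hinj
  have hg : ∀ i, g (X i) ∈ maximalIdeal R := fun i hu => by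
    have h1 := ((isUnit_map_iff g _).1 hu).map (constantCoeff (σ := Fin d) (R := Λ))
    rw [constantCoeff_X] at h1
    exact not_isUnit_zero h1
  have hι : Function.Surjective ((residue R).comp (g.comp C)) := fun y => by
    obtain ⟨z, rfl⟩ := hres y
    refine ⟨constantCoeff z, ?_⟩
    show residue R (g (C (constantCoeff z))) = residue R (g z)
    rw [← sub_eq_zero, ← map_sub, ← map_sub, residue_eq_zero_iff]
    intro hu
    have h1 := ((isUnit_map_iff g _).1 hu).map (constantCoeff (σ := Fin d) (R := Λ))
    rw [map_sub, constantCoeff_C, sub_self] at h1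
    exact not_isUnit_zero h1
  obtain ⟨n, a, ha⟩ := Submodule.fg_iff_exists_fin_generating_family.1 (maximalIdeal R).fg_of_isNoetherianRing
  have ham : ∀ i, a i ∈ maximalIdeal R := fun i => ha ▸ Submodule.subset_span ⟨i, rfl⟩
  let π := Groth.Calg2.CompleteStructure.ev (g.comp C) a ham
  have hπ : Function.Surjective π := Groth.Calg2.CompleteStructure.surjective_ev _ hι a ham ha
  haveI := Groth.LocDual.isRegularLocalRing_mvPowerSeries Λ n
  haveI : (RingHom.ker π).IsPrime := RingHom.ker_isPrime π
  -- dimensions
  obtain ⟨c, hc⟩ : ∃ c : ℕ, ringKrullDim Λ = c := ⟨_, (IsRegularLocalRing.spanFinrank_maximalIdeal (R := Λ)).symm⟩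
  have hdimR : ringKrullDim R = ((c + d : ℕ) : WithBot ℕ∞) := by
    letI := g.toAlgebra
    haveI : Algebra.IsIntegral (MvPowerSeries (Fin d) Λ) R := ⟨hfin.to_isIntegral⟩
    rw [Groth.Calg8.ringKrullDim_eq_of_integral (MvPowerSeries (Fin d) Λ) R hinj,
      Groth.Ega41Flat.ringKrullDim_mvPowerSeries_eq Λ d, hc]
    push_cast; rfl
  have hdimle := height_add_ringKrullDim_quotient_le (RingHom.ker π)
  rw [ringKrullDim_eq_of_ringEquiv (RingHom.quotientKerEquivOfSurjective hπ), hdimR,
    Groth.Ega41Flat.ringKrullDim_mvPowerSeries_eq Λ n, hc] at hdimle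
  obtain ⟨t, ht⟩ : ∃ t : ℕ, (RingHom.ker π).height = t := by
    obtain ⟨t, ht⟩ := ENat.ne_top_iff_exists.1 (Ideal.height_ne_top (RingHom.ker_ne_top π))
    exact ⟨t, ht.symm⟩
  rw [ht] at hdimle
  have htd : t + d ≤ n := by
    have : t + (c + d) ≤ c + n := by exact_mod_cast hdimle
    omega
  obtain ⟨f, D, hf, hdet⟩ : ∃ (f : Fin t → MvPowerSeries (Fin n) Λ) (D : Fin t → IDer (MvPowerSeries (Fin n) Λ)),
      (∀ i, π (f i) = 0) ∧ π (Matrix.of fun i j => D i (f j)).det ≠ 0 := by
    have hC : ∀ l, π (C l) = g (C l) := Groth.Calg2.CompleteStructure.ev_C _ a ham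
    rcases CharP.exists' R with h0 | ⟨p, hp, hR⟩
    · exact exists_jacobian_charZero g hinj hfin.to_isIntegral hg π hπ hC htd
    · haveI := hp
      haveI := hR
      have hF : IsField Λ := by
        refine hcase.resolve_right fun ⟨hdom, hdvr, _, q, hq, hmq⟩ => ?_
        have hq0 : residue R ((q : ℕ) : R) = 0 := by
          rw [residue_eq_zero_iff, ← map_natCast (g.comp C)]
          intro hu
          have h1 := ((isUnit_map_iff g _).1 hu).map (constantCoeff (σ := Fin d) (R := Λ))
          rw [constantCoeff_C] at h1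
          exact (mem_maximalIdeal _).1 (hmq ▸ Ideal.mem_span_singleton_self _) h1
        haveI : CharP (ResidueField R) p := (CharP.charP_iff_prime_eq_zero hp.out).2 (by
          rw [← map_natCast (residue R), CharP.cast_eq_zero, map_zero])
        rw [map_natCast] at hq0
        obtain rfl : q = p := ((Nat.prime_dvd_prime_iff_eq hp.out hq).1
          ((CharP.cast_eq_zero_iff (ResidueField R) p q).1 hq0)).symm
        have hq' : (q : Λ) = 0 := hinj.comp C_injective (by
          show g (C (q : Λ)) = g (C 0)
          rw [map_zero, map_zero, map_natCast, map_natCast, CharP.cast_eq_zero])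
        refine hdvr.not_a_field' ?_
        rw [hmq, hq', Ideal.span_singleton_eq_bot]
      letI := hF.toField
      exact exists_jacobian_charP p g hinj hfin hg π hπ hC htd
  exact ⟨_, inferInstance, inferInstance, π, t, f, D, hπ, hf, hdet, ht.le⟩

end Groth.Ega4b.Jac
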