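import Groth.Agent.Ega4Algebra2.IntClosureBaseChange

/-!
# Normal base change of normal and reduced rings
-/

set_option autoImplicit false
set_option linter.style.haveILetI false

universe u

open TensorProduct Polynomial

namespace Groth.Ega4b.ICBC

variable {A : Type u} [CommRing A] [IsNoetherianRing A] (A' : Type u) [CommRing A'] [Algebra A A']
  [IsNoetherianRing A'] [Module.Flat A A']

/-- Normal base change of a normal domain. -/
theorem isNormalRing_baseChange_domain
    (hA' : ∀ (p : Ideal A) [p.IsPrime], EGA4.IsGeomNormal p.ResidueField (p.Fiber A'))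
    (B : Type u) [CommRing B] [IsDomain B] [IsIntegrallyClosed B] [Algebra A B] :
    EGA4.IsNormalRing (A' ⊗[A] B) := by
  refine isNormalRing_of_approx fun F => ?_
  obtain ⟨B₁, hB₁, hF⟩ := exists_fg_forall_mem (k := A) (A := A') (L := B) F
  let K := FractionRing B
  let β := IsScalarTower.toAlgHom A B K
  have hβ : Function.Injective β := IsFractionRing.injective B K
  haveI : Algebra.FiniteType A B₁ := (Subalgebra.fg_iff_finiteType B₁).mp hB₁
  let K₀ := FractionRing B₁
  have hinj : Function.Injective (β.comp B₁.val) := hβ.comp Subtype.val_injective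
  let j : K₀ →ₐ[A] K := IsFractionRing.liftAlgHom (K := K₀) (g := β.comp B₁.val) hinj
  let D : Subalgebra A K₀ := β.range.comap j
  let φ : D →ₐ[A] B := (AlgEquiv.ofInjective β hβ).symm.toAlgHom.comp
    ((j.comp D.val).codRestrict β.range fun d => d.2)
  have hφ : ∀ d : D, β (φ d) = j (d : K₀) := fun d =>
    congrArg Subtype.val ((AlgEquiv.ofInjective β hβ).apply_symm_apply ⟨j (d : K₀), d.2⟩)
  have hφi : Function.Injective φ := fun x y h => Subtype.ext (j.injective (by show j (x : K₀) = j (y : K₀); rw [← hφ, ← hφ, h]))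
  let g : B₁ →ₐ[A] D := (IsScalarTower.toAlgHom A B₁ K₀).codRestrict D fun b =>
    ⟨(b : B), (IsFractionRing.lift_algebraMap hinj b).symm⟩
  have hg : φ.comp g = B₁.val :=
    AlgHom.ext fun b => hβ ((hφ (g b)).trans (IsFractionRing.lift_algebraMap hinj b))
  let N := A' ⊗[A] K₀
  haveI : Algebra.EssFiniteType B₁ K₀ := Algebra.EssFiniteType.of_isLocalization K₀ (nonZeroDivisors B₁)
  haveI : Algebra.EssFiniteType A K₀ := Algebra.EssFiniteType.comp A B₁ K₀
  haveI : IsNoetherianRing N := Algebra.EssFiniteType.isNoetherianRing A' N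
  letI : Algebra (A' ⊗[A] D) N := (bc A' D.val).toRingHom.toAlgebra
  have hC : EGA4.IsNormalRing (A' ⊗[A] D) := by
    refine isNormalRing_of_integrallyClosedIn (N := N) (bc_injective A' Subtype.val_injective)
      (isNormalRing_tensor_field A' hA' K₀) fun x hx => ?_
    obtain ⟨w, hw⟩ := mem_img_of_intOver A' hA' D (z := x) hx
    have hle : ((integralClosure D K₀).restrictScalars A).toSubmodule ≤ D.toSubmodule := by
      intro c hc
      obtain ⟨q, hq, hq0⟩ := hc
      have h1 : IsIntegral B (j c) := by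
        refine ⟨q.map φ.toRingHom, hq.map _, ?_⟩
        rw [eval₂_map, show (algebraMap B K).comp φ.toRingHom = j.toRingHom.comp (algebraMap D K₀) from
          RingHom.ext hφ]
        show eval₂ _ (j.toRingHom c) q = 0
        rw [← hom_eval₂, hq0, map_zero]
      obtain ⟨b, hb⟩ := IsIntegrallyClosed.algebraMap_eq_of_integral h1
      exact ⟨b, hb⟩
    obtain ⟨v, hv⟩ := img_mono A' hle ⟨w, hw⟩
    exact ⟨v, (bc_eq_lTensor A' D.val v).trans hv⟩
  let jD := bc A' φ
  let e : A' ⊗[A] D ≃ₐ[A'] jD.range := AlgEquiv.ofInjective jD (bc_injective A' hφi)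
  refine ⟨A' ⊗[A] D, inferInstance, jD.range.toSubring, e.symm.toRingEquiv.toRingHom, jD.toRingHom, ?_, ?_, hC⟩
  · intro z hz
    obtain ⟨w, rfl⟩ := hF z hz
    refine ⟨bc A' g w, ?_⟩
    show bc A' φ (bc A' g w) = _
    rw [bc_comp, hg, bc_eq_lTensor]
    rfl
  · refine RingHom.ext fun z => ?_
    obtain ⟨w, rfl⟩ := e.surjective z
    show jD (e.symm (e w)) = jD w
    rw [e.symm_apply_apply]

/-- Normal base change of a normal ring. -/
theorem isNormalRing_baseChange
    (hA' : ∀ (p : Ideal A) [p.IsPrime], EGA4.IsGeomNormal p.ResidueField (p.Fiber A'))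
    (B : Type u) [CommRing B] [Algebra A B] (hB : EGA4.IsNormalRing B) :
    EGA4.IsNormalRing (A' ⊗[A] B) :=
  isNormalRing_tensor_of_local A A' B fun q _ => by
    obtain ⟨h1, h2⟩ := hB q
    exact isNormalRing_baseChange_domain A' hA' _

omit [IsNoetherianRing A'] in
/-- Normal base change of a reduced ring. -/
theorem isReduced_baseChange
    (hA' : ∀ (p : Ideal A) [p.IsPrime], EGA4.IsGeomNormal p.ResidueField (p.Fiber A'))
    (B : Type u) [CommRing B] [IsReduced B] [Algebra A B] : IsReduced (A' ⊗[A] B) := by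
  refine ⟨fun z hz => ?_⟩
  obtain ⟨B₀, hB₀, hzB⟩ := exists_fg_mem (k := A) (A := A') (L := B) z
  haveI : Algebra.FiniteType A B₀ := (Subalgebra.fg_iff_finiteType B₀).mp hB₀
  haveI : IsNoetherianRing B₀ := Algebra.FiniteType.isNoetherianRing A B₀
  obtain ⟨w, rfl⟩ := hzB
  have hj : Function.Injective (Algebra.TensorProduct.map (AlgHom.id A A') B₀.val) :=
    Module.Flat.lTensor_preserves_injective_linearMap (M := A') B₀.val.toLinearMap Subtype.val_injective
  have hw : IsNilpotent w := by
    obtain ⟨n, hn⟩ := hz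
    refine ⟨n, hj ?_⟩
    rw [map_pow, map_zero]
    exact hn
  haveI : ∀ P : {P // P ∈ minimalPrimes B₀}, P.1.IsPrime := fun P => P.2.1.1
  haveI : Finite {P // P ∈ minimalPrimes B₀} := (minimalPrimes.finite_of_isNoetherianRing B₀).to_subtype
  have h1 : ∀ P : {P // P ∈ minimalPrimes B₀}, w ∈ img A' (P.1.restrictScalars A) := by
    intro P
    let φ := IsScalarTower.toAlgHom A B₀ P.1.ResidueField
    haveI := isReduced_tensor_field A' hA' P.1.ResidueField
    have h0 : bc A' φ w = 0 := (hw.map (bc A' φ)).eq_zero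
    rw [bc_eq_lTensor] at h0
    refine img_mono A' ?_ (mem_img_comap A' φ.toLinearMap (N' := ⊥) (h0 ▸ zero_mem _))
    intro c hc
    rw [Submodule.mem_comap, Submodule.mem_bot] at hc
    show c ∈ P.1
    rw [← Ideal.ker_algebraMap_residueField P.1]
    exact hc
  obtain ⟨v, hv⟩ := mem_img_iInf_fintype A' _ h1
  haveI : IsReduced B₀ := isReduced_of_injective B₀.val Subtype.val_injective
  have hbot : (⨅ P : {P // P ∈ minimalPrimes B₀}, P.1.restrictScalars A) = ⊥ := by
    rw [eq_bot_iff]
    intro c hc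
    rw [Submodule.mem_iInf] at hc
    have h2 : c ∈ nilradical B₀ := by
      rw [nilradical_eq_sInf, Ideal.mem_sInf]
      intro P hP
      haveI : P.IsPrime := hP
      obtain ⟨Q, hQ, hle⟩ := Ideal.exists_minimalPrimes_le (I := (⊥ : Ideal B₀)) (J := P) bot_le
      exact hle (hc ⟨Q, hQ⟩)
    rw [Submodule.mem_bot]
    exact (mem_nilradical.mp h2).eq_zero
  have hw0 : w = 0 := by
    have : Subsingleton (A' ⊗[A] (⨅ P : {P // P ∈ minimalPrimes B₀}, P.1.restrictScalars A : Submodule A B₀)) := by
      rw [hbot]; infer_instance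
    rw [← hv, Subsingleton.elim v 0, map_zero]
  subst hw0
  exact map_zero _

end Groth.Ega4b.ICBC
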