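import Groth.Agent.Ega4Algebra2.CompletedFibres
import Groth.Agent.Ega4Algebra2.CplQuot
import Groth.Agent.Calg1.SmoothCompletion
import Groth.Agent.AdicLinTop.CompletionQuot
import Mathlib

/-!
# The completion of a localization of `B ⊗ Â`
-/

set_option autoImplicit false
set_option linter.style.haveILetI false

universe u

open IsLocalRing TensorProduct

namespace Groth.Ega4b

theorem bijective_quotientMap_aux {B : Type u} [CommRing B] [IsNoetherianRing B] [IsLocalRing B] (T : Type u)
    [CommRing T] [Algebra B T] (n' : Ideal T) [n'.IsMaximal] (L : Type u) [CommRing L] [Algebra T L]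
    [Algebra B L] [IsScalarTower B T L] [IsLocalRing L] [IsLocalization.AtPrime L n']
    (ψ : L →+* EGA4.Cpl B) (hψj : ∀ b, ψ (algebraMap B L b) = algebraMap B (EGA4.Cpl B) b)
    (hL : maximalIdeal L = (maximalIdeal B).map (algebraMap B L)) {k : ℕ}
    (hdense : ∀ z : T, ∃ b : B, z - algebraMap B T b ∈ (maximalIdeal B ^ k).map (algebraMap B T))
    (hle : maximalIdeal B ^ k ≤ (maximalIdeal L ^ k).comap (Algebra.ofId B L)) :
    Function.Bijective (Ideal.quotientMapₐ (maximalIdeal L ^ k) (Algebra.ofId B L) hle) := by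
  have hmk : ∀ b : B, Ideal.quotientMapₐ (maximalIdeal L ^ k) (Algebra.ofId B L) hle (Ideal.Quotient.mk _ b) =
      Ideal.Quotient.mk (maximalIdeal L ^ k) (algebraMap B L b) := fun b => rfl
  constructor
  · refine (injective_iff_map_eq_zero (Ideal.quotientMapₐ (maximalIdeal L ^ k) (Algebra.ofId B L) hle)).2
      fun x hx => ?_
    obtain ⟨b, rfl⟩ := Ideal.Quotient.mk_surjective x
    rw [hmk, Ideal.Quotient.eq_zero_iff_mem] at hx
    rw [Ideal.Quotient.eq_zero_iff_mem]
    have h2 : ψ (algebraMap B L b) ∈ (maximalIdeal B ^ k).map (algebraMap B (EGA4.Cpl B)) := by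
      have h3 : algebraMap B L b ∈ (maximalIdeal B ^ k).map (algebraMap B L) := by
        rw [Ideal.map_pow, ← hL]; exact hx
      have h4 := Ideal.mem_map_of_mem ψ h3
      rw [Ideal.map_map, show ψ.comp (algebraMap B L) = algebraMap B (EGA4.Cpl B) from RingHom.ext hψj] at h4
      exact h4
    rw [hψj, Ideal.map_pow, ← Groth.AdicLinTop.CompletionQuot.ker_evalₐ _ (IsNoetherian.noetherian _),
      RingHom.mem_ker] at h2
    have h5 : AdicCompletion.evalₐ (maximalIdeal B) k (algebraMap B (EGA4.Cpl B) b) = 0 := h2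
    rwa [AlgHom.commutes, Ideal.Quotient.algebraMap_eq, Ideal.Quotient.eq_zero_iff_mem] at h5
  · intro y
    obtain ⟨z, rfl⟩ := (IsLocalization.AtPrime.equivQuotMaximalIdealPow n' L k).surjective y
    obtain ⟨z, rfl⟩ := Ideal.Quotient.mk_surjective z
    obtain ⟨b, hb⟩ := hdense z
    refine ⟨Ideal.Quotient.mk _ b, ?_⟩
    rw [IsLocalization.AtPrime.equivQuotMaximalIdealPow_apply_mk, hmk]
    have h6 : algebraMap T L (z - algebraMap B T b) ∈ maximalIdeal L ^ k := by
      have h7 := Ideal.mem_map_of_mem (algebraMap T L) hb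
      rw [Ideal.map_map, ← IsScalarTower.algebraMap_eq B T L, Ideal.map_pow, ← hL] at h7
      exact h7
    rw [map_sub, ← IsScalarTower.algebraMap_apply B T L] at h6
    rw [Ideal.Quotient.eq, ← neg_sub]
    exact neg_mem h6

theorem nonempty_equiv_aux {B : Type u} [CommRing B] [IsNoetherianRing B] [IsLocalRing B] (T : Type u)
    [CommRing T] [Algebra B T] (n' : Ideal T) [n'.IsMaximal] (L : Type u) [CommRing L] [Algebra T L]
    [Algebra B L] [IsScalarTower B T L] [IsLocalRing L] [IsLocalization.AtPrime L n']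
    (ψ : L →+* EGA4.Cpl B) (hψj : ∀ b, ψ (algebraMap B L b) = algebraMap B (EGA4.Cpl B) b)
    (hL : maximalIdeal L = (maximalIdeal B).map (algebraMap B L))
    (hdense : ∀ (k : ℕ) (z : T), ∃ b : B, z - algebraMap B T b ∈ (maximalIdeal B ^ k).map (algebraMap B T)) :
    Nonempty (EGA4.Cpl B ≃+* EGA4.Cpl L) := by
  have hle : ∀ k, maximalIdeal B ^ k ≤ (maximalIdeal L ^ k).comap (Algebra.ofId B L) := fun k => by
    rw [← Ideal.map_le_iff_le_comap, hL, ← Ideal.map_pow]
    exact le_rfl
  obtain ⟨E⟩ := Groth.Calg1.nonempty_algEquiv_adicCompletion (R := B) (maximalIdeal B) (maximalIdeal L)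
    (Algebra.ofId B L) hle fun k => bijective_quotientMap_aux T n' L ψ hψj hL (hdense k) (hle k)
  exact ⟨E.toRingEquiv⟩

/-- `B̂` is the completion of the local ring of `B ⊗ Â` over the closed points. -/
theorem nonempty_cpl_baseChange_cpl_equiv (A B : Type u) [CommRing A] [CommRing B] [IsNoetherianRing A]
    [IsNoetherianRing B] [IsLocalRing A] [IsLocalRing B] [Algebra A B] [IsLocalHom (algebraMap A B)]
    [IsNoetherianRing (B ⊗[A] EGA4.Cpl A)] (n' : Ideal (B ⊗[A] EGA4.Cpl A)) [n'.IsPrime]
    (h1 : n'.comap (algebraMap B (B ⊗[A] EGA4.Cpl A)) = maximalIdeal B) :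
    Nonempty (EGA4.Cpl B ≃+* EGA4.Cpl (Localization.AtPrime n')) := by
  classical
  let Ah := EGA4.Cpl A
  let T := B ⊗[A] Ah
  let m := maximalIdeal A
  let mB := maximalIdeal B
  let Bh := EGA4.Cpl B
  let ι : B →+* T := algebraMap B T
  have hmBle : m.map (algebraMap A B) ≤ mB :=
    ((local_hom_TFAE (algebraMap A B)).out 0 2).mp ‹IsLocalHom (algebraMap A B)›
  -- elements of `B` are dense
  have hdense : ∀ (k : ℕ) (z : T), ∃ b : B, z - ι b ∈ (mB ^ k).map ι := by
    intro k z
    induction z using TensorProduct.induction_on with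
    | zero => exact ⟨0, by simp⟩
    | add x y hx hy =>
      obtain ⟨b, hb⟩ := hx
      obtain ⟨c, hc⟩ := hy
      exact ⟨b + c, by rw [map_add, add_sub_add_comm]; exact add_mem hb hc⟩
    | tmul b c =>
      obtain ⟨a, ha⟩ := Ideal.Quotient.mk_surjective (AdicCompletion.evalₐ m k c)
      refine ⟨algebraMap A B a * b, ?_⟩
      have h0 : c - algebraMap A Ah a ∈ (m ^ k).map (algebraMap A Ah) := by
        have h0 : AdicCompletion.evalₐ m k (c - algebraMap A Ah a) = 0 := by
          rw [map_sub, AlgHom.commutes, ← ha]; exact sub_self _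
        have h1 : c - algebraMap A Ah a ∈ RingHom.ker (AdicCompletion.evalₐ m k).toRingHom := h0
        rw [Groth.AdicLinTop.CompletionQuot.ker_evalₐ _ (IsNoetherian.noetherian _), ← Ideal.map_pow] at h1
        exact h1
      let incR : Ah →+* T := (Algebra.TensorProduct.includeRight : Ah →ₐ[A] T).toRingHom
      have h2 : b ⊗ₜ[A] c - ι (algebraMap A B a * b) = ι b * incR (c - algebraMap A Ah a) := by
        show b ⊗ₜ[A] c - (algebraMap A B a * b) ⊗ₜ[A] (1 : Ah) = (b ⊗ₜ[A] (1 : Ah)) * ((1 : B) ⊗ₜ[A] (c - algebraMap A Ah a))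
        rw [Algebra.TensorProduct.tmul_mul_tmul, mul_one, one_mul, TensorProduct.tmul_sub,
          Algebra.algebraMap_eq_smul_one (A := Ah), ← TensorProduct.smul_tmul, ← Algebra.smul_def]
      rw [h2]
      refine Ideal.mul_mem_left _ _ ?_
      have h3 : (m ^ k).map (algebraMap A T) ≤ (mB ^ k).map ι := by
        rw [IsScalarTower.algebraMap_eq A B T, ← Ideal.map_map]
        refine Ideal.map_mono ?_
        rw [Ideal.map_pow]
        exact Ideal.pow_right_mono hmBle k
      refine h3 ?_
      have h4 : incR (c - algebraMap A Ah a) ∈ ((m ^ k).map (algebraMap A Ah)).map incR := Ideal.mem_map_of_mem _ h0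
      rw [Ideal.map_map, show incR.comp (algebraMap A Ah) = algebraMap A T from RingHom.ext fun a =>
        (Algebra.TensorProduct.includeRight : Ah →ₐ[A] T).commutes a] at h4
      exact h4
  have hn' : mB.map ι ≤ n' := Ideal.map_le_iff_le_comap.2 h1.ge
  have hsurj1 : Function.Surjective (((Ideal.Quotient.mk (mB.map ι)).comp ι)) := fun y => by
    obtain ⟨z, rfl⟩ := Ideal.Quotient.mk_surjective y
    obtain ⟨b, hb⟩ := hdense 1 z
    rw [pow_one] at hb
    exact ⟨b, (Ideal.Quotient.eq.2 hb).symm⟩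
  have hmax : (mB.map ι).IsMaximal := by
    haveI : Nontrivial (T ⧸ mB.map ι) := Ideal.Quotient.nontrivial_iff.2 fun htop =>
      Ideal.IsPrime.ne_top ‹n'.IsPrime› (top_le_iff.1 (htop ▸ hn'))
    have hk : RingHom.ker ((Ideal.Quotient.mk (mB.map ι)).comp ι) = mB := by
      refine ((maximalIdeal.isMaximal B).eq_of_le (RingHom.ker_ne_top _) fun x hx => ?_).symm
      show Ideal.Quotient.mk _ (ι x) = 0
      exact Ideal.Quotient.eq_zero_iff_mem.2 (Ideal.mem_map_of_mem _ hx)
    refine Ideal.Quotient.maximal_of_isField _ ?_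
    haveI : (RingHom.ker ((Ideal.Quotient.mk (mB.map ι)).comp ι)).IsMaximal := by
      rw [hk]; exact maximalIdeal.isMaximal B
    exact MulEquiv.isField ((Ideal.Quotient.maximal_ideal_iff_isField_quotient _).1 inferInstance)
      (RingHom.quotientKerEquivOfSurjective hsurj1).symm.toMulEquiv
  have hn'eq : mB.map ι = n' := hmax.eq_of_le (Ideal.IsPrime.ne_top inferInstance) hn'
  haveI : n'.IsMaximal := hn'eq ▸ hmax
  let L := Localization.AtPrime n'
  -- the map to the completion of `B`
  let cA : Ah →ₐ[A] Bh :=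
    { cplHom A B with commutes' := cplHom_algebraMap A B }
  let φ : T →ₐ[A] Bh := Algebra.TensorProduct.lift (IsScalarTower.toAlgHom A B Bh) cA fun _ _ => Commute.all _ _
  have hφι : ∀ b, φ (ι b) = algebraMap B Bh b := fun b => by
    show φ (b ⊗ₜ[A] (1 : Ah)) = _
    rw [Algebra.TensorProduct.lift_tmul, map_one, mul_one]; rfl
  have hφn : ∀ s : n'.primeCompl, IsUnit (φ s) := fun s => by
    by_contra hu
    have h2 : (s : T) ∈ (maximalIdeal Bh).comap φ.toRingHom := hu
    have h3 : n' ≤ (maximalIdeal Bh).comap φ.toRingHom := by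
      rw [← hn'eq]
      refine Ideal.map_le_iff_le_comap.2 fun b hb => ?_
      rw [Ideal.mem_comap, Ideal.mem_comap]
      show φ (ι b) ∈ _
      rw [hφι, AdicCompletion.maximalIdeal_eq_map]
      exact Ideal.mem_map_of_mem _ hb
    haveI : ((maximalIdeal Bh).comap φ.toRingHom).IsPrime := Ideal.IsPrime.comap _
    rw [← (Ideal.IsMaximal.eq_of_le ‹n'.IsMaximal› (Ideal.IsPrime.ne_top inferInstance) h3)] at h2
    exact s.2 h2
  let ψ : L →+* Bh := IsLocalization.lift (g := φ.toRingHom) hφn
  have hL : maximalIdeal L = mB.map (algebraMap B L) := by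
    rw [← Localization.AtPrime.map_eq_maximalIdeal, ← congrArg (Ideal.map (algebraMap T L)) hn'eq, Ideal.map_map,
      ← IsScalarTower.algebraMap_eq]
  have hψj : ∀ b, ψ (algebraMap B L b) = algebraMap B Bh b := fun b => by
    rw [IsScalarTower.algebraMap_apply B T L]
    show IsLocalization.lift hφn _ = _
    rw [IsLocalization.lift_eq]
    exact hφι b
  exact @nonempty_equiv_aux B _ _ _ T _ _ n' _ L _ _ _ _ _ _ ψ hψj hL hdense

end Groth.Ega4b
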