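import Groth.Agent.Ega41Flat.Smooth
import Groth.Agent.Ega4Algebra2.DerivationExt
import Groth.Agent.S4542
import Groth.Agent.AdicLinTop.Adic
import Mathlib

/-!
# Extension of derivations along adically formally smooth maps to complete rings
-/

set_option autoImplicit false
set_option linter.style.haveILetI false

universe u

open IsLocalRing TrivSqZeroExt

namespace Groth.Ega4b

open Jac

/-- A derivation of `A` extends along a formally smooth local map into a complete local ring. -/
theorem exists_derivation_extension_fs {A B : Type u} [CommRing A] [CommRing B] [IsLocalRing A] [IsLocalRing B]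
    [IsNoetherianRing B] [Algebra A B] [IsAdicComplete (maximalIdeal B) B] [IsLocalHom (algebraMap A B)]
    (hfs : EGA41.IsFormallySmoothAdic A (maximalIdeal A) B (maximalIdeal B)) (D : IDer A) :
    ∃ D' : IDer B, ∀ a : A, D' (algebraMap A B a) = algebraMap A B (D a) := by
  classical
  set m := maximalIdeal B
  haveI : Module.Finite B (TrivSqZeroExt B B) := inferInstanceAs (Module.Finite B (B × B))
  haveI : IsAdicComplete m (TrivSqZeroExt B B) := Groth.AdicLinTop.Adic.isAdicComplete_of_finite
  let 𝔠 : Ideal (TrivSqZeroExt B B) := m.map (algebraMap B (TrivSqZeroExt B B))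
  haveI : IsPrecomplete 𝔠 (TrivSqZeroExt B B) :=
    (IsPrecomplete.map_algebraMap_iff (I := m) (S := TrivSqZeroExt B B) (M := TrivSqZeroExt B B)).2 inferInstance
  haveI : IsHausdorff 𝔠 (TrivSqZeroExt B B) :=
    (IsHausdorff.map_algebraMap_iff (I := m) (S := TrivSqZeroExt B B) (M := TrivSqZeroExt B B)).2 inferInstance
  haveI : IsAdicComplete 𝔠 (TrivSqZeroExt B B) := {}
  let φ : A →+* TrivSqZeroExt B B :=
    { toFun := fun x => inl (algebraMap A B x) + inr (algebraMap A B (D x))
      map_one' := by ext <;> simp [Derivation.map_one_eq_zero]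
      map_zero' := by ext <;> simp
      map_add' := fun x y => by ext <;> simp [map_add, Algebra.smul_def]
      map_mul' := fun x y => by
        ext <;> simp only [snd_mul, fst_mul, snd_add, fst_add, fst_inl, fst_inr, snd_inl, snd_inr, IDer_mul,
          smul_eq_mul, map_mul, map_add, add_zero, zero_add, op_smul_eq_mul] <;> ring }
  let algC : Algebra A (TrivSqZeroExt B B) := φ.toAlgebra
  let fstR : TrivSqZeroExt B B →+* B :=
    { toFun := fst, map_one' := rfl, map_mul' := fst_mul, map_zero' := rfl, map_add' := fst_add }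
  have hfst : Function.Surjective fstR := fun b => ⟨inl b, rfl⟩
  let J : Ideal (TrivSqZeroExt B B) := RingHom.ker fstR
  letI := algC
  let u : B →ₐ[A] TrivSqZeroExt B B ⧸ J :=
    { (RingHom.quotientKerEquivOfSurjective hfst).symm.toRingHom with
      commutes' := fun a => by
        show (RingHom.quotientKerEquivOfSurjective hfst).symm (algebraMap A B a) = Ideal.Quotient.mk J (φ a)
        rw [RingEquiv.symm_apply_eq]
        show algebraMap A B a = fst (φ a)
        simp [φ] }
  have hu : ∀ b, u b = Ideal.Quotient.mk J (inl b) := fun b => by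
    show (RingHom.quotientKerEquivOfSurjective hfst).symm b = _
    rw [RingEquiv.symm_apply_eq]
    rfl
  have hmem : ∀ x : TrivSqZeroExt B B, x.fst ∈ m → x.snd ∈ m → x ∈ 𝔠 := fun x h1 h2 => by
    rw [← inl_fst_add_inr_snd_eq x]
    refine add_mem ?_ ?_
    · exact Ideal.mem_map_of_mem (algebraMap B (TrivSqZeroExt B B)) h1
    · rw [show (inr x.snd : TrivSqZeroExt B B) = algebraMap B (TrivSqZeroExt B B) x.snd * inr 1 by
        ext <;> simp [TrivSqZeroExt.algebraMap_eq_inl]]
      exact Ideal.mul_mem_right _ _ (Ideal.mem_map_of_mem _ h2)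
  have hJ : ∃ t : ℕ, J ^ t ≤ 𝔠 := ⟨2, by
    refine le_trans (le_of_eq (pow_two J)) (Ideal.mul_le.2 ?_)
    intro x hx y hy
    have hx' : x.fst = 0 := hx
    have hy' : y.fst = 0 := hy
    rw [show x * y = 0 by ext <;> simp [hx', hy']]
    exact zero_mem _⟩
  haveI : IsHausdorff (𝔠.map (Ideal.Quotient.mk J)) (TrivSqZeroExt B B ⧸ J) := by
    haveI : IsHausdorff m B := inferInstance
    refine ⟨fun x hx => ?_⟩
    obtain ⟨y, rfl⟩ := Ideal.Quotient.mk_surjective x
    rw [Ideal.Quotient.eq_zero_iff_mem]
    show y.fst = 0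
    refine IsHausdorff.haus (I := m) inferInstance _ fun n => ?_
    have h1 := hx n
    rw [SModEq.zero, smul_eq_mul, Ideal.mul_top] at h1 ⊢
    rw [← Ideal.map_pow, Ideal.mem_map_iff_of_surjective _ Ideal.Quotient.mk_surjective] at h1
    obtain ⟨z, hz, hzy⟩ := h1
    have h2 : z.fst = y.fst := sub_eq_zero.1 ((fst_sub z y).symm.trans (Ideal.Quotient.eq.1 hzy))
    rw [← h2]
    have h3 := Ideal.mem_map_of_mem fstR hz
    rw [Ideal.map_pow, Ideal.map_map] at h3
    rw [show fstR.comp (algebraMap B (TrivSqZeroExt B B)) = RingHom.id B from RingHom.ext fun b => by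
      simp [fstR, TrivSqZeroExt.algebraMap_eq_inl], Ideal.map_id] at h3
    exact h3
  obtain ⟨v, -, hv⟩ := Groth.Agent.S4542.result (maximalIdeal A) m 𝔠 hfs
    (⟨2, Ideal.map_le_iff_le_comap.2 fun a ha => hmem (φ a) (by
        show (inl (algebraMap A B a) + inr (algebraMap A B (D a)) : TrivSqZeroExt B B).fst ∈ m
        rw [fst_add, fst_inl, fst_inr, add_zero]
        exact Groth.Ega41Flat.map_maximalIdeal_le (Ideal.mem_map_of_mem _ (Ideal.pow_le_self two_ne_zero ha))) (by
        show (inl (algebraMap A B a) + inr (algebraMap A B (D a)) : TrivSqZeroExt B B).snd ∈ m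
        rw [snd_add, snd_inl, snd_inr, zero_add]
        have h := map_pow_succ_le (maximalIdeal A) D 1 ha
        rw [pow_one] at h
        exact Groth.Ega41Flat.map_maximalIdeal_le (Ideal.mem_map_of_mem _ h))⟩)
    J hJ u ⟨1, by
      rw [pow_one, Ideal.map_le_iff_le_comap]
      intro b hb
      rw [Ideal.mem_comap]
      show u b ∈ _
      rw [hu]
      exact Ideal.mem_map_of_mem _ (Ideal.mem_map_of_mem (algebraMap B (TrivSqZeroExt B B)) hb)⟩
  have hv1 : ∀ b, (v b).fst = b := fun b => by
    have h1 := AlgHom.congr_fun hv b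
    rw [hu] at h1
    have h2 : fst (v b - inl b) = 0 := Ideal.Quotient.eq.1 h1
    rw [fst_sub, fst_inl] at h2
    exact sub_eq_zero.1 h2
  refine ⟨mkIDer (fun b => (v b).snd) (fun a b => by simp) fun a b => ?_, fun a => ?_⟩
  · show (v (a * b)).snd = _
    rw [map_mul, snd_mul, hv1, hv1]
    simp [mul_comm]
  · rw [mkIDer_apply, v.commutes]
    show (inl (algebraMap A B a) + inr (algebraMap A B (D a)) : TrivSqZeroExt B B).snd = _
    rw [snd_add, snd_inl, snd_inr, zero_add]

end Groth.Ega4b
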