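import Groth.Prelude.Def_EssEt
import Mathlib

/-!
# Composition of local-étale algebras
-/

set_option linter.style.haveILetI false

universe u

namespace Groth.Ega4b

open Polynomial IsLocalRing

/-- An element killed in a localization at a prime is killed by an element outside the prime. -/
lemma exists_notMem_mul_eq_zero {C1 : Type u} [CommRing C1] (q : Ideal C1) [q.IsPrime]
    (B : Type u) [CommRing B] [Algebra C1 B] [IsLocalization.AtPrime B q]
    (s : C1) (D : Type u) [CommRing D] [Algebra C1 D] [IsLocalization.Away s D] [Algebra D B]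
    [IsScalarTower C1 D B] (x : D) (hx : algebraMap D B x = 0) :
    ∃ u : C1, u ∉ q ∧ algebraMap C1 D u * x = 0 := by
  obtain ⟨⟨c, m⟩, hcm⟩ := IsLocalization.surj (Submonoid.powers s) x
  have hc : algebraMap C1 B c = 0 := by
    rw [IsScalarTower.algebraMap_apply C1 D B, ← hcm, map_mul, hx, zero_mul]
  obtain ⟨u, hu⟩ := (IsLocalization.map_eq_zero_iff q.primeCompl B c).mp hc
  refine ⟨u, u.2, (IsLocalization.map_units D m).mul_left_eq_zero.mp ?_⟩
  rw [mul_assoc, hcm, ← map_mul, hu, map_zero]

/-- A standard étale pair over a localization at a prime descends to a principal localization. -/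
lemma exists_pair_descent {A C1 : Type u} [CommRing A] [CommRing C1] [Algebra A C1]
    [Algebra.Etale A C1] (q : Ideal C1) [q.IsPrime] (B : Type u) [CommRing B] [Algebra C1 B]
    [Algebra A B] [IsScalarTower A C1 B] [IsLocalization.AtPrime B q] (P : StandardEtalePair B) :
    ∃ (D : Type u) (_ : CommRing D) (_ : Algebra C1 D) (_ : Algebra A D) (_ : Algebra D B)
      (_ : IsScalarTower A C1 D) (_ : IsScalarTower C1 D B) (P0 : StandardEtalePair D),
      Algebra.Etale A D ∧ (∀ {T : Type u} [CommRing T] (g h : D →+* T),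
          g.comp (algebraMap C1 D) = h.comp (algebraMap C1 D) → g = h) ∧
        (∀ {T : Type u} [CommRing T] (g : C1 →+* T), (∀ c ∉ q, IsUnit (g c)) →
          ∃ g' : D →+* T, g'.comp (algebraMap C1 D) = g) ∧
        P0.f.map (algebraMap D B) = P.f ∧ P0.g.map (algebraMap D B) = P.g := by
  classical
  obtain ⟨p₁, p₂, n, hcond⟩ := P.cond
  obtain ⟨s, hs⟩ := IsLocalization.exist_integer_multiples_of_finset q.primeCompl
    (P.f.coeffs ∪ P.g.coeffs ∪ p₁.coeffs ∪ p₂.coeffs)
  letI : Algebra (Localization.Away (s : C1)) B :=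
    (IsLocalization.Away.lift (S := Localization.Away (s : C1)) (s : C1) (g := algebraMap C1 B)
      (IsLocalization.map_units B s)).toAlgebra
  haveI : IsScalarTower C1 (Localization.Away (s : C1)) B :=
    IsScalarTower.of_algebraMap_eq fun x => (IsLocalization.Away.lift_eq _ _ x).symm
  have hlift : ∀ p : B[X], p.coeffs ⊆ (P.f.coeffs ∪ P.g.coeffs ∪ p₁.coeffs ∪ p₂.coeffs) →
      p ∈ Polynomial.lifts (algebraMap (Localization.Away (s : C1)) B) := by
    intro p hp
    rw [lifts_iff_coeff_lifts]
    intro k
    by_cases h0 : p.coeff k = 0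
    · exact ⟨0, by rw [h0, map_zero]⟩
    obtain ⟨c, hc⟩ := hs _ (hp (Polynomial.coeff_mem_coeffs h0))
    obtain ⟨v, hv⟩ := IsLocalization.Away.algebraMap_isUnit (S := Localization.Away (s : C1)) (s : C1)
    refine ⟨algebraMap C1 (Localization.Away (s : C1)) c * ↑v⁻¹, ?_⟩
    refine (IsLocalization.map_units B s).mul_left_inj.mp ?_
    rw [IsScalarTower.algebraMap_apply C1 (Localization.Away (s : C1)) B (s : C1), map_mul,
      mul_assoc, ← map_mul, ← hv, Units.inv_mul, map_one, mul_one,
      ← IsScalarTower.algebraMap_apply, hc, Algebra.smul_def, mul_comm, hv,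
      ← IsScalarTower.algebraMap_apply]
  obtain ⟨f0, hf0, -, hf0m⟩ :=
    lifts_and_natDegree_eq_and_monic (hlift P.f (by intro x; simp +contextual)) P.monic_f
  obtain ⟨g0, hg0⟩ := (mem_lifts _).mp (hlift P.g (by intro x; simp +contextual))
  obtain ⟨a, ha⟩ := (mem_lifts _).mp (hlift p₁ (by intro x; simp +contextual))
  obtain ⟨b, hb⟩ := (mem_lifts _).mp (hlift p₂ (by intro x; simp +contextual))
  set E := derivative f0 * a + f0 * b - g0 ^ n
  have hE : E.map (algebraMap (Localization.Away (s : C1)) B) = 0 := by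
    simp [E, Polynomial.map_sub, Polynomial.map_add, Polynomial.map_mul, Polynomial.map_pow,
      ← Polynomial.derivative_map, hf0, hg0, ha, hb, hcond]
  choose u hu hu0 using fun k => exists_notMem_mul_eq_zero q B (s : C1) (Localization.Away (s : C1))
    (E.coeff k) (by rw [← Polynomial.coeff_map, hE, coeff_zero])
  set T := ∏ k ∈ E.support, u k
  have hT : T ∉ q := fun h => by
    obtain ⟨k, -, hk⟩ := (Ideal.IsPrime.prod_mem_iff).mp h
    exact hu k hk
  have hT' : IsUnit (algebraMap (Localization.Away (s : C1)) B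
      (algebraMap C1 (Localization.Away (s : C1)) T)) := by
    rw [← IsScalarTower.algebraMap_apply]
    exact IsLocalization.map_units B (⟨T, hT⟩ : q.primeCompl)
  obtain ⟨D, _, _, _⟩ : ∃ (D : Type u) (_ : CommRing D) (_ : Algebra (Localization.Away (s : C1)) D),
      IsLocalization.Away (algebraMap C1 (Localization.Away (s : C1)) T) D :=
    ⟨Localization.Away (algebraMap C1 (Localization.Away (s : C1)) T), inferInstance, inferInstance,
      inferInstance⟩
  letI : Algebra C1 D :=
    ((algebraMap (Localization.Away (s : C1)) D).comp (algebraMap C1 _)).toAlgebra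
  haveI : IsScalarTower C1 (Localization.Away (s : C1)) D := IsScalarTower.of_algebraMap_eq fun _ => rfl
  letI : Algebra A D := ((algebraMap C1 D).comp (algebraMap A C1)).toAlgebra
  haveI : IsScalarTower A C1 D := IsScalarTower.of_algebraMap_eq fun _ => rfl
  letI : Algebra D B :=
    (IsLocalization.Away.lift (S := D) (algebraMap C1 (Localization.Away (s : C1)) T)
      (g := algebraMap (Localization.Away (s : C1)) B) hT').toAlgebra
  haveI : IsScalarTower (Localization.Away (s : C1)) D B :=
    IsScalarTower.of_algebraMap_eq fun x => (IsLocalization.Away.lift_eq _ _ x).symm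
  haveI : IsScalarTower C1 D B := IsScalarTower.of_algebraMap_eq fun x => by
    rw [IsScalarTower.algebraMap_apply C1 (Localization.Away (s : C1)) D,
      ← IsScalarTower.algebraMap_apply (Localization.Away (s : C1)) D B,
      ← IsScalarTower.algebraMap_apply]
  haveI : Algebra.Etale (Localization.Away (s : C1)) D :=
    Algebra.Etale.of_isLocalizationAway (algebraMap C1 (Localization.Away (s : C1)) T)
  haveI : Algebra.Etale C1 D := .comp C1 (Localization.Away (s : C1)) D
  let ι := algebraMap (Localization.Away (s : C1)) D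
  have hE' : E.map ι = 0 := by
    ext k
    rw [Polynomial.coeff_map, coeff_zero]
    by_cases hk : k ∈ E.support
    · obtain ⟨w, hw⟩ : u k ∣ T := Finset.dvd_prod_of_mem u hk
      refine (IsLocalization.Away.algebraMap_isUnit (S := D)
        (algebraMap C1 (Localization.Away (s : C1)) T)).mul_right_eq_zero.mp ?_
      rw [hw, ← map_mul (algebraMap (Localization.Away (s : C1)) D), map_mul (algebraMap C1 (Localization.Away (s : C1))),
        mul_right_comm, hu0 k, zero_mul, map_zero]
    · rw [notMem_support_iff.mp hk, map_zero]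
  let P0 : StandardEtalePair D :=
    { f := f0.map ι
      monic_f := hf0m.map _
      g := g0.map ι
      cond := ⟨a.map ι, b.map ι, n, by
        rw [← sub_eq_zero, derivative_map, ← Polynomial.map_mul, ← Polynomial.map_mul,
          ← Polynomial.map_add, ← Polynomial.map_pow, ← Polynomial.map_sub]
        exact hE'⟩ }
  refine ⟨D, inferInstance, inferInstance, inferInstance, inferInstance, inferInstance,
    inferInstance, P0, Algebra.Etale.comp A C1 D, ?_, ?_, ?_, ?_⟩
  · intro T' _ g h hgh
    refine IsLocalization.ringHom_ext (Submonoid.powers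
      (algebraMap C1 (Localization.Away (s : C1)) T))
      (IsLocalization.ringHom_ext (Submonoid.powers (s : C1)) ?_)
    rw [RingHom.comp_assoc, RingHom.comp_assoc, ← IsScalarTower.algebraMap_eq]
    exact hgh
  · intro T' _ g hg
    let g1 : Localization.Away (s : C1) →+* T' :=
      IsLocalization.Away.lift (s : C1) (hg s s.2)
    refine ⟨IsLocalization.Away.lift (algebraMap C1 (Localization.Away (s : C1)) T) (g := g1) ?_, ?_⟩
    · simp only [g1, IsLocalization.Away.lift_eq]; exact hg T hT
    · rw [IsScalarTower.algebraMap_eq C1 (Localization.Away (s : C1)) D, ← RingHom.comp_assoc,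
        IsLocalization.Away.lift_comp, IsLocalization.Away.lift_comp]
  · show (f0.map ι).map (algebraMap D B) = P.f
    rw [Polynomial.map_map, ← IsScalarTower.algebraMap_eq, hf0]
  · show (g0.map ι).map (algebraMap D B) = P.g
    rw [Polynomial.map_map, ← IsScalarTower.algebraMap_eq, hg0]

theorem isEssentiallyEtale_trans (A : Type u) [CommRing A] [IsLocalRing A]
    (B : Type u) [CommRing B] [IsLocalRing B] [Algebra A B]
    (C : Type u) [CommRing C] [Algebra B C] [Algebra A C] [IsScalarTower A B C]
    (hB : EGA4loc.IsEssentiallyEtale A B) (hC : EGA4loc.IsEssentiallyEtale B C) :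
    EGA4loc.IsEssentiallyEtale A C := by
  obtain ⟨C1, _, _, q, _, _, hqA, ⟨e1⟩⟩ := hB
  obtain ⟨C2, _, _, r, _, _, hrB, ⟨e2⟩⟩ := hC
  -- B as a localization of C1
  letI : Algebra C1 B :=
    ((e1.symm : Localization.AtPrime q →+* B).comp (algebraMap C1 _)).toAlgebra
  haveI : IsScalarTower A C1 B := IsScalarTower.of_algebraMap_eq fun x => by
    show algebraMap A B x = e1.symm (algebraMap C1 _ (algebraMap A C1 x))
    rw [← IsScalarTower.algebraMap_apply, e1.symm.commutes]
  haveI : IsLocalization.AtPrime B q :=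
    IsLocalization.isLocalization_of_algEquiv q.primeCompl
      (AlgEquiv.ofRingEquiv (f := e1.symm.toRingEquiv) fun _ => rfl)
  -- standard étale chart of C2
  obtain ⟨h, hhr, hstd⟩ := Algebra.IsEtaleAt.exists_isStandardEtale (R := B) r
  obtain ⟨⟨P, x, hx, hbij⟩⟩ := hstd
  obtain ⟨D, _, _, _, _, _, _, P0, hDet, hDext, hDlift, hPf, hPg⟩ :=
    exists_pair_descent (A := A) q B P
  letI : Algebra A P0.Ring := ((algebraMap D P0.Ring).comp (algebraMap A D)).toAlgebra
  haveI : IsScalarTower A D P0.Ring := IsScalarTower.of_algebraMap_eq fun _ => rfl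
  haveI : Algebra.Etale A P0.Ring := Algebra.Etale.comp A D P0.Ring
  let L := Localization.AtPrime r
  letI : Algebra (Localization.Away h) L :=
    (IsLocalization.Away.lift h (g := algebraMap C2 L)
      (IsLocalization.map_units L (⟨h, hhr⟩ : r.primeCompl))).toAlgebra
  haveI : IsScalarTower C2 (Localization.Away h) L :=
    IsScalarTower.of_algebraMap_eq fun x => (IsLocalization.Away.lift_eq _ _ x).symm
  haveI : IsScalarTower B (Localization.Away h) L := IsScalarTower.of_algebraMap_eq fun x => by
    rw [IsScalarTower.algebraMap_apply B C2 (Localization.Away h),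
      ← IsScalarTower.algebraMap_apply C2 (Localization.Away h) L, ← IsScalarTower.algebraMap_apply]
  let ε : P.Ring ≃ₐ[B] Localization.Away h := AlgEquiv.ofBijective (P.lift x hx) hbij
  let ι : P.Ring →ₐ[B] L := (IsScalarTower.toAlgHom B (Localization.Away h) L).comp ε.toAlgHom
  -- structure maps to `L`
  letI : Algebra C1 L := ((algebraMap B L).comp (algebraMap C1 B)).toAlgebra
  haveI : IsScalarTower C1 B L := IsScalarTower.of_algebraMap_eq fun _ => rfl
  letI : Algebra D L := ((algebraMap B L).comp (algebraMap D B)).toAlgebra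
  haveI : IsScalarTower D B L := IsScalarTower.of_algebraMap_eq fun _ => rfl
  have hAD : ∀ a, algebraMap D B (algebraMap A D a) = algebraMap A B a := fun a => by
    rw [IsScalarTower.algebraMap_apply A C1 D, ← IsScalarTower.algebraMap_apply C1 D B,
      ← IsScalarTower.algebraMap_apply A C1 B]
  have hmap0 : P0.HasMap (ι P.X) := by
    obtain ⟨h1, h2⟩ := StandardEtalePair.hasMap_X.map (P := P) ι
    exact ⟨by rw [← aeval_map_algebraMap B, hPf]; exact h1,
      by rw [← aeval_map_algebraMap B, hPg]; exact h2⟩
  let φ0 : P0.Ring →ₐ[D] L := P0.lift (ι P.X) hmap0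
  let r0 : Ideal P0.Ring := (maximalIdeal L).comap φ0.toRingHom
  haveI : r0.IsPrime := Ideal.IsPrime.comap _
  let L0 := Localization.AtPrime r0
  have hmem : ∀ y : P0.Ring, y ∉ r0 → IsUnit (φ0 y) := fun y hy => not_not.mp hy
  let Θ : L0 →+* L := IsLocalization.lift (M := r0.primeCompl) (g := φ0.toRingHom)
    fun y => hmem y y.2
  have hΘ : ∀ y, Θ (algebraMap P0.Ring L0 y) = φ0 y := fun y => IsLocalization.lift_eq _ y
  have hΘu : ∀ z, IsUnit (Θ z) → IsUnit z := fun z hz => by
    obtain ⟨⟨c, m⟩, hcm⟩ := IsLocalization.surj r0.primeCompl z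
    have hc : IsUnit (φ0 c) := by rw [← hΘ, ← hcm, map_mul, hΘ]; exact hz.mul (hmem m m.2)
    have := IsLocalization.map_units L0 (⟨c, fun hc' => hc' hc⟩ : r0.primeCompl)
    simp only at hcm this
    rw [← hcm] at this
    exact isUnit_of_mul_isUnit_left this
  -- `B → L0`
  have hC1 : ∀ c : C1, φ0 (algebraMap D P0.Ring (algebraMap C1 D c)) = algebraMap B L (algebraMap C1 B c) :=
    fun c => by
      rw [φ0.commutes, IsScalarTower.algebraMap_apply D B L, ← IsScalarTower.algebraMap_apply C1 D B]
  let β : B →+* L0 := IsLocalization.lift (M := q.primeCompl)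
    (g := ((algebraMap P0.Ring L0).comp (algebraMap D P0.Ring)).comp (algebraMap C1 D)) fun c => by
    refine hΘu _ ?_
    rw [RingHom.comp_apply, RingHom.comp_apply, hΘ, hC1]
    exact (IsLocalization.map_units B c).map _
  letI : Algebra B L0 := β.toAlgebra
  haveI : IsScalarTower D B L0 := IsScalarTower.of_algebraMap_eq' (hDext _ _ (RingHom.ext fun c => by
    rw [RingHom.comp_apply, RingHom.comp_apply, RingHom.comp_apply, ← IsScalarTower.algebraMap_apply C1 D B,
      IsScalarTower.algebraMap_apply D P0.Ring L0]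
    exact (IsLocalization.lift_eq (M := q.primeCompl) (g := ((algebraMap P0.Ring L0).comp (algebraMap D P0.Ring)).comp (algebraMap C1 D)) _ c).symm))
  have hΘB : ∀ b, Θ (algebraMap B L0 b) = algebraMap B L b := fun b => by
    have : Θ.comp β = algebraMap B L := IsLocalization.ringHom_ext q.primeCompl (RingHom.ext fun c => by
      show Θ (β (algebraMap C1 B c)) = _
      rw [IsLocalization.lift_eq]
      exact (hΘ _).trans (hC1 c))
    exact DFunLike.congr_fun this b
  let X0 : L0 := algebraMap P0.Ring L0 P0.X
  have hmap : P.HasMap X0 := by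
    obtain ⟨h1, h2⟩ := StandardEtalePair.hasMap_X (P := P0)
    refine ⟨?_, ?_⟩
    · rw [← hPf, aeval_map_algebraMap, aeval_algebraMap_apply, h1, map_zero]
    · rw [← hPg, aeval_map_algebraMap, aeval_algebraMap_apply]; exact h2.map _
  let ψ : P.Ring →ₐ[B] L0 := P.lift X0 hmap
  let ΘB : L0 →ₐ[B] L := { Θ with commutes' := hΘB }
  have hΘψ : ΘB.comp ψ = ι := P.hom_ext (by
    show Θ (ψ P.X) = ι P.X
    simp only [ψ, StandardEtalePair.lift_X, X0, hΘ, φ0])
  let γ : C2 →+* L0 := (ψ.toRingHom.comp ε.symm.toRingEquiv.toRingHom).comp (algebraMap C2 _)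
  have hΘγ : ∀ c, Θ (γ c) = algebraMap C2 L c := fun c => by
    have := DFunLike.congr_fun hΘψ (ε.symm (algebraMap C2 _ c))
    refine this.trans ?_
    show algebraMap (Localization.Away h) L (ε (ε.symm _)) = _
    rw [AlgEquiv.apply_symm_apply, ← IsScalarTower.algebraMap_apply]
  let Ξ : L →+* L0 := IsLocalization.lift (M := r.primeCompl) (g := γ) fun c => by
    refine hΘu _ ?_
    rw [hΘγ]
    exact IsLocalization.map_units L c
  have hΞι : ∀ p, Ξ (ι p) = ψ p := fun p => by
    have : Ξ.comp (algebraMap (Localization.Away h) L) =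
        ψ.toRingHom.comp ε.symm.toRingEquiv.toRingHom :=
      IsLocalization.ringHom_ext (Submonoid.powers h) (RingHom.ext fun c => by
        show Ξ (algebraMap _ L (algebraMap C2 _ c)) = _
        rw [← IsScalarTower.algebraMap_apply, IsLocalization.lift_eq])
    exact (DFunLike.congr_fun this (ε p)).trans (congrArg ψ (ε.symm_apply_apply p))
  have hΘΞ : Θ.comp Ξ = RingHom.id L := IsLocalization.ringHom_ext r.primeCompl (RingHom.ext fun c => by
    show Θ (Ξ (algebraMap C2 L c)) = _
    rw [IsLocalization.lift_eq, hΘγ]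
    rfl)
  have hΞB : ∀ b, Ξ (algebraMap B L b) = algebraMap B L0 b := fun b => by
    rw [← ι.commutes, hΞι, ψ.commutes]
  let ΞD : L →ₐ[D] L0 :=
    { Ξ with
      commutes' := fun d => by
        show Ξ (algebraMap D L d) = _
        rw [IsScalarTower.algebraMap_apply D B L, hΞB, ← IsScalarTower.algebraMap_apply] }
  have hΞφ : ΞD.comp φ0 = IsScalarTower.toAlgHom D P0.Ring L0 := P0.hom_ext (by
    show Ξ (φ0 P0.X) = _
    simp only [φ0, StandardEtalePair.lift_X, hΞι, ψ, X0]
    rfl)
  have hΞΘ : Ξ.comp Θ = RingHom.id L0 := IsLocalization.ringHom_ext r0.primeCompl (RingHom.ext fun y => by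
    show Ξ (Θ (algebraMap P0.Ring L0 y)) = _
    rw [hΘ]
    exact DFunLike.congr_fun hΞφ y)
  letI : Algebra A L := ((algebraMap B L).comp (algebraMap A B)).toAlgebra
  haveI : IsScalarTower A B L := IsScalarTower.of_algebraMap_eq fun _ => rfl
  have hΘA : ∀ a, Θ (algebraMap A L0 a) = algebraMap A L a := fun a => by
    rw [IsScalarTower.algebraMap_apply A P0.Ring L0, hΘ, IsScalarTower.algebraMap_apply A D P0.Ring,
      φ0.commutes, IsScalarTower.algebraMap_apply D B L, hAD, ← IsScalarTower.algebraMap_apply]
  have hcomap : r0.comap (algebraMap A P0.Ring) = maximalIdeal A := by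
    have h1 : (maximalIdeal L).comap (algebraMap B L) = maximalIdeal B := by
      rw [IsScalarTower.algebraMap_eq B C2 L, ← Ideal.comap_comap, ← hrB]
      exact congrArg _ (IsLocalization.AtPrime.under_maximalIdeal L r)
    have h2 : (maximalIdeal B).comap (algebraMap A B) = maximalIdeal A := by
      rw [IsScalarTower.algebraMap_eq A C1 B, ← Ideal.comap_comap, ← hqA]
      exact congrArg _ (IsLocalization.AtPrime.under_maximalIdeal B q)
    rw [Ideal.comap_comap]
    conv_rhs => rw [← h2, ← h1, Ideal.comap_comap]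
    congr 1
    ext a
    show φ0 (algebraMap A P0.Ring a) = algebraMap B L (algebraMap A B a)
    rw [IsScalarTower.algebraMap_apply A D P0.Ring, φ0.commutes,
      IsScalarTower.algebraMap_apply D B L, hAD]
  exact ⟨P0.Ring, inferInstance, inferInstance, r0, inferInstance, inferInstance, hcomap,
    ⟨(e2.restrictScalars A).trans (AlgEquiv.ofRingEquiv
      (f := RingEquiv.ofRingHom Ξ Θ hΞΘ hΘΞ) fun a => by
        show Ξ (algebraMap A L a) = _
        rw [← hΘA]
        exact DFunLike.congr_fun hΞΘ _)⟩⟩

end Groth.Ega4b
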