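import Groth.Agent.S16443
import Groth.Agent.S16448
import Groth.Agent.S2654
import Groth.Agent.Calg1.NagataBasic
import Groth.Agent.Calg4.Japanese
import Groth.Agent.ReducedNormal.Basic
import Groth.Agent.EtaleAlgebra.AbsFlat
import Groth.Prelude.Def_EssEt
import Mathlib

/-! Intermediate rings of an essentially étale extension of an excellent reduced local ring:
finiteness of the normalisation and the criterion for being essentially of finite type. -/

set_option autoImplicit false
universe u

open IsLocalRing EGA4loc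
open scoped TensorProduct

namespace Groth.Ega4Algebra2.EssEtNorm

/-- Elements of an essentially étale algebra are quotients of integral elements by integral units. -/
theorem exists_integral_fraction (A E : Type u) [CommRing A] [IsLocalRing A] [CommRing E] [Algebra A E]
    (hE : IsEssentiallyEtale A E) (e : E) :
    ∃ a b : E, IsIntegral A a ∧ IsIntegral A b ∧ IsUnit b ∧ b * e = a := by
  obtain ⟨C, _, _, q, _, hC, -, ⟨ee⟩⟩ := hE
  obtain ⟨r, hrq, hr, hrx⟩ := Algebra.zariskisMainProperty_iff.mp
    (Algebra.ZariskisMainProperty.of_finiteType (R := A) q)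
  obtain ⟨c, s, hcs⟩ := IsLocalization.exists_mk'_eq q.primeCompl (ee e)
  obtain ⟨m, hm⟩ := hrx c
  obtain ⟨n, hn⟩ := hrx (s : C)
  let g : C →ₐ[A] E := ee.symm.toAlgHom.comp (IsScalarTower.toAlgHom A C _)
  have hu : ∀ x : C, x ∉ q → IsUnit (g x) := fun x hx =>
    (IsLocalization.map_units (Localization.AtPrime q) (⟨x, hx⟩ : q.primeCompl)).map ee.symm
  refine ⟨g (r ^ n * (r ^ m * c)), g (r ^ m * (r ^ n * (s : C))), ((hr.pow n).mul hm).map g,
    ((hr.pow m).mul hn).map g, ?_, ?_⟩
  · rw [map_mul, map_mul, map_pow, map_pow]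
    exact ((hu r hrq).pow m).mul (((hu r hrq).pow n).mul (hu _ s.2))
  · have h1 : g (s : C) * e = g c := by
      apply ee.injective
      show ee (ee.symm (algebraMap C _ (s : C)) * e) = ee (ee.symm (algebraMap C _ c))
      rw [map_mul, AlgEquiv.apply_symm_apply, AlgEquiv.apply_symm_apply, ← hcs, IsLocalization.mk'_spec']
    simp only [map_mul, map_pow]
    linear_combination (g r ^ m * g r ^ n) * h1

/-- The total ring of fractions of an essentially étale algebra over a reduced Noetherian local ring: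
integral elements form a finite module when the base is excellent. -/
theorem finite_integralClosure (A E : Type u) [CommRing A] [IsLocalRing A] [IsReduced A] (hA : EGA4.IsExcellent A)
    [CommRing E] [IsLocalRing E] [Algebra A E] [IsLocalHom (algebraMap A E)]
    (hE : IsEssentiallyEtale A E) :
    Module.Finite A (integralClosure A (FractionRing E)) := by
  classical
  haveI : IsNoetherianRing A := hA.1
  have hmin : (minimalPrimes A).Finite := minimalPrimes.finite_of_isNoetherianRing A
  obtain ⟨-, t, ht⟩ := Groth.Agent.S16448.result A E hmin hE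
  haveI : IsReduced E := by
    obtain ⟨C, _, _, q, _, hC, -, ⟨ee⟩⟩ := hE
    haveI : IsReduced C := Groth.EtaleAlgebra.isReduced_of_weaklyEtale A C
    exact isReduced_of_injective ee.toRingEquiv ee.injective
  have hAE : ∀ s ∈ nonZeroDivisors A, IsUnit (algebraMap A (FractionRing E) s) := fun s hs => by
    rw [IsScalarTower.algebraMap_apply A E (FractionRing E)]
    haveI := (Groth.Agent.S16448.result A E hmin hE).1
    exact IsLocalization.map_units (FractionRing E) (⟨_, Submonoid.mem_map_of_mem _ hs⟩ : (nonZeroDivisors A).map (algebraMap A E))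
  let φ : FractionRing A →+* FractionRing E := IsLocalization.lift (fun s : nonZeroDivisors A => hAE s s.2)
  letI : Algebra (FractionRing A) (FractionRing E) := φ.toAlgebra
  haveI : IsScalarTower A (FractionRing A) (FractionRing E) :=
    IsScalarTower.of_algebraMap_eq fun a => (IsLocalization.lift_eq _ a).symm
  haveI : IsArtinianRing (FractionRing A) := Groth.Agent.S16443.isArtinianRing_fractionRing hmin
  haveI : Module.Finite (FractionRing A) (FractionRing E) := by
    refine ⟨⟨t, top_le_iff.1 fun x _ => ?_⟩⟩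
    obtain ⟨a, ha, hax⟩ := ht x
    obtain ⟨b, hb⟩ := (IsLocalization.map_units (FractionRing A) (⟨a, ha⟩ : nonZeroDivisors A)).exists_left_inv
    have h1 : b • (algebraMap A (FractionRing E) a * x) = x := by
      rw [Algebra.smul_def, ← mul_assoc, IsScalarTower.algebraMap_apply A (FractionRing A) (FractionRing E),
        ← map_mul, hb, map_one, one_mul]
    rw [← h1]
    exact Submodule.smul_mem _ _ (Submodule.span_le_restrictScalars A (FractionRing A) _ hax)
  haveI : IsArtinianRing (FractionRing E) := IsArtinianRing.of_finite (FractionRing A) (FractionRing E)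
  haveI : Algebra.IsIntegral (FractionRing A) (FractionRing E) := Algebra.IsIntegral.of_finite _ _
  choose σ hσ using fun τ : FractionRing E =>
    IsIntegral.exists_multiple_integral_of_isLocalization (nonZeroDivisors A) τ
      (Algebra.IsIntegral.isIntegral (R := FractionRing A) τ)
  let Z : Subalgebra A (FractionRing E) := Algebra.adjoin A ((fun τ => σ τ • τ) '' (t : Set (FractionRing E)))
  haveI : Module.Finite A Z := Module.Finite.iff_fg.2 (fg_adjoin_of_finite (t.finite_toSet.image _)
    (by rintro _ ⟨τ, -, rfl⟩; exact hσ τ))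
  haveI : IsNoetherianRing Z := IsNoetherianRing.of_finite A Z
  haveI : IsReduced Z := isReduced_of_injective Z.val Subtype.val_injective
  have hclear : ∀ x : FractionRing E, ∃ s ∈ nonZeroDivisors A, algebraMap A (FractionRing E) s * x ∈ Z := by
    intro x
    obtain ⟨a, ha, hax⟩ := ht x
    suffices h : ∀ y ∈ Submodule.span A (t : Set (FractionRing E)), ∃ s ∈ nonZeroDivisors A,
        algebraMap A (FractionRing E) s * y ∈ Z by
      obtain ⟨s, hs, hsx⟩ := h _ hax
      exact ⟨s * a, mul_mem hs ha, by rwa [map_mul, mul_assoc]⟩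
    intro y hy
    induction hy using Submodule.span_induction with
    | mem τ hτ =>
      refine ⟨σ τ, (σ τ).2, ?_⟩
      rw [← Algebra.smul_def]
      exact Algebra.subset_adjoin ⟨τ, hτ, rfl⟩
    | zero => exact ⟨1, one_mem _, by rw [mul_zero]; exact Z.zero_mem⟩
    | add y z _ _ hy hz =>
      obtain ⟨a, ha, hay⟩ := hy
      obtain ⟨b, hb, hbz⟩ := hz
      refine ⟨a * b, mul_mem ha hb, ?_⟩
      rw [show algebraMap A (FractionRing E) (a * b) * (y + z) = algebraMap A _ b * (algebraMap A _ a * y) +
        algebraMap A _ a * (algebraMap A _ b * z) by rw [map_mul]; ring]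
      exact Z.add_mem (Z.mul_mem (Z.algebraMap_mem _) hay) (Z.mul_mem (Z.algebraMap_mem _) hbz)
    | smul c y _ hy =>
      obtain ⟨a, ha, hay⟩ := hy
      refine ⟨a, ha, ?_⟩
      rw [mul_smul_comm]
      exact Z.smul_mem hay c
  have hnzd : ∀ z : Z, z ∈ nonZeroDivisors Z → IsUnit (z : FractionRing E) := fun z hz => by
    refine IsArtinianRing.isUnit_of_mem_nonZeroDivisors (mem_nonZeroDivisors_iff_right.2 fun y hy => ?_)
    obtain ⟨s, hs, hsy⟩ := hclear y
    have h1 : (⟨_, hsy⟩ : Z) = 0 := mem_nonZeroDivisors_iff_right.1 hz _ (Subtype.ext (by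
      show algebraMap A (FractionRing E) s * y * (z : FractionRing E) = 0
      rw [mul_assoc, hy, mul_zero]))
    exact (hAE s hs).mul_right_eq_zero.1 (congrArg Subtype.val h1)
  haveI : IsFractionRing Z (FractionRing E) := by
    refine ⟨fun z => hnzd z z.2, fun x => ?_, fun {a b} h => ⟨1, by rw [(Subtype.ext h : a = b)]⟩⟩
    obtain ⟨s, hs, hsx⟩ := hclear x
    exact ⟨(⟨_, hsx⟩, ⟨algebraMap A Z s, mem_nonZeroDivisors_iff_right.2 fun y hy => Subtype.ext
      ((hAE s hs).mul_left_eq_zero.1 (congrArg Subtype.val hy))⟩), mul_comm _ _⟩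
  have hNagA : CAlg.IsNagata A := Groth.Agent.S2654.result A ⟨hA.1, hA.2.2.1, hA.2.2.2⟩
  have hNagZ := Groth.Calg1.isNagata_of_finite (S := Z) hNagA
  have h1 : Module.Finite Z (integralClosure Z (FractionRing E)) := by
    refine Groth.Calg4.finite_ic_of_algEquiv Z (FractionRing.algEquiv Z (FractionRing E))
      (Groth.ReducedNormal.finite_integralClosure Z fun P => ?_)
    haveI := Ideal.minimalPrimes_isPrime P.2
    obtain ⟨T, hT, hTs⟩ := (Groth.Calg4.finite_ic_iff (Z ⧸ P.1) (FractionRing (Z ⧸ P.1))).1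
      (Groth.Calg4.finite_ic_of_isN2 (hNagZ.2 P.1) (FractionRing (Z ⧸ P.1)) (FractionRing (Z ⧸ P.1)))
    refine (Groth.Calg4.finite_ic_iff Z (FractionRing (Z ⧸ P.1))).2 ⟨T, hT, fun x => ?_⟩
    rw [← Submodule.restrictScalars_mem Z (Submodule.span (Z ⧸ P.1) T) x |>.trans (hTs x).symm |>.trans
      ⟨fun h => isIntegral_trans (R := Z) x h, fun h => h.tower_top⟩,
      Submodule.restrictScalars_span Z (Z ⧸ P.1) Ideal.Quotient.mk_surjective]
  haveI := h1
  haveI : Module.Finite A (integralClosure Z (FractionRing E)) := Module.Finite.trans Z _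
  let f : integralClosure Z (FractionRing E) →ₗ[A] integralClosure A (FractionRing E) :=
    { toFun := fun x => ⟨x, isIntegral_trans (R := A) (A := Z) (x : FractionRing E) x.2⟩
      map_add' := fun _ _ => rfl
      map_smul' := fun c x => Subtype.ext rfl }
  exact Module.Finite.of_surjective f fun x => ⟨⟨x, x.2.tower_top⟩, rfl⟩

/-- Descent of integral denominators to a subalgebra with Artinian reduced underlying ring. -/
theorem descend {A K : Type u} [CommRing A] [CommRing K] [Algebra A K]
    (L : Subalgebra A K) [IsArtinianRing L] [IsReduced L] (G : Subalgebra A K)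
    (hG : ∀ z, IsIntegral A z → z ∈ G) (M : Ideal G) [M.IsPrime] (P : Ideal K) [P.IsMaximal]
    (hPM : P.comap G.val.toRingHom ≤ M) (x : K) (hx : x ∈ L) (a b : K) (ha : IsIntegral A a)
    (hb : IsIntegral A b) (hbx : b * x = a) (hbM : (⟨b, hG b hb⟩ : G) ∉ M) :
    ∃ z : K, ∃ hz : IsIntegral A z, z ∈ L ∧ IsIntegral A (z * x) ∧ (⟨z, hG z hz⟩ : G) ∉ M := by
  classical
  letI := Ideal.Quotient.field P
  let p : Ideal L := P.comap L.val.toRingHom
  haveI : p.IsPrime := Ideal.IsPrime.comap _
  haveI : p.IsMaximal := IsArtinianRing.isMaximal_of_isPrime p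
  letI := Ideal.Quotient.field p
  let j : L ⧸ p →ₐ[A] K ⧸ P := Ideal.quotientMapₐ P L.val le_rfl
  letI : Algebra (L ⧸ p) (K ⧸ P) := j.toRingHom.toAlgebra
  haveI : IsScalarTower A (L ⧸ p) (K ⧸ P) := IsScalarTower.of_algebraMap_eq fun a => (j.commutes a).symm
  -- the idempotent
  haveI : Finite (MaximalSpectrum L) := inferInstance
  haveI := Fintype.ofFinite (MaximalSpectrum L)
  obtain ⟨ε, hε⟩ := Ideal.exists_forall_sub_mem_ideal (fun m₁ m₂ h => Ideal.isCoprime_iff_sup_eq.2
      (m₁.isMaximal.coprime_of_ne m₂.isMaximal fun e => h (MaximalSpectrum.ext e)))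
    (fun m : MaximalSpectrum L => if m.asIdeal = p then (1 : L) else 0)
  have hall : ∀ z : L, (∀ m : MaximalSpectrum L, z ∈ m.asIdeal) → z = 0 := fun z hz => by
    have : z ∈ nilradical L := by
      rw [nilradical_eq_sInf, Ideal.mem_sInf]
      intro q hq
      haveI : q.IsPrime := hq
      exact hz ⟨q, IsArtinianRing.isMaximal_of_isPrime q⟩
    rwa [nilradical_eq_zero] at this
  have hε1 : 1 - ε ∈ p := by
    have := hε ⟨p, inferInstance⟩
    rw [if_pos rfl] at this
    simpa using p.neg_mem this
  have hεker : ∀ z ∈ p, ε * z = 0 := fun z hz => hall _ fun m => by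
    by_cases hm : m.asIdeal = p
    · exact Ideal.mul_mem_left _ _ (hm ▸ hz)
    · have := hε m
      rw [if_neg hm, sub_zero] at this
      exact Ideal.mul_mem_right _ _ this
  have hlift : ∀ c : L, IsIntegral A (Ideal.Quotient.mk p c) → IsIntegral A ((ε * c : L) : K) := by
    rintro c ⟨f, hf, hfc⟩
    suffices h : IsIntegral A (ε * c) from h.map L.val
    refine ⟨Polynomial.X * f, Polynomial.monic_X.mul hf, ?_⟩
    rw [← Polynomial.aeval_def, map_mul, Polynomial.aeval_X]
    have h1 : Polynomial.aeval c f ∈ p := by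
      rw [← Ideal.Quotient.eq_zero_iff_mem, ← Ideal.Quotient.mkₐ_eq_mk A, ← Polynomial.aeval_algHom_apply]
      rw [Polynomial.aeval_def]; exact hfc
    have h2 : Polynomial.aeval (ε * c) f - Polynomial.aeval c f ∈ p := by
      rw [← Ideal.Quotient.eq_zero_iff_mem, map_sub, ← Ideal.Quotient.mkₐ_eq_mk A,
        ← Polynomial.aeval_algHom_apply, ← Polynomial.aeval_algHom_apply, sub_eq_zero]
      refine congrArg (fun z => Polynomial.aeval z f) ?_
      rw [Ideal.Quotient.mkₐ_eq_mk, Ideal.Quotient.eq]
      rw [show ε * c - c = -((1 - ε) * c) by ring]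
      exact p.neg_mem (Ideal.mul_mem_right _ _ hε1)
    rw [mul_comm ε c, mul_assoc, mul_comm c ε]
    rw [hεker _ (by simpa using p.add_mem h2 h1), mul_zero]
  have hclass : ∀ c : L, Ideal.Quotient.mk P ((ε * c : L) : K) = j (Ideal.Quotient.mk p c) := fun c => by
    show j (Ideal.Quotient.mk p (ε * c)) = _
    rw [(Ideal.Quotient.eq).2 (show ε * c - c ∈ p by
      rw [show ε * c - c = -((1 - ε) * c) by ring]
      exact p.neg_mem (Ideal.mul_mem_right _ _ hε1))]
  by_cases hx0 : Ideal.Quotient.mk P x = 0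
  · have hεint : IsIntegral A ((ε * 1 : L) : K) := hlift 1 (by rw [map_one]; exact isIntegral_one)
    refine ⟨_, hεint, (ε * 1 : L).2, ?_, fun h => ?_⟩
    · have hxp : (⟨x, hx⟩ : L) ∈ p := (show x ∈ P from Ideal.Quotient.eq_zero_iff_mem.1 hx0)
      rw [show ((ε * 1 : L) : K) * x = ((ε * ⟨x, hx⟩ : L) : K) by simp, hεker _ hxp]
      exact isIntegral_zero
    · refine (inferInstance : M.IsPrime).ne_top ((Ideal.eq_top_iff_one _).2 ?_)
      have h1 : (1 : G) - ⟨_, hG _ hεint⟩ ∈ M := hPM (by
        show (1 : K) - ((ε * 1 : L) : K) ∈ P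
        rw [mul_one]
        exact hε1)
      simpa using M.add_mem h h1
  let xk : L ⧸ p := Ideal.Quotient.mk p ⟨x, hx⟩
  have hxk : algebraMap (L ⧸ p) (K ⧸ P) xk = Ideal.Quotient.mk P x := rfl
  have hxk0 : xk ≠ 0 := fun h => hx0 (by rw [← hxk, h, map_zero])
  have hbP : IsIntegral A (Ideal.Quotient.mk P b) := hb.map (Ideal.Quotient.mkₐ A P)
  have haP : IsIntegral A (Ideal.Quotient.mk P a) := ha.map (Ideal.Quotient.mkₐ A P)
  set g := minpoly (L ⧸ p) (Ideal.Quotient.mk P b)
  set h := minpoly (L ⧸ p) (Ideal.Quotient.mk P a)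
  have hgm : g.Monic := minpoly.monic hbP.tower_top
  have hhm : h.Monic := minpoly.monic haP.tower_top
  have hgscale : Polynomial.aeval (Ideal.Quotient.mk P a) (g.scaleRoots xk) = 0 := by
    rw [show Ideal.Quotient.mk P a = algebraMap (L ⧸ p) (K ⧸ P) xk * Ideal.Quotient.mk P b by
      rw [hxk, ← map_mul, mul_comm, hbx]]
    exact Polynomial.scaleRoots_aeval_eq_zero (minpoly.aeval _ _)
  have hhscale : Polynomial.aeval (Ideal.Quotient.mk P b) (h.scaleRoots xk⁻¹) = 0 := by
    rw [show Ideal.Quotient.mk P b = algebraMap (L ⧸ p) (K ⧸ P) xk⁻¹ * Ideal.Quotient.mk P a by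
      rw [← hbx, map_mul, ← hxk, mul_comm (Ideal.Quotient.mk P b), ← mul_assoc, ← map_mul, inv_mul_cancel₀ hxk0,
        map_one, one_mul]]
    exact Polynomial.scaleRoots_aeval_eq_zero (minpoly.aeval _ _)
  have hdeg : g.natDegree ≤ h.natDegree := by
    have := Polynomial.natDegree_le_of_dvd (minpoly.dvd _ _ hhscale)
      ((Polynomial.monic_scaleRoots_iff _).2 hhm).ne_zero
    rwa [Polynomial.natDegree_scaleRoots] at this
  have heq : g.scaleRoots xk = h := Polynomial.eq_of_monic_of_dvd_of_natDegree_le hhm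
    ((Polynomial.monic_scaleRoots_iff _).2 hgm) (minpoly.dvd _ _ hgscale)
    (by rw [Polynomial.natDegree_scaleRoots]; exact hdeg)
  have hcg : ∀ i, IsIntegral A (g.coeff i) := fun i => by
    obtain ⟨f, hf, hfb⟩ := hbP
    refine Polynomial.isIntegral_coeff_of_dvd f g hf hgm (minpoly.dvd _ _ ?_) i
    rw [Polynomial.aeval_map_algebraMap, Polynomial.aeval_def]
    exact hfb
  have hch : ∀ i, IsIntegral A (h.coeff i) := fun i => by
    obtain ⟨f, hf, hfa⟩ := haP
    refine Polynomial.isIntegral_coeff_of_dvd f h hf hhm (minpoly.dvd _ _ ?_) i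
    rw [Polynomial.aeval_map_algebraMap, Polynomial.aeval_def]
    exact hfa
  choose c hc using fun i => Ideal.Quotient.mk_surjective (I := p) (g.coeff i)
  have hcint : ∀ i, IsIntegral A ((ε * c i : L) : K) := fun i => hlift _ (by rw [hc]; exact hcg i)
  let cG : ℕ → G := fun i => ⟨_, hG _ (hcint i)⟩
  obtain ⟨i, hi, hiM⟩ : ∃ i < g.natDegree, cG i ∉ M := by
    by_contra hcon
    push Not at hcon
    let bG : G := ⟨b, hG b hb⟩
    refine hbM ((inferInstance : M.IsPrime).mem_of_pow_mem g.natDegree ?_)
    have h1 : bG ^ g.natDegree + ∑ i ∈ Finset.range g.natDegree, cG i * bG ^ i ∈ M := hPM (by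
      show G.val (bG ^ g.natDegree + ∑ i ∈ Finset.range g.natDegree, cG i * bG ^ i) ∈ P
      rw [← Ideal.Quotient.eq_zero_iff_mem, map_add, map_add, map_pow, map_pow, map_sum, map_sum]
      have hcoe : ∀ i, Ideal.Quotient.mk P (G.val (cG i * bG ^ i)) =
          algebraMap (L ⧸ p) (K ⧸ P) (g.coeff i) * Ideal.Quotient.mk P b ^ i := fun i => by
        rw [map_mul, map_mul, map_pow, map_pow]
        show Ideal.Quotient.mk P ((ε * c i : L) : K) * _ = _
        rw [hclass, hc]
        rfl
      rw [Finset.sum_congr rfl fun i _ => hcoe i]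
      have h2 := minpoly.aeval (L ⧸ p) (Ideal.Quotient.mk P b)
      rw [show minpoly (L ⧸ p) (Ideal.Quotient.mk P b) = g from rfl, hgm.as_sum] at h2
      simpa [map_sum] using h2)
    exact (Submodule.add_mem_iff_left M (M.sum_mem fun i hi => Ideal.mul_mem_right _ _ (hcon i (Finset.mem_range.1 hi)))).1 h1
  have hk : 0 < g.natDegree - i := by omega
  refine ⟨_, hcint i, (ε * c i : L).2, IsIntegral.of_pow hk ?_, hiM⟩
  have hxc : IsIntegral A ((ε * (c i * ⟨x, hx⟩ ^ (g.natDegree - i)) : L) : K) := hlift _ (by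
    rw [map_mul, map_pow, hc, show Ideal.Quotient.mk p ⟨x, hx⟩ = xk from rfl, ← Polynomial.coeff_scaleRoots, heq]
    exact hch i)
  have hε2 : ε * ε = ε := by
    have := hεker _ hε1
    rw [mul_sub, mul_one, sub_eq_zero] at this
    exact this.symm
  rw [show (((ε * c i : L) : K) * x) ^ (g.natDegree - i) =
    ((ε * c i : L) : K) ^ (g.natDegree - i - 1) * ((ε * (c i * ⟨x, hx⟩ ^ (g.natDegree - i)) : L) : K) by
      rw [mul_pow]
      nth_rewrite 1 [show g.natDegree - i = (g.natDegree - i - 1) + 1 by omega]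
      rw [pow_succ]
      simp only [Subalgebra.coe_mul, SubmonoidClass.coe_pow]
      ring]
  exact ((hcint i).pow _).mul hxc

/-- Let `D` be an intermediate ring dominated by `E`. If integral elements of `A` in the fractions of
`D` which are units in the normalisation of `E` have inverses integral over `D`, then `D` is
essentially of finite type. -/
theorem essFiniteType_of_units (A E : Type u) [CommRing A] [IsLocalRing A] [IsReduced A] (hA : EGA4.IsExcellent A)
    [CommRing E] [IsLocalRing E] [Algebra A E] [IsLocalHom (algebraMap A E)]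
    (hE : IsEssentiallyEtale A E) (D : Subalgebra A E) [IsLocalRing D] [IsLocalHom (algebraMap D E)]
    (hu : ∀ y w : FractionRing E, (∃ s ∈ nonZeroDivisors A, ∃ d ∈ D,
        algebraMap A (FractionRing E) s * y = algebraMap E (FractionRing E) d) → IsIntegral A y →
      IsIntegral E w → y * w = 1 → IsIntegral D w) :
    Algebra.EssFiniteType A D := by
  classical
  haveI : IsNoetherianRing A := hA.1
  have hmin : (minimalPrimes A).Finite := minimalPrimes.finite_of_isNoetherianRing A
  let K := FractionRing E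
  let ιE : E →ₐ[A] K := IsScalarTower.toAlgHom A E K
  -- the elements in the fractions of `D`
  let L : Subalgebra A K :=
    { carrier := {x | ∃ s ∈ nonZeroDivisors A, ∃ d ∈ D, algebraMap A K s * x = algebraMap E K d}
      mul_mem' := by
        rintro x y ⟨a, ha, d, hd, had⟩ ⟨b, hb, e, he, hbe⟩
        exact ⟨a * b, mul_mem ha hb, d * e, D.mul_mem hd he, by rw [map_mul, map_mul, ← had, ← hbe]; ring⟩
      add_mem' := by
        rintro x y ⟨a, ha, d, hd, had⟩ ⟨b, hb, e, he, hbe⟩
        refine ⟨a * b, mul_mem ha hb, algebraMap A E b * d + algebraMap A E a * e,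
          D.add_mem (D.mul_mem (D.algebraMap_mem b) hd) (D.mul_mem (D.algebraMap_mem a) he), ?_⟩
        rw [map_add, map_mul (algebraMap E K), map_mul (algebraMap E K), ← had, ← hbe,
          ← IsScalarTower.algebraMap_apply, ← IsScalarTower.algebraMap_apply, map_mul]
        ring
      algebraMap_mem' := fun r => ⟨1, one_mem _, algebraMap A E r, D.algebraMap_mem r,
        by rw [map_one, one_mul, ← IsScalarTower.algebraMap_apply]⟩ }
  let F : Subalgebra A K := integralClosure A K ⊓ L
  haveI : Module.Finite A (integralClosure A K) := finite_integralClosure A E hA hE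
  haveI hFfin : Module.Finite A F := Module.Finite.of_injective
    (Subalgebra.inclusion (inf_le_left : F ≤ integralClosure A K)).toLinearMap
    (Subalgebra.inclusion_injective (inf_le_left : F ≤ integralClosure A K))
  haveI : Algebra.IsIntegral A F := Algebra.IsIntegral.of_finite A F
  -- the normalisation of `E`
  let E' : Subalgebra A K := (integralClosure E K).restrictScalars A
  have hFE' : F ≤ E' := fun x hx => (show IsIntegral A x from hx.1).tower_top
  let ι := Subalgebra.inclusion hFE'
  -- maximal ideals of `F` and those lying under `E'`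
  let Hit : Set (Ideal F) := {N | ∃ M : Ideal E', M.IsMaximal ∧ M.comap ι = N}
  haveI : IsNoetherianRing F := IsNoetherianRing.of_finite A F
  have hMaxFin : {N : Ideal F | N.IsMaximal}.Finite := by
    haveI : Algebra.QuasiFinite A F := inferInstance
    refine (Algebra.QuasiFinite.finite_primesOver (R := A) (S := F) (maximalIdeal A)).subset fun N hN => ?_
    haveI : N.IsMaximal := hN
    exact ⟨hN.isPrime, ⟨(IsLocalRing.eq_maximalIdeal (Ideal.isMaximal_comap_of_isIntegral_of_isMaximal N)).symm⟩⟩
  have hHitMax : ∀ N ∈ Hit, N.IsMaximal := by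
    rintro _ ⟨M, hM, rfl⟩
    haveI : (M.comap ι).IsPrime := Ideal.IsPrime.comap _
    refine Ideal.isMaximal_of_isIntegral_of_isMaximal_comap (R := A) _ ?_
    suffices h : (M.comap ι).comap (algebraMap A F) = maximalIdeal A from h ▸ maximalIdeal.isMaximal A
    refine le_antisymm (IsLocalRing.le_maximalIdeal (Ideal.IsPrime.comap _).ne_top) fun a ha => ?_
    let M₀ : Ideal (integralClosure E K) := M
    haveI : M₀.IsMaximal := hM
    have h1 : algebraMap A E a ∈ M₀.comap (algebraMap E _) := by
      rw [IsLocalRing.eq_maximalIdeal (Ideal.isMaximal_comap_of_isIntegral_of_isMaximal M₀)]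
      exact map_nonunit (algebraMap A E) a ha
    exact h1
  have hHitFin : Hit.Finite := hMaxFin.subset hHitMax
  -- `y`: in all maximal ideals not hit, outside the others
  obtain ⟨y, hy1, hy2⟩ : ∃ y : F, (∀ N : Ideal F, N.IsMaximal → N ∉ Hit → y ∈ N) ∧ ∀ N ∈ Hit, y ∉ N := by
    let U := hMaxFin.toFinset.filter (· ∉ Hit)
    have hns : ¬ ((U.inf id : Ideal F) : Set F) ⊆ ⋃ N ∈ (hHitFin.toFinset : Set (Ideal F)), (N : Set F) := by
      intro hsub
      obtain ⟨N, hN, hle⟩ := (Ideal.subset_union_prime (f := fun N : Ideal F => N) ⊥ ⊥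
        fun N hN _ _ => (hHitMax N (hHitFin.mem_toFinset.1 hN)).isPrime).1 hsub
      obtain ⟨N', hN', hle'⟩ := (Ideal.IsPrime.inf_le' (hHitMax N (hHitFin.mem_toFinset.1 hN)).isPrime).1 hle
      rw [Finset.mem_filter, hMaxFin.mem_toFinset] at hN'
      exact hN'.2 ((hN'.1.eq_of_le (hHitMax N (hHitFin.mem_toFinset.1 hN)).ne_top hle') ▸ hHitFin.mem_toFinset.1 hN)
    obtain ⟨y, hyI, hyU⟩ := Set.not_subset.1 hns
    refine ⟨y, fun N hN hNH => ?_, fun N hN hyN => hyU (Set.mem_iUnion₂.2 ⟨N, hHitFin.mem_toFinset.2 hN, hyN⟩)⟩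
    exact (Submodule.mem_finsetInf.1 hyI) N (Finset.mem_filter.2 ⟨hMaxFin.mem_toFinset.2 hN, hNH⟩)
  -- its inverse
  have hyu : IsUnit (ι y) := by
    by_contra hnu
    obtain ⟨M, hM, hyM⟩ := exists_max_ideal_of_mem_nonunits (show ι y ∈ nonunits E' from hnu)
    exact hy2 _ ⟨M, hM, rfl⟩ hyM
  obtain ⟨w, hw⟩ := hyu.exists_right_inv
  have hyw : (y : K) * (w : K) = 1 := congrArg Subtype.val hw
  have hwD : IsIntegral D (w : K) := hu y w y.2.2 y.2.1 w.2 hyw
  -- denominators
  have hI : ∀ x ∈ D, ∃ z : F, (∀ N ∈ Hit, z ∉ N) ∧ (z : K) * algebraMap E K x ∈ F := by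
    intro x hx
    let xK : K := algebraMap E K x
    let I : Ideal F :=
      { carrier := {z | (z : K) * xK ∈ F}
        add_mem' := fun {p q} hp hq => by
          show ((p + q : F) : K) * xK ∈ F
          rw [Subalgebra.coe_add, add_mul]; exact F.add_mem hp hq
        zero_mem' := by show ((0 : F) : K) * xK ∈ F; rw [ZeroMemClass.coe_zero, zero_mul]; exact F.zero_mem
        smul_mem' := fun c z hz => by
          show ((c * z : F) : K) * xK ∈ F
          rw [Subalgebra.coe_mul, mul_assoc]; exact F.mul_mem c.2 hz }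
    suffices hIN : ∀ N ∈ Hit, ¬ I ≤ N by
      have hns : ¬ (I : Set F) ⊆ ⋃ N ∈ (hHitFin.toFinset : Set (Ideal F)), (N : Set F) := fun hsub => by
        obtain ⟨N, hN, hle⟩ := (Ideal.subset_union_prime (f := fun N : Ideal F => N) ⊥ ⊥
          fun N hN _ _ => (hHitMax N (hHitFin.mem_toFinset.1 hN)).isPrime).1 hsub
        exact hIN N (hHitFin.mem_toFinset.1 hN) hle
      obtain ⟨z, hzI, hzU⟩ := Set.not_subset.1 hns
      exact ⟨z, fun N hN hzN => hzU (Set.mem_iUnion₂.2 ⟨N, hHitFin.mem_toFinset.2 hN, hzN⟩), hzI⟩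
    rintro _ ⟨M, hM, rfl⟩ hle
    obtain ⟨a, b, ha, hb, hbu, hbx⟩ := exists_integral_fraction A E hE x
    let bK : K := algebraMap E K b
    have hbE : ∀ e : E, algebraMap E K e ∈ E' := fun e => (integralClosure E K).algebraMap_mem e
    have hbM : (⟨bK, hbE b⟩ : E') ∉ M := fun h => hM.ne_top (Ideal.eq_top_of_isUnit_mem _ h
      (hbu.map ((ιE.codRestrict E' hbE).toRingHom)))
    -- a minimal prime below `M`
    obtain ⟨P, hPmin, hPM⟩ := Ideal.exists_minimalPrimes_le (I := (⊥ : Ideal E')) (J := M) bot_le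
    haveI := Ideal.minimalPrimes_isPrime hPmin
    haveI : IsArtinianRing (FractionRing A) := Groth.Agent.S16443.isArtinianRing_fractionRing hmin
    obtain ⟨hloc, t, ht⟩ := Groth.Agent.S16448.result A E hmin hE
    have hAK : ∀ s ∈ nonZeroDivisors A, IsUnit (algebraMap A K s) := fun s hs => by
      rw [IsScalarTower.algebraMap_apply A E K]
      exact IsLocalization.map_units K (⟨_, Submonoid.mem_map_of_mem _ hs⟩ : (nonZeroDivisors A).map (algebraMap A E))
    let φ : FractionRing A →+* K := IsLocalization.lift (fun s : nonZeroDivisors A => hAK s s.2)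
    letI : Algebra (FractionRing A) K := φ.toAlgebra
    haveI : IsScalarTower A (FractionRing A) K :=
      IsScalarTower.of_algebraMap_eq fun a => (IsLocalization.lift_eq _ a).symm
    haveI : Module.Finite (FractionRing A) K := by
      refine ⟨⟨t, top_le_iff.1 fun x _ => ?_⟩⟩
      obtain ⟨a, ha, hax⟩ := ht x
      obtain ⟨b, hb⟩ := (IsLocalization.map_units (FractionRing A) (⟨a, ha⟩ : nonZeroDivisors A)).exists_left_inv
      have h1 : b • (algebraMap A K a * x) = x := by
        rw [Algebra.smul_def, ← mul_assoc, IsScalarTower.algebraMap_apply A (FractionRing A) K,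
          ← map_mul, hb, map_one, one_mul]
      rw [← h1]
      exact Submodule.smul_mem _ _ (Submodule.span_le_restrictScalars A (FractionRing A) _ hax)
    haveI : IsArtinianRing K := IsArtinianRing.of_finite (FractionRing A) K
    let L' : Subalgebra (FractionRing A) K :=
      { L.toSubsemiring with
        algebraMap_mem' := fun r => by
          obtain ⟨a, s, rfl⟩ := IsLocalization.exists_mk'_eq (nonZeroDivisors A) r
          refine ⟨s, s.2, algebraMap A E a, D.algebraMap_mem a, ?_⟩
          rw [IsScalarTower.algebraMap_apply A (FractionRing A) K, ← map_mul, IsLocalization.mk'_spec',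
            ← IsScalarTower.algebraMap_apply, ← IsScalarTower.algebraMap_apply] }
    haveI : IsNoetherian (FractionRing A) K := inferInstance
    haveI : Module.Finite (FractionRing A) L' := Module.Finite.iff_fg.2 (IsNoetherian.noetherian (Subalgebra.toSubmodule L'))
    haveI : IsArtinianRing L' := IsArtinianRing.of_finite (FractionRing A) L'
    haveI : IsReduced E := by
      obtain ⟨C, _, _, q, _, hC, -, ⟨ee⟩⟩ := hE
      haveI : IsReduced C := Groth.EtaleAlgebra.isReduced_of_weaklyEtale A C
      exact isReduced_of_injective ee.toRingEquiv ee.injective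
    haveI : IsReduced L' := isReduced_of_injective L'.val Subtype.val_injective
    -- the residue field at `P`
    have hnzd : ∀ s ∈ nonZeroDivisors A, algebraMap A E' s ∉ P := fun s hs h =>
      Set.disjoint_left.1 (Ideal.disjoint_nonZeroDivisors_of_mem_minimalPrimes hPmin) h
        (mem_nonZeroDivisors_iff_right.2 fun z hz => Subtype.ext ((hAK s hs).mul_left_eq_zero.1 (congrArg Subtype.val hz)))
    let M' : Submonoid E' := (nonZeroDivisors A).map (algebraMap A E')
    haveI : IsLocalization M' K := by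
      refine ⟨?_, fun z => ?_, fun {a b} h => ⟨1, by rw [(Subtype.ext h : a = b)]⟩⟩
      · rintro ⟨_, s, hs, rfl⟩; exact hAK s hs
      · obtain ⟨⟨e, s⟩, hes⟩ := IsLocalization.surj ((nonZeroDivisors A).map (algebraMap A E)) z
        obtain ⟨s', hs', hss⟩ := s.2
        refine ⟨(⟨_, hbE e⟩, ⟨_, s', hs', rfl⟩), ?_⟩
        show z * algebraMap A K s' = algebraMap E K e
        rw [← hes, IsScalarTower.algebraMap_apply A E K, hss]
    have hdisj : Disjoint (M' : Set E') (P : Set E') := Set.disjoint_left.2 fun z ⟨s, hs, hsz⟩ hz =>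
      hnzd s hs (hsz ▸ hz)
    let PK : Ideal K := P.map (algebraMap E' K)
    haveI hPKp : PK.IsPrime := IsLocalization.isPrime_of_isPrime_disjoint M' K P inferInstance hdisj
    haveI : PK.IsMaximal := IsArtinianRing.isMaximal_of_isPrime PK
    have hPKcomap : PK.comap (algebraMap E' K) = P :=
      IsLocalization.comap_map_of_isPrime_disjoint M' K inferInstance hdisj
    let eL : L' ≃+* L :=
      { toFun := fun z => ⟨z, z.2⟩, invFun := fun z => ⟨z, z.2⟩, left_inv := fun _ => rfl,
        right_inv := fun _ => rfl, map_mul' := fun _ _ => rfl, map_add' := fun _ _ => rfl }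
    haveI : IsArtinianRing L := eL.surjective.isArtinianRing
    haveI : IsReduced L := isReduced_of_injective L.val Subtype.val_injective
    haveI : M.IsPrime := hM.isPrime
    have hxL : xK ∈ L := ⟨1, one_mem _, x, hx, by rw [map_one, one_mul]⟩
    obtain ⟨z, hz, hzL, hzx, hzM⟩ := descend L E' (fun z hz => (hz.tower_top (A := E) :)) M PK
      (by rw [show E'.val.toRingHom = algebraMap E' K from rfl, hPKcomap]; exact hPM) xK hxL
      (algebraMap E K a) (algebraMap E K b) (ha.map ιE) (hb.map ιE)
      (by rw [← map_mul, hbx]) hbM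
    exact hzM (hle (show (⟨z, hz, hzL⟩ : F) ∈ I from ⟨hzx, L.mul_mem hzL hxL⟩))
  -- the finite subalgebra of coefficients
  obtain ⟨p, hp, hpw⟩ := hwD
  let B : Subalgebra A E := Algebra.adjoin A ((p.support.image fun i => ((p.coeff i : D) : E) : Finset E) : Set E)
  have hBD : B ≤ D := Algebra.adjoin_le (by
    intro z hz
    obtain ⟨i, -, rfl⟩ := Finset.mem_image.1 hz
    exact (p.coeff i).2)
  haveI : Algebra.FiniteType A B :=
    Subalgebra.fg_iff_finiteType _ |>.1 (Subalgebra.fg_adjoin_finset _)
  haveI : IsNoetherianRing B := Algebra.FiniteType.isNoetherianRing A B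
  -- its localization inside `D`
  let U : Submonoid B := (IsUnit.submonoid D).comap (Subalgebra.inclusion hBD).toRingHom.toMonoidHom
  let ρ : B →+* D := (Subalgebra.inclusion hBD).toRingHom
  let D₀ : Subalgebra A D :=
    { carrier := {d | ∃ u ∈ U, ∃ b : B, d * ρ u = ρ b}
      mul_mem' := by
        rintro d e ⟨u, hu, b, hb⟩ ⟨v, hv, c, hc⟩
        exact ⟨u * v, mul_mem hu hv, b * c, by rw [map_mul, map_mul, ← hb, ← hc]; ring⟩
      add_mem' := by
        rintro d e ⟨u, hu, b, hb⟩ ⟨v, hv, c, hc⟩
        exact ⟨u * v, mul_mem hu hv, b * v + c * u, by rw [map_add, map_mul, map_mul, map_mul, ← hb, ← hc]; ring⟩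
      algebraMap_mem' := fun r => ⟨1, one_mem _, algebraMap A B r, by rw [map_one, mul_one]; rfl⟩ }
  have hρD₀ : ∀ b : B, ρ b ∈ D₀ := fun b => ⟨1, one_mem _, b, by rw [map_one, mul_one]⟩
  letI : Algebra B D₀ := (ρ.codRestrict D₀ hρD₀).toAlgebra
  haveI : IsScalarTower A B D₀ := IsScalarTower.of_algebraMap_eq fun r => rfl
  have hunitD₀ : ∀ d : D₀, IsUnit (d : D) → IsUnit d := by
    rintro ⟨d, u, hu, b, hb⟩ hd
    obtain ⟨d', hd'⟩ := hd.exists_right_inv
    refine IsUnit.of_mul_eq_one ⟨d', b, show IsUnit (ρ b) from hb ▸ hd.mul hu, u, ?_⟩ (Subtype.ext hd')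
    rw [← hb, ← mul_assoc, mul_comm d' d, hd', one_mul]
  haveI : IsLocalization U D₀ := by
    refine ⟨fun u => hunitD₀ _ u.2, fun ⟨d, u, hu, b, hb⟩ => ⟨(b, ⟨u, hu⟩), Subtype.ext hb⟩,
      fun {a b} h => ⟨1, ?_⟩⟩
    rw [show a = b from Subalgebra.inclusion_injective hBD (congrArg Subtype.val h)]
  haveI : IsNoetherianRing D₀ := IsLocalization.isNoetherianRing U _ inferInstance
  haveI : Algebra.EssFiniteType B D₀ := Algebra.EssFiniteType.of_isLocalization _ U
  haveI : Algebra.EssFiniteType A D₀ := Algebra.EssFiniteType.comp A B D₀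
  haveI : IsLocalRing D₀ := IsLocalRing.of_isUnit_or_isUnit_one_sub_self fun d =>
    (IsLocalRing.isUnit_or_isUnit_one_sub_self (d : D)).imp (hunitD₀ d) (hunitD₀ (1 - d))
  have hlocA : ∀ a ∈ maximalIdeal A, algebraMap A D₀ a ∈ maximalIdeal D₀ := fun a ha hu =>
    map_nonunit (algebraMap A E) a ha ((hu.map D₀.val).map D.val)
  -- the finite module containing `D`
  let j : D₀ →+* K := ((algebraMap E K).comp D.val.toRingHom).comp D₀.val.toRingHom
  haveI : IsScalarTower A D₀ K :=
    IsScalarTower.of_algebraMap_eq (R := A) (S := D₀) (A := K) fun r => IsScalarTower.algebraMap_apply A E K r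
  obtain ⟨T, hT⟩ := (Module.Finite.fg_top (R := A) (M := F))
  let S₀ : Finset K := insert (w : K) (T.image fun z : F => (z : K))
  let R₀ : Subalgebra D₀ K := Algebra.adjoin D₀ (S₀ : Set K)
  have hwint : IsIntegral D₀ (w : K) := by
    have hcoef : ∀ i, (p.coeff i : D) ∈ D₀ := fun i => by
      by_cases hi : i ∈ p.support
      · exact hρD₀ ⟨_, Algebra.subset_adjoin (Finset.mem_image.2 ⟨i, hi, rfl⟩)⟩
      · rw [Polynomial.notMem_support_iff.1 hi]; exact D₀.zero_mem
    let p₀ : Polynomial D₀ := ∑ i ∈ Finset.range (p.natDegree + 1), Polynomial.C ⟨_, hcoef i⟩ * Polynomial.X ^ i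
    have hp₀ : p₀.map D₀.val.toRingHom = p := by
      rw [Polynomial.map_sum]
      conv_rhs => rw [p.as_sum_range' (p.natDegree + 1) (Nat.lt_succ_self _)]
      exact Finset.sum_congr rfl fun i _ => by simp [Polynomial.C_mul_X_pow_eq_monomial]
    refine ⟨p₀, Polynomial.monic_of_injective (f := D₀.val.toRingHom) Subtype.val_injective (hp₀.symm ▸ hp), ?_⟩
    rw [← hp₀, Polynomial.eval₂_map] at hpw
    exact hpw
  haveI hR₀fin : Module.Finite D₀ R₀ := Module.Finite.iff_fg.2 (fg_adjoin_of_finite S₀.finite_toSet (by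
    intro z hz
    rw [Finset.coe_insert, Finset.coe_image] at hz
    rcases hz with h | ⟨z', -, h⟩
    · rw [h]; exact hwint
    · rw [← h]; exact (show IsIntegral A (z' : K) from z'.2.1).tower_top))
  haveI : Algebra.IsIntegral D₀ R₀ := Algebra.IsIntegral.of_finite D₀ R₀
  have hFR : ∀ z : F, (z : K) ∈ R₀ := fun z => by
    have hz : z ∈ Submodule.span A (T : Set F) := hT ▸ Submodule.mem_top
    induction hz using Submodule.span_induction with
    | mem z hz => exact Algebra.subset_adjoin (Finset.mem_insert_of_mem (Finset.mem_image_of_mem _ hz))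
    | zero => exact R₀.zero_mem
    | add y z _ _ hy hz => exact R₀.add_mem hy hz
    | smul c y _ hy =>
      rw [SetLike.val_smul, Algebra.smul_def, IsScalarTower.algebraMap_apply A D₀ K]
      exact R₀.mul_mem (R₀.algebraMap_mem _) hy
  let κ : F →+* R₀ := F.val.toRingHom.codRestrict R₀ hFR
  have hDR : ∀ x ∈ D, algebraMap E K x ∈ R₀ := by
    intro x hx
    obtain ⟨z, hzH, hzx⟩ := hI x hx
    have hzu : IsUnit (κ z) := by
      by_contra hnu
      obtain ⟨N, hN, hzN⟩ := exists_max_ideal_of_mem_nonunits (show κ z ∈ nonunits R₀ from hnu)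
      haveI : N.IsMaximal := hN
      haveI : (N.comap κ).IsPrime := Ideal.IsPrime.comap _
      have hmax : (N.comap κ).IsMaximal := by
        refine Ideal.isMaximal_of_isIntegral_of_isMaximal_comap (R := A) _ ?_
        suffices h : (N.comap κ).comap (algebraMap A F) = maximalIdeal A from h ▸ maximalIdeal.isMaximal A
        refine le_antisymm (IsLocalRing.le_maximalIdeal (Ideal.IsPrime.comap _).ne_top) fun a ha => ?_
        have h1 : algebraMap D₀ R₀ (algebraMap A D₀ a) ∈ N := by
          show algebraMap A D₀ a ∈ N.comap (algebraMap D₀ R₀)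
          rw [IsLocalRing.eq_maximalIdeal (Ideal.isMaximal_comap_of_isIntegral_of_isMaximal (R := D₀) (S := R₀) N)]
          exact hlocA a ha
        show κ (algebraMap A F a) ∈ N
        rw [show κ (algebraMap A F a) = algebraMap D₀ R₀ (algebraMap A D₀ a) from
          Subtype.ext (IsScalarTower.algebraMap_apply A D₀ K a)]
        exact h1
      by_cases hH : N.comap κ ∈ Hit
      · exact hzH _ hH hzN
      · have hyN : κ y ∈ N := hy1 _ hmax hH
        refine hN.ne_top (Ideal.eq_top_of_isUnit_mem _ hyN (IsUnit.of_mul_eq_one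
          ⟨(w : K), Algebra.subset_adjoin (Finset.mem_insert_self _ _)⟩ (Subtype.ext hyw)))
    obtain ⟨v, hv⟩ := hzu.exists_left_inv
    have hv' : (v : K) * (z : K) = 1 := congrArg Subtype.val hv
    rw [← one_mul (algebraMap E K x), ← hv', mul_assoc]
    exact R₀.mul_mem v.2 (hFR ⟨_, hzx⟩)
  let f : D →ₗ[D₀] R₀ :=
    { toFun := fun d => ⟨algebraMap E K d, hDR d d.2⟩
      map_add' := fun _ _ => Subtype.ext (map_add _ _ _)
      map_smul' := fun c d => Subtype.ext (by
        exact (map_mul (algebraMap E K) ((c : D) : E) (d : E)).trans (Algebra.smul_def c (algebraMap E K (d : E))).symm) }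
  haveI : IsNoetherian D₀ R₀ := isNoetherian_of_isNoetherianRing_of_finite D₀ R₀
  haveI : Module.Finite D₀ D := Module.Finite.of_injective f fun a b h =>
    Subtype.ext (IsFractionRing.injective E K (congrArg Subtype.val h))
  exact Algebra.EssFiniteType.comp A D₀ D

end Groth.Ega4Algebra2.EssEtNorm
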