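import Groth.Agent.Ega4Algebra1.ExcellentLoc
import Groth.Agent.PropsBasic.RegularCompletion
import Groth.Agent.Calg4.NormalAscent
import Groth.Agent.Ega4Algebra2.NormalDescent
import Groth.Agent.Ega4Algebra2.OnePlus
import Groth.Agent.Ega4Algebra2.FibreChange
import Groth.Agent.AdicLinTop.CompletionQuot
import Groth.Agent.S5785
import Mathlib

/-!
# Completions of excellent normal quotients of regular rings
-/

set_option autoImplicit false
set_option linter.style.haveILetI false

universe u

open IsLocalRing TensorProduct

namespace Groth.Ega4b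

/-- A surjection of Noetherian rings induces a surjection on completions. -/
theorem exists_surjective_completion {A B : Type u} [CommRing A] [CommRing B] [IsNoetherianRing A]
    [IsNoetherianRing B] (f : A →+* B) (hf : Function.Surjective f) (J : Ideal B) :
    ∃ ψ : AdicCompletion (J.comap f) A →+* AdicCompletion J B, Function.Surjective ψ := by
  let I := J.comap f
  have hIJ : I.map f = J := Ideal.map_comap_of_surjective f hf J
  let CA := AdicCompletion I A
  let CB := AdicCompletion J B
  let ψ : CA →+* CB := Groth.PropsBasic.GRingLocal.cplMap I J f hIJ.le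
  refine ⟨ψ, ?_⟩
  let K : Ideal CA := I.map (algebraMap A CA)
  have hψ : ∀ a, ψ (algebraMap A CA a) = algebraMap B CB (f a) := fun a =>
    Groth.Calg4.cplMap_algebraMap I J f hIJ.le a
  have hKmap : K.map ψ = J.map (algebraMap B CB) := by
    rw [Ideal.map_map, show ψ.comp (algebraMap A CA) = (algebraMap B CB).comp f from RingHom.ext hψ,
      ← Ideal.map_map, hIJ]
  haveI : IsNoetherianRing CB := Groth.Calg1.isNoetherianRing_adicCompletion _ (IsNoetherian.noetherian _)
  haveI : IsAdicComplete K CA := AdicCompletion.isAdicComplete_self _ (IsNoetherian.noetherian _)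
  haveI : IsHausdorff (K.map ψ) CB := by
    rw [hKmap]
    exact (AdicCompletion.isAdicComplete_self J (IsNoetherian.noetherian _)).toIsHausdorff
  refine surjective_of_mk_map_comp_surjective (I := K) ψ fun y => ?_
  obtain ⟨y, rfl⟩ := Ideal.Quotient.mk_surjective y
  obtain ⟨b, hb⟩ := Ideal.Quotient.mk_surjective (AdicCompletion.evalₐ J 1 y)
  obtain ⟨a, rfl⟩ := hf b
  refine ⟨algebraMap A CA a, ?_⟩
  rw [RingHom.comp_apply, eq_comm, Ideal.Quotient.eq, hKmap, hψ, ← pow_one (J.map (algebraMap B CB)),
    ← Groth.AdicLinTop.CompletionQuot.ker_evalₐ J (IsNoetherian.noetherian _) 1, RingHom.mem_ker]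
  show AdicCompletion.evalₐ J 1 _ = 0
  rw [map_sub, Groth.AdicLinTop.CompletionQuot.evalₐ_algebraMap, ← hb, sub_self]

/-- Completions of localizations of excellent normal quotients of regular rings. -/
theorem isNormalRing_and_quotient_regular (A : Type u) [CommRing A] [IsDomain A] [IsIntegrallyClosed A]
    (hexc : EGA4.IsExcellent A)
    (hreg : ∃ (R : Type u) (_ : CommRing R) (_ : IsRegularRing R) (φ : R →+* A), Function.Surjective φ)
    (f : A) (J : Ideal (Localization.Away f)) :
    EGA4.IsNormalRing (AdicCompletion J (Localization.Away f)) ∧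
      ∃ (R' : Type u) (_ : CommRing R') (_ : IsRegularRing R')
        (ψ : R' →+* AdicCompletion J (Localization.Away f)), Function.Surjective ψ := by
  haveI := hexc.1
  let Af := Localization.Away f
  let C := AdicCompletion J Af
  haveI : IsNoetherianRing Af := IsLocalization.isNoetherianRing (Submonoid.powers f) Af ‹_›
  haveI : IsNoetherianRing C := Groth.Calg1.isNoetherianRing_adicCompletion _ (IsNoetherian.noetherian _)
  have hG : CAlg.IsGRing Af := Groth.Ega4Algebra1.isGRing_localization hexc.2.2.1 (Submonoid.powers f)
  have hN : EGA4.IsNormalRing Af :=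
    isNormalRing_of_isLocalization (Submonoid.powers f) Af (isNormalRing_of_isDomain A)
  have hr : CAlg.IsRegularHom Af C :=
    Groth.PropsBasic.RegularCompletion.isRegularHom_adicCompletion J fun m _ => hG.2 m
  haveI := hr.1
  refine ⟨Groth.Calg4.isNormalRing_of_flat_of_regular_fibers Af C hN fun q _ => ?_, ?_⟩
  · exact isRegularRing_of_ringEquiv (Algebra.TensorProduct.lid q.ResidueField (q.Fiber C)).toRingEquiv
      ((hr.2 q).2 q.ResidueField inferInstance)
  · obtain ⟨R, _, _, φ, hφ⟩ := hreg
    obtain ⟨g, rfl⟩ := hφ f
    let Rg := Localization.Away g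
    haveI : IsRegularRing Rg := Groth.Calg4.isRegularRing_of_isLocalization Rg (Submonoid.powers g)
    haveI : IsNoetherianRing Rg := IsLocalization.isNoetherianRing (Submonoid.powers g) Rg inferInstance
    let θ : Rg →+* Af := IsLocalization.Away.map Rg Af φ g
    have hθ : Function.Surjective θ := by
      have : IsLocalization ((Submonoid.powers g).map φ) Af := by
        rw [Submonoid.map_powers]
        exact inferInstanceAs (IsLocalization.Away (φ g) Af)
      exact IsLocalization.map_surjective_of_surjective (Submonoid.powers g) Rg Af hφ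
    obtain ⟨ψ, hψ⟩ := exists_surjective_completion θ hθ J
    exact ⟨_, inferInstance, Groth.Agent.S5785.result Rg (J.comap θ), ψ, hψ⟩

end Groth.Ega4b
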