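import Groth.Agent.Ega4Algebra2.GenericFS
import Groth.Agent.Ega4Algebra2.GRingComplete
import Groth.Agent.S4535
import Groth.Agent.S2461
import Mathlib

/-!
# Finite base change of formally smooth maps of complete local rings: regularity over the generic point
-/

set_option autoImplicit false
set_option linter.style.haveILetI false

universe u

open IsLocalRing TensorProduct

namespace Groth.Ega4b

/-- A larger ideal of definition only weakens adic formal smoothness. -/
theorem isFormallySmoothAdic_mono {A B : Type u} [CommRing A] [CommRing B] [Algebra A B] {𝔞 : Ideal A}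
    {𝔟 𝔟' : Ideal B} (hle : 𝔟 ≤ 𝔟') (h : EGA41.IsFormallySmoothAdic A 𝔞 B 𝔟) :
    EGA41.IsFormallySmoothAdic A 𝔞 B 𝔟' :=
  fun C _ _ J hJ hk u ⟨k, hu⟩ => h C J hJ hk u ⟨k, fun x hx => hu x (Ideal.pow_right_mono hle k hx)⟩

/-- Adic formal smoothness passes to a localization. -/
theorem isFormallySmoothAdic_localization {A B L : Type u} [CommRing A] [CommRing B] [CommRing L] [Algebra A B]
    [Algebra B L] [Algebra A L] [IsScalarTower A B L] (M : Submonoid B) [IsLocalization M L] {𝔞 : Ideal A}
    {𝔟 : Ideal B} (h : EGA41.IsFormallySmoothAdic A 𝔞 B 𝔟) :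
    EGA41.IsFormallySmoothAdic A 𝔞 L (𝔟.map (algebraMap B L)) := by
  intro C _ _ J hJ hk u ⟨k, hu⟩
  obtain ⟨v, hv⟩ := h C J hJ hk (u.comp (IsScalarTower.toAlgHom A B L)) ⟨k, fun x hx => hu _ (by
    rw [← Ideal.map_pow]; exact Ideal.mem_map_of_mem _ hx)⟩
  have hunit : ∀ y : M, IsUnit (v y) := fun y => by
    have h1 : IsUnit (Ideal.Quotient.mk J (v y)) := by
      rw [show Ideal.Quotient.mk J (v y) = u (algebraMap B L y) from AlgHom.congr_fun hv (y : B)]
      exact (IsLocalization.map_units L y).map u
    obtain ⟨n, hn⟩ := hJ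
    obtain ⟨w, hw⟩ := h1.exists_right_inv
    obtain ⟨w, rfl⟩ := Ideal.Quotient.mk_surjective w
    rw [← map_mul, ← (Ideal.Quotient.mk J).map_one, Ideal.Quotient.eq] at hw
    have hnil : IsNilpotent (v y * w - 1) := ⟨n, by
      have := Ideal.pow_mem_pow hw n
      rwa [hn] at this⟩
    have h2 : IsUnit (v y * w) := by
      rw [show v y * w = (v y * w - 1) + 1 by ring]
      exact IsNilpotent.isUnit_add_one hnil
    exact isUnit_of_mul_isUnit_left h2
  refine ⟨IsLocalization.liftAlgHom (f := v) hunit, ?_⟩
  apply AlgHom.ext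
  intro l
  have : ((Ideal.Quotient.mk J).comp (IsLocalization.lift hunit : L →+* C)) = u.toRingHom := by
    refine IsLocalization.ringHom_ext M (RingHom.ext fun b => ?_)
    show Ideal.Quotient.mk J (IsLocalization.lift hunit (algebraMap B L b)) = u (algebraMap B L b)
    rw [IsLocalization.lift_eq]
    exact AlgHom.congr_fun hv b
  exact RingHom.congr_fun this l

attribute [local instance] Algebra.TensorProduct.rightAlgebra

/-- After a finite domain extension of the base, the generic fibre of a formally smooth map of complete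
local rings is regular. -/
theorem isRegularLocalRing_tensor_of_fs (A B : Type u) [CommRing A] [IsLocalRing A] [IsNoetherianRing A]
    [IsAdicComplete (maximalIdeal A) A] [CommRing B] [IsLocalRing B] [IsNoetherianRing B]
    [IsAdicComplete (maximalIdeal B) B] [Algebra A B] [IsLocalHom (algebraMap A B)]
    (hfs : EGA41.IsFormallySmoothAdic A (maximalIdeal A) B (maximalIdeal B))
    (A' : Type u) [CommRing A'] [IsDomain A'] [Algebra A A'] [Module.Finite A A'] (Q : Ideal (A' ⊗[A] B))
    [Q.IsPrime] (hQ : Q.comap (algebraMap A' (A' ⊗[A] B)) = ⊥) :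
    IsRegularLocalRing (Localization.AtPrime Q) := by
  classical
  obtain ⟨hloc, hcomp⟩ := exists_isAdicComplete_finite_domain A A'
  haveI := hloc
  haveI := hcomp
  haveI : IsNoetherianRing A' := IsNoetherianRing.of_finite A A'
  let T := A' ⊗[A] B
  haveI : IsNoetherianRing (B ⊗[A] A') := Algebra.FiniteType.isNoetherianRing B _
  haveI : IsNoetherianRing T :=
    isNoetherianRing_of_ringEquiv (B ⊗[A] A') (Algebra.TensorProduct.comm A B A').toRingEquiv
  let τ : (B ⊗[A] A') ≃ₐ[B] T :=
    AlgEquiv.ofRingEquiv (f := (Algebra.TensorProduct.comm A B A').toRingEquiv) fun b => by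
      show Algebra.TensorProduct.comm A B A' (b ⊗ₜ[A] 1) = _
      rw [Algebra.TensorProduct.comm_tmul]
      rfl
  haveI : Module.Finite B T := Module.Finite.equiv τ.toLinearEquiv
  obtain ⟨n, hn, hQn⟩ := Q.exists_le_maximal ‹Q.IsPrime›.ne_top
  haveI := hn
  have hnB : n.comap (algebraMap B T) = maximalIdeal B :=
    IsLocalRing.eq_maximalIdeal (Ideal.isMaximal_comap_of_isIntegral_of_isMaximal (R := B) n)
  have hnA : n.comap (algebraMap A T) = maximalIdeal A := by
    rw [IsScalarTower.algebraMap_eq A B T, ← Ideal.comap_comap, hnB]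
    exact ((local_hom_TFAE (algebraMap A B)).out 0 4).mp ‹IsLocalHom (algebraMap A B)›
  have hnA' : n.comap (algebraMap A' T) = maximalIdeal A' := by
    refine IsLocalRing.eq_maximalIdeal (Ideal.isMaximal_of_isIntegral_of_isMaximal_comap (R := A) _ ?_)
    rw [Ideal.comap_comap, ← IsScalarTower.algebraMap_eq, hnA]
    exact maximalIdeal.isMaximal A
  have hAA' : (maximalIdeal A).map (algebraMap A A') ≤ maximalIdeal A' := by
    rw [Ideal.map_le_iff_le_comap, ← hnA', Ideal.comap_comap, ← IsScalarTower.algebraMap_eq, hnA]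
  have h1 : EGA41.IsFormallySmoothAdic A' (maximalIdeal A') T n := by
    refine isFormallySmoothAdic_mono ?_
      (Groth.Agent.S4535.result (maximalIdeal A) (maximalIdeal B) (maximalIdeal A') ⟨1, by rwa [pow_one]⟩ hfs)
    refine sup_le (Ideal.map_le_iff_le_comap.2 hnA'.ge) (Ideal.map_le_iff_le_comap.2 hnB.ge)
  let L := Localization.AtPrime n
  let C := EGA4.Cpl L
  haveI : IsNoetherianRing C := isNoetherianRing_cpl L
  haveI : IsAdicComplete (maximalIdeal C) C := by
    rw [AdicCompletion.maximalIdeal_eq_map]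
    exact AdicCompletion.isAdicComplete_self _ (IsNoetherian.noetherian _)
  haveI : IsLocalHom (algebraMap A' L) := ⟨fun a ha => by
    by_contra hna
    have ham : a ∈ n.comap (algebraMap A' T) := by rw [hnA']; exact hna
    rw [IsScalarTower.algebraMap_apply A' T L] at ha
    exact (IsLocalization.AtPrime.isUnit_to_map_iff L n _).1 ha ham⟩
  haveI : IsLocalHom (algebraMap A' C) := isLocalHom_cpl A' L
  have h2 : EGA41.IsFormallySmoothAdic A' (maximalIdeal A') L (maximalIdeal L) := by
    rw [← Localization.AtPrime.map_eq_maximalIdeal]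
    exact isFormallySmoothAdic_localization n.primeCompl h1
  have h3 : EGA41.IsFormallySmoothAdic A' (maximalIdeal A') C (maximalIdeal C) := by
    rw [AdicCompletion.maximalIdeal_eq_map]
    exact (Groth.Agent.S2461.result _ _).mp h2
  have hdisj : Disjoint (n.primeCompl : Set T) (Q : Set T) :=
    Set.disjoint_left.2 fun x hx hxQ => hx (hQn hxQ)
  haveI := IsLocalization.isPrime_of_isPrime_disjoint n.primeCompl L Q inferInstance hdisj
  haveI := faithfullyFlat_cpl L
  haveI : Module.Flat T C := Module.Flat.trans T L C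
  obtain ⟨Q', hQ'⟩ := PrimeSpectrum.comap_surjective_of_faithfullyFlat (A := L) (B := C)
    ⟨Q.map (algebraMap T L), inferInstance⟩
  have hQ'Q : Q'.asIdeal.comap (algebraMap T C) = Q := by
    rw [IsScalarTower.algebraMap_eq T L C, ← Ideal.comap_comap,
      show Q'.asIdeal.comap (algebraMap L C) = Q.map (algebraMap T L) from congrArg PrimeSpectrum.asIdeal hQ']
    exact IsLocalization.under_map_of_isPrime_disjoint n.primeCompl L inferInstance hdisj
  haveI : IsRegularLocalRing (Localization.AtPrime Q'.asIdeal) :=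
    isRegularLocalRing_of_fs_of_comap_eq_bot h3 Q'.asIdeal (by
      rw [IsScalarTower.algebraMap_eq A' T C, ← Ideal.comap_comap, hQ'Q, hQ])
  letI : Algebra (Localization.AtPrime Q) (Localization.AtPrime Q'.asIdeal) :=
    (Localization.localRingHom Q Q'.asIdeal (algebraMap T C) hQ'Q.symm).toAlgebra
  haveI : IsLocalHom (algebraMap (Localization.AtPrime Q) (Localization.AtPrime Q'.asIdeal)) :=
    Localization.isLocalHom_localRingHom Q Q'.asIdeal _ hQ'Q.symm
  haveI : Module.Flat (Localization.AtPrime Q) (Localization.AtPrime Q'.asIdeal) :=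
    RingHom.Flat.localRingHom (f := algebraMap T C) (RingHom.flat_algebraMap_iff.2 inferInstance) Q'.asIdeal Q hQ'Q.symm
  exact Groth.Ega4Algebra1.isRegularLocalRing_of_flat _ (Localization.AtPrime Q'.asIdeal)

end Groth.Ega4b
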