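import Groth.Agent.Ega4Algebra2.CMFibres
import Groth.Agent.Calg2.CompleteStructure
import Groth.Agent.Calg6.CMSop
import Groth.Agent.EGA41Two.QuasiRegular
import Groth.Agent.EGA41Two.FlatRegularFibre
import Groth.Agent.SGA7.PowerSeries
import Groth.Agent.S5784
import Groth.Agent.FrobLCI.CE.Reduce
import Groth.Agent.Ega4Algebra2.CplQuot
import Mathlib

/-!
# Noether normalization of flat algebras over complete local domains
-/

set_option linter.style.haveILetI false

universe u

namespace Groth.Ega4b

open IsLocalRing RingTheory.Sequence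

section Parameters

variable (A B : Type u) [CommRing A] [CommRing B] [IsLocalRing A] [IsLocalRing B] [IsNoetherianRing A]
  [IsNoetherianRing B] [Algebra A B] [IsLocalHom (algebraMap A B)] [Module.Flat A B]

/-- A system of parameters of a Cohen–Macaulay closed fibre lifts to a regular sequence with flat
quotient. -/
theorem exists_regular_parameters
    (hF : LocCoh.IsCohenMacaulayLocalRing (B ⧸ (maximalIdeal A).map (algebraMap A B))) :
    ∃ (r : ℕ) (x : Fin r → B), (∀ i, x i ∈ maximalIdeal B) ∧ IsWeaklyRegular B (List.ofFn x) ∧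
      Module.Flat A (B ⧸ Ideal.span (Set.range x)) ∧
      ∃ N, maximalIdeal B ^ N ≤ Ideal.span (Set.range x) ⊔ (maximalIdeal A).map (algebraMap A B) := by
  set J := (maximalIdeal A).map (algebraMap A B) with hJdef
  let F := B ⧸ J
  haveI := hF.toIsLocalRing
  haveI := hF.toIsNoetherian
  obtain ⟨d, a, hd, ha, N, hN⟩ := Groth.Calg2.CompleteStructure.exists_parameters F
  choose x hx using fun i => Ideal.Quotient.mk_surjective (a i)
  have hmap : (maximalIdeal B).map (Ideal.Quotient.mk J) = maximalIdeal F := by
    refine eq_maximalIdeal ((Ideal.map_eq_top_or_isMaximal_of_surjective _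
      Ideal.Quotient.mk_surjective (maximalIdeal.isMaximal B)).resolve_left fun h => ?_)
    have := congrArg (Ideal.comap (Ideal.Quotient.mk J)) h
    rw [Ideal.comap_map_quotientMk, sup_eq_right.mpr map_maximalIdeal_le, Ideal.comap_top] at this
    exact (maximalIdeal.isMaximal B).ne_top this
  have hxm : ∀ i, x i ∈ maximalIdeal B := fun i => by
    have h1 : Ideal.Quotient.mk J (x i) ∈ (maximalIdeal B).map (Ideal.Quotient.mk J) := by
      rw [hmap, hx]; exact ha i
    rw [← Ideal.mem_comap, Ideal.comap_map_quotientMk, sup_eq_right.mpr map_maximalIdeal_le] at h1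
    exact h1
  refine ⟨d, x, hxm, ?_⟩
  have hal : ∀ y ∈ List.ofFn a, y ∈ maximalIdeal F := fun y hy => by
    obtain ⟨i, rfl⟩ := List.mem_ofFn.mp hy; exact ha i
  have hCM : LocCoh.IsCohenMacaulayModule F F := hF.supportDim_eq_depth
  have hofList : Ideal.ofList (List.ofFn a) = Ideal.span (Set.range a) :=
    Groth.Ega4Algebra1.ofList_ofFn a
  have hreg : IsWeaklyRegular F (List.ofFn a) := by
    refine Groth.Calg6.isWeaklyRegular_of_supportDim_add_length_le _ F hCM hal ?_
    rw [smul_eq_mul, Ideal.mul_top, hofList, List.length_ofFn, Module.supportDim_self_eq_ringKrullDim,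
      Module.supportDim_quotient_eq_ringKrullDim]
    haveI : Ring.KrullDimLE 0 (F ⧸ Ideal.span (Set.range a)) := Ring.KrullDimLE.mk₀ fun q hq => by
      have h1 : Ideal.span (Set.range a) ≤ q.comap (Ideal.Quotient.mk _) :=
        (Ideal.mk_ker (I := Ideal.span (Set.range a))).symm.trans_le (Ideal.ker_le_comap _)
      have h2 : maximalIdeal F ≤ q.comap (Ideal.Quotient.mk _) :=
        Ideal.IsPrime.le_of_pow_le (hN.trans h1)
      haveI : (q.comap (Ideal.Quotient.mk (Ideal.span (Set.range a)))).IsMaximal :=
        ((maximalIdeal.isMaximal F).eq_of_le (Ideal.IsPrime.ne_top inferInstance) h2) ▸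
          maximalIdeal.isMaximal F
      exact Ideal.isMaximal_of_isIntegral_of_isMaximal_comap (R := F) q this
    calc ringKrullDim (F ⧸ Ideal.span (Set.range a)) + (d : WithBot ℕ∞) ≤ 0 + (d : WithBot ℕ∞) := by
          gcongr; exact Ring.krullDimLE_iff.mp inferInstance
      _ ≤ ringKrullDim F := by rw [zero_add]; exact hd
  have hl : List.ofFn a = (List.ofFn x).map (algebraMap B F) := by
    rw [List.map_ofFn]; congr 1; funext i; exact (hx i).symm
  rw [hl, isWeaklyRegular_map_algebraMap_iff] at hreg
  have hregJ : IsWeaklyRegular (B ⧸ (J • (⊤ : Submodule B B))) (List.ofFn x) :=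
    ((Submodule.quotEquivOfEq (J • (⊤ : Submodule B B)) J (by rw [smul_eq_mul, Ideal.mul_top])).isWeaklyRegular_congr _).mpr hreg
  obtain ⟨h1, h2⟩ := Groth.EGA41Two.FlatFibre.weaklyRegular_and_flat (A := A) (List.ofFn x) B hregJ
  refine ⟨h1, ?_, N, ?_⟩
  · have h3 := h2 d (by simp)
    rw [List.take_of_length_le (by simp)] at h3
    haveI := h3
    refine Module.Flat.of_linearEquiv ((Submodule.quotEquivOfEq (Ideal.span (Set.range x))
      (Ideal.ofList (List.ofFn x) • (⊤ : Submodule B B)) ?_).restrictScalars A)
    rw [smul_eq_mul, Ideal.mul_top, Groth.Ega4Algebra1.ofList_ofFn]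
  · intro b hb
    have h3 : Ideal.Quotient.mk J b ∈ Ideal.span (Set.range a) := hN (hmap ▸ by
      rw [← Ideal.map_pow]; exact Ideal.mem_map_of_mem _ hb)
    rw [show a = fun i => Ideal.Quotient.mk J (x i) from funext fun i => (hx i).symm,
      Set.range_comp' (Ideal.Quotient.mk J) x, ← Ideal.map_span, ← Ideal.mem_comap,
      Ideal.comap_map_quotientMk, sup_comm] at h3
    exact h3

end Parameters

/-- quotients by ideals containing a power of the maximal ideal are finite over a base over which the
residue field is finite -/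
theorem finite_quotient_of_pow_le' {A B : Type u} [CommRing A] [CommRing B] [IsLocalRing B]
    [IsNoetherianRing B] [Algebra A B] [Module.Finite A (ResidueField B)] (J : Ideal B) (N : ℕ)
    (hN : maximalIdeal B ^ N ≤ J) : Module.Finite A (B ⧸ J) := by
  classical
  obtain ⟨q, w, hw⟩ := Module.Finite.exists_fin (R := A) (M := ResidueField B)
  choose w' hw' using fun i => residue_surjective (w i)
  have key : ∀ N : ℕ, ∃ V : Submodule A B, V.FG ∧ ∀ x : B, ∃ v ∈ V, x - v ∈ maximalIdeal B ^ N := by
    intro N
    induction N with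
    | zero => exact ⟨⊥, Submodule.fg_bot, fun x => ⟨0, zero_mem _, by simp⟩⟩
    | succ N ih =>
      obtain ⟨V, hV, h⟩ := ih
      obtain ⟨G, hG⟩ := (inferInstance : IsNoetherianRing B).noetherian (maximalIdeal B ^ N)
      let W := Submodule.span A (Set.range fun p : Fin q × G => w' p.1 * (p.2 : B))
      refine ⟨V ⊔ W, hV.sup (Submodule.fg_span (Set.finite_range _)), fun x => ?_⟩
      obtain ⟨v, hv, hxv⟩ := h x
      suffices hs : ∀ y ∈ maximalIdeal B ^ N, ∀ r : B, ∃ u ∈ W, r * y - u ∈ maximalIdeal B ^ (N + 1) by
        obtain ⟨u, hu, hu'⟩ := hs _ hxv 1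
        refine ⟨v + u, add_mem (Submodule.mem_sup_left hv) (Submodule.mem_sup_right hu), ?_⟩
        rw [one_mul] at hu'
        rwa [← sub_sub]
      intro y hy
      rw [← hG] at hy
      induction hy using Submodule.span_induction with
      | mem g hg =>
        intro r
        have hr : residue B r ∈ Submodule.span A (Set.range w) := hw ▸ Submodule.mem_top
        obtain ⟨l, hl⟩ := (Submodule.mem_span_range_iff_exists_fun A).1 hr
        refine ⟨∑ i, l i • (w' i * g), Submodule.sum_mem _ fun i _ => Submodule.smul_mem _ _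
          (Submodule.subset_span ⟨(i, ⟨g, hg⟩), rfl⟩), ?_⟩
        have h1 : r - ∑ i, l i • w' i ∈ maximalIdeal B := by
          rw [← residue_eq_zero_iff, map_sub, sub_eq_zero, map_sum, ← hl]
          refine Finset.sum_congr rfl fun i _ => ?_
          rw [← hw' i]
          exact (map_smul (IsScalarTower.toAlgHom A B (ResidueField B)) _ _).symm
        have h2 : g ∈ maximalIdeal B ^ N := hG ▸ Submodule.subset_span hg
        rw [show r * g - ∑ i, l i • (w' i * g) = (r - ∑ i, l i • w' i) * g by
          simp [sub_mul, Finset.sum_mul, smul_mul_assoc], pow_succ']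
        exact Ideal.mul_mem_mul h1 h2
      | zero => exact fun r => ⟨0, zero_mem _, by simp⟩
      | add a b _ _ ha hb =>
        intro r
        obtain ⟨ua, hua, ha⟩ := ha r
        obtain ⟨ub, hub, hb⟩ := hb r
        exact ⟨ua + ub, add_mem hua hub, by rw [mul_add, add_sub_add_comm]; exact add_mem ha hb⟩
      | smul s a _ ha =>
        intro r
        obtain ⟨ua, hua, ha⟩ := ha (r * s)
        exact ⟨ua, hua, by rwa [smul_eq_mul, ← mul_assoc]⟩
  obtain ⟨V, hV, h⟩ := key N
  haveI := Module.Finite.iff_fg.2 hV
  refine Module.Finite.of_surjective ((Ideal.Quotient.mkₐ A J).toLinearMap.comp V.subtype) fun y => ?_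
  obtain ⟨x, rfl⟩ := Ideal.Quotient.mk_surjective y
  obtain ⟨v, hv, hxv⟩ := h x
  exact ⟨⟨v, hv⟩, (Ideal.Quotient.eq.2 (hN hxv)).symm⟩

/-- a finite module over a domain is generically free -/
theorem exists_linearIndependent_smul_mem (R M : Type u) [CommRing R] [IsDomain R] [AddCommGroup M]
    [Module R M] [Module.Finite R M] :
    ∃ (m : ℕ) (e : Fin m → M) (f : R), f ≠ 0 ∧ LinearIndependent R e ∧
      ∀ y : M, f • y ∈ Submodule.span R (Set.range e) := by
  classical
  obtain ⟨q, g, hg⟩ := Module.Finite.exists_fin (R := R) (M := M)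
  obtain ⟨t, ht, hmax⟩ := exists_maximal_linearIndepOn R g
  have : ∀ i, ∃ a : R, a ≠ 0 ∧ a • g i ∈ Submodule.span R (g '' t) := fun i => by
    by_cases hi : i ∈ t
    · exact ⟨1, one_ne_zero, by rw [one_smul]; exact Submodule.subset_span ⟨i, hi, rfl⟩⟩
    · exact hmax i hi
  choose a ha hag using this
  let s := (Set.toFinite t).toFinset
  refine ⟨s.card, fun k => g (s.equivFin.symm k), ∏ i, a i, Finset.prod_ne_zero_iff.mpr fun i _ => ha i, ?_, ?_⟩
  · exact ht.comp (fun k => (⟨s.equivFin.symm k, (Set.toFinite t).mem_toFinset.mp (s.equivFin.symm k).2⟩ : t))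
      (fun k l h => s.equivFin.symm.injective (Subtype.ext (by simpa using congrArg Subtype.val h)))
  · intro y
    have hle : g '' t ⊆ Set.range fun k => g (s.equivFin.symm k) := by
      rintro _ ⟨i, hi, rfl⟩
      exact ⟨s.equivFin ⟨i, (Set.toFinite t).mem_toFinset.mpr hi⟩, by simp⟩
    refine Submodule.span_mono hle ?_
    have hy : y ∈ Submodule.span R (Set.range g) := hg ▸ Submodule.mem_top
    induction hy using Submodule.span_induction with
    | mem z hz =>
      obtain ⟨i, rfl⟩ := hz
      rw [← Finset.prod_erase_mul Finset.univ a (Finset.mem_univ i), mul_smul]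
      exact Submodule.smul_mem _ _ (hag i)
    | zero => rw [smul_zero]; exact zero_mem _
    | add _ _ _ _ h1 h2 => rw [smul_add]; exact add_mem h1 h2
    | smul c z _ hz => rw [smul_comm]; exact Submodule.smul_mem _ _ hz

section Core

open MvPowerSeries Groth.SGA7.PS

variable {R A B : Type u} [CommRing R] [IsNoetherianRing R] [CommRing A] [CommRing B]
  [Algebra R A] [Algebra A B] [Algebra R B] [IsScalarTower R A B] {r : ℕ}
  [Algebra (MvPowerSeries (Fin r) R) B] [IsScalarTower R (MvPowerSeries (Fin r) R) B]

/-- The generic linear presentation: if `x` is a regular sequence, `B/(x)` is free over `A` and `e` is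
an independent family in `A` with `f A` in its span, then `B[1/f]` is free over `R[[X]][1/f]`. -/
theorem flat_localization_of_generic {x : Fin r → B}
    (hX : ∀ i, algebraMap (MvPowerSeries (Fin r) R) B (X i) = x i)
    (hx : IsWeaklyRegular B (List.ofFn x)) [Module.Finite (MvPowerSeries (Fin r) R) B]
    [Module.Finite A (B ⧸ Ideal.span (Set.range x))] [Module.Free A (B ⧸ Ideal.span (Set.range x))]
    [Module.Finite R A] {f : R} {m : ℕ} (e : Fin m → A) (he : LinearIndependent R e)
    (hfe : ∀ a : A, f • a ∈ Submodule.span R (Set.range e)) (Q : Ideal B) [Q.IsPrime]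
    (hfQ : algebraMap R B f ∉ Q) :
    Module.Flat (MvPowerSeries (Fin r) R) (Localization.AtPrime Q) := by
  classical
  let S := MvPowerSeries (Fin r) R
  let I : Ideal B := Ideal.span (Set.range x)
  let bas := Module.Free.chooseBasis A (B ⧸ I)
  let l := Module.Free.ChooseBasisIndex A (B ⧸ I)
  choose b hb using fun j => Ideal.Quotient.mk_surjective (bas j)
  haveI : Fintype l := Module.Free.ChooseBasisIndex.fintype A (B ⧸ I)
  let v : Fin m × l → B := fun p => algebraMap A B (e p.1) * b p.2
  let Φ : (Fin m × l → S) →ₗ[S] B := Fintype.linearCombination S v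
  have hmapX : (varIdeal (Fin r) R).map (algebraMap S B) = I := by
    rw [varIdeal, Ideal.map_span, ← Set.range_comp]
    exact congrArg (fun g => Ideal.span (Set.range g)) (funext hX)
  have hC : ∀ (c : R), algebraMap S B (MvPowerSeries.C c) = algebraMap R B c := fun c => by
    rw [IsScalarTower.algebraMap_apply R S B]; rfl
  -- injectivity
  have hinj : Function.Injective Φ := by
    refine (injective_iff_map_eq_zero _).mpr fun s hs => ?_
    suffices h : ∀ (k : ℕ) (p : Fin m × l) (d : Fin r →₀ ℕ), d.degree < k → MvPowerSeries.coeff d (s p) = 0 by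
      funext p; ext d
      simpa using h (d.degree + 1) p d (Nat.lt_succ_self _)
    intro k
    induction k with
    | zero => intro p d hd; exact absurd hd (Nat.not_lt_zero _)
    | succ k ih =>
      let T : Finset (Fin r →₀ ℕ) := Finset.finsuppAntidiag Finset.univ k
      have hT : ∀ d : Fin r →₀ ℕ, d ∈ T ↔ d.degree = k := fun d => by
        simp [T, Finset.mem_finsuppAntidiag, Finsupp.degree_eq_sum]
      let c : (Fin r →₀ ℕ) → B := fun d =>
        ∑ p, algebraMap R B (MvPowerSeries.coeff d (s p)) * v p
      let P : MvPolynomial (Fin r) B := ∑ d ∈ T, MvPolynomial.monomial d (c d)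
      have hP : P.IsHomogeneous k := MvPolynomial.IsHomogeneous.sum _ _ _ fun d hd =>
        MvPolynomial.isHomogeneous_monomial _ ((hT d).mp hd)
      -- the truncation
      let sk : Fin m × l → MvPolynomial (Fin r) R := fun p =>
        ∑ d ∈ T, MvPolynomial.monomial d (MvPowerSeries.coeff d (s p))
      have hrest : ∀ p, s p - (sk p : S) ∈ varIdeal (Fin r) R ^ (k + 1) := fun p => by
        refine mem_varIdeal_pow _ _ fun d hd => ?_
        rw [map_sub, MvPolynomial.coeff_coe, MvPolynomial.coeff_sum]
        simp only [MvPolynomial.coeff_monomial, Finset.sum_ite_eq']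
        rcases Nat.lt_succ_iff_lt_or_eq.mp hd with h | h
        · rw [ih p d h, if_neg (fun hd' => by rw [(hT d).mp hd'] at h; exact lt_irrefl k h), sub_zero]
        · rw [if_pos ((hT d).mpr h), sub_self]
      have hev : ∀ q : MvPolynomial (Fin r) R, algebraMap S B (q : S) = MvPolynomial.eval₂ (algebraMap R B) x q := by
        intro q
        induction q using MvPolynomial.induction_on with
        | C a => rw [MvPolynomial.coe_C, hC, MvPolynomial.eval₂_C]
        | add a b ha hb => rw [MvPolynomial.coe_add, map_add, ha, hb, MvPolynomial.eval₂_add]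
        | mul_X a i ha =>
          rw [MvPolynomial.coe_mul, MvPolynomial.coe_X, map_mul, ha, hX, MvPolynomial.eval₂_mul,
            MvPolynomial.eval₂_X]
      have hPe : MvPolynomial.eval x P = ∑ p, algebraMap S B (sk p : S) * v p := by
        simp only [P, sk, c, map_sum, MvPolynomial.eval_monomial, hev, MvPolynomial.eval₂_sum,
          MvPolynomial.eval₂_monomial, Finset.sum_mul]
        rw [Finset.sum_comm]
        exact Finset.sum_congr rfl fun p _ => Finset.sum_congr rfl fun d _ => by ring
      have hPI : MvPolynomial.eval x P ∈ I ^ (k + 1) := by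
        have h0 : ∑ p, algebraMap S B (s p) * v p = 0 := by
          rw [← hs]; simp [Φ, Fintype.linearCombination_apply, Algebra.smul_def]
        have h1 : MvPolynomial.eval x P = - ∑ p, algebraMap S B (s p - (sk p : S)) * v p := by
          rw [hPe, eq_neg_iff_add_eq_zero, ← Finset.sum_add_distrib, ← h0]
          exact Finset.sum_congr rfl fun p _ => by rw [map_sub]; ring
        rw [h1]
        refine neg_mem (Ideal.sum_mem _ fun p _ => Ideal.mul_mem_right _ _ ?_)
        rw [← hmapX, ← Ideal.map_pow]
        exact Ideal.mem_map_of_mem _ (hrest p)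
      have hcI : ∀ d, P.coeff d ∈ I :=
        Groth.EGA41Two.isQuasiRegular_of_isWeaklyRegular x hx k P hP hPI
      intro p d hd
      rcases Nat.lt_succ_iff_lt_or_eq.mp hd with h | h
      · exact ih p d h
      have hcd : c d ∈ I := by
        have := hcI d
        simp only [P, MvPolynomial.coeff_sum, MvPolynomial.coeff_monomial, Finset.sum_ite_eq'] at this
        rwa [if_pos ((hT d).mpr h)] at this
      have h0 : ∑ j : l, (∑ i, MvPowerSeries.coeff d (s (i, j)) • e i) • bas j = 0 := by
        rw [← Ideal.Quotient.eq_zero_iff_mem.mpr hcd]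
        simp only [c, v, map_sum, map_mul, Fintype.sum_prod_type, Finset.sum_smul]
        rw [Finset.sum_comm]
        refine Finset.sum_congr rfl fun i _ => Finset.sum_congr rfl fun j _ => ?_
        rw [hb, ← mul_assoc, Algebra.smul_def (R := A) (A := B ⧸ I), Algebra.smul_def (R := R) (A := A),
          map_mul, IsScalarTower.algebraMap_apply R A B]
        rfl
      have h1 := Fintype.linearIndependent_iff.mp bas.linearIndependent _ h0 p.2
      exact Fintype.linearIndependent_iff.mp he _ h1 p.1
  -- the image
  haveI : IsAdicComplete (varIdeal (Fin r) R) S := Groth.Calg6.isAdicComplete_varIdeal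
  have himg : ∀ y : B, algebraMap R B f * y ∈ LinearMap.range Φ := by
    let W : Submodule S B := LinearMap.range Φ ⊔ LinearMap.range (LinearMap.mulLeft S (algebraMap R B f))
    have hW : W ≤ LinearMap.range Φ ⊔ varIdeal (Fin r) R • W := by
      refine sup_le le_sup_left ?_
      rintro _ ⟨y, rfl⟩
      have hy := bas.sum_repr (Ideal.Quotient.mk I y)
      let y0 : B := ∑ j, algebraMap A B (bas.repr (Ideal.Quotient.mk I y) j) * b j
      have hy0 : y - y0 ∈ I := by
        rw [← Ideal.Quotient.eq, map_sum]
        conv_lhs => rw [← hy]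
        refine Finset.sum_congr rfl fun j _ => ?_
        rw [map_mul, hb, Algebra.smul_def]; rfl
      show algebraMap R B f * y ∈ _
      rw [show algebraMap R B f * y = algebraMap R B f * y0 + algebraMap R B f * (y - y0) by ring]
      refine add_mem (Submodule.mem_sup_left ?_) (Submodule.mem_sup_right ?_)
      · simp only [y0, Finset.mul_sum, ← mul_assoc]
        refine Submodule.sum_mem _ fun j _ => ?_
        rw [IsScalarTower.algebraMap_apply R A B, ← map_mul, ← Algebra.smul_def (R := R) (A := A)]
        obtain ⟨cs, hcs⟩ := (Submodule.mem_span_range_iff_exists_fun R).mp (hfe (bas.repr (Ideal.Quotient.mk I y) j))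
        rw [← hcs, map_sum, Finset.sum_mul]
        refine Submodule.sum_mem _ fun i _ => ?_
        have : algebraMap A B (cs i • e i) * b j = (MvPowerSeries.C (cs i) : S) • v (i, j) := by
          rw [Algebra.smul_def (R := S), hC, Algebra.smul_def (R := R), map_mul,
            ← IsScalarTower.algebraMap_apply R A B, mul_assoc]
        rw [this]
        exact Submodule.smul_mem _ _ ⟨Pi.single (i, j) 1, by simp [Φ]⟩
      · obtain ⟨cs, hcs⟩ := (Submodule.mem_span_range_iff_exists_fun B).mp hy0
        rw [← hcs, Finset.mul_sum]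
        refine Submodule.sum_mem _ fun i _ => ?_
        rw [smul_eq_mul, mul_left_comm, ← mul_assoc, mul_comm, ← hX, ← Algebra.smul_def]
        refine Submodule.smul_mem_smul (X_mem i) (Submodule.mem_sup_right ⟨cs i, ?_⟩)
        exact mul_comm _ _
    have hfg : W.FG := IsNoetherian.noetherian W
    have := Submodule.le_of_le_smul_of_le_jacobson_bot hfg
      (IsAdicComplete.le_jacobson_bot (varIdeal (Fin r) R)) hW
    exact fun y => this (Submodule.mem_sup_right ⟨y, rfl⟩)
  -- localisation
  let Bf := Localization.Away (algebraMap R B f)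
  let fS : S := MvPowerSeries.C f
  have hfS : algebraMap S B fS = algebraMap R B f := hC f
  let g : (Fin m × l → S) →ₗ[S] Bf := (IsScalarTower.toAlgHom S B Bf).toLinearMap ∘ₗ Φ
  have hgu : IsUnit (algebraMap S Bf fS) := by
    rw [IsScalarTower.algebraMap_apply S B Bf, hfS]
    exact IsLocalization.Away.algebraMap_isUnit _
  haveI : IsLocalizedModule (Submonoid.powers fS) g := by
    refine ⟨fun c => ?_, fun y => ?_, fun {s t} hst => ?_⟩
    · obtain ⟨c, n, rfl⟩ := c
      rw [Module.End.isUnit_iff]
      obtain ⟨u, hu⟩ := hgu.pow n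
      refine ⟨fun a a' h => ?_, fun a => ⟨(↑u⁻¹ : Bf) * a, ?_⟩⟩
      · replace h : (fS ^ n) • a = (fS ^ n) • a' := h
        rw [Algebra.smul_def, Algebra.smul_def, map_pow, ← hu] at h
        exact u.isUnit.mul_left_cancel h
      · show (fS ^ n) • ((↑u⁻¹ : Bf) * a) = a
        rw [Algebra.smul_def, map_pow, ← hu, ← mul_assoc, Units.mul_inv, one_mul]
    · obtain ⟨⟨y', ⟨_, n, rfl⟩⟩, hy⟩ := IsLocalization.surj (Submonoid.powers (algebraMap R B f)) y
      obtain ⟨s, hs⟩ := himg y'
      refine ⟨(s, ⟨fS ^ (n + 1), n + 1, rfl⟩), ?_⟩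
      show (fS ^ (n + 1)) • y = algebraMap B Bf (Φ s)
      rw [hs, map_mul, ← hy, Algebra.smul_def, map_pow, IsScalarTower.algebraMap_apply S B Bf, hfS]
      simp only [map_pow]
      ring
    · have h1 : algebraMap B Bf (Φ s) = algebraMap B Bf (Φ t) := hst
      obtain ⟨⟨_, n, rfl⟩, hn⟩ := (IsLocalization.eq_iff_exists (Submonoid.powers (algebraMap R B f)) Bf).mp h1
      refine ⟨⟨fS ^ n, n, rfl⟩, hinj ?_⟩
      show Φ ((fS ^ n) • s) = Φ ((fS ^ n) • t)
      rw [map_smul, map_smul, Algebra.smul_def, Algebra.smul_def, map_pow, hfS]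
      exact hn
  haveI : Module.Flat S (Localization (Submonoid.powers fS)) :=
    IsLocalization.flat _ (Submonoid.powers fS)
  haveI : Module.Flat S Bf :=
    Module.Flat.of_linearEquiv ((IsLocalizedModule.iso (Submonoid.powers fS) g).symm ≪≫ₗ
      (LocalizedModule.equivTensorProduct (Submonoid.powers fS) (Fin m × l → S)).restrictScalars S)
  have hu : IsUnit (algebraMap B (Localization.AtPrime Q) (algebraMap R B f)) :=
    IsLocalization.map_units (M := Q.primeCompl) (Localization.AtPrime Q) ⟨_, hfQ⟩
  letI : Algebra Bf (Localization.AtPrime Q) :=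
    (IsLocalization.Away.lift (algebraMap R B f) (S := Bf) hu).toAlgebra
  haveI : IsScalarTower B Bf (Localization.AtPrime Q) :=
    IsScalarTower.of_algebraMap_eq fun z => (IsLocalization.Away.lift_eq (algebraMap R B f) hu z).symm
  haveI : IsScalarTower S Bf (Localization.AtPrime Q) := IsScalarTower.of_algebraMap_eq fun z => by
    rw [IsScalarTower.algebraMap_apply S B (Localization.AtPrime Q), IsScalarTower.algebraMap_apply S B Bf,
      ← IsScalarTower.algebraMap_apply B Bf (Localization.AtPrime Q)]
  haveI : IsLocalization (Q.primeCompl.map (algebraMap B Bf)) (Localization.AtPrime Q) :=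
    IsLocalization.isLocalization_of_submonoid_le Bf _ (Submonoid.powers (algebraMap R B f)) Q.primeCompl
      (Submonoid.powers_le.mpr hfQ)
  haveI : Module.Flat Bf (Localization.AtPrime Q) :=
    IsLocalization.flat _ (Q.primeCompl.map (algebraMap B Bf))
  exact Module.Flat.trans S Bf _

end Core

section Generic

open Groth.Calg2.CompleteStructure MvPowerSeries

/-- The generic fibre of a flat local algebra with Cohen–Macaulay closed fibre over a complete local
domain is Cohen–Macaulay. -/
theorem isCM_localization_of_generic (A B : Type u) [CommRing A] [CommRing B] [IsDomain A] [IsLocalRing A]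
    [IsLocalRing B] [IsNoetherianRing A] [IsNoetherianRing B] [IsAdicComplete (maximalIdeal A) A]
    [IsAdicComplete (maximalIdeal B) B] [Algebra A B] [IsLocalHom (algebraMap A B)] [Module.Flat A B]
    [Module.Finite A (ResidueField B)]
    (hF : LocCoh.IsCohenMacaulayLocalRing (B ⧸ (maximalIdeal A).map (algebraMap A B)))
    (Q : Ideal B) [Q.IsPrime] (hQ : Q.comap (algebraMap A B) = ⊥) :
    LocCoh.IsCohenMacaulayLocalRing (Localization.AtPrime Q) := by
  obtain ⟨Λ, _, n, φ, hΛ, hφ, hφfin, -⟩ := exists_finite_injective A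
  let R := MvPowerSeries (Fin n) Λ
  letI : Algebra R A := φ.toAlgebra
  haveI : Module.Finite R A := hφfin
  haveI : IsRegularRing Λ := by
    rcases hΛ with hf | ⟨hdom, hdvr, -⟩
    · letI := hf.toField
      infer_instance
    · infer_instance
  haveI : IsRegularRing R := Groth.Agent.S5784.result Λ n
  haveI : IsDomain R := Function.Injective.isDomain φ hφ
  letI : Algebra R B := ((algebraMap A B).comp φ).toAlgebra
  haveI : IsScalarTower R A B := IsScalarTower.of_algebraMap_eq fun _ => rfl
  obtain ⟨r, x, hxm, hx, hflat, N, hN⟩ := exists_regular_parameters A B hF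
  let I : Ideal B := Ideal.span (Set.range x)
  haveI : Module.Flat A (B ⧸ I) := hflat
  haveI := finite_quotient_of_pow_le' (A := A) (I ⊔ (maximalIdeal A).map (algebraMap A B)) N hN
  haveI : IsHausdorff ((maximalIdeal A).map (algebraMap A (B ⧸ I))) (B ⧸ I) := by
    refine IsHausdorff.of_le_jacobson ((maximalIdeal A).map (algebraMap A (B ⧸ I))) (B ⧸ I) ?_
    rw [IsScalarTower.algebraMap_eq A B (B ⧸ I), ← Ideal.map_map]
    rw [Ideal.map_le_iff_le_comap, Ideal.Quotient.algebraMap_eq,
      Ideal.comap_jacobson_of_surjective Ideal.Quotient.mk_surjective]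
    exact ((map_maximalIdeal_le (R := A) (S := B)).trans (maximalIdeal_le_jacobson ⊥)).trans
      (Ideal.jacobson_mono bot_le)
  haveI : Module.Finite A ((B ⧸ I) ⧸ (maximalIdeal A).map (algebraMap A (B ⧸ I))) := by
    let g : (B ⧸ (I ⊔ (maximalIdeal A).map (algebraMap A B))) →ₐ[A]
        ((B ⧸ I) ⧸ (maximalIdeal A).map (algebraMap A (B ⧸ I))) :=
      Ideal.Quotient.liftₐ _ ((Ideal.Quotient.mkₐ A _).comp (Ideal.Quotient.mkₐ A I)) (by
        intro z hz
        obtain ⟨a, ha, c, hc, rfl⟩ := Submodule.mem_sup.mp hz
        rw [map_add]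
        show Ideal.Quotient.mk _ (Ideal.Quotient.mk I a) + Ideal.Quotient.mk _ (Ideal.Quotient.mk I c) = 0
        rw [Ideal.Quotient.eq_zero_iff_mem.mpr ha, map_zero, zero_add, Ideal.Quotient.eq_zero_iff_mem,
          IsScalarTower.algebraMap_eq A B (B ⧸ I), ← Ideal.map_map]
        exact Ideal.mem_map_of_mem _ hc)
    refine Module.Finite.of_surjective g.toLinearMap fun y => ?_
    obtain ⟨y, rfl⟩ := Ideal.Quotient.mk_surjective y
    obtain ⟨y, rfl⟩ := Ideal.Quotient.mk_surjective y
    exact ⟨Ideal.Quotient.mk _ y, rfl⟩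
  haveI : Module.Finite A (B ⧸ I) := finite_of_finite_quotient (maximalIdeal A)
  haveI : Module.Free A (B ⧸ I) := Module.free_of_flat_of_isLocalRing
  let S := MvPowerSeries (Fin r) R
  letI : Algebra S B := (ev (algebraMap R B) x hxm).toAlgebra
  haveI : IsScalarTower R S B := IsScalarTower.of_algebraMap_eq fun c => (ev_C (algebraMap R B) x hxm c).symm
  haveI : IsAdicComplete (Groth.SGA7.PS.varIdeal (Fin r) R) S := Groth.Calg6.isAdicComplete_varIdeal
  have hmap : (Groth.SGA7.PS.varIdeal (Fin r) R).map (algebraMap S B) = I := map_varIdeal_ev _ x hxm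
  haveI : IsHausdorff ((Groth.SGA7.PS.varIdeal (Fin r) R).map (algebraMap S B)) B :=
    IsHausdorff.of_le_jacobson ((Groth.SGA7.PS.varIdeal (Fin r) R).map (algebraMap S B)) B (le_trans (by
      rw [hmap]; exact Ideal.span_le.mpr (Set.range_subset_iff.mpr hxm)) (maximalIdeal_le_jacobson _))
  haveI : Module.Finite R (B ⧸ (Groth.SGA7.PS.varIdeal (Fin r) R).map (algebraMap S B)) := by
    rw [hmap]; exact Module.Finite.trans A (B ⧸ I)
  haveI : Module.Finite S (B ⧸ (Groth.SGA7.PS.varIdeal (Fin r) R).map (algebraMap S B)) :=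
    Module.Finite.of_restrictScalars_finite R S _
  haveI : Module.Finite S B := finite_of_finite_quotient (Groth.SGA7.PS.varIdeal (Fin r) R)
  obtain ⟨m, e, f, hf, he, hfe⟩ := exists_linearIndependent_smul_mem R A
  haveI : IsRegularRing S := Groth.Agent.S5784.result R r
  have hfQ : algebraMap R B f ∉ Q := fun h => hf (hφ (by
    rw [map_zero]
    exact (Ideal.mem_bot).mp (hQ ▸ (show φ f ∈ Q.comap (algebraMap A B) from h))))
  have hflatS := flat_localization_of_generic (ev_X (algebraMap R B) x hxm) hx e he hfe Q hfQ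
  set q := Q.comap (algebraMap S B)
  let := (Localization.localRingHom q Q (algebraMap S B) rfl).toAlgebra
  haveI : IsScalarTower S (Localization.AtPrime q) (Localization.AtPrime Q) :=
    IsScalarTower.of_algebraMap_eq fun a => by
      rw [RingHom.algebraMap_toAlgebra, Localization.localRingHom_to_map,
        IsScalarTower.algebraMap_apply S B (Localization.AtPrime Q)]
  haveI : IsLocalHom (algebraMap (Localization.AtPrime q) (Localization.AtPrime Q)) :=
    Localization.isLocalHom_localRingHom q Q (algebraMap S B) rfl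
  haveI : Module.Flat (Localization.AtPrime q) (Localization.AtPrime Q) :=
    (Module.flat_iff_of_isLocalization (Localization.AtPrime q) q.primeCompl _).mpr hflatS
  refine Groth.Calg4.isCohenMacaulayLocalRing_of_flat (Localization.AtPrime q) _
    (Groth.Calg4.isCohenMacaulayLocalRing_of_isRegularLocalRing _) ?_
  rw [← Localization.AtPrime.map_eq_maximalIdeal, Ideal.map_map, ← IsScalarTower.algebraMap_eq]
  haveI : IsArtinianRing (q.Fiber B) := IsArtinianRing.of_finite q.ResidueField _
  exact isCM_fibLocRing S B Q (isCM_of_krullDimLE_zero _)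

/-- All fibres of a flat local algebra with Cohen–Macaulay closed fibre over a complete local ring are
Cohen–Macaulay. -/
theorem isCM_fibres_of_closed (A B : Type u) [CommRing A] [CommRing B] [IsLocalRing A]
    [IsLocalRing B] [IsNoetherianRing A] [IsNoetherianRing B] [IsAdicComplete (maximalIdeal A) A]
    [IsAdicComplete (maximalIdeal B) B] [Algebra A B] [IsLocalHom (algebraMap A B)] [Module.Flat A B]
    [Module.Finite A (ResidueField B)]
    (hF : LocCoh.IsCohenMacaulayLocalRing (B ⧸ (maximalIdeal A).map (algebraMap A B)))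
    (p : Ideal A) [p.IsPrime] [IsNoetherianRing (p.Fiber B)] :
    LocCoh.IsCohenMacaulayRing (p.Fiber B) := by
  refine isCM_fiber_of_forall A B p fun r _ hr => ?_
  let A' := A ⧸ p
  let J : Ideal B := p.map (algebraMap A B)
  let B' := B ⧸ J
  have hJr : J ≤ r := Ideal.map_le_iff_le_comap.mpr hr.ge
  have hJm : J ≤ maximalIdeal B := hJr.trans (le_maximalIdeal (Ideal.IsPrime.ne_top ‹_›))
  haveI : Nontrivial A' := Ideal.Quotient.nontrivial_iff.mpr (Ideal.IsPrime.ne_top ‹p.IsPrime›)
  haveI : Nontrivial B' := Ideal.Quotient.nontrivial_iff.mpr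
    (ne_top_of_le_ne_top (maximalIdeal.isMaximal B).ne_top hJm)
  haveI : IsLocalRing A' := IsLocalRing.of_surjective' (Ideal.Quotient.mk p) Ideal.Quotient.mk_surjective
  haveI : IsLocalRing B' := IsLocalRing.of_surjective' (Ideal.Quotient.mk J) Ideal.Quotient.mk_surjective
  haveI := Groth.FrobLCI.CE.isAdicComplete_quotient p
  haveI := Groth.FrobLCI.CE.isAdicComplete_quotient J
  haveI : Module.Flat A' B' := flat_quotient_map (S := B) p
  have hmA : maximalIdeal A' = (maximalIdeal A).map (Ideal.Quotient.mk p) :=
    (map_maximalIdeal_quotient A p).symm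
  have hmB : maximalIdeal B' = (maximalIdeal B).map (Ideal.Quotient.mk J) :=
    (map_maximalIdeal_quotient B J).symm
  have hcomp : (algebraMap A' B').comp (Ideal.Quotient.mk p) = (Ideal.Quotient.mk J).comp (algebraMap A B) :=
    RingHom.ext fun a => rfl
  have hmm : (maximalIdeal A').map (algebraMap A' B') =
      ((maximalIdeal A).map (algebraMap A B)).map (Ideal.Quotient.mk J) := by
    rw [hmA, Ideal.map_map, hcomp, ← Ideal.map_map]
  haveI : IsLocalHom (algebraMap A' B') :=
    ((local_hom_TFAE _).out 0 2).mpr (by rw [hmm, hmB]; exact Ideal.map_mono map_maximalIdeal_le)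
  haveI : Module.Finite A (ResidueField B') := by
    haveI : IsLocalHom (algebraMap B B') := by rw [Ideal.Quotient.algebraMap_eq]; exact IsLocalHom.of_surjective _ Ideal.Quotient.mk_surjective
    let g : ResidueField B →+* ResidueField B' := ResidueField.map (algebraMap B B')
    let l : ResidueField B →ₗ[A] ResidueField B' :=
      { g with
        map_smul' := fun a y => by
          obtain ⟨y, rfl⟩ := residue_surjective y
          show g _ = a • g _
          rw [Algebra.smul_def, Algebra.smul_def, map_mul]
          congr 1 }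
    refine Module.Finite.of_surjective l fun y => ?_
    obtain ⟨y, rfl⟩ := residue_surjective y
    obtain ⟨y, rfl⟩ := Ideal.Quotient.mk_surjective y
    exact ⟨residue B y, rfl⟩
  haveI : Module.Finite A' (ResidueField B') := Module.Finite.of_restrictScalars_finite A A' _
  have hF' : LocCoh.IsCohenMacaulayLocalRing (B' ⧸ (maximalIdeal A').map (algebraMap A' B')) := by
    refine isCohenMacaulayLocalRing_of_ringEquiv ((Ideal.quotEquivOfEq hmm).trans
      (DoubleQuot.quotQuotEquivQuotOfLE (Ideal.map_mono (le_maximalIdeal (Ideal.IsPrime.ne_top ‹p.IsPrime›))))).symm hF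
  let Q : Ideal B' := r.map (Ideal.Quotient.mk J)
  haveI : Q.IsPrime := Ideal.map_isPrime_of_surjective Ideal.Quotient.mk_surjective (by rw [Ideal.mk_ker]; exact hJr)
  have hQr : Q.comap (Ideal.Quotient.mk J) = r := by
    rw [Ideal.comap_map_quotientMk, sup_eq_right.mpr hJr]
  have hQ : Q.comap (algebraMap A' B') = ⊥ := by
    refine eq_bot_iff.mpr fun a ha => ?_
    obtain ⟨a, rfl⟩ := Ideal.Quotient.mk_surjective a
    rw [Ideal.mem_bot, Ideal.Quotient.eq_zero_iff_mem]
    rw [← hr]
    show algebraMap A B a ∈ r
    rw [← hQr]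
    exact ha
  have h := isCM_localization_of_generic A' B' hF' Q hQ
  have hM : Algebra.algebraMapSubmonoid B' r.primeCompl = Q.primeCompl := by
    ext z
    constructor
    · rintro ⟨y, hy, rfl⟩
      intro hz
      exact hy (hQr ▸ hz)
    · intro hz
      obtain ⟨y, rfl⟩ := Ideal.Quotient.mk_surjective z
      exact ⟨y, fun hy => hz (Ideal.mem_map_of_mem _ hy), rfl⟩
  refine isCohenMacaulayLocalRing_of_ringEquiv ?_ h
  let Br := Localization.AtPrime r
  let T := Br ⧸ J.map (algebraMap B Br)
  letI : Algebra B' T := Ideal.Quotient.algebraQuotientOfLEComap Ideal.le_comap_map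
  haveI : IsLocalization (Algebra.algebraMapSubmonoid B' r.primeCompl) T := inferInstance
  haveI : IsLocalization Q.primeCompl T := hM ▸ this
  refine ((IsLocalization.algEquiv Q.primeCompl (Localization.AtPrime Q) T).toRingEquiv).trans
    (Ideal.quotEquivOfEq ?_)
  rw [hr, Ideal.map_map, ← IsScalarTower.algebraMap_eq]

end Generic

end Groth.Ega4b
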