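import Groth.Agent.EGA41Two.QuasiRegularConv
import Groth.Agent.FlatCxBase.FlatAlg
import Groth.Agent.Calg5.RelGCI
import Groth.Prelude.Def_RegImm

/-!
# Flatness of powers of transversally regular ideals
-/

set_option autoImplicit false
set_option linter.style.haveILetI false

universe u

open MvPolynomial

namespace Groth.Ega4b.FlatPow

variable {A B : Type u} [CommRing A] [CommRing B] [Algebra A B]

theorem flat_restrictScalars (M : Type u) [AddCommGroup M] [Module A M] [Module B M] [IsScalarTower A B M]
    (h : Module.Flat A M) : Module.Flat A (RestrictScalars A B M) :=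
  haveI := h
  Module.Flat.of_linearEquiv (M := M)
    { (RestrictScalars.addEquiv A B M) with
      map_smul' := fun a x => by
        show RestrictScalars.addEquiv A B M (a • x) = a • RestrictScalars.addEquiv A B M x
        rw [RestrictScalars.addEquiv_map_smul, algebraMap_smul] }

theorem flat_quotient_pow {c : ℕ} (f : Fin c → B) (hf : CAlgX.IsQuasiRegular f)
    (hI : Module.Flat A (B ⧸ Ideal.span (Set.range f))) (j : ℕ) :
    Module.Flat A (B ⧸ Ideal.span (Set.range f) ^ j) := by
  classical
  let I := Ideal.span (Set.range f)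
  induction j with
  | zero =>
    haveI : Subsingleton (B ⧸ I ^ 0) := Ideal.Quotient.subsingleton_iff.2 (by rw [pow_zero]; exact Ideal.one_eq_top)
    infer_instance
  | succ j ih =>
    haveI := ih
    haveI := hI
    let D := {d : Fin c →₀ ℕ // d.degree = j}
    have hmono : ∀ d : D, eval f (monomial d.1 (1 : B)) ∈ I ^ j := fun d => by
      have h := Groth.EGA41Two.eval_mem_pow f (Groth.EGA41Two.isForm_self
        (isHomogeneous_monomial (1 : B) (n := j) d.2))
      rwa [Groth.EGA41Two.headSpan_self] at h
    let comp : D → ((B ⧸ I) →ₗ[B] B ⧸ I ^ (j + 1)) := fun d =>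
      Submodule.liftQ I (LinearMap.toSpanSingleton B _ (Ideal.Quotient.mk _ (eval f (monomial d.1 (1 : B)))))
        fun a ha => by
          rw [LinearMap.mem_ker, LinearMap.toSpanSingleton_apply, ← Ideal.Quotient.mk_eq_mk,
            ← Submodule.Quotient.mk_smul, Submodule.Quotient.mk_eq_zero, smul_eq_mul, pow_succ']
          exact Ideal.mul_mem_mul ha (hmono d)
    let ψ : (D →₀ B ⧸ I) →ₗ[B] B ⧸ I ^ (j + 1) := Finsupp.lsum B comp
    let φ : (B ⧸ I ^ (j + 1)) →ₗ[B] B ⧸ I ^ j :=
      Submodule.factor (Ideal.pow_le_pow_right j.le_succ)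
    have hlift : ∀ x : D →₀ B ⧸ I, ∃ P : MvPolynomial (Fin c) B, P.IsHomogeneous j ∧
        (∀ d : D, Ideal.Quotient.mk I (P.coeff d.1) = x d) ∧ ψ x = Ideal.Quotient.mk _ (eval f P) := by
      intro x
      induction x using Finsupp.induction_linear with
      | zero => exact ⟨0, isHomogeneous_zero _ _ _, fun d => by simp, by simp⟩
      | add x y hx hy =>
        obtain ⟨P, hP, hPc, hPe⟩ := hx
        obtain ⟨Q, hQ, hQc, hQe⟩ := hy
        exact ⟨P + Q, hP.add hQ, fun d => by simp [hPc, hQc], by simp [hPe, hQe]⟩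
      | single d b =>
        obtain ⟨b, rfl⟩ := Ideal.Quotient.mk_surjective b
        refine ⟨monomial d.1 b, isHomogeneous_monomial b d.2, fun e => ?_, ?_⟩
        · rw [coeff_monomial, Finsupp.single_apply]
          by_cases h : d = e
          · subst h; simp
          · simp [h, Subtype.ext_iff.not.1 h]
        · rw [Finsupp.lsum_single]
          show b • Ideal.Quotient.mk (I ^ (j + 1)) (eval f (monomial d.1 (1 : B))) = _
          rw [← Ideal.Quotient.mk_eq_mk, ← Submodule.Quotient.mk_smul, Ideal.Quotient.mk_eq_mk, smul_eq_mul,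
            ← eval_C (f := f) b, ← map_mul, C_mul_monomial, mul_one, eval_C]
    have hinj : Function.Injective ψ := by
      rw [injective_iff_map_eq_zero]
      intro x hx
      obtain ⟨P, hP, hPc, hPe⟩ := hlift x
      rw [hPe, Ideal.Quotient.eq_zero_iff_mem] at hx
      ext d
      rw [← hPc d, Finsupp.zero_apply, Ideal.Quotient.eq_zero_iff_mem]
      exact hf j P hP hx d.1
    have hex : Function.Exact ψ φ := by
      intro y
      obtain ⟨y, rfl⟩ := Ideal.Quotient.mk_surjective y
      constructor
      · intro hy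
        have hy' : y ∈ I ^ j := Ideal.Quotient.eq_zero_iff_mem.1 hy
        obtain ⟨P, hP, rfl⟩ := Groth.EGA41Two.exists_homogeneous f hy'
        let T : Finset D := P.support.attach.image fun d => ⟨d.1, by
          rw [Finsupp.degree_eq_weight_one (R := ℕ)]; exact hP (mem_support_iff.1 d.2)⟩
        refine ⟨∑ d ∈ T, Finsupp.single d (Ideal.Quotient.mk I (P.coeff d.1)), ?_⟩
        conv_rhs => rw [P.as_sum]
        rw [map_sum, map_sum, map_sum]
        simp only [T]
        rw [Finset.sum_image, ← Finset.sum_attach P.support]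
        swap
        · intro a _ b _ h; exact Subtype.ext (congrArg (fun z : D => z.1) h)
        refine Finset.sum_congr rfl fun d _ => ?_
        rw [Finsupp.lsum_single]
        show P.coeff d.1 • Ideal.Quotient.mk (I ^ (j + 1)) (eval f (monomial d.1 (1 : B))) = _
        rw [← Ideal.Quotient.mk_eq_mk, ← Submodule.Quotient.mk_smul, Ideal.Quotient.mk_eq_mk, smul_eq_mul,
          ← eval_C (f := f) (P.coeff d.1), ← map_mul, C_mul_monomial, mul_one, eval_C]
      · rintro ⟨x, hx⟩
        obtain ⟨P, hP, -, hPe⟩ := hlift x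
        rw [← hx, hPe]
        show (Ideal.Quotient.mk (I ^ j) (eval f P) : B ⧸ I ^ j) = 0
        rw [Ideal.Quotient.eq_zero_iff_mem]
        have h := Groth.EGA41Two.eval_mem_pow f (Groth.EGA41Two.isForm_self hP)
        rwa [Groth.EGA41Two.headSpan_self] at h
    haveI : Module.Flat A (D →₀ B ⧸ I) := Module.Flat.of_linearEquiv (finsuppLEquivDirectSum A (B ⧸ I) D)
    exact Groth.FlatCxBase.flat_of_exact_flat_right (f := ψ.restrictScalars A) (g := φ.restrictScalars A) hinj
      (Submodule.factor_surjective (Ideal.pow_le_pow_right j.le_succ)) hex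

theorem flat_pow_quotients (rs : List B) (hrs : RegImm.IsTransRegularSeq A B rs) :
    (∀ n m : ℕ, n ≤ m → Module.Flat A
      (↥(Ideal.ofList rs ^ n) ⧸ (Submodule.comap (Ideal.ofList rs ^ n).subtype (Ideal.ofList rs ^ m)))) ∧
    ∀ n : ℕ, Module.Flat A ↥(Ideal.ofList rs ^ n) := by
  obtain ⟨hreg, hflat⟩ := hrs
  let f : Fin rs.length → B := fun i => rs[i]
  have hof : List.ofFn f = rs := List.ofFn_getElem
  have hIeq : Ideal.span (Set.range f) = Ideal.ofList rs := by
    rw [Ideal.ofList]
    congr 1
    ext x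
    simp [f, List.mem_iff_getElem, Fin.exists_iff]
  have hI : Module.Flat A (B ⧸ Ideal.span (Set.range f)) := by
    have h1 := hflat rs.length le_rfl
    rw [List.take_length] at h1
    rw [hIeq]; exact h1
  have hB : Module.Flat A B := by
    haveI := hflat 0 (Nat.zero_le _)
    exact Module.Flat.of_linearEquiv (M := B ⧸ Ideal.ofList (rs.take 0))
      ((Submodule.quotEquivOfEqBot _ (by simp)).restrictScalars A).symm
  have hq : ∀ j, Module.Flat A (B ⧸ Ideal.ofList rs ^ j) := fun j => hIeq ▸ flat_quotient_pow f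
    (Groth.EGA41Two.isQuasiRegular_of_isWeaklyRegular f (by rw [hof]; exact hreg)) hI j
  refine ⟨fun n m hnm => ?_, fun n => ?_⟩
  · haveI := hq n; haveI := hq m
    let J := Ideal.ofList rs
    let ι : (↥(J ^ n) ⧸ (Submodule.comap (J ^ n).subtype (J ^ m))) →ₗ[B] B ⧸ J ^ m :=
      Submodule.mapQ _ _ (J ^ n).subtype le_rfl
    have hinj : Function.Injective ι := by
      rw [injective_iff_map_eq_zero]
      intro z hz
      obtain ⟨z, rfl⟩ := Submodule.Quotient.mk_surjective _ z
      have hz' : (Submodule.Quotient.mk (z : B) : B ⧸ J ^ m) = 0 := hz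
      exact (Submodule.Quotient.mk_eq_zero _).2 ((Submodule.Quotient.mk_eq_zero _).1 hz' :)
    have hex : Function.Exact ι (Submodule.factor (Ideal.pow_le_pow_right hnm) : (B ⧸ J ^ m) →ₗ[B] B ⧸ J ^ n) := by
      intro y
      obtain ⟨y, rfl⟩ := Submodule.Quotient.mk_surjective _ y
      constructor
      · intro hy
        exact ⟨Submodule.Quotient.mk ⟨y, (Submodule.Quotient.mk_eq_zero _).1 hy⟩, rfl⟩
      · rintro ⟨z, hz⟩
        obtain ⟨z, rfl⟩ := Submodule.Quotient.mk_surjective _ z
        rw [← hz]
        exact (Submodule.Quotient.mk_eq_zero _).2 z.2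
    exact Groth.FlatCxBase.flat_of_exact_flat_left (f := ι.restrictScalars A)
      (g := (Submodule.factor (Ideal.pow_le_pow_right hnm) : (B ⧸ J ^ m) →ₗ[B] B ⧸ J ^ n).restrictScalars A)
      hinj (Submodule.factor_surjective (Ideal.pow_le_pow_right hnm)) hex
  · haveI := hq n; haveI := hB
    let J := Ideal.ofList rs
    exact Groth.FlatCxBase.flat_of_exact_flat_left (f := (Submodule.subtype (J ^ n)).restrictScalars A)
      (g := (Submodule.mkQ (J ^ n)).restrictScalars A) Subtype.val_injective (Submodule.mkQ_surjective _)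
      (LinearMap.exact_subtype_mkQ (J ^ n))

end Groth.Ega4b.FlatPow
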