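import Groth.Agent.Ega4Algebra1.GRingDescent
import Groth.Agent.Ega4Algebra2.CplQuot
import Mathlib

/-!
# Formal fibres of quasi-finite local algebras
-/

set_option autoImplicit false
set_option linter.style.haveILetI false

universe u

open IsLocalRing TensorProduct

namespace Groth.Ega4b.FibQF

/-- A formal fibre of a quasi-finite local algebra is geometrically regular if the one below is. -/
theorem isGeometricallyRegular_formalFibre (A : Type u) [CommRing A] [IsLocalRing A] [IsNoetherianRing A]
    (B : Type u) [CommRing B] [IsLocalRing B] [IsNoetherianRing B] [Algebra A B]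
    [Algebra.EssFiniteType A B] [Algebra.QuasiFinite A B] (Q' : Ideal B) [Q'.IsPrime] (Q : Ideal A) [Q.IsPrime]
    [Q'.LiesOver Q] (h : CAlg.IsGeometricallyRegular Q.ResidueField (Q.Fiber (EGA4.Cpl A))) :
    IsNoetherianRing (Q'.Fiber (EGA4.Cpl B)) ∧
      CAlg.IsGeometricallyRegular Q'.ResidueField (Q'.Fiber (EGA4.Cpl B)) := by
  letI : Algebra (Localization.AtPrime Q) (Localization.AtPrime Q') :=
    (Localization.localRingHom Q Q' (algebraMap A B) (Ideal.over_def Q' Q)).toAlgebra
  haveI : IsScalarTower A (Localization.AtPrime Q) (Localization.AtPrime Q') :=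
    IsScalarTower.of_algebraMap_eq fun a => by
      rw [IsScalarTower.algebraMap_apply A B (Localization.AtPrime Q')]
      exact (Localization.localRingHom_to_map Q Q' (algebraMap A B) (Ideal.over_def Q' Q) a).symm
  haveI : Localization.AtPrime.IsLiesOverAlgebra Q Q' := ⟨rfl⟩
  haveI : Module.Finite Q.ResidueField Q'.ResidueField := inferInstance
  let C := EGA4.Cpl A
  haveI : IsNoetherianRing C := isNoetherianRing_cpl A
  haveI : Module.Flat A C := AdicCompletion.flat_of_isNoetherian _
  obtain ⟨n, hnp, hn, hnN, hnreg⟩ := Groth.Ega4Algebra1.completeFT.exists_model A B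
  let A' := Localization.AtPrime n
  haveI := Groth.Ega4Algebra1.isLocalHom_model (A := A) (B := B) (C := C) n hn
  haveI := Groth.Ega4Algebra1.flat_model (A := A) (B := B) (C := C) n
  have key : ∀ (L : Type u) [Field L] [Algebra Q'.ResidueField L], Module.Finite Q'.ResidueField L →
      IsRegularRing (L ⊗[Q'.ResidueField] Q'.Fiber (EGA4.Cpl B)) := by
    intro L _ _ hfin
    letI : Algebra Q.ResidueField L := ((algebraMap Q'.ResidueField L).comp (algebraMap _ _)).toAlgebra
    haveI : IsScalarTower Q.ResidueField Q'.ResidueField L := IsScalarTower.of_algebraMap_eq fun _ => rfl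
    haveI : Module.Finite Q.ResidueField L := Module.Finite.trans Q'.ResidueField L
    letI : Algebra B L := ((algebraMap Q'.ResidueField L).comp (algebraMap B _)).toAlgebra
    haveI : IsScalarTower B Q'.ResidueField L := IsScalarTower.of_algebraMap_eq fun _ => rfl
    letI : Algebra A L := ((algebraMap B L).comp (algebraMap A B)).toAlgebra
    haveI : IsScalarTower A B L := IsScalarTower.of_algebraMap_eq fun _ => rfl
    haveI : IsScalarTower A Q.ResidueField L := IsScalarTower.of_algebraMap_eq fun a => by
      show algebraMap Q'.ResidueField L (algebraMap B Q'.ResidueField (algebraMap A B a)) =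
        algebraMap Q'.ResidueField L (algebraMap Q.ResidueField Q'.ResidueField (algebraMap A Q.ResidueField a))
      rw [← IsScalarTower.algebraMap_apply A Q.ResidueField Q'.ResidueField,
        ← IsScalarTower.algebraMap_apply A B Q'.ResidueField]
    haveI : Algebra.EssFiniteType B L := Algebra.EssFiniteType.comp B Q'.ResidueField L
    have hL0 : IsRegularRing (L ⊗[A] C) :=
      haveI := h L inferInstance
      IsRegularRing.of_ringEquiv (Algebra.TensorProduct.cancelBaseChange A Q.ResidueField L L C).toRingEquiv
    have hL1 : IsRegularRing (L ⊗[B] A') :=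
      Groth.Ega4Algebra1.prop_fibre_model n (fun D _ => IsRegularRing D)
        (fun D E _ _ e hD => haveI := hD; IsRegularRing.of_ringEquiv e)
        (fun D E _ _ _ M hM hD => haveI := hD; haveI := hM; Groth.Calg4.isRegularRing_of_isLocalization E M) L hL0
    haveI := Groth.Calg4.formalFibre_of_flat (fun D _ => IsRegularRing D)
      (fun D E _ _ e hD => haveI := hD; IsRegularRing.of_ringEquiv e)
      (fun D E _ _ _ _ _ _ hf hD => Groth.PropsBasic.GRingMaximal.isRegularRing_of_fibres D E hf hD)
      (fun D E _ _ _ _ _ hE => haveI := hE; Groth.Agent.S9406.result D E)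
      B A' hnreg L hL1
    exact IsRegularRing.of_ringEquiv
      (Algebra.TensorProduct.cancelBaseChange B Q'.ResidueField L L (EGA4.Cpl B)).symm.toRingEquiv
  refine ⟨?_, fun L _ _ hL => key L hL⟩
  haveI : IsNoetherianRing (Q'.ResidueField ⊗[Q'.ResidueField] Q'.Fiber (EGA4.Cpl B)) :=
    (key Q'.ResidueField inferInstance).toIsNoetherian
  exact isNoetherianRing_of_ringEquiv _ (Algebra.TensorProduct.lid Q'.ResidueField (Q'.Fiber (EGA4.Cpl B))).toRingEquiv

/-- The map of local rings at a quasi-finite point. -/
theorem quasiFinite_atPrime (R R' : Type u) [CommRing R] [CommRing R'] [Algebra R R'] [Algebra.FiniteType R R']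
    (p' : Ideal R') [p'.IsPrime] [Algebra.QuasiFiniteAt R p'] (p : Ideal R) [p.IsPrime]
    [Algebra (Localization.AtPrime p) (Localization.AtPrime p')]
    [IsScalarTower R (Localization.AtPrime p) (Localization.AtPrime p')] :
    Algebra.QuasiFinite (Localization.AtPrime p) (Localization.AtPrime p') ∧
      Algebra.EssFiniteType (Localization.AtPrime p) (Localization.AtPrime p') := by
  haveI : Algebra.EssFiniteType R' (Localization.AtPrime p') := .of_isLocalization _ p'.primeCompl
  haveI : Algebra.EssFiniteType R (Localization.AtPrime p') := Algebra.EssFiniteType.comp R R' _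
  exact ⟨Algebra.QuasiFinite.of_restrictScalars R (Localization.AtPrime p) (Localization.AtPrime p'),
    Algebra.EssFiniteType.of_comp R (Localization.AtPrime p) (Localization.AtPrime p')⟩

end Groth.Ega4b.FibQF
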