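import Mathlib

/-! Finite groups acting on a local ring so that the action is free on the residue field:
the ring is projective over the invariants and trace is surjective. -/

set_option autoImplicit false
universe u v

namespace Groth.Ega4Algebra2.FreeAct

open IsLocalRing

variable {A E : Type u} [CommRing A] [CommRing E] [Algebra A E] {H : Type v} [Group H] [Fintype H]
  (φ : H →* (E ≃ₐ[A] E))

/-- The trace of the action. -/
noncomputable def tr : E →ₗ[A] E := ∑ τ : H, (φ τ).toLinearMap

theorem tr_apply (e : E) : tr φ e = ∑ τ : H, φ τ e := by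
  simp [tr]

theorem apply_tr (σ : H) (e : E) : φ σ (tr φ e) = tr φ e := by
  rw [tr_apply, map_sum]
  exact Fintype.sum_equiv (Equiv.mulLeft σ) _ _ fun τ => by rw [Equiv.coe_mulLeft, map_mul]; rfl

theorem tr_mul (x e : E) (hx : ∀ τ, φ τ x = x) : tr φ (x * e) = x * tr φ e := by
  simp only [tr_apply, map_mul, hx, Finset.mul_sum]

/-- A free action has a dual family. -/
theorem exists_dual (hfree : ∀ τ : H, τ ≠ 1 → ∃ a : E, IsUnit (φ τ a - a)) :
    ∃ (J : Type) (_ : Fintype J) (y z : J → E),
      ∀ e : E, e = ∑ j, y j * tr φ (z j * e) := by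
  classical
  suffices key : ∀ s : Finset H, 1 ∉ s → ∃ (J : Type) (_ : Fintype J) (y z : J → E),
      (∑ j, y j * z j = 1) ∧ ∀ τ ∈ s, ∑ j, y j * φ τ (z j) = 0 by
    obtain ⟨J, _, y, z, h1, h0⟩ := key (Finset.univ.erase 1) (Finset.notMem_erase _ _)
    refine ⟨J, inferInstance, y, z, fun e => ?_⟩
    simp only [tr_apply, Finset.mul_sum, map_mul, ← mul_assoc]
    rw [Finset.sum_comm]
    simp only [← Finset.sum_mul]
    rw [Finset.sum_eq_single (1 : H)]
    · simp [h1]
    · intro τ _ hτ
      rw [h0 τ (Finset.mem_erase.2 ⟨hτ, Finset.mem_univ _⟩), zero_mul]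
    · simp
  intro s
  induction s using Finset.induction with
  | empty => exact fun _ => ⟨Unit, inferInstance, fun _ => 1, fun _ => 1, by simp, by simp⟩
  | @insert τ s hτs ih =>
    intro h1
    rw [Finset.mem_insert, not_or] at h1
    obtain ⟨J, _, y, z, hy1, hy0⟩ := ih h1.2
    obtain ⟨a, ha⟩ := hfree τ (Ne.symm h1.1)
    obtain ⟨w, hw⟩ := ha.exists_left_inv
    refine ⟨J ⊕ J, inferInstance, Sum.elim (fun j => y j * (w * φ τ a)) (fun j => -(y j * w)),
      Sum.elim z (fun j => z j * a), ?_, ?_⟩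
    · rw [Fintype.sum_sum_type]
      simp only [Sum.elim_inl, Sum.elim_inr]
      rw [← Finset.sum_add_distrib]
      rw [Finset.sum_congr rfl fun j _ => show y j * (w * φ τ a) * z j + -(y j * w) * (z j * a) =
        y j * z j * (w * (φ τ a - a)) by ring, ← Finset.sum_mul, hy1, hw, one_mul]
    · intro σ hσ
      rw [Fintype.sum_sum_type]
      simp only [Sum.elim_inl, Sum.elim_inr, map_mul]
      rw [← Finset.sum_add_distrib]
      rw [Finset.sum_congr rfl fun j _ => show y j * (w * φ τ a) * φ σ (z j) +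
        -(y j * w) * (φ σ (z j) * φ σ a) = y j * φ σ (z j) * (w * (φ τ a - φ σ a)) by ring, ← Finset.sum_mul]
      rcases Finset.mem_insert.1 hσ with rfl | hσ
      · rw [sub_self, mul_zero, mul_zero]
      · rw [hy0 σ hσ, zero_mul]

variable (D : Subalgebra A E) (hD : ∀ x, x ∈ D ↔ ∀ τ, φ τ x = x)
include hD

theorem tr_mem (e : E) : tr φ e ∈ D := (hD _).2 fun σ => apply_tr φ σ e

/-- A local ring with a free action is projective over the invariants. -/
theorem projective (hfree : ∀ τ : H, τ ≠ 1 → ∃ a : E, IsUnit (φ τ a - a)) :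
    Module.Projective D E ∧ Module.Finite D E := by
  obtain ⟨J, _, y, z, hyz⟩ := exists_dual φ hfree
  let i : E →ₗ[D] (J → D) :=
    { toFun := fun e j => ⟨tr φ (z j * e), tr_mem φ D hD _⟩
      map_add' := fun e e' => funext fun j => Subtype.ext (by simp [mul_add])
      map_smul' := fun d e => funext fun j => Subtype.ext (by
        show tr φ (z j * ((d : E) * e)) = (d : E) * tr φ (z j * e)
        rw [mul_left_comm, tr_mul φ _ _ ((hD _).1 d.2)]) }
  let p : (J → D) →ₗ[D] E := Fintype.linearCombination D y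
  have hpi : p.comp i = LinearMap.id := LinearMap.ext fun e => by
    show p (i e) = e
    rw [Fintype.linearCombination_apply]
    conv_rhs => rw [hyz e]
    exact Finset.sum_congr rfl fun j _ => mul_comm _ _
  exact ⟨Module.Projective.of_split i p hpi,
    Module.Finite.of_surjective p fun e => ⟨i e, LinearMap.congr_fun hpi e⟩⟩

omit [Fintype H] in
theorem isUnit_of_isUnit (x : D) (hx : IsUnit (x : E)) : IsUnit x := by
  obtain ⟨v, hv⟩ := hx.exists_right_inv
  refine IsUnit.of_mul_eq_one ⟨v, (hD v).2 fun τ => ?_⟩ (Subtype.ext hv)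
  have h1 := congrArg (φ τ) hv
  rw [map_mul, map_one, (hD _).1 x.2 τ] at h1
  exact hx.mul_left_cancel (h1.trans hv.symm)

variable [IsLocalRing E]

omit [Fintype H] in
theorem isLocalRing : IsLocalRing D :=
  IsLocalRing.of_isUnit_or_isUnit_one_sub_self fun x =>
    (IsLocalRing.isUnit_or_isUnit_one_sub_self (x : E)).imp (isUnit_of_isUnit φ D hD x)
      (isUnit_of_isUnit φ D hD (1 - x))

omit [Fintype H] in
theorem isLocalHom : IsLocalHom (algebraMap D E) := ⟨fun x hx => isUnit_of_isUnit φ D hD x hx⟩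

theorem exists_tr_eq_one (hfree : ∀ τ : H, τ ≠ 1 → ∃ a : E, IsUnit (φ τ a - a)) :
    ∃ c, tr φ c = 1 := by
  obtain ⟨J, _, y, z, hyz⟩ := exists_dual φ hfree
  obtain ⟨j, hj⟩ : ∃ j, IsUnit (tr φ (z j)) := by
    by_contra hc
    push Not at hc
    have h1 : (1 : E) ∈ maximalIdeal E := by
      rw [hyz 1]
      exact Ideal.sum_mem _ fun j _ => Ideal.mul_mem_left _ _ (by simpa using hc j)
    exact (maximalIdeal.isMaximal E).ne_top ((Ideal.eq_top_iff_one _).2 h1)
  obtain ⟨v, hv⟩ := (isUnit_of_isUnit φ D hD ⟨_, tr_mem φ D hD _⟩ hj).exists_left_inv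
  exact ⟨(v : E) * z j, by rw [tr_mul φ _ _ ((hD _).1 v.2)]; exact congrArg Subtype.val hv⟩

/-- The maximal ideal of the invariants is generated by an ideal of the base if that of the ring is. -/
theorem map_eq_maximalIdeal (hfree : ∀ τ : H, τ ≠ 1 → ∃ a : E, IsUnit (φ τ a - a)) [IsLocalRing D]
    (m : Ideal A) (hm : m.map (algebraMap A E) = maximalIdeal E) :
    m.map (algebraMap A D) = maximalIdeal D := by
  refine le_antisymm (Ideal.map_le_iff_le_comap.2 fun a ha => ?_) fun x hx => ?_
  · intro hu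
    have h1 : algebraMap A E a ∈ maximalIdeal E := hm ▸ Ideal.mem_map_of_mem _ ha
    exact h1 (hu.map (algebraMap D E))
  obtain ⟨c, hc⟩ := exists_tr_eq_one φ D hD hfree
  let Φ : E →ₗ[A] D := ((tr φ).comp (LinearMap.mulLeft A c)).codRestrict (Subalgebra.toSubmodule D)
    fun e => tr_mem φ D hD _
  have hxE : (x : E) ∈ (m • ⊤ : Submodule A E) := by
    rw [Ideal.smul_top_eq_map]
    show (x : E) ∈ m.map (algebraMap A E)
    rw [hm]
    exact fun hu => hx (isUnit_of_isUnit φ D hD x hu)
  have hΦx : Φ (x : E) = x := Subtype.ext (by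
    show tr φ (c * (x : E)) = x
    rw [mul_comm, tr_mul φ _ _ ((hD _).1 x.2), hc, mul_one])
  have h2 : Φ (x : E) ∈ (m • ⊤ : Submodule A D) := by
    have h3 := Submodule.mem_map_of_mem (f := Φ) hxE
    rw [Submodule.map_smul''] at h3
    exact Submodule.smul_mono le_rfl le_top h3
  rw [hΦx, Ideal.smul_top_eq_map] at h2
  exact h2

end Groth.Ega4Algebra2.FreeAct
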