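import Groth.Agent.Ega4Algebra2.FormalFibreSurj
import Groth.Agent.Ega4Algebra2.GRingFibre
import Groth.Agent.Ega4Algebra2.CplFinite
import Groth.Agent.Ega4Algebra2.GRingFiniteType
import Mathlib

/-!
# G-rings via finite free algebras
-/

set_option autoImplicit false
set_option linter.style.haveILetI false

universe u

open IsLocalRing TensorProduct

namespace Groth.Ega4b.GFree

theorem isRegularLocalRing_of_equiv {R₁ R₂ : Type u} [CommRing R₁] [CommRing R₂] (τ : R₁ ≃+* R₂) (Q : Ideal R₂)
    [Q.IsPrime] (h : IsRegularLocalRing (Localization.AtPrime (Q.comap τ))) :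
    IsRegularLocalRing (Localization.AtPrime Q) :=
  haveI := h
  IsRegularLocalRing.of_ringEquiv (R := Localization.AtPrime (Q.comap τ))
    (IsLocalization.ringEquivOfRingEquiv (Localization.AtPrime (Q.comap τ)) (Localization.AtPrime Q) τ
      (M := (Q.comap τ).primeCompl) (T := Q.primeCompl) (by
        ext y
        exact ⟨by rintro ⟨x, hx, rfl⟩; exact hx, fun hy => ⟨τ.symm y,
          fun h0 => hy (by simpa using h0), τ.apply_symm_apply y⟩⟩))

theorem exists_finite_free_surjective (R : Type u) [CommRing R] (S0 : Type u) [CommRing S0] [Algebra R S0]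
    [Module.Finite R S0] :
    ∃ (S : Type u) (_ : CommRing S) (_ : Algebra R S) (_ : Module.Finite R S) (_ : Module.Free R S)
      (φ : S →ₐ[R] S0), Function.Surjective φ := by
  classical
  have key : ∀ G : Finset S0, ∃ (S : Type u) (_ : CommRing S) (_ : Algebra R S) (_ : Module.Finite R S)
      (_ : Module.Free R S) (φ : S →ₐ[R] S0), ∀ g ∈ G, g ∈ φ.range := by
    intro G
    induction G using Finset.induction_on with
    | empty => exact ⟨R, inferInstance, inferInstance, inferInstance, inferInstance, Algebra.ofId R S0, by simp⟩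
    | insert g G _ ih =>
      obtain ⟨T, _, _, _, _, φ, hφ⟩ := ih
      obtain ⟨f, hf, hfg⟩ := Algebra.IsIntegral.isIntegral (R := R) g
      haveI := hf.finite_adjoinRoot
      haveI := hf.free_adjoinRoot
      let ψ : AdjoinRoot f →ₐ[R] S0 := AdjoinRoot.liftAlgHom f (Algebra.ofId R S0) g hfg
      refine ⟨T ⊗[R] AdjoinRoot f, inferInstance, inferInstance, inferInstance, inferInstance,
        Algebra.TensorProduct.lift φ ψ fun _ _ => Commute.all _ _, fun x hx => ?_⟩
      rcases Finset.mem_insert.1 hx with rfl | hx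
      · exact ⟨1 ⊗ₜ AdjoinRoot.root f, by simp [ψ]⟩
      · obtain ⟨y, hy⟩ := hφ x hx
        exact ⟨y ⊗ₜ 1, by
          show Algebra.TensorProduct.lift φ ψ (fun _ _ => Commute.all _ _) (y ⊗ₜ[R] 1) = x
          rw [Algebra.TensorProduct.lift_tmul, map_one, mul_one]; exact hy⟩
  obtain ⟨G, hG⟩ := (Module.finite_def.1 (inferInstance : Module.Finite R S0))
  obtain ⟨S, i1, i2, i3, i4, φ, hφ⟩ := key G
  exact ⟨S, i1, i2, i3, i4, φ, fun x =>
    (Submodule.span_le.2 (fun g hg => hφ g hg) : Submodule.span R (G : Set S0) ≤ φ.toLinearMap.range)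
      (hG ▸ Submodule.mem_top)⟩

theorem isRegularLocalRing_cpl_of_fibre (D : Type u) [CommRing D] [IsDomain D] [IsLocalRing D] [IsNoetherianRing D]
    (h : IsRegularRing (EGA4.formalFibre D (⊥ : Ideal D))) (Q' : Ideal (EGA4.Cpl D)) [Q'.IsPrime]
    (hQ' : Q'.comap (algebraMap D (EGA4.Cpl D)) = ⊥) : IsRegularLocalRing (Localization.AtPrime Q') := by
  let C := EGA4.Cpl D
  let L := (⊥ : Ideal D).ResidueField
  haveI : IsFractionRing D L :=
    { map_units := fun ⟨y, hy⟩ => IsUnit.mk0 _ fun h0 => nonZeroDivisors.ne_zero hy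
        (by simpa using (Ideal.ker_algebraMap_residueField (⊥ : Ideal D)).le h0)
      surj := fun z => by
        obtain ⟨a, s, hs, hc⟩ := exists_frac_residueField D ⊥ L z
        exact ⟨⟨a, ⟨s, mem_nonZeroDivisors_of_ne_zero fun h0 => hs (by rw [h0, map_zero])⟩⟩, hc⟩
      exists_of_eq := fun {x y} hxy => ⟨1, by
        have : x - y ∈ RingHom.ker (algebraMap D L) := by rw [RingHom.mem_ker, map_sub, hxy, sub_self]
        rw [Ideal.ker_algebraMap_residueField, Ideal.mem_bot, sub_eq_zero] at this
        rw [this]⟩ }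
  let e : D ⊗[D] C ≃ₐ[D] C := Algebra.TensorProduct.lid D C
  haveI : IsNoetherianRing C := isNoetherianRing_cpl D
  haveI : IsNoetherianRing (D ⊗[D] C) := isNoetherianRing_of_ringEquiv C e.symm.toRingEquiv
  let Q := Q'.comap e.toRingEquiv
  haveI : IsRegularLocalRing (Localization.AtPrime Q) := (isRegularRing_tensor_iff D D C L).1 h Q (by
    rw [← hQ']
    ext d
    rw [Ideal.mem_comap, Ideal.mem_comap]
    show e (algebraMap D _ d) ∈ Q' ↔ _
    rw [AlgEquiv.commutes]
    exact Iff.rfl)
  exact isRegularLocalRing_of_equiv e.toRingEquiv Q' ‹_›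

theorem isRegularRing_formalFibre_of_surjective {A B : Type u} [CommRing A] [CommRing B] [IsNoetherianRing A]
    [IsLocalRing A] [IsLocalRing B] (φ : A →+* B) (hφ : Function.Surjective φ) (p' : Ideal B) [p'.IsPrime]
    (h : IsRegularRing (EGA4.formalFibre A (p'.comap φ))) : IsRegularRing (EGA4.formalFibre B p') := by
  let e : A ⧸ RingHom.ker φ ≃+* B := RingHom.quotientKerEquivOfSurjective hφ
  haveI : Nontrivial (A ⧸ RingHom.ker φ) := e.toEquiv.nontrivial
  obtain ⟨ψ₁, f₁, -⟩ := exists_formalFibreEquiv_of_equiv e p'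
  obtain ⟨ψ₂, f₂, -⟩ := exists_fibreEquiv_cplQuot A (RingHom.ker φ) (p'.comap e.toRingHom)
  haveI : IsRegularRing (EGA4.formalFibre A ((p'.comap e.toRingHom).comap (Ideal.Quotient.mk (RingHom.ker φ)))) := by
    have key : ∀ (I J : Ideal A) [I.IsPrime] [J.IsPrime], I = J → IsRegularRing (EGA4.formalFibre A I) →
        IsRegularRing (EGA4.formalFibre A J) := by rintro I J _ _ rfl hI; exact hI
    exact key _ _ (by rw [Ideal.comap_comap]; rfl) h
  exact IsRegularRing.of_ringEquiv (f₂.trans f₁)

theorem isRegularHom_cpl_atPrime (R : Type u) [CommRing R] [IsNoetherianRing R]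
    (h : ∀ (S : Type u) [CommRing S] [Algebra R S] [Module.Finite R S] [Module.Free R S]
        (q : Ideal S) [q.IsPrime] (p : Ideal (Localization.AtPrime q)) [p.IsPrime],
        IsRegularRing (EGA4.formalFibre (Localization.AtPrime q) p))
    (p : Ideal R) [p.IsPrime] :
    CAlg.IsRegularHom (Localization.AtPrime p) (EGA4.Cpl (Localization.AtPrime p)) := by
  classical
  let Rp := Localization.AtPrime p
  refine isRegularHom_cpl_of_finite_domains Rp fun B _ _ _ _ Q _ hQ => ?_
  let C := EGA4.Cpl Rp
  letI : Algebra R B := ((algebraMap Rp B).comp (algebraMap R Rp)).toAlgebra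
  haveI : IsScalarTower R Rp B := IsScalarTower.of_algebraMap_eq fun _ => rfl
  obtain ⟨G, hG⟩ := (Module.finite_def.1 (inferInstance : Module.Finite Rp B))
  choose t ht using fun g : {g // g ∈ G} =>
    IsIntegral.exists_multiple_integral_of_isLocalization p.primeCompl (Rₘ := Rp) (g : B)
      (Algebra.IsIntegral.isIntegral _)
  obtain ⟨A, hAfin, hSA⟩ : ∃ A : Subalgebra R B, Module.Finite R A ∧ ∀ g, t g • (g : B) ∈ A :=
    ⟨Algebra.adjoin R (Set.range fun g => t g • (g : B)),
      Algebra.finite_adjoin_of_finite_of_isIntegral (Set.finite_range _) (by rintro _ ⟨g, rfl⟩; exact ht g),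
      fun g => Algebra.subset_adjoin ⟨g, rfl⟩⟩
  haveI := hAfin
  let M := Algebra.algebraMapSubmonoid A p.primeCompl
  have hsurj : ∀ b : B, ∃ s : p.primeCompl, (s : R) • b ∈ A := by
    intro b
    have hb : b ∈ Submodule.span Rp (G : Set B) := hG ▸ Submodule.mem_top
    induction hb using Submodule.span_induction with
    | mem x hx => exact ⟨t ⟨x, hx⟩, hSA ⟨x, hx⟩⟩
    | zero => exact ⟨1, by rw [smul_zero]; exact A.zero_mem⟩
    | add x y _ _ hx hy =>
      obtain ⟨s, hs⟩ := hx
      obtain ⟨s', hs'⟩ := hy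
      refine ⟨s * s', ?_⟩
      rw [Submonoid.coe_mul, smul_add, mul_smul (s : R) (s' : R) y, mul_comm, mul_smul]
      exact A.add_mem (A.smul_mem hs _) (A.smul_mem hs' _)
    | smul c x _ hx =>
      obtain ⟨s, hs⟩ := hx
      obtain ⟨a, u, rfl⟩ := IsLocalization.exists_mk'_eq p.primeCompl c
      refine ⟨u * s, ?_⟩
      rw [Submonoid.coe_mul, mul_smul, smul_comm (s : R), ← smul_assoc (u : R), IsLocalization.smul_mk'_self,
        algebraMap_smul]
      exact A.smul_mem hs a
  haveI : IsLocalization M B := by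
    refine { map_units := ?_, surj := fun b => ?_, exists_of_eq := ?_ }
    · rintro ⟨_, s, hs, rfl⟩
      exact (IsLocalization.map_units Rp (⟨s, hs⟩ : p.primeCompl)).map (algebraMap Rp B)
    · obtain ⟨s, hs⟩ := hsurj b
      refine ⟨⟨⟨_, hs⟩, ⟨_, s, s.2, rfl⟩⟩, ?_⟩
      show b * algebraMap R B s = (s : R) • b
      rw [Algebra.smul_def, mul_comm]
    · intro x y hxy
      exact ⟨1, by rw [show x = y from Subtype.ext hxy]⟩
  obtain ⟨S, _, _, _, _, φ, hφ⟩ := exists_finite_free_surjective R A
  haveI : IsNoetherianRing S := IsNoetherianRing.of_finite R S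
  haveI : IsNoetherianRing A := IsNoetherianRing.of_finite R A
  let τ : (C ⊗[Rp] B) ≃ₐ[Rp] (B ⊗[Rp] C) := Algebra.TensorProduct.comm Rp C B
  let Q₁ : Ideal (C ⊗[Rp] B) := Q.comap τ.toRingEquiv
  haveI : IsRegularLocalRing (Localization.AtPrime Q₁) := by
    refine isRegularLocalRing_cpl_tensor Rp B ⊥ (fun n _ Q' _ hQ' => ?_) Q₁ ?_
    · let Bn := Localization.AtPrime n
      let n₀ : Ideal A := n.comap (algebraMap A B)
      let q : Ideal S := n₀.comap φ.toRingHom
      haveI := IsLocalization.isLocalization_isLocalization_atPrime_isLocalization M Bn n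
      let e : Localization.AtPrime n₀ ≃ₐ[A] Bn := IsLocalization.algEquiv n₀.primeCompl _ _
      haveI : IsNoetherianRing (Localization.AtPrime q) := IsLocalization.isNoetherianRing q.primeCompl _ inferInstance
      haveI : IsNoetherianRing B := IsNoetherianRing.of_finite Rp B
      haveI : IsDomain Bn := IsLocalization.isDomain_localization
        n.primeCompl_le_nonZeroDivisors
      haveI : IsNoetherianRing Bn := IsLocalization.isNoetherianRing n.primeCompl _ inferInstance
      let ρ : Localization.AtPrime q →+* Bn :=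
        e.toRingEquiv.toRingHom.comp (Localization.localRingHom q n₀ φ.toRingHom rfl)
      have hρ : Function.Surjective ρ := by
        refine e.surjective.comp ?_
        have hmap : q.primeCompl.map φ.toRingHom = n₀.primeCompl := by
          ext y
          refine ⟨by rintro ⟨x, hx, rfl⟩; exact hx, fun hy => ?_⟩
          obtain ⟨x, rfl⟩ := hφ y
          exact ⟨x, hy, rfl⟩
        haveI : IsLocalization (q.primeCompl.map φ.toRingHom) (Localization.AtPrime n₀) := by
          rw [hmap]; infer_instance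
        exact IsLocalization.map_surjective_of_surjective q.primeCompl (Localization.AtPrime q)
          (Localization.AtPrime n₀) (g := φ.toRingHom) hφ
      have hfib : IsRegularRing (EGA4.formalFibre Bn (⊥ : Ideal Bn)) :=
        isRegularRing_formalFibre_of_surjective ρ hρ ⊥ (h S q _)
      refine isRegularLocalRing_cpl_of_fibre Bn hfib Q' ?_
      refine (IsLocalization.map_under n.primeCompl Bn _).symm.trans ?_
      show Ideal.map (algebraMap B Bn) ((Q'.comap (algebraMap Bn (EGA4.Cpl Bn))).comap (algebraMap B Bn)) = ⊥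
      rw [Ideal.comap_comap, ← IsScalarTower.algebraMap_eq B Bn (EGA4.Cpl Bn), hQ', Ideal.map_bot]
    · rw [← hQ]
      ext b
      rw [Ideal.mem_comap, Ideal.mem_comap, Ideal.mem_comap]
      show τ ((1 : C) ⊗ₜ[Rp] b) ∈ Q ↔ _
      rw [Algebra.TensorProduct.comm_tmul]
      rfl
  exact isRegularLocalRing_of_equiv τ.toRingEquiv Q ‹_›

end Groth.Ega4b.GFree
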