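import Groth.Agent.Ega4Algebra2.StrictStage
import Groth.Agent.Ega4Algebra2.FreeLocalAction
import Groth.Agent.S16438
import Mathlib

/-! Galois stages inside the strict henselization of a henselian local ring and the invariants of
subfields of the fraction field of a quotient. -/

set_option autoImplicit false
universe u

open IsLocalRing EGA4loc Polynomial
open scoped TensorProduct

namespace Groth.Ega4Algebra2.GaloisStage

/-- An algebra generated by simple roots is formally unramified. -/
theorem formallyUnramified_of_adjoin_roots {A E : Type u} [CommRing A] [CommRing E] [Algebra A E]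
    (f : A[X]) (R : Set E) (hR : Algebra.adjoin A R = ⊤) (h0 : ∀ r ∈ R, aeval r f = 0)
    (h1 : ∀ r ∈ R, IsUnit (aeval r (derivative f))) : Algebra.FormallyUnramified A E := by
  have hD : KaehlerDifferential.D A E = 0 := by
    refine Derivation.ext_of_adjoin_eq_top R hR fun r hr => ?_
    have h2 := congrArg (KaehlerDifferential.D A E) (h0 r hr)
    rw [map_zero, Derivation.map_aeval] at h2
    exact (h1 r hr).smul_eq_zero.1 h2
  refine ⟨subsingleton_of_forall_eq 0 fun x => ?_⟩
  have hx : x ∈ Submodule.span E (Set.range (KaehlerDifferential.D A E)) := by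
    rw [KaehlerDifferential.span_range_derivation]; trivial
  rw [hD] at hx
  induction hx using Submodule.span_induction with
  | mem y hy => obtain ⟨z, rfl⟩ := hy; rfl
  | zero => rfl
  | add y z _ _ hy hz => rw [hy, hz, add_zero]
  | smul a y _ hy => rw [hy, smul_zero]

variable {A S : Type u} [CommRing A] [HenselianLocalRing A] [CommRing S] [IsLocalRing S] [Algebra A S]
  [IsLocalHom (algebraMap A S)] [Hensel.IsStrictHenselization A S]

/-- The data of a Galois stage. -/
structure IsGaloisStage (f : A[X]) (R : Finset S) (E : Subalgebra A S) : Prop where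
  monic : f.Monic
  eq_prod : f.map (algebraMap A S) = ∏ r ∈ R, (X - C r)
  isUnit_sub : ∀ r ∈ R, ∀ r' ∈ R, r ≠ r' → IsUnit (r - r')
  eq_adjoin : E = Algebra.adjoin A (R : Set S)
  isLocalRing : IsLocalRing E
  isLocalHom : IsLocalHom (algebraMap E S)
  finite : Module.Finite A E
  unramified : Algebra.FormallyUnramified A E

/-- A finite subset of the strict henselization lies in a Galois stage. -/
theorem exists_galoisStage (s : Finset S) :
    ∃ (f : A[X]) (R : Finset S) (E : Subalgebra A S), IsGaloisStage f R E ∧ (s : Set S) ⊆ E := by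
  classical
  have hT := (inferInstance : Hensel.IsStrictHenselization A S)
  haveI := hT.henselian
  haveI := hT.isSepClosure.sep_closed
  haveI := hT.isSepClosure.separable
  obtain ⟨E₀, hsE₀, hE₀⟩ := StrictStage.exists_stage (A := A) s
  haveI := hE₀.isLocalRing
  haveI := hE₀.isLocalHom
  haveI := hE₀.finite inferInstance
  obtain ⟨T, hT'⟩ := (Module.Finite.fg_top (R := A) (M := E₀))
  -- the residual polynomial
  let I : Finset (ResidueField A)[X] := T.image fun e : E₀ => minpoly (ResidueField A) (residue S (e : S))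
  have hI : ∀ g ∈ I, g.Monic ∧ Irreducible g ∧ g.Separable := by
    intro g hg
    obtain ⟨e, -, rfl⟩ := Finset.mem_image.1 hg
    have hint := Algebra.IsSeparable.isIntegral (ResidueField A) (residue S (e : S))
    exact ⟨minpoly.monic hint, minpoly.irreducible hint, Algebra.IsSeparable.isSeparable _ _⟩
  let P : (ResidueField A)[X] := ∏ g ∈ I, g
  have hPm : P.Monic := monic_prod_of_monic _ _ fun g hg => (hI g hg).1
  have hPs : P.Separable := separable_prod' (fun g hg g' hg' hne =>
    ((hI g hg).2.1.coprime_iff_not_dvd).2 fun hdvd => hne (eq_of_monic_of_associated (hI g hg).1 (hI g' hg').1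
      (Irreducible.associated_of_dvd (hI g hg).2.1 (hI g' hg').2.1 hdvd))) fun g hg => (hI g hg).2.2
  obtain ⟨f, hfP, hfdeg, hfm⟩ := lifts_and_degree_eq_and_monic
    (show P ∈ lifts (residue A) from map_surjective (residue A) residue_surjective P) hPm
  have hbar : ∀ (p : A[X]) (x : S), residue S (p.eval₂ (algebraMap A S) x) =
      (p.map (residue A)).eval₂ (algebraMap (ResidueField A) (ResidueField S)) (residue S x) := fun p x => by
    rw [hom_eval₂, eval₂_map]
    rfl
  let Pk := P.map (algebraMap (ResidueField A) (ResidueField S))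
  have hPk : Pk.Separable := hPs.map
  have hsplit : Pk.Splits := IsSepClosed.splits_of_separable _ hPk
  have hsimple : ∀ α, Pk.IsRoot α → Pk.derivative.eval α ≠ 0 := fun α hα => by
    have := hPk.eval₂_derivative_ne_zero (RingHom.id _) (x := α) (by rw [eval₂_id]; exact hα)
    rwa [eval₂_id] at this
  have hlift : ∀ α : ResidueField S, Pk.IsRoot α → ∃ x : S, f.eval₂ (algebraMap A S) x = 0 ∧ residue S x = α := by
    intro α hα
    obtain ⟨a₀, rfl⟩ := residue_surjective α
    have h0 : (f.map (algebraMap A S)).eval a₀ ∈ maximalIdeal S := by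
      rw [eval_map, ← residue_eq_zero_iff, hbar, hfP, ← eval_map]
      exact hα
    have h1 : IsUnit ((f.map (algebraMap A S)).derivative.eval a₀) := by
      rw [derivative_map, eval_map, ← residue_ne_zero_iff_isUnit, hbar, ← derivative_map, hfP, ← eval_map,
        ← derivative_map]
      exact hsimple _ hα
    obtain ⟨x, hx, hxa⟩ := HenselianLocalRing.is_henselian _ (hfm.map _) a₀ h0 h1
    refine ⟨x, by rw [← eval_map]; exact hx, ?_⟩
    rw [← sub_eq_zero, ← map_sub, residue_eq_zero_iff]
    exact hxa
  choose! ζ hζ0 hζr using hlift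
  let R : Finset S := Pk.roots.toFinset.image ζ
  have hR : ∀ r ∈ R, f.eval₂ (algebraMap A S) r = 0 ∧ Pk.IsRoot (residue S r) ∧ ζ (residue S r) = r := by
    intro r hr
    obtain ⟨α, hα, rfl⟩ := Finset.mem_image.1 hr
    have hα' := isRoot_of_mem_roots (Multiset.mem_toFinset.1 hα)
    rw [hζr α hα']
    exact ⟨hζ0 α hα', hα', rfl⟩
  have hsub : ∀ r ∈ R, ∀ r' ∈ R, r ≠ r' → IsUnit (r - r') := fun r hr r' hr' hne => by
    rw [← residue_ne_zero_iff_isUnit, map_sub, sub_ne_zero]
    exact fun h => hne (by rw [← (hR r hr).2.2, ← (hR r' hr').2.2, h])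
  have hcard : R.card = Pk.natDegree := by
    rw [Finset.card_image_of_injOn fun α hα β hβ h => by
      rw [← hζr α (isRoot_of_mem_roots (Multiset.mem_toFinset.1 hα)), h,
        hζr β (isRoot_of_mem_roots (Multiset.mem_toFinset.1 hβ))],
      Multiset.toFinset_card_of_nodup (nodup_roots hPk), ← hsplit.natDegree_eq_card_roots]
  have hprod : f.map (algebraMap A S) = ∏ r ∈ R, (X - C r) := by
    refine eq_of_monic_of_dvd_of_natDegree_le (monic_prod_of_monic _ _ fun r _ => monic_X_sub_C r)
      (hfm.map _) ?_ ?_
    · refine Finset.prod_dvd_of_coprime (fun r hr r' hr' hne =>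
        isCoprime_X_sub_C_of_isUnit_sub (hsub r hr r' hr' hne)) fun r hr => dvd_iff_isRoot.2 ?_
      show (f.map (algebraMap A S)).eval r = 0
      rw [eval_map]
      exact (hR r hr).1
    · rw [natDegree_prod_of_monic _ _ (fun r _ => monic_X_sub_C r), hfm.natDegree_map]
      simp only [natDegree_X_sub_C, Finset.sum_const, smul_eq_mul, mul_one]
      rw [hcard, natDegree_map, natDegree_eq_of_degree_eq hfdeg]
  let E : Subalgebra A S := Algebra.adjoin A (R : Set S)
  have hint : ∀ r ∈ R, IsIntegral A r := fun r hr => ⟨f, hfm, (hR r hr).1⟩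
  haveI hfin : Module.Finite A E :=
    Module.Finite.iff_fg.2 (fg_adjoin_of_finite R.finite_toSet hint)
  haveI : Algebra.IsIntegral A E := Algebra.IsIntegral.of_finite A E
  obtain ⟨hEhens, hEloc⟩ := Groth.Hensel1.henselian_of_isIntegral_subalgebra A S E
  haveI : IsLocalRing E := hEhens.toIsLocalRing
  haveI hEloc' : IsLocalHom (algebraMap E S) := hEloc
  have hunr : Algebra.FormallyUnramified A E := by
    refine formallyUnramified_of_adjoin_roots f (((↑) : E → S) ⁻¹' (R : Set S))
      (Algebra.adjoin_adjoin_coe_preimage) (fun r hr => Subtype.ext ?_) fun r hr => ?_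
    · rw [← Subalgebra.coe_val, ← aeval_algHom_apply, aeval_def]
      exact (hR r hr).1
    · refine hEloc.map_nonunit _ ?_
      show IsUnit (E.val (aeval r (derivative f)))
      rw [← aeval_algHom_apply, aeval_def, ← residue_ne_zero_iff_isUnit, hbar, ← derivative_map, hfP,
        ← eval_map, ← derivative_map]
      exact hsimple _ (hR r hr).2.1
  refine ⟨f, R, E, ⟨hfm, hprod, hsub, rfl, inferInstance, hEloc', hfin, hunr⟩, fun x hx => ?_⟩
  -- the stage `E₀` lies in `E`
  let ρ : ResidueField E →+* ResidueField S := ResidueField.map (algebraMap E S)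
  let ρ₀ : ResidueField E₀ →+* ResidueField S := ResidueField.map (algebraMap E₀ S)
  have hA : ∀ c : A, residue S (algebraMap A S c) ∈ ρ.fieldRange :=
    fun c => ⟨residue E (algebraMap A E c), rfl⟩
  have hrange : ∀ z, ρ₀ z ∈ ρ.fieldRange := by
    intro z
    obtain ⟨e, rfl⟩ := residue_surjective z
    show residue S (e : S) ∈ ρ.fieldRange
    have he : e ∈ Submodule.span A (T : Set E₀) := hT' ▸ Submodule.mem_top
    induction he using Submodule.span_induction with
    | mem g hg =>
      have hroot : Pk.IsRoot (residue S (g : S)) := by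
        have hg' : minpoly (ResidueField A) (residue S (g : S)) ∈ I := Finset.mem_image_of_mem _ hg
        show Pk.eval _ = 0
        rw [eval_map, ← aeval_def]
        exact aeval_eq_zero_of_dvd_aeval_eq_zero (Finset.dvd_prod_of_mem _ hg') (minpoly.aeval _ _)
      refine ⟨residue E ⟨ζ (residue S (g : S)), Algebra.subset_adjoin (Finset.mem_image.2
        ⟨_, Multiset.mem_toFinset.2 ((mem_roots hPk.ne_zero).2 hroot), rfl⟩)⟩, hζr _ hroot⟩
    | zero => rw [ZeroMemClass.coe_zero, map_zero]; exact zero_mem _
    | add a b _ _ ha hb => rw [Subalgebra.coe_add, map_add]; exact add_mem ha hb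
    | smul c a _ ha =>
      rw [SetLike.val_smul, Algebra.smul_def, map_mul]
      exact mul_mem (hA c) ha
  let eρ : ResidueField E ≃+* ρ.fieldRange :=
    RingEquiv.ofBijective ρ.rangeRestrictField ρ.rangeRestrictField_bijective
  let α : ResidueField E₀ →+* ResidueField E := eρ.symm.toRingHom.comp (ρ₀.codRestrict ρ.fieldRange hrange)
  have hα : ∀ z, ρ (α z) = ρ₀ z := fun z => congrArg Subtype.val (eρ.apply_symm_apply ⟨ρ₀ z, hrange z⟩)
  haveI : IsLocalHom (algebraMap A E₀) := ⟨fun a ha => by
    have h1 := ha.map (algebraMap E₀ S)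
    rw [← IsScalarTower.algebraMap_apply] at h1
    exact isUnit_of_map_unit (algebraMap A S) a h1⟩
  haveI := hEhens
  obtain ⟨φ, ⟨hφA, hφr⟩, -⟩ := Groth.Hensel1.existsUnique_ringHom_of_essentiallyEtale (hE₀.essEt inferInstance)
    (algebraMap A E) α (fun a => ρ.injective ((hα _).trans rfl))
  let φ' : E₀ →ₐ[A] E := { φ with commutes' := fun a => RingHom.congr_fun hφA a }
  have heq : E.val.comp φ' = E₀.val := Groth.Hensel1.algHom_eq_of_essentiallyEtale (hE₀.essEt inferInstance)
    fun e => ((congrArg ρ (hφr e)).trans (hα (residue E₀ e)))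
  rw [← show (E.val.comp φ') ⟨x, hsE₀ hx⟩ = x from (AlgHom.congr_fun heq _).trans rfl]
  exact (φ' ⟨x, hsE₀ hx⟩).2

/-- A Galois stage is an essentially étale local algebra. -/
theorem IsGaloisStage.essEt [IsNoetherianRing A] {f : A[X]} {R : Finset S} {E : Subalgebra A S}
    (h : IsGaloisStage f R E) : ∀ _ : IsLocalRing E, IsEssentiallyEtale A E := by
  intro _
  haveI := h.isLocalHom
  haveI := h.finite
  haveI := h.unramified
  haveI : IsLocalHom (algebraMap A E) := ⟨fun a ha => by
    have h1 := ha.map (algebraMap E S)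
    rw [← IsScalarTower.algebraMap_apply] at h1
    exact isUnit_of_map_unit (algebraMap A S) a h1⟩
  exact Groth.Agent.S16438.result A S E Algebra.FormallyUnramified.map_maximalIdeal

end Groth.Ega4Algebra2.GaloisStage
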