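import Groth.Agent.Ega4Algebra2.DerivationFS
import Groth.Agent.Ega4Algebra2.GRing
import Groth.Agent.S2487
import Groth.Agent.Calg4.RegularFlat
import Mathlib

/-!
# The generic fibre of a formally smooth map of complete local rings is regular
-/

set_option autoImplicit false
set_option linter.style.haveILetI false

universe u

open IsLocalRing TensorProduct

namespace Groth.Ega4b

open Jac

/-- Transfer of adic formal smoothness along an isomorphism of the base. -/
theorem isFormallySmoothAdic_of_base_equiv {R A B : Type u} [CommRing R] [CommRing A] [CommRing B] [Algebra A B]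
    [Algebra R B] (e : R ≃+* A) (he : ∀ r, algebraMap A B (e r) = algebraMap R B r) {𝔯 : Ideal R} {𝔞 : Ideal A}
    (hea : 𝔯.map e.toRingHom = 𝔞) {𝔟 : Ideal B} (h : EGA41.IsFormallySmoothAdic A 𝔞 B 𝔟) :
    EGA41.IsFormallySmoothAdic R 𝔯 B 𝔟 := by
  intro C _ _ J hJ ⟨k, hk⟩ u hu
  letI : Algebra A C := ((algebraMap R C).comp e.symm.toRingHom).toAlgebra
  let u' : B →ₐ[A] C ⧸ J :=
    { u.toRingHom with
      commutes' := fun a => by
        show u (algebraMap A B a) = Ideal.Quotient.mk J (algebraMap R C (e.symm a))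
        rw [← e.apply_symm_apply a, he, u.commutes, e.symm_apply_apply]
        rfl }
  obtain ⟨v, hv⟩ := h C J hJ ⟨k, by
    rw [← hea, ← Ideal.map_pow, Ideal.map_map, show (algebraMap A C).comp e.toRingHom = algebraMap R C from
      RingHom.ext fun r => congrArg (algebraMap R C) (e.symm_apply_apply r)]
    exact hk⟩ u' hu
  refine ⟨{ v.toRingHom with commutes' := fun r => ?_ }, AlgHom.ext fun b => AlgHom.congr_fun hv b⟩
  show v (algebraMap R B r) = _
  rw [← he, v.commutes]
  exact congrArg (algebraMap R C) (e.symm_apply_apply r)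

variable {A B : Type u} [CommRing A] [IsDomain A] [IsLocalRing A] [IsNoetherianRing A]
  [IsAdicComplete (maximalIdeal A) A] [CommRing B] [IsLocalRing B] [IsNoetherianRing B]
  [IsAdicComplete (maximalIdeal B) B] [Algebra A B] [IsLocalHom (algebraMap A B)]

/-- The generic fibre of a formally smooth map from a complete local domain to a complete local ring is regular. -/
theorem isRegularLocalRing_of_fs_of_comap_eq_bot
    (hfs : EGA41.IsFormallySmoothAdic A (maximalIdeal A) B (maximalIdeal B)) (Q : Ideal B) [Q.IsPrime]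
    (hQ : Q.comap (algebraMap A B) = ⊥) : IsRegularLocalRing (Localization.AtPrime Q) := by
  classical
  obtain ⟨P, _, _, π, h, f, D, hπ, hf, hdet, hht⟩ := Jac.exists_jacobian A
  haveI := isRegularRing_of_isRegularLocalRing P
  obtain ⟨s, hs, hsJ⟩ := exists_mul_mem_span π f D hf hdet hht
  let J := RingHom.ker π
  let e : (P ⧸ J) ≃+* A := RingHom.quotientKerEquivOfSurjective hπ
  haveI : IsLocalRing (P ⧸ J) := e.symm.isLocalRing
  have hJ : J ≤ maximalIdeal P := IsLocalRing.le_maximalIdeal (RingHom.ker_ne_top π)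
  haveI : IsLocalHom π := IsLocalHom.of_surjective π hπ
  letI : Algebra P B := ((algebraMap A B).comp π).toAlgebra
  haveI : IsLocalHom (algebraMap P B) := RingHom.isLocalHom_comp _ _
  letI : Algebra (P ⧸ J) B := ((algebraMap A B).comp e.toRingHom).toAlgebra
  haveI : IsScalarTower P (P ⧸ J) B := IsScalarTower.of_algebraMap_eq fun p => rfl
  haveI : IsLocalHom e.toRingHom := ⟨fun a ha => (MulEquiv.isUnit_map e).1 ha⟩
  haveI : IsLocalHom (algebraMap (P ⧸ J) B) := RingHom.isLocalHom_comp _ _
  have hfs' : EGA41.IsFormallySmoothAdic (P ⧸ J) (maximalIdeal (P ⧸ J)) B (maximalIdeal B) :=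
    isFormallySmoothAdic_of_base_equiv e (fun _ => rfl)
      (IsLocalRing.map_maximalIdeal_of_surjective e.toRingHom e.surjective) hfs
  obtain ⟨C, _, _, _, _, _, hCc, hCflat, ⟨w⟩⟩ := (Groth.Agent.S2487.result J hJ B hfs').1
  haveI := hCc; haveI := hCflat
  let incR : C →ₐ[P] (P ⧸ J) ⊗[P] C := Algebra.TensorProduct.includeRight
  let p : C →ₐ[P] B := ((w : (P ⧸ J) ⊗[P] C →ₐ[P ⧸ J] B).restrictScalars P).comp incR
  have hincR : Function.Surjective incR :=
    Algebra.TensorProduct.includeRight_surjective C Ideal.Quotient.mk_surjective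
  have hp : Function.Surjective p := w.surjective.comp hincR
  have hkerR : RingHom.ker incR.toRingHom = J.map (algebraMap P C) := by
    refine le_antisymm (fun x hx => ?_) (Ideal.map_le_iff_le_comap.2 fun y hy => ?_)
    · rw [← Ideal.Quotient.eq_zero_iff_mem]
      let t := (Algebra.TensorProduct.quotIdealMapEquivQuotTensor C J)
      refine t.injective ?_
      rw [map_zero, Algebra.TensorProduct.quotIdealMapEquivQuotTensor_mk]
      exact hx
    · show incR (algebraMap P C y) = 0
      rw [incR.commutes, IsScalarTower.algebraMap_apply P (P ⧸ J), Ideal.Quotient.algebraMap_eq,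
        Ideal.Quotient.eq_zero_iff_mem.2 hy, map_zero]
  have hker : RingHom.ker p.toRingHom = J.map (algebraMap P C) := by
    rw [← hkerR]
    ext x
    exact ⟨fun hx => w.injective (hx.trans (map_zero w).symm), fun hx => (congrArg w hx).trans (map_zero w)⟩
  have hmB : (maximalIdeal C).map p.toRingHom = maximalIdeal B := IsLocalRing.map_maximalIdeal_of_surjective _ hp
  have hmJ : maximalIdeal (P ⧸ J) = (maximalIdeal P).map (Ideal.Quotient.mk J) :=
    (IsLocalRing.map_maximalIdeal_of_surjective _ Ideal.Quotient.mk_surjective).symm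
  have hCfs : EGA41.IsFormallySmoothAdic P (maximalIdeal P) C (maximalIdeal C) :=
    Groth.Ega41Flat.isFormallySmoothAdic_of_flat (Groth.Ega41Flat.isFormallySmoothAdic_fibre J hJ p hp
      (hker.le.trans (Ideal.map_mono hJ)) hmB (hmJ ▸ hfs'))
  haveI : Nontrivial (C ⧸ (maximalIdeal P).map (algebraMap P C)) :=
    Ideal.Quotient.nontrivial_iff.mpr fun h => (maximalIdeal.isMaximal C).ne_top
      (top_le_iff.mp (h ▸ Groth.Ega41Flat.map_maximalIdeal_le (A := P) (B := C)))
  haveI : IsLocalRing (C ⧸ (maximalIdeal P).map (algebraMap P C)) :=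
    IsLocalRing.of_surjective' _ Ideal.Quotient.mk_surjective
  haveI := Groth.Ega41Flat.isRegularLocalRing_fibre hCfs
  haveI : IsRegularLocalRing C := Groth.Calg4.isRegularLocalRing_of_flat_of_quotient P C
  choose D' hD' using fun i => exists_derivation_extension_fs hCfs (D i)
  have hgen : ∀ x, π x ≠ 0 → p (algebraMap P C x) ∉ Q := fun x hx hxQ => hx (by
    rw [p.commutes] at hxQ
    exact Ideal.mem_bot.1 (hQ ▸ (hxQ : π x ∈ Q.comap (algebraMap A B))))
  haveI := Groth.Ega4Algebra1.isRegularLocalRing_localization_atPrime C (Q.comap p.toRingHom)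
  exact isRegularLocalRing_of_jacobian π f D hf hsJ (algebraMap P C) D' (fun i x => hD' i x) p.toRingHom hp
    hker Q (hgen s hs) (hgen _ hdet)

end Groth.Ega4b
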