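import Mathlib

/-!
# Sections of étale morphisms descend along flat, geometrically connected morphisms
-/

set_option autoImplicit false
set_option linter.style.haveILetI false

universe u

open CategoryTheory hiding IsPreconnected
open Limits AlgebraicGeometry MorphismProperty

namespace Groth.Ega4b.EtaleDescent

theorem locallyQuasiFinite_of_etale {A B : Scheme.{u}} (f : A ⟶ B) [Etale f] : LocallyQuasiFinite f := by
  rw [HasRingHomProperty.iff_appLE (P := @LocallyQuasiFinite)]
  intro U V e
  have h₁ := HasRingHomProperty.appLE @LocallyOfFiniteType f inferInstance U V e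
  have h₂ := HasRingHomProperty.appLE @FormallyUnramified f inferInstance U V e
  algebraize [(f.appLE U.1 V.1 e).hom]
  have : Algebra.FiniteType Γ(B, U.1) Γ(A, V.1) := h₁
  have : Algebra.FormallyUnramified Γ(B, U.1) Γ(A, V.1) := h₂
  exact RingHom.quasiFinite_algebraMap.2 inferInstance

/-- A section of an étale morphism is an open immersion. -/
theorem isOpenImmersion_section {X Y : Scheme.{u}} (σ : X ⟶ Y) (q : Y ⟶ X) [Etale q] (h : σ ≫ q = 𝟙 X) :
    IsOpenImmersion σ := by
  haveI : MorphismProperty.HasOfPostcompProperty @IsOpenImmersion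
      (@LocallyOfFiniteType ⊓ @FormallyUnramified : MorphismProperty Scheme.{u}) := by
    rw [MorphismProperty.hasOfPostcompProperty_iff_le_diagonal]
    intro X Y f ⟨hft, hfu⟩
    exact inferInstanceAs <| IsOpenImmersion (pullback.diagonal f)
  refine of_postcomp (W := @IsOpenImmersion) (W' := @LocallyOfFiniteType ⊓ @FormallyUnramified) σ q
    ⟨inferInstance, inferInstance⟩ ?_
  rw [h]
  infer_instance

variable {Z Z' W : Scheme.{u}} (q : W ⟶ Z) [Etale q] (h₀ : Z' ⟶ Z) [GeometricallyConnected h₀]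
  [Flat h₀] [QuasiCompact h₀] (b : Z' ⟶ W)

/-- The lift is constant on the fibres. -/
theorem eq_of_fibre (hb : b ≫ q = h₀) {x y : Z'} (hxy : h₀ x = h₀ y) : b x = b y := by
  haveI := locallyQuasiFinite_of_etale q
  have hconn := ((h₀.isConnected_preimage_singleton (h₀ x)).isPreconnected.image b b.continuous.continuousOn)
  have hsub : b '' (h₀ ⁻¹' {h₀ x}) ⊆ q ⁻¹' {h₀ x} := by
    rintro _ ⟨z, hz, rfl⟩
    show q (b z) = h₀ x
    rw [← Scheme.Hom.comp_apply, hb]
    exact hz
  obtain ⟨hd⟩ := q.isDiscrete_preimage_singleton (h₀ x)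
  haveI := hd
  have h1 : IsPreconnected ((↑) ⁻¹' (b '' (h₀ ⁻¹' {h₀ x})) : Set (q ⁻¹' {h₀ x})) :=
    Topology.IsInducing.subtypeVal.isPreconnected_image.mp (by
      rwa [Set.image_preimage_eq_of_subset (by rw [Subtype.range_coe]; exact hsub)])
  have hs := h1.subsingleton
  exact congrArg Subtype.val (@hs ⟨b x, hsub ⟨x, rfl, rfl⟩⟩ ⟨x, rfl, rfl⟩ ⟨b y, hsub ⟨y, hxy.symm, rfl⟩⟩
    ⟨y, hxy.symm, rfl⟩)

/-- The graph is saturated. -/
theorem range_section_eq (hb : b ≫ q = h₀) :
    Set.range (pullback.lift (f := q) (g := h₀) b (𝟙 Z') (by rw [hb, Category.id_comp])) =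
      (pullback.fst q h₀) ⁻¹' Set.range b := by
  set σ := pullback.lift (f := q) (g := h₀) b (𝟙 Z') (by rw [hb, Category.id_comp])
  set a := pullback.fst q h₀
  set r := pullback.snd q h₀
  have hσa : σ ≫ a = b := pullback.lift_fst _ _ _
  have hσr : σ ≫ r = 𝟙 Z' := pullback.lift_snd _ _ _
  haveI := isOpenImmersion_section σ r hσr
  refine Set.Subset.antisymm ?_ ?_
  · rintro _ ⟨y, rfl⟩
    exact ⟨y, by rw [← Scheme.Hom.comp_apply, hσa]⟩
  intro x₀ hx₀
  obtain ⟨y, hy⟩ := hx₀
  -- an affine neighbourhood of the point of `W`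
  obtain ⟨V, hV, hyV, -⟩ :=
    exists_isAffineOpen_mem_and_subset (X := W) (x := b y) (U := ⊤) (by trivial)
  haveI : IsAffine V.toScheme := hV
  let qV : V.toScheme ⟶ Z := V.ι ≫ q
  let c := r ≫ b
  let O : (pullback q h₀).Opens := a ⁻¹ᵁ V ⊓ c ⁻¹ᵁ V
  let a' : O.toScheme ⟶ V.toScheme := IsOpenImmersion.lift V.ι (O.ι ≫ a) (by
    rintro _ ⟨z, rfl⟩
    rw [Scheme.Opens.range_ι]
    exact z.2.1)
  let c' : O.toScheme ⟶ V.toScheme := IsOpenImmersion.lift V.ι (O.ι ≫ c) (by
    rintro _ ⟨z, rfl⟩
    rw [Scheme.Opens.range_ι]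
    exact z.2.2)
  have ha' : a' ≫ V.ι = O.ι ≫ a := IsOpenImmersion.lift_fac _ _ _
  have hc' : c' ≫ V.ι = O.ι ≫ c := IsOpenImmersion.lift_fac _ _ _
  have hcond : a' ≫ qV = c' ≫ qV := by
    simp only [qV, c, ← Category.assoc, ha', hc']
    simp only [Category.assoc, hb]
    exact congrArg (O.ι ≫ ·) pullback.condition
  let m : O.toScheme ⟶ pullback.diagonalObj qV := pullback.lift a' c' hcond
  have hO : O.ι ⁻¹' Set.range σ = m ⁻¹' Set.range (pullback.diagonal qV) := by
    ext z
    constructor
    · rintro ⟨t, ht⟩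
      have hzr : z ∈ Set.range (pullback.snd σ O.ι) := by
        rw [Scheme.Pullback.range_snd]
        exact ⟨t, ht⟩
      obtain ⟨π, rfl⟩ := hzr
      have e1 : pullback.snd σ O.ι ≫ m = (pullback.snd σ O.ι ≫ a') ≫ pullback.diagonal qV := by
        apply pullback.hom_ext
        · simp only [m, Category.assoc, pullback.diagonal_fst, Category.comp_id]
          erw [pullback.lift_fst]
        · simp only [m, Category.assoc, pullback.lift_snd, pullback.diagonal_snd, Category.comp_id]
          rw [← cancel_mono V.ι, Category.assoc, Category.assoc, hc', ha', ← pullback.condition_assoc,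
            ← pullback.condition_assoc, hσa]
          simp only [c, reassoc_of% hσr]
      exact ⟨_, (congrArg (fun F : pullback σ O.ι ⟶ pullback.diagonalObj qV => F π) e1).symm⟩
    · rintro ⟨t, ht⟩
      have hzr : z ∈ Set.range (pullback.snd (pullback.diagonal qV) m) := by
        rw [Scheme.Pullback.range_snd]
        exact ⟨t, ht⟩
      obtain ⟨π, rfl⟩ := hzr
      set e := pullback.snd (pullback.diagonal qV) m
      have e2 : e ≫ a' = e ≫ c' := by
        have h1 := congrArg (· ≫ pullback.fst qV qV) (pullback.condition (f := pullback.diagonal qV) (g := m))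
        have h2 := congrArg (· ≫ pullback.snd qV qV) (pullback.condition (f := pullback.diagonal qV) (g := m))
        simp only [Category.assoc, pullback.diagonal_fst, pullback.diagonal_snd, Category.comp_id, m,
          pullback.lift_fst, pullback.lift_snd] at h1 h2
        exact h1.symm.trans h2
      have e3 : e ≫ O.ι = (e ≫ O.ι ≫ r) ≫ σ := by
        apply pullback.hom_ext
        · simp only [Category.assoc]
          rw [hσa, ← ha', reassoc_of% e2, hc']
        · simp only [Category.assoc]
          rw [hσr, Category.comp_id]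
      exact ⟨_, (congrArg (fun F : pullback (pullback.diagonal qV) m ⟶ pullback q h₀ => F π) e3).symm⟩
  haveI : IsClosedImmersion (pullback.diagonal qV) := IsSeparated.isClosedImmersion_diagonal
  have hclosed : IsClosed (O.ι ⁻¹' Set.range σ) := by
    rw [hO]
    exact (pullback.diagonal qV).isClosedEmbedding.isClosed_range.preimage m.continuous
  -- the fibre through `x₀`
  let T : Set ↥(pullback q h₀) := a ⁻¹' {b y}
  have hT : IsPreconnected T := (a.isConnected_preimage_singleton (b y)).isPreconnected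
  have hTO : T ⊆ O := by
    intro x hx
    have hx' : a x = b y := hx
    refine ⟨by show a x ∈ V; rw [hx']; exact hyV, ?_⟩
    show c x ∈ V
    rw [show c x = b (r x) from Scheme.Hom.comp_apply r b x,
      eq_of_fibre q h₀ b hb (y := y) (by
        have e1 : (a ≫ q) x = (r ≫ h₀) x := congrArg (fun F : pullback q h₀ ⟶ Z => F x) pullback.condition
        have e2 : (b ≫ q) y = h₀ y := congrArg (fun F : Z' ⟶ Z => F y) hb
        exact e1.symm.trans ((congrArg q hx').trans e2))]
    exact hyV
  have hT' : IsPreconnected (O.ι ⁻¹' T) := by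
    refine O.ι.isOpenEmbedding.isInducing.isPreconnected_image.mp ?_
    rwa [Set.image_preimage_eq_of_subset]
    rw [Scheme.Opens.range_ι]
    exact hTO
  have hclo : IsClopen (O.ι ⁻¹' Set.range σ) :=
    ⟨hclosed, σ.isOpenEmbedding.isOpen_range.preimage O.ι.continuous⟩
  have hσy : σ y ∈ T := by
    show a (σ y) = b y
    rw [← Scheme.Hom.comp_apply, hσa]
  exact hT'.subset_isClopen hclo (⟨⟨σ y, hTO hσy⟩, hσy, y, rfl⟩) (a := ⟨x₀, hTO hy.symm⟩) hy.symm

/-- A lift to an étale scheme descends to a section. -/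
theorem exists_section (hb : b ≫ q = h₀) : ∃ s : Z ⟶ W, s ≫ q = 𝟙 Z ∧ h₀ ≫ s = b := by
  set σ := pullback.lift (f := q) (g := h₀) b (𝟙 Z') (by rw [hb, Category.id_comp])
  set a := pullback.fst q h₀
  set r := pullback.snd q h₀
  have hσa : σ ≫ a = b := pullback.lift_fst _ _ _
  have hσr : σ ≫ r = 𝟙 Z' := pullback.lift_snd _ _ _
  haveI := isOpenImmersion_section σ r hσr
  have hrange := range_section_eq q h₀ b hb
  haveI : Surjective h₀ := inferInstance
  haveI : Surjective a := inferInstance
  have hopen : IsOpen (Set.range b) := by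
    rw [← (Flat.isQuotientMap_of_surjective a).isOpen_preimage, ← hrange]
    exact σ.isOpenEmbedding.isOpen_range
  let U : W.Opens := ⟨Set.range b, hopen⟩
  let bU : Z' ⟶ U.toScheme := IsOpenImmersion.lift U.ι b (by rw [Scheme.Opens.range_ι]; rfl)
  have hbU : bU ≫ U.ι = b := IsOpenImmersion.lift_fac _ _ _
  let q' : U.toScheme ⟶ Z := U.ι ≫ q
  let τ : Z' ⟶ pullback q' h₀ := pullback.lift bU (𝟙 Z') (by
    rw [Category.id_comp, ← Category.assoc, hbU, hb])
  have hτ : pullback.snd q' h₀ ≫ τ = 𝟙 _ := by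
    let i : pullback q' h₀ ⟶ pullback q h₀ :=
      pullback.lift (pullback.fst q' h₀ ≫ U.ι) (pullback.snd q' h₀) (by
        rw [Category.assoc]; exact pullback.condition)
    have hir : Set.range i ⊆ Set.range σ := by
      rw [hrange]
      rintro _ ⟨z, rfl⟩
      show a (i z) ∈ Set.range b
      rw [← Scheme.Hom.comp_apply, show i ≫ a = pullback.fst q' h₀ ≫ U.ι from pullback.lift_fst _ _ _,
        Scheme.Hom.comp_apply]
      exact (pullback.fst q' h₀ z).2
    let k := IsOpenImmersion.lift σ i hir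
    have hk : k ≫ σ = i := IsOpenImmersion.lift_fac _ _ _
    have hk' : k = pullback.snd q' h₀ := by
      have := congrArg (· ≫ r) hk
      simpa only [Category.assoc, hσr, Category.comp_id, i, r, pullback.lift_snd] using this
    apply pullback.hom_ext
    · rw [Category.assoc, pullback.lift_fst, Category.id_comp, ← cancel_mono U.ι, Category.assoc, hbU]
      have := congrArg (· ≫ a) hk
      simpa only [Category.assoc, hσa, i, a, pullback.lift_fst, hk'] using this
    · rw [Category.assoc, pullback.lift_snd, Category.comp_id, Category.id_comp]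
  haveI : IsIso (pullback.snd q' h₀) := ⟨τ, hτ, pullback.lift_snd _ _ _⟩
  haveI : IsIso q' := MorphismProperty.of_pullback_snd_of_descendsAlong
    (P := isomorphisms Scheme.{u}) (Q := @Surjective ⊓ @Flat ⊓ @QuasiCompact)
    (f := q') (g := h₀) ⟨⟨inferInstance, inferInstance⟩, inferInstance⟩
    (isomorphisms.infer_property _)
  refine ⟨inv q' ≫ U.ι, by rw [Category.assoc]; exact IsIso.inv_hom_id q', ?_⟩
  have h1 : bU ≫ q' = h₀ := by rw [← Category.assoc, hbU, hb]
  rw [← h1, Category.assoc, IsIso.hom_inv_id_assoc, hbU]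

/-- Morphisms between étale schemes descend along flat, geometrically connected morphisms. -/
theorem existsUnique_descent {X X' Z₁ Z₂ : Scheme.{u}} (g : X' ⟶ X) [GeometricallyConnected g]
    [Flat g] [QuasiCompact g] (p₁ : Z₁ ⟶ X) (p₂ : Z₂ ⟶ X) [Etale p₂]
    (φ' : pullback p₁ g ⟶ pullback p₂ g) (hφ' : φ' ≫ pullback.snd p₂ g = pullback.snd p₁ g) :
    ∃! φ : Z₁ ⟶ Z₂, φ ≫ p₂ = p₁ ∧ pullback.fst p₁ g ≫ φ = φ' ≫ pullback.fst p₂ g := by
  have hw : pullback.fst p₁ g ≫ p₁ = (φ' ≫ pullback.fst p₂ g) ≫ p₂ := by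
    rw [Category.assoc, pullback.condition, pullback.condition, reassoc_of% hφ']
  obtain ⟨s, hs, hs'⟩ := exists_section (pullback.fst p₁ p₂) (pullback.fst p₁ g)
    (pullback.lift _ _ hw) (pullback.lift_fst _ _ _)
  refine ⟨s ≫ pullback.snd p₁ p₂, ⟨?_, ?_⟩, ?_⟩
  · rw [Category.assoc, ← pullback.condition, reassoc_of% hs]
  · rw [reassoc_of% hs', pullback.lift_snd]
  · rintro ψ ⟨-, hψ⟩
    haveI := Flat.epi_of_flat_of_surjective (pullback.fst p₁ g)
    rw [← cancel_epi (pullback.fst p₁ g), hψ, reassoc_of% hs', pullback.lift_snd]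

end Groth.Ega4b.EtaleDescent
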