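import Groth.Agent.VarietyBC.TensorGeom
import Mathlib

/-!
# Geometrically reduced fibres along a composite
-/

set_option linter.style.haveILetI false

universe u

namespace Groth.Ega4b

open TensorProduct

variable (A B C : Type u) [CommRing A] [CommRing B] [CommRing C] [Algebra A B] [Algebra B C]
  [Algebra A C] [IsScalarTower A B C] (p : Ideal A) [p.IsPrime]

/-- the canonical map from the fibre over `p` to the residue field of a prime of `B` over `p` -/
noncomputable def fibreToResidue (q : Ideal B) [q.IsPrime] (hq : p = q.comap (algebraMap A B)) :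
    p.Fiber B →ₐ[A] q.ResidueField :=
  Algebra.TensorProduct.lift (Ideal.ResidueField.mapₐ p q (Algebra.ofId A B) hq)
    (IsScalarTower.toAlgHom A B q.ResidueField) fun _ _ => Commute.all _ _

/-- the canonical map between fibres -/
noncomputable def fibreToFibre (q : Ideal B) [q.IsPrime] (hq : p = q.comap (algebraMap A B)) :
    p.Fiber C →ₐ[A] q.Fiber C :=
  Algebra.TensorProduct.lift
    ((IsScalarTower.toAlgHom A q.ResidueField (q.Fiber C)).comp
      (Ideal.ResidueField.mapₐ p q (Algebra.ofId A B) hq))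
    ((Algebra.TensorProduct.includeRight : C →ₐ[B] q.Fiber C).restrictScalars A)
    fun _ _ => Commute.all _ _

/-- the prime of the fibre over a prime of `B` -/
lemma exists_fibre_prime (P : Ideal (p.Fiber B)) [P.IsPrime] :
    ∃ (q : Ideal B) (_ : q.IsPrime) (hq : p = q.comap (algebraMap A B)),
      RingHom.ker (fibreToResidue A B p q hq) = P := by
  let e := PrimeSpectrum.preimageEquivFiber A B ⟨p, inferInstance⟩
  let x := e.symm ⟨P, inferInstance⟩
  have hq : p = x.1.asIdeal.comap (algebraMap A B) := (congrArg PrimeSpectrum.asIdeal x.2).symm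
  refine ⟨x.1.asIdeal, inferInstance, hq, ?_⟩
  haveI : (RingHom.ker (fibreToResidue A B p x.1.asIdeal hq)).IsPrime := RingHom.ker_isPrime _
  have : e.symm ⟨RingHom.ker (fibreToResidue A B p x.1.asIdeal hq), inferInstance⟩ = x := by
    refine Subtype.ext (PrimeSpectrum.ext ?_)
    ext b
    show fibreToResidue A B p x.1.asIdeal hq (1 ⊗ₜ b) = 0 ↔ b ∈ x.1.asIdeal
    simp [fibreToResidue, Ideal.algebraMap_residueField_eq_zero]
  exact congrArg PrimeSpectrum.asIdeal (e.symm.injective this)

/-- localisation at a minimal prime of a reduced algebra stays reduced after a base change -/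
lemma isReduced_tensor_of_minimalPrime {κ F L K : Type u} [Field κ] [CommRing F] [IsReduced F]
    [IsNoetherianRing F] [Field L] [CommRing K] [Algebra κ F] [Algebra κ L] [Algebra κ K] [Module.Flat κ K]
    (χ : F →ₐ[κ] L) (hmin : RingHom.ker χ ∈ minimalPrimes F)
    (hfrac : ∀ l : L, ∃ (s b : F), χ s ≠ 0 ∧ χ s * l = χ b) [IsReduced (F ⊗[κ] K)] :
    IsReduced (L ⊗[κ] K) := by
  classical
  haveI := (minimalPrimes.finite_of_isNoetherianRing F).to_subtype
  haveI : Fintype ↥(minimalPrimes F) := Fintype.ofFinite _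
  set P := RingHom.ker χ
  haveI := hmin.isPrime
  obtain ⟨t, htP, htmul⟩ : ∃ t : F, t ∉ P ∧ ∀ a ∈ P, t * a = 0 := by
    have h1 : ¬ (Finset.univ.erase (⟨P, hmin⟩ : ↥(minimalPrimes F))).inf (fun Q => Q.1) ≤ P := by
      intro h
      obtain ⟨Q, hQ, hQP⟩ := (Ideal.IsPrime.inf_le' inferInstance).mp h
      exact (Finset.ne_of_mem_erase hQ) (Subtype.ext (le_antisymm hQP (hmin.2 Q.2.1 hQP)))
    obtain ⟨t, ht, htP⟩ := SetLike.not_le_iff_exists.mp h1
    refine ⟨t, htP, fun a ha => ?_⟩
    have : t * a ∈ sInf (minimalPrimes F) := Submodule.mem_sInf.mpr fun Q hQ => by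
      by_cases hQP : Q = P
      · subst hQP; exact Ideal.mul_mem_left _ _ ha
      · exact Ideal.mul_mem_right _ _ ((Submodule.mem_finsetInf.mp ht) ⟨Q, hQ⟩
          (Finset.mem_erase.mpr ⟨fun e => hQP (congrArg Subtype.val e), Finset.mem_univ _⟩))
    rw [minimalPrimes, Ideal.sInf_minimalPrimes, show (⊥ : Ideal F).radical = ⊥ from nilradical_eq_zero _] at this
    exact this
  let T := Algebra.TensorProduct.map χ (AlgHom.id κ K)
  have hkerT : ∀ y, T y = 0 → (t ⊗ₜ[κ] (1 : K)) * y = 0 := by
    intro y hy
    let W := LinearMap.ker χ.toLinearMap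
    have hex : Function.Exact W.subtype χ.toLinearMap := LinearMap.exact_subtype_ker_map _
    have hy' : LinearMap.rTensor K χ.toLinearMap y = 0 := hy
    obtain ⟨w, rfl⟩ := (Module.Flat.rTensor_exact K hex y).mp hy'
    clear hy hy'
    induction w with
    | zero => simp
    | add a b ha hb => rw [map_add, mul_add, ha, hb, add_zero]
    | tmul a c =>
      have : (a : F) ∈ P := a.2
      simp [htmul _ this]
  have e1 : ∀ x : F, T (x ⊗ₜ 1) = χ x ⊗ₜ 1 := fun x => by simp [T]
  have hfr : ∀ z : L ⊗[κ] K, ∃ (s : F) (y : F ⊗[κ] K), χ s ≠ 0 ∧ T y = (χ s ⊗ₜ 1) * z := by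
    intro z
    induction z with
    | zero => exact ⟨1, 0, by simp, by simp⟩
    | add a b ha hb =>
      obtain ⟨s, y, hs, hy⟩ := ha
      obtain ⟨s', y', hs', hy'⟩ := hb
      refine ⟨s * s', (s' ⊗ₜ (1 : K)) * y + (s ⊗ₜ (1 : K)) * y', ?_, ?_⟩
      · rw [map_mul]; exact mul_ne_zero hs hs'
      · rw [map_add, map_mul, map_mul, e1, e1, hy, hy', mul_add, ← mul_assoc, ← mul_assoc,
          Algebra.TensorProduct.tmul_mul_tmul, Algebra.TensorProduct.tmul_mul_tmul, mul_one, ← map_mul,
          ← map_mul, mul_comm s' s]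
    | tmul l c =>
      obtain ⟨s, b, hs, hb⟩ := hfrac l
      refine ⟨s, b ⊗ₜ c, hs, ?_⟩
      rw [Algebra.TensorProduct.tmul_mul_tmul, one_mul, hb]
      simp [T]
  refine isReduced_iff_pow_one_lt 2 (by norm_num) |>.mpr fun z hz => ?_
  obtain ⟨s, y, hs, hy⟩ := hfr z
  have h2 : T (y ^ 2) = 0 := by rw [map_pow, hy, mul_pow, hz, mul_zero]
  have h3 : ((t ⊗ₜ[κ] (1 : K)) * y) ^ 2 = 0 := by
    rw [mul_pow, pow_two (t ⊗ₜ[κ] (1 : K)), mul_assoc, hkerT _ h2, mul_zero]
  have h4 : T ((t ⊗ₜ[κ] (1 : K)) * y) = 0 := by rw [IsNilpotent.eq_zero ⟨2, h3⟩, map_zero]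
  rw [map_mul, hy, ← mul_assoc, e1] at h4
  have hunit : IsUnit ((χ t ⊗ₜ[κ] (1 : K)) * (χ s ⊗ₜ[κ] (1 : K))) := by
    rw [Algebra.TensorProduct.tmul_mul_tmul, one_mul]
    exact (IsUnit.mk0 (χ t * χ s) (mul_ne_zero htP hs)).map
      (Algebra.TensorProduct.includeLeft (R := κ) (S := κ) (A := L) (B := K))
  exact hunit.mul_right_eq_zero.mp h4

theorem isGeometricallyReduced_fiber_comp [Module.Flat B C] [IsNoetherianRing (p.Fiber B)]
    (hAB : Algebra.IsGeometricallyReduced p.ResidueField (p.Fiber B))
    (hBC : ∀ (q : Ideal B) [q.IsPrime], Algebra.IsGeometricallyReduced q.ResidueField (q.Fiber C)) :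
    Algebra.IsGeometricallyReduced p.ResidueField (p.Fiber C) := by
  classical
  let κ := p.ResidueField
  let ι := ↥(minimalPrimes (p.Fiber B))
  haveI : Finite ι := (minimalPrimes.finite_of_isNoetherianRing (p.Fiber B)).to_subtype
  haveI : Fintype ι := Fintype.ofFinite ι
  haveI : IsReduced (p.Fiber B) := Algebra.isReduced_of_isGeometricallyReduced κ
  have hex : ∀ P : ι, ∃ (q : Ideal B) (_ : q.IsPrime) (hq : p = q.comap (algebraMap A B)),
      RingHom.ker (fibreToResidue A B p q hq) = P.1 := fun P => by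
    haveI := P.2.isPrime
    exact exists_fibre_prime A B p P.1
  choose q hqp hq hker using hex
  -- injectivity of the product
  let χ : (B ⊗[A] κ) →ₗ[B] ((P : ι) → (q P).ResidueField) := LinearMap.pi fun P =>
    haveI := hqp P
    (Algebra.TensorProduct.lift (Algebra.ofId B (q P).ResidueField)
      (Ideal.ResidueField.mapₐ p (q P) (Algebra.ofId A B) (hq P)) fun _ _ => Commute.all _ _).toLinearMap
  have hχeq : ∀ (P : ι) (z : B ⊗[A] κ), χ z P =
      fibreToResidue A B p (q P) (hq P) (Algebra.TensorProduct.comm A B κ z) := by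
    intro P z
    induction z with
    | zero => simp
    | tmul b c => simp [χ, fibreToResidue, Algebra.ofId_apply, mul_comm]
    | add a b ha hb => rw [map_add, map_add, map_add, ← ha, ← hb]; rfl
  have hχ : Function.Injective χ := (injective_iff_map_eq_zero χ).mpr fun z hz => by
    refine (Algebra.TensorProduct.comm A B κ).injective ?_
    rw [map_zero]
    have hmem : ∀ P : ι, Algebra.TensorProduct.comm A B κ z ∈ P.1 := fun P => by
      rw [← hker P, RingHom.mem_ker, ← hχeq, hz]; rfl
    have : Algebra.TensorProduct.comm A B κ z ∈ sInf (minimalPrimes (p.Fiber B)) :=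
      Submodule.mem_sInf.mpr fun P hP => hmem ⟨P, hP⟩
    rw [minimalPrimes, Ideal.sInf_minimalPrimes, show (⊥ : Ideal (p.Fiber B)).radical = ⊥ from nilradical_eq_zero _] at this
    exact this
  have hΦ : Function.Injective (fun (z : p.Fiber C) (P : ι) =>
      haveI := hqp P; fibreToFibre A B C p (q P) (hq P) z) := by
    let e : C ⊗[B] (B ⊗[A] κ) ≃ₗ[B] C ⊗[A] κ := AlgebraTensorModule.cancelBaseChange A B B C κ
    have key : ∀ (w : C ⊗[B] (B ⊗[A] κ)) (P : ι),
        haveI := hqp P
        fibreToFibre A B C p (q P) (hq P) (TensorProduct.comm A C κ (e w)) =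
          TensorProduct.comm B C (q P).ResidueField
            (TensorProduct.piRight B B C (fun P : ι => (q P).ResidueField) (LinearMap.lTensor C χ w) P) := by
      intro w P
      haveI := hqp P
      induction w with
      | zero => simp
      | add a b ha hb => simp only [map_add, Pi.add_apply, ha, hb]
      | tmul c z =>
        induction z with
        | zero => simp
        | add a b ha hb => simp only [TensorProduct.tmul_add, map_add, Pi.add_apply, ha, hb]
        | tmul b k =>
          simp [e, χ, fibreToFibre, Algebra.TensorProduct.algebraMap_apply, Algebra.ofId_apply,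
            TensorProduct.piRight_apply, TensorProduct.smul_tmul']
          exact congrArg (· ⊗ₜ[B] c) (Algebra.smul_def b _)
    intro z z' hzz
    obtain ⟨w, rfl⟩ := (e.restrictScalars A ≪≫ₗ TensorProduct.comm A C κ).surjective z
    obtain ⟨w', rfl⟩ := (e.restrictScalars A ≪≫ₗ TensorProduct.comm A C κ).surjective z'
    congr 1
    apply Module.Flat.lTensor_preserves_injective_linearMap (M := C) χ hχ
    apply (TensorProduct.piRight B B C (fun P : ι => (q P).ResidueField)).injective
    funext P
    haveI := hqp P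
    apply (TensorProduct.comm B C (q P).ResidueField).injective
    exact (key w P).symm.trans ((congrFun hzz P).trans (key w' P))
  -- algebra structures
  letI algq : ∀ P : ι, Algebra κ (q P).ResidueField := fun P =>
    haveI := hqp P
    (Ideal.ResidueField.map p (q P) (algebraMap A B) (hq P)).toAlgebra
  let Φ : ∀ P : ι, p.Fiber C →ₐ[κ] (q P).Fiber C := fun P =>
    haveI := hqp P
    { (fibreToFibre A B C p (q P) (hq P)).toRingHom with
      commutes' := fun r => by
        show fibreToFibre A B C p (q P) (hq P) (r ⊗ₜ 1) = _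
        simp [fibreToFibre, RingHom.algebraMap_toAlgebra] }
  have hinj : Function.Injective (AlgHom.pi Φ) := fun a b hab => hΦ hab
  rw [Algebra.isGeometricallyReduced_field_iff]
  let K := AlgebraicClosure κ
  haveI : Module.Flat κ K := Module.Flat.of_free
  haveI : Module.Free κ K := Module.Free.of_divisionRing κ K
  haveI : IsReduced ((P : ι) → K ⊗[κ] (q P).Fiber C) := by
    haveI : ∀ P : ι, IsReduced (K ⊗[κ] (q P).Fiber C) := fun P => by
      haveI := hqp P
      -- the residue field is geometrically reduced over `κ`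
      haveI hred : IsReduced ((q P).ResidueField ⊗[κ] K) := by
        let χP : p.Fiber B →ₐ[κ] (q P).ResidueField :=
          { (fibreToResidue A B p (q P) (hq P)).toRingHom with
            commutes' := fun r => by
              show fibreToResidue A B p (q P) (hq P) (r ⊗ₜ 1) = _
              simp [fibreToResidue]
              rfl }
        haveI : IsReduced (p.Fiber B ⊗[κ] K) := by
          have := (Algebra.isGeometricallyReduced_field_iff κ (p.Fiber B)).mp hAB
          exact isReduced_of_injective (Algebra.TensorProduct.comm κ (p.Fiber B) K) (AlgEquiv.injective _)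
        refine isReduced_tensor_of_minimalPrime χP ((hker P).symm ▸ P.2) fun l => ?_
        obtain ⟨b, s, hs, rfl⟩ := IsFractionRing.div_surjective (B ⧸ q P) l
        obtain ⟨b, rfl⟩ := Ideal.Quotient.mk_surjective b
        obtain ⟨s, rfl⟩ := Ideal.Quotient.mk_surjective s
        have e : ∀ x : B, χP ((1 : κ) ⊗ₜ[A] x) = algebraMap (B ⧸ q P) (q P).ResidueField (Ideal.Quotient.mk _ x) := by
          intro x
          show fibreToResidue A B p (q P) (hq P) ((1 : κ) ⊗ₜ[A] x) = _
          simp [fibreToResidue]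
        have n1 : algebraMap (B ⧸ q P) (q P).ResidueField (Ideal.Quotient.mk _ s) ≠ 0 :=
          IsFractionRing.to_map_ne_zero_of_mem_nonZeroDivisors hs
        exact ⟨(1 : κ) ⊗ₜ[A] s, (1 : κ) ⊗ₜ[A] b, by rwa [e], by rw [e, e, mul_div_cancel₀ _ n1]⟩
      haveI := hBC (q P)
      haveI : IsReduced ((q P).Fiber C ⊗[(q P).ResidueField] ((q P).ResidueField ⊗[κ] K)) :=
        Groth.VarietyBC.isReduced_tensor_of_isGeometricallyReduced
      haveI : IsReduced ((q P).Fiber C ⊗[κ] K) :=
        isReduced_of_injective (Algebra.TensorProduct.cancelBaseChange κ (q P).ResidueField (q P).ResidueField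
          ((q P).Fiber C) K).symm (AlgEquiv.injective _)
      exact Groth.VarietyBC.isReduced_tensor_comm (A := (q P).Fiber C) (B := K) inferInstance
    exact ⟨fun x hx => funext fun P => (hx.map (Pi.evalRingHom _ P)).eq_zero⟩
  refine isReduced_of_injective
    ((Algebra.TensorProduct.piRight κ κ K (fun P : ι => (q P).Fiber C)).toAlgHom.comp
      (Algebra.TensorProduct.map (AlgHom.id κ K) (AlgHom.pi Φ))) ?_
  exact (Algebra.TensorProduct.piRight κ κ K (fun P : ι => (q P).Fiber C)).injective.comp
    (Module.Flat.lTensor_preserves_injective_linearMap _ hinj)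

end Groth.Ega4b
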