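import Mathlib

/-!
# Regular sequences on the associated graded module are regular on the module
-/

set_option autoImplicit false
set_option linter.style.haveILetI false

universe u v

open IsLocalRing RingTheory.Sequence
open scoped Pointwise

namespace Groth.Ega4b.GrReg

variable {A : Type u} [CommRing A]

/-- `gr_j M` -/
abbrev Piece (J : Ideal A) (M : Type v) [AddCommGroup M] [Module A M] (j : ℕ) : Type v :=
  ↥(J ^ j • (⊤ : Submodule A M)) ⧸ (J • (⊤ : Submodule A ↥(J ^ j • (⊤ : Submodule A M))))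

variable (J : Ideal A) {M : Type v} [AddCommGroup M] [Module A M]

lemma mk_piece_eq_zero_iff (j : ℕ) (x : ↥(J ^ j • (⊤ : Submodule A M))) :
    (Submodule.Quotient.mk x : Piece J M j) = 0 ↔ (x : M) ∈ J ^ (j + 1) • (⊤ : Submodule A M) := by
  rw [Submodule.Quotient.mk_eq_zero, Submodule.mem_smul_top_iff, ← Submodule.mul_smul, ← pow_succ']

lemma mem_pow_smul_of_smul_mem {r : A} (hr : ∀ j, IsSMulRegular (Piece J M j) r) :
    ∀ (j : ℕ) (m : M), r • m ∈ J ^ j • (⊤ : Submodule A M) → m ∈ J ^ j • (⊤ : Submodule A M) := by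
  intro j
  induction j with
  | zero => intro m _; simp
  | succ j ih =>
    intro m hm
    have hmj : m ∈ J ^ j • (⊤ : Submodule A M) :=
      ih m (Submodule.smul_mono_left (Ideal.pow_le_pow_right j.le_succ) hm)
    have h0 : r • (Submodule.Quotient.mk (⟨m, hmj⟩ : ↥(J ^ j • (⊤ : Submodule A M))) : Piece J M j) =
        r • 0 := by
      rw [smul_zero, ← Submodule.Quotient.mk_smul]
      exact (mk_piece_eq_zero_iff J j _).2 hm
    exact (mk_piece_eq_zero_iff J j _).1 (hr j h0)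

lemma map_pow_smul_top (r : A) (j : ℕ) :
    Submodule.map (r • (⊤ : Submodule A M)).mkQ (J ^ j • (⊤ : Submodule A M)) =
      J ^ j • (⊤ : Submodule A (QuotSMulTop r M)) := by
  rw [Submodule.map_smul'', Submodule.map_top, Submodule.range_mkQ]

lemma nonempty_piece_quot_equiv {r : A} (hr : ∀ j, IsSMulRegular (Piece J M j) r) (j : ℕ) :
    Nonempty (QuotSMulTop r (Piece J M j) ≃ₗ[A] Piece J (QuotSMulTop r M) j) := by
  classical
  let π : M →ₗ[A] QuotSMulTop r M := (r • (⊤ : Submodule A M)).mkQ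
  let πj : ↥(J ^ j • (⊤ : Submodule A M)) →ₗ[A] ↥(J ^ j • (⊤ : Submodule A (QuotSMulTop r M))) :=
    LinearMap.restrict π (p := J ^ j • (⊤ : Submodule A M)) (q := J ^ j • (⊤ : Submodule A (QuotSMulTop r M)))
      fun x hx => by rw [← map_pow_smul_top]; exact Submodule.mem_map_of_mem hx
  let ψ : Piece J M j →ₗ[A] Piece J (QuotSMulTop r M) j :=
    Submodule.mapQ _ _ πj (Submodule.map_le_iff_le_comap.1
      (by rw [Submodule.map_smul'']; exact Submodule.smul_mono le_rfl le_top))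
  have hψ : ∀ x, ψ (Submodule.Quotient.mk x) = Submodule.Quotient.mk (πj x) := fun _ => rfl
  have hsurj : Function.Surjective ψ := by
    intro y
    obtain ⟨⟨y, hy⟩, rfl⟩ := Submodule.Quotient.mk_surjective _ y
    rw [← map_pow_smul_top] at hy
    obtain ⟨x, hx, rfl⟩ := hy
    exact ⟨Submodule.Quotient.mk ⟨x, hx⟩, rfl⟩
  have hker : LinearMap.ker ψ = r • (⊤ : Submodule A (Piece J M j)) := by
    refine le_antisymm (fun z hz => ?_) (fun z hz => ?_)
    · obtain ⟨⟨x, hx⟩, rfl⟩ := Submodule.Quotient.mk_surjective _ z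
      rw [LinearMap.mem_ker, hψ, mk_piece_eq_zero_iff] at hz
      have hz' : π x ∈ J ^ (j + 1) • (⊤ : Submodule A (QuotSMulTop r M)) := hz
      rw [← map_pow_smul_top] at hz'
      obtain ⟨y, hy, hyx⟩ := hz'
      obtain ⟨m, -, hm⟩ := (Submodule.mem_smul_pointwise_iff_exists _ _ _).1
        ((Submodule.Quotient.eq _).1 hyx.symm)
      have hmj : m ∈ J ^ j • (⊤ : Submodule A M) := mem_pow_smul_of_smul_mem J hr j m
        (hm ▸ sub_mem hx (Submodule.smul_mono_left (Ideal.pow_le_pow_right j.le_succ) hy))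
      refine (Submodule.mem_smul_pointwise_iff_exists _ _ _).2
        ⟨Submodule.Quotient.mk ⟨m, hmj⟩, Submodule.mem_top, ?_⟩
      rw [← Submodule.Quotient.mk_smul, Submodule.Quotient.eq]
      refine (Submodule.Quotient.mk_eq_zero _).1 ((mk_piece_eq_zero_iff J j _).2 ?_)
      show r • m - x ∈ _
      rw [hm, show x - y - x = -y by abel]
      exact neg_mem hy
    · obtain ⟨w, -, rfl⟩ := (Submodule.mem_smul_pointwise_iff_exists _ _ _).1 hz
      obtain ⟨⟨x, hx⟩, rfl⟩ := Submodule.Quotient.mk_surjective _ w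
      rw [LinearMap.mem_ker, map_smul, hψ, ← Submodule.Quotient.mk_smul, mk_piece_eq_zero_iff]
      have h0 : r • π x = 0 := by
        rw [← map_smul]
        exact (Submodule.Quotient.mk_eq_zero _).2 (Submodule.smul_mem_pointwise_smul _ _ _ Submodule.mem_top)
      show r • π x ∈ _
      rw [h0]
      exact zero_mem _
  exact ⟨(Submodule.quotEquivOfEq _ _ hker.symm).trans (ψ.quotKerEquivOfSurjective hsurj)⟩

variable (M) in
/-- A sequence which is regular on all the `gr_j M` is regular on `M`. -/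
theorem isWeaklyRegular_of_piece [IsNoetherianRing A] [IsLocalRing A] (hJ : J ≠ ⊤) [Module.Finite A M]
    (rs : List A) (h : ∀ j, IsWeaklyRegular (Piece J M j) rs) : IsWeaklyRegular M rs := by
  induction rs generalizing M with
  | nil => exact IsWeaklyRegular.nil A M
  | cons r rs ih =>
    have hr : ∀ j, IsSMulRegular (Piece J M j) r := fun j => ((isWeaklyRegular_cons_iff _ r rs).1 (h j)).1
    refine IsWeaklyRegular.cons (fun a b hab => ?_) (ih (QuotSMulTop r M) fun j => ?_)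
    · have hab' : r • (a - b) = 0 := by rw [smul_sub, sub_eq_zero]; exact hab
      have h1 : a - b ∈ ⨅ j : ℕ, J ^ j • (⊤ : Submodule A M) := Submodule.mem_iInf _ |>.2 fun j =>
        mem_pow_smul_of_smul_mem J hr j _ (by rw [hab']; exact zero_mem _)
      rw [Ideal.iInf_pow_smul_eq_bot_of_isLocalRing (M := M) J hJ, Submodule.mem_bot, sub_eq_zero] at h1
      exact h1
    · obtain ⟨e⟩ := nonempty_piece_quot_equiv J hr j
      exact (e.isWeaklyRegular_congr rs).1 ((isWeaklyRegular_cons_iff _ r rs).1 (h j)).2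

/-- `gr_j (J^k) ≅ gr_(j+k) A` -/
lemma nonempty_piece_pow_equiv (k j : ℕ) :
    Nonempty (Piece J ↥(J ^ k) j ≃ₗ[A]
      (↥(J ^ (j + k)) ⧸ (J • (⊤ : Submodule A ↥(J ^ (j + k)))))) := by
  have hmap : (J ^ j • (⊤ : Submodule A ↥(J ^ k))).map (J ^ k).subtype = J ^ (j + k) := by
    rw [Submodule.map_smul'', Submodule.map_top, Submodule.range_subtype, pow_add, smul_eq_mul]
  let e : ↥(J ^ j • (⊤ : Submodule A ↥(J ^ k))) ≃ₗ[A] ↥(J ^ (j + k)) :=
    (Submodule.equivMapOfInjective _ (Submodule.injective_subtype _) _).trans (LinearEquiv.ofEq _ _ hmap)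
  refine ⟨Submodule.Quotient.equiv _ _ e ?_⟩
  rw [Submodule.map_smul'', Submodule.map_top, LinearEquiv.range]

/-- Normally flat: regular sequences on `A/J` are regular on `J^k`. -/
theorem isWeaklyRegular_pow_of_flat [IsNoetherianRing A] [IsLocalRing A] (hJ : J ≠ ⊤)
    (hflat : ∀ k : ℕ, Module.Flat (A ⧸ J) (↥(J ^ k) ⧸ (J • (⊤ : Submodule A ↥(J ^ k)))))
    (fs : List A) (hreg : IsWeaklyRegular (A ⧸ J) fs) (k : ℕ) :
    IsWeaklyRegular (↥(J ^ k)) fs ∧
      IsWeaklyRegular (↥(J ^ k) ⧸ (J • (⊤ : Submodule A ↥(J ^ k)))) fs := by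
  have hgr : ∀ n, IsWeaklyRegular (↥(J ^ n) ⧸ (J • (⊤ : Submodule A ↥(J ^ n)))) fs := fun n => by
    haveI := hflat n
    have h1 := (((isWeaklyRegular_map_algebraMap_iff (A ⧸ J) (A ⧸ J) fs).2 hreg).isWeaklyRegular_lTensor
      (M₂ := ↥(J ^ n) ⧸ (J • (⊤ : Submodule A ↥(J ^ n)))))
    exact (isWeaklyRegular_map_algebraMap_iff (A ⧸ J) _ fs).1
      (((TensorProduct.rid (A ⧸ J) _).isWeaklyRegular_congr _).1 h1)
  refine ⟨isWeaklyRegular_of_piece J _ hJ fs fun j => ?_, hgr k⟩
  obtain ⟨e⟩ := nonempty_piece_pow_equiv J k j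
  exact (e.isWeaklyRegular_congr fs).2 (hgr (j + k))

end Groth.Ega4b.GrReg
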