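import Groth.Agent.Ega4Algebra2.HenselFormalFibre

/-!
# Geometric connectedness of the formal fibres of henselian rings
-/

set_option autoImplicit false
set_option linter.style.haveILetI false

universe u

open TensorProduct Polynomial

namespace Groth.Ega4b.HenselConn

theorem connectedSpace_of_idem (R : Type u) [CommRing R] [Nontrivial R]
    (h : ∀ e : R, IsIdempotentElem e → e = 0 ∨ e = 1) : ConnectedSpace (PrimeSpectrum R) := by
  rw [connectedSpace_iff_clopen]
  refine ⟨inferInstance, fun s hs => ?_⟩
  obtain ⟨e, he, rfl⟩ := PrimeSpectrum.isClopen_iff.1 hs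
  rcases h e he with rfl | rfl
  · left; rw [PrimeSpectrum.basicOpen_zero]; rfl
  · right; rw [PrimeSpectrum.basicOpen_one]; rfl

/-- Connectedness is insensitive to extensions of an algebraically closed field. -/
theorem idem_tensor_fg {k D R : Type u} [Field k] [IsAlgClosed k] [CommRing D] [IsDomain D] [CommRing R]
    [Algebra k D] [Algebra k R] [Algebra.FiniteType k D]
    (hR : ∀ e : R, IsIdempotentElem e → e = 0 ∨ e = 1) (e : D ⊗[k] R) (he : IsIdempotentElem e) :
    e = 0 ∨ e = 1 := by
  obtain ⟨⟨ι, b⟩⟩ := Module.Free.exists_basis (R := k) (M := R)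
  let c := (b.baseChange D).repr e
  let δ : ι → D := fun i => algebraMap k D (b.repr 1 i)
  by_cases h0 : ∀ i, c i = 0
  · exact Or.inl ((b.baseChange D).ext_elem fun i => by rw [map_zero, Finsupp.zero_apply]; exact h0 i)
  push Not at h0
  obtain ⟨i, hi⟩ := h0
  refine Or.inr ((b.baseChange D).ext_elem fun j => ?_)
  have h1 : (b.baseChange D).repr 1 j = δ j := by
    rw [Algebra.TensorProduct.one_def, Module.Basis.baseChange_repr_tmul, Algebra.smul_def, mul_one]
  rw [h1]
  by_contra hj
  have hne : c i * (c j - δ j) ≠ 0 := mul_ne_zero hi (sub_ne_zero.mpr hj)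
  obtain ⟨φ, hφ⟩ := Groth.VarietyBC.exists_algHom_ne_zero (k := k) (fun h => hne h.eq_zero)
  rw [map_mul, map_sub] at hφ
  rcases hR _ (he.map (Groth.VarietyBC.evalAt φ)) with h | h
  · refine hφ ?_
    rw [← Groth.VarietyBC.repr_evalAt b φ e i, h, map_zero, Finsupp.zero_apply, zero_mul]
  · refine hφ ?_
    rw [← Groth.VarietyBC.repr_evalAt b φ e j, h, AlgHom.commutes, Algebra.algebraMap_self_apply, sub_self,
      mul_zero]

theorem idem_tensor {k B R : Type u} [Field k] [IsAlgClosed k] [CommRing B] [IsDomain B] [CommRing R]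
    [Algebra k B] [Algebra k R] (hR : ∀ e : R, IsIdempotentElem e → e = 0 ∨ e = 1)
    (e : B ⊗[k] R) (he : IsIdempotentElem e) : e = 0 ∨ e = 1 := by
  let σ := Algebra.TensorProduct.comm k B R
  obtain ⟨D, hD, x, hx⟩ := Groth.VarietyBC.exists_fg_range (A := B) (B := R) (σ e)
  haveI : Algebra.FiniteType k D := (Subalgebra.fg_iff_finiteType D).mp hD
  have hinj : Function.Injective (Algebra.TensorProduct.map (AlgHom.id k R) D.val) :=
    Module.Flat.lTensor_preserves_injective_linearMap _ Subtype.val_injective
  have hx' : IsIdempotentElem x := hinj (by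
    rw [map_mul]
    show _ = Algebra.TensorProduct.map (AlgHom.id k R) D.val x
    rw [show Algebra.TensorProduct.map (AlgHom.id k R) D.val x = σ e from hx]
    exact (he.map σ).eq)
  let τ := Algebra.TensorProduct.comm k R D
  rcases idem_tensor_fg hR (τ x) (hx'.map τ) with h | h
  · refine Or.inl (σ.injective ?_)
    rw [← show Algebra.TensorProduct.map (AlgHom.id k R) D.val x = σ e from hx,
      show x = 0 from τ.injective (h.trans (map_zero τ).symm), map_zero, map_zero]
  · refine Or.inr (σ.injective ?_)
    rw [← show Algebra.TensorProduct.map (AlgHom.id k R) D.val x = σ e from hx,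
      show x = 1 from τ.injective (h.trans (map_one τ).symm), map_one, map_one]

/-- Reducedness is insensitive to extensions of an algebraically closed field. -/
theorem isReduced_extend {k K L F : Type u} [Field k] [Field K] [Field L] [IsAlgClosed L] [CommRing F]
    [Algebra k K] [Algebra k L] [Algebra.IsAlgebraic k L] [Algebra k F] (h : IsReduced (L ⊗[k] F)) :
    IsReduced (K ⊗[k] F) := by
  let Ω := AlgebraicClosure K
  let j : L →ₐ[k] Ω := IsAlgClosed.lift
  letI : Algebra L Ω := j.toRingHom.toAlgebra
  haveI : IsScalarTower k L Ω := IsScalarTower.of_algebraMap_eq fun x => (j.commutes x).symm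
  haveI : IsReduced (Ω ⊗[L] (L ⊗[k] F)) := Groth.VarietyBC.isReduced_tensor
  haveI : IsReduced (Ω ⊗[k] F) := isReduced_of_injective (Algebra.TensorProduct.cancelBaseChange k L L Ω F).symm
    (Algebra.TensorProduct.cancelBaseChange k L L Ω F).symm.injective
  exact isReduced_of_injective (Algebra.TensorProduct.map (IsScalarTower.toAlgHom k K Ω) (AlgHom.id k F))
    (Module.Flat.rTensor_preserves_injective_linearMap _ (RingHom.injective (algebraMap K Ω)))

variable (A : Type u) [CommRing A] [IsNoetherianRing A] [IsLocalRing A]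

theorem isReduced_tensor_field (hA : EGA4.HasGeomReducedFormalFibres A) (K : Type u) [Field K] [Algebra A K] :
    IsReduced (EGA4.Cpl A ⊗[A] K) := by
  let p := RingHom.ker (algebraMap A K)
  haveI : p.IsPrime := RingHom.ker_isPrime _
  let j : p.ResidueField →ₐ[A] K := Ideal.ResidueField.liftₐ p (Algebra.ofId A K) le_rfl (by
    intro x hx
    exact isUnit_iff_ne_zero.mpr fun h0 => hx h0)
  letI : Algebra p.ResidueField K := j.toRingHom.toAlgebra
  haveI : IsScalarTower A p.ResidueField K := IsScalarTower.of_algebraMap_eq fun a => (j.commutes a).symm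
  haveI : IsReduced (AlgebraicClosure p.ResidueField ⊗[p.ResidueField] EGA4.formalFibre A p) :=
    by
      have := hA p
      rwa [Algebra.isGeometricallyReduced_field_iff] at this
  haveI : IsReduced (K ⊗[p.ResidueField] EGA4.formalFibre A p) :=
    isReduced_extend (L := AlgebraicClosure p.ResidueField) inferInstance
  let e := (Algebra.TensorProduct.cancelBaseChange A p.ResidueField K K (EGA4.Cpl A)).toRingEquiv.trans
    (Algebra.TensorProduct.comm A K (EGA4.Cpl A)).toRingEquiv
  exact isReduced_of_injective e.symm e.symm.injective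

/-- `Â ⊗ L` has no idempotents for an algebraic closure of a residue field. -/
theorem idem_algClosure [HenselianLocalRing A] (hA : EGA4.HasGeomReducedFormalFibres A) (L : Type u) [Field L]
    [Algebra A L] (e : EGA4.Cpl A ⊗[A] L) (he : IsIdempotentElem e) : e = 0 ∨ e = 1 := by
  haveI := (Groth.Ega4b.HenselFib.faithfullyFlat_cpl A).toFlat
  let C := integralClosure A L
  haveI : Algebra.IsIntegral A C := IsIntegralClosure.isIntegral_algebra A L
  haveI : IsLocalRing C := Groth.EtaleAlgebra.isLocalRing_of_isIntegral_domain A C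
  haveI := Groth.Ega4b.HenselFib.isLocalRing_tensor A C
  have hz : ICBC.IntOver (EGA4.Cpl A) (⊥ : Subalgebra A L) e := by
    refine ⟨X ^ 2 - X, monic_X_pow_sub (n := 2) (degree_X_le.trans_lt (by norm_num)), ?_⟩
    simp [pow_two, he.eq]
  have hbot : ∀ c : L, IsIntegral (⊥ : Subalgebra A L) c → c ∈ C := fun c hc => by
    haveI : Algebra.IsIntegral A (⊥ : Subalgebra A L) := ⟨fun x => by
      obtain ⟨x, hx⟩ := x
      obtain ⟨a, rfl⟩ := Algebra.mem_bot.mp hx
      exact isIntegral_algebraMap⟩
    exact isIntegral_trans (A := (⊥ : Subalgebra A L)) c hc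
  obtain ⟨w₀, hw₀⟩ := ICBC.img_mono (EGA4.Cpl A) (N' := Subalgebra.toSubmodule C) (fun c hc => hbot c hc)
    (ICBC.mem_img_of_intOver_of_reduced (EGA4.Cpl A) (fun K _ _ => isReduced_tensor_field A hA K) ⊥ hz)
  let ι := ICBC.bc (EGA4.Cpl A) C.val
  have hι : Function.Injective ι := ICBC.bc_injective _ Subtype.val_injective
  let w : EGA4.Cpl A ⊗[A] C := w₀
  have hwe : ι w = e := (ICBC.bc_eq_lTensor _ C.val w).trans hw₀
  have hwi : IsIdempotentElem w := hι (by rw [map_mul, hwe, he.eq])
  rcases IsLocalRing.isUnit_or_isUnit_one_sub_self w with hu | hu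
  · refine Or.inr ?_
    rw [← hwe, hu.mul_left_cancel (show w * w = w * 1 by rw [hwi.eq, mul_one]), map_one]
  · refine Or.inl ?_
    rw [← hwe, hu.mul_right_eq_zero.mp (show (1 - w) * w = 0 by rw [sub_mul, one_mul, hwi.eq, sub_self]),
      map_zero]

/-- Every base change of `Â` to a field is connected. -/
theorem connectedSpace_tensor_field [HenselianLocalRing A] (hA : EGA4.HasGeomReducedFormalFibres A)
    (K : Type u) [Field K] [Algebra A K] : ConnectedSpace (PrimeSpectrum (K ⊗[A] EGA4.Cpl A)) := by
  haveI := Groth.Ega4b.HenselFib.faithfullyFlat_cpl A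
  haveI : Nontrivial (K ⊗[A] EGA4.Cpl A) := inferInstance
  refine connectedSpace_of_idem _ fun e he => ?_
  let p := RingHom.ker (algebraMap A K)
  haveI : p.IsPrime := RingHom.ker_isPrime _
  let L := AlgebraicClosure p.ResidueField
  let Ω := AlgebraicClosure K
  let j : p.ResidueField →ₐ[A] K := Ideal.ResidueField.liftₐ p (Algebra.ofId A K) le_rfl (by
    intro x hx
    exact isUnit_iff_ne_zero.mpr fun h0 => hx h0)
  letI : Algebra p.ResidueField Ω := ((algebraMap K Ω).comp j.toRingHom).toAlgebra
  haveI : IsScalarTower A p.ResidueField Ω := IsScalarTower.of_algebraMap_eq fun a => by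
    show _ = algebraMap K Ω (j (algebraMap A p.ResidueField a))
    rw [j.commutes, ← IsScalarTower.algebraMap_apply]
  let i : L →ₐ[p.ResidueField] Ω := IsAlgClosed.lift
  letI : Algebra L Ω := i.toRingHom.toAlgebra
  haveI : IsScalarTower A L Ω := IsScalarTower.of_algebraMap_eq fun a => by
    rw [IsScalarTower.algebraMap_apply A p.ResidueField L, IsScalarTower.algebraMap_apply A p.ResidueField Ω]
    exact (i.commutes _).symm
  let f := Algebra.TensorProduct.map (IsScalarTower.toAlgHom A K Ω) (AlgHom.id A (EGA4.Cpl A))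
  have hf : Function.Injective f :=
    Module.Flat.rTensor_preserves_injective_linearMap _ (RingHom.injective (algebraMap K Ω))
  let g := (Algebra.TensorProduct.cancelBaseChange A L L Ω (EGA4.Cpl A)).symm
  have hR : ∀ x : L ⊗[A] EGA4.Cpl A, IsIdempotentElem x → x = 0 ∨ x = 1 := fun x hx => by
    let σ := Algebra.TensorProduct.comm A L (EGA4.Cpl A)
    rcases idem_algClosure A hA L (σ x) (hx.map σ) with h | h
    · exact Or.inl (σ.injective (h.trans (map_zero σ).symm))
    · exact Or.inr (σ.injective (h.trans (map_one σ).symm))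
  rcases idem_tensor hR (g (f e)) ((he.map f).map g) with h | h
  · exact Or.inl (hf ((g.injective (h.trans (map_zero g).symm)).trans (map_zero f).symm))
  · exact Or.inr (hf ((g.injective (h.trans (map_one g).symm)).trans (map_one f).symm))

end Groth.Ega4b.HenselConn
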