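import Groth.Agent.Ega4Algebra2.NormalBaseChange
import Groth.Agent.EtaleAlgebra.HensDomain
import Groth.Agent.VarietyBC.TensorAlgClosed

/-!
# Formal fibres of henselian rings with geometrically normal formal fibres are geometrically integral
-/

set_option autoImplicit false
set_option linter.style.haveILetI false

universe u

open TensorProduct IsLocalRing

namespace Groth.Ega4b.HenselFib

/-- A local normal ring is a domain. -/
theorem isDomain_of_isNormalRing_of_isLocalRing (T : Type u) [CommRing T] [IsLocalRing T]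
    (h : EGA4.IsNormalRing T) : IsDomain T := by
  obtain ⟨hd, -⟩ := h (maximalIdeal T)
  let e : T ≃ₐ[T] Localization.AtPrime (maximalIdeal T) :=
    IsLocalization.atUnits _ (maximalIdeal T).primeCompl fun x hx => by
      by_contra hu
      exact hx hu
  exact e.toRingEquiv.toMulEquiv.isDomain_iff.mpr hd

/-- The integral closure in a field is integrally closed. -/
theorem isIntegrallyClosed_integralClosure (R L : Type u) [CommRing R] [Field L] [Algebra R L] :
    IsIntegrallyClosed (integralClosure R L) := by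
  set C := integralClosure R L
  haveI : Algebra.IsIntegral R C := IsIntegralClosure.isIntegral_algebra R L
  refine (isIntegrallyClosed_iff (FractionRing C)).mpr fun {x} hx => ?_
  let j : FractionRing C →ₐ[C] L :=
    IsFractionRing.liftAlgHom (K := FractionRing C) (g := Algebra.ofId C L) Subtype.val_injective
  exact ⟨⟨j x, isIntegral_trans (j x) (hx.map j)⟩, j.injective (j.commutes _)⟩

/-- Domains stay domains over field extensions of an algebraically closed field. -/
theorem isDomain_extend {k K L F : Type u} [Field k] [Field K] [Field L] [IsAlgClosed L] [CommRing F]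
    [Algebra k K] [Algebra k L] [Algebra.IsAlgebraic k L] [Algebra k F] (h : IsDomain (L ⊗[k] F)) :
    IsDomain (K ⊗[k] F) := by
  let Ω := AlgebraicClosure K
  let j : L →ₐ[k] Ω := IsAlgClosed.lift
  letI : Algebra L Ω := j.toRingHom.toAlgebra
  haveI : IsScalarTower k L Ω := IsScalarTower.of_algebraMap_eq fun x => (j.commutes x).symm
  haveI : IsDomain (Ω ⊗[L] (L ⊗[k] F)) := Groth.VarietyBC.isDomain_tensor
  haveI : IsDomain (Ω ⊗[k] F) :=
    (Algebra.TensorProduct.cancelBaseChange k L L Ω F).toRingEquiv.toMulEquiv.isDomain_iff.mp inferInstance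
  let f := Algebra.TensorProduct.map (IsScalarTower.toAlgHom k K Ω) (AlgHom.id k F)
  have hf : Function.Injective f :=
    Module.Flat.rTensor_preserves_injective_linearMap _ (RingHom.injective (algebraMap K Ω))
  exact hf.isDomain f

variable (A : Type u) [CommRing A] [IsNoetherianRing A] [IsLocalRing A]

theorem faithfullyFlat_cpl : Module.FaithfullyFlat A (EGA4.Cpl A) := by
  haveI : IsLocalHom (algebraMap A (EGA4.Cpl A)) := ⟨fun a ha => by
    by_contra hna
    have h1 : algebraMap A (EGA4.Cpl A) a ∈ (maximalIdeal A).map (algebraMap A (EGA4.Cpl A)) :=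
      Ideal.mem_map_of_mem _ hna
    rw [← AdicCompletion.maximalIdeal_eq_map] at h1
    exact h1 ha⟩
  exact Module.FaithfullyFlat.of_flat_of_isLocalHom

/-- Every element of the completion is congruent to one of the ring. -/
theorem exists_sub_mem (x : EGA4.Cpl A) :
    ∃ a : A, x - algebraMap A (EGA4.Cpl A) a ∈ (maximalIdeal A).map (algebraMap A (EGA4.Cpl A)) := by
  obtain ⟨a, ha⟩ := Ideal.Quotient.mk_surjective (AdicCompletion.evalOneₐ (maximalIdeal A) x)
  refine ⟨a, ?_⟩
  rw [← AdicCompletion.ker_evalOneₐ_eq_map (maximalIdeal A) (IsNoetherian.noetherian _), RingHom.mem_ker,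
    map_sub, sub_eq_zero]
  exact ha.symm.trans (RingHom.congr_fun (AdicCompletion.evalOneₐ_comp_algebraMap_eq_mk (maximalIdeal A)) a).symm

/-- The completion tensored with a local integral algebra is local. -/
theorem isLocalRing_tensor (C : Type u) [CommRing C] [IsLocalRing C] [Algebra A C] [Algebra.IsIntegral A C] :
    IsLocalRing (EGA4.Cpl A ⊗[A] C) := by
  haveI := faithfullyFlat_cpl A
  haveI : Nontrivial (EGA4.Cpl A ⊗[A] C) := by
    by_contra hnt
    haveI := not_nontrivial_iff_subsingleton.mp hnt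
    exact not_subsingleton C (Module.FaithfullyFlat.lTensor_reflects_triviality A (EGA4.Cpl A) C)
  let ιC : C →ₐ[A] EGA4.Cpl A ⊗[A] C := Algebra.TensorProduct.includeRight
  let J : Ideal (EGA4.Cpl A ⊗[A] C) := (maximalIdeal C).map ιC
  have hmC : ∀ a ∈ maximalIdeal A, algebraMap A C a ∈ maximalIdeal C := fun a ha => by
    rw [← eq_maximalIdeal (Ideal.isMaximal_comap_of_isIntegral_of_isMaximal (R := A) (maximalIdeal C))] at ha
    exact ha
  have hm : (maximalIdeal A).map (algebraMap A (EGA4.Cpl A ⊗[A] C)) ≤ J := Ideal.map_le_iff_le_comap.mpr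
    fun a ha => by
      show algebraMap A (EGA4.Cpl A ⊗[A] C) a ∈ J
      rw [← ιC.commutes]
      exact Ideal.mem_map_of_mem _ (hmC a ha)
  have hdec : ∀ t : EGA4.Cpl A ⊗[A] C, ∃ c : C, t - ιC c ∈ J := by
    intro t
    induction t using TensorProduct.induction_on with
    | zero => exact ⟨0, by rw [map_zero, sub_zero]; exact zero_mem J⟩
    | tmul x c =>
      obtain ⟨a, ha⟩ := exists_sub_mem A x
      refine ⟨a • c, ?_⟩
      have h1 : x ⊗ₜ[A] c - ιC (a • c) = (x - algebraMap A (EGA4.Cpl A) a) ⊗ₜ[A] (1 : C) * ιC c := by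
        show x ⊗ₜ[A] c - (1 : EGA4.Cpl A) ⊗ₜ[A] (a • c) =
          (x - algebraMap A (EGA4.Cpl A) a) ⊗ₜ[A] (1 : C) * ((1 : EGA4.Cpl A) ⊗ₜ[A] c)
        rw [TensorProduct.tmul_smul, TensorProduct.smul_tmul', Algebra.smul_def, mul_one,
          Algebra.TensorProduct.tmul_mul_tmul, one_mul, mul_one, TensorProduct.sub_tmul]
      rw [h1]
      refine J.mul_mem_right _ (hm ?_)
      have h2 := Ideal.mem_map_of_mem (Algebra.TensorProduct.includeLeft : EGA4.Cpl A →ₐ[A] EGA4.Cpl A ⊗[A] C).toRingHom ha
      rw [Ideal.map_map, show (Algebra.TensorProduct.includeLeft : EGA4.Cpl A →ₐ[A] EGA4.Cpl A ⊗[A] C).toRingHom.comp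
        (algebraMap A (EGA4.Cpl A)) = algebraMap A (EGA4.Cpl A ⊗[A] C) from RingHom.ext fun _ => rfl] at h2
      exact h2
    | add x y hx hy =>
      obtain ⟨a, ha⟩ := hx
      obtain ⟨b, hb⟩ := hy
      exact ⟨a + b, by rw [map_add, add_sub_add_comm]; exact J.add_mem ha hb⟩
  haveI hint : Algebra.IsIntegral (EGA4.Cpl A) (EGA4.Cpl A ⊗[A] C) := inferInstance
  refine IsLocalRing.of_unique_max_ideal ?_
  obtain ⟨M₀, hM₀⟩ := Ideal.exists_maximal (EGA4.Cpl A ⊗[A] C)
  have hJ : ∀ M : Ideal (EGA4.Cpl A ⊗[A] C), M.IsMaximal → M = J := by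
    intro M hM
    have h1 : M.comap (algebraMap (EGA4.Cpl A) _) = maximalIdeal (EGA4.Cpl A) :=
      eq_maximalIdeal (Ideal.isMaximal_comap_of_isIntegral_of_isMaximal (R := EGA4.Cpl A) M)
    haveI := hM.isPrime
    have h2 : M.comap ιC = maximalIdeal C := by
      refine eq_maximalIdeal (Ideal.isMaximal_of_isIntegral_of_isMaximal_comap (R := A) _ ?_)
      have : (M.comap ιC).comap (algebraMap A C) = maximalIdeal A := by
        refine ((maximalIdeal.isMaximal A).eq_of_le (Ideal.IsPrime.ne_top inferInstance) fun a ha => ?_).symm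
        show ιC (algebraMap A C a) ∈ M
        rw [ιC.commutes, IsScalarTower.algebraMap_apply A (EGA4.Cpl A) (EGA4.Cpl A ⊗[A] C)]
        refine Ideal.mem_comap.mp (show algebraMap A (EGA4.Cpl A) a ∈ M.comap _ from ?_)
        rw [h1, AdicCompletion.maximalIdeal_eq_map]
        exact Ideal.mem_map_of_mem _ ha
      rw [this]
      exact maximalIdeal.isMaximal A
    have hJM : J ≤ M := Ideal.map_le_iff_le_comap.mpr h2.ge
    refine le_antisymm (fun t ht => ?_) hJM
    obtain ⟨c, hc⟩ := hdec t
    have h3 : ιC c ∈ M := by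
      have := M.sub_mem ht (hJM hc)
      rwa [sub_sub_cancel] at this
    have h4 := J.add_mem hc (Ideal.mem_map_of_mem ιC (h2 ▸ Ideal.mem_comap.mpr h3 : c ∈ maximalIdeal C))
    rwa [sub_add_cancel] at h4
  exact ⟨J, hJ M₀ hM₀ ▸ hM₀, hJ⟩

/-- The completion tensored with a normal domain integral over the ring is a domain. -/
theorem isDomain_tensor [HenselianLocalRing A] (hA : EGA4.HasGeomNormalFormalFibres A)
    (C : Type u) [CommRing C] [IsDomain C] [IsIntegrallyClosed C] [Algebra A C] [Algebra.IsIntegral A C] :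
    IsDomain (EGA4.Cpl A ⊗[A] C) := by
  haveI : IsLocalRing C := Groth.EtaleAlgebra.isLocalRing_of_isIntegral_domain A C
  haveI := isLocalRing_tensor A C
  haveI := (faithfullyFlat_cpl A).toFlat
  haveI : IsNoetherianRing (EGA4.Cpl A) :=
    Groth.Calg1.isNoetherianRing_adicCompletion _ (IsNoetherian.noetherian _)
  exact isDomain_of_isNormalRing_of_isLocalRing _
    (ICBC.isNormalRing_baseChange (EGA4.Cpl A) hA C fun P _ =>
      ⟨IsLocalization.isDomain_localization P.primeCompl_le_nonZeroDivisors,
        isIntegrallyClosed_of_isLocalization _ P.primeCompl P.primeCompl_le_nonZeroDivisors⟩)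

/-- The completion of a henselian domain with geometrically normal formal fibres is a domain. -/
theorem isDomain_cpl [HenselianLocalRing A] [IsDomain A] (hA : EGA4.HasGeomNormalFormalFibres A) :
    IsDomain (EGA4.Cpl A) := by
  let C := integralClosure A (FractionRing A)
  haveI : Algebra.IsIntegral A C := IsIntegralClosure.isIntegral_algebra A (FractionRing A)
  haveI : IsFractionRing C (FractionRing A) :=
    integralClosure.isFractionRing_of_finite_extension (FractionRing A) (FractionRing A)
  haveI : IsIntegrallyClosed C := integralClosure.isIntegrallyClosedOfFiniteExtension (FractionRing A)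
  haveI := isDomain_tensor A hA C
  haveI := (faithfullyFlat_cpl A).toFlat
  have hinj : Function.Injective (Algebra.ofId A C) := fun x y h =>
    IsFractionRing.injective A (FractionRing A) (congrArg (fun c : C => (c : FractionRing A)) h)
  let f : EGA4.Cpl A →+* EGA4.Cpl A ⊗[A] C :=
    ((ICBC.bc (EGA4.Cpl A) (Algebra.ofId A C)).toRingHom).comp
      (Algebra.TensorProduct.rid A (EGA4.Cpl A) (EGA4.Cpl A)).symm.toRingEquiv.toRingHom
  have hf : Function.Injective f :=
    fun x y h => (Algebra.TensorProduct.rid A (EGA4.Cpl A) (EGA4.Cpl A)).symm.injective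
      (ICBC.bc_injective (EGA4.Cpl A) hinj h)
  exact hf.isDomain f

/-- Over an algebraic closure of a residue field of the base. -/
theorem isDomain_tensor_algClosure [HenselianLocalRing A] (hA : EGA4.HasGeomNormalFormalFibres A)
    (p : Ideal A) [p.IsPrime] : IsDomain (EGA4.Cpl A ⊗[A] AlgebraicClosure p.ResidueField) := by
  classical
  let L := AlgebraicClosure p.ResidueField
  let C := integralClosure A L
  haveI : Algebra.IsIntegral A C := IsIntegralClosure.isIntegral_algebra A L
  haveI : IsIntegrallyClosed C := isIntegrallyClosed_integralClosure A L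
  haveI := isDomain_tensor A hA C
  haveI := (faithfullyFlat_cpl A).toFlat
  let ι := ICBC.bc (EGA4.Cpl A) C.val
  have hι : Function.Injective ι := ICBC.bc_injective _ Subtype.val_injective
  have hmul : ∀ y : L, ∃ a : A, a ∉ p ∧ IsIntegral A (a • y) := by
    intro y
    have h1 : IsAlgebraic (A ⧸ p) y :=
      (IsFractionRing.isAlgebraic_iff (A ⧸ p) p.ResidueField L).mpr (Algebra.IsAlgebraic.isAlgebraic y)
    obtain ⟨r, hr, hr'⟩ := h1.exists_integral_multiple
    obtain ⟨a, rfl⟩ := Ideal.Quotient.mk_surjective r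
    refine ⟨a, fun h => hr (Ideal.Quotient.eq_zero_iff_mem.mpr h), ?_⟩
    haveI : Algebra.IsIntegral A (A ⧸ p) := Algebra.IsIntegral.of_finite A (A ⧸ p)
    rw [← algebraMap_smul (A ⧸ p) a y, Ideal.Quotient.algebraMap_eq]
    exact isIntegral_trans _ hr'
  have hclear : ∀ z : EGA4.Cpl A ⊗[A] L, ∃ a : A, a ∉ p ∧ a • z ∈ ι.range := by
    intro z
    induction z using TensorProduct.induction_on with
    | zero => exact ⟨1, fun h => (inferInstance : p.IsPrime).ne_top ((Ideal.eq_top_iff_one p).mpr h),
        ⟨0, by rw [smul_zero]; exact map_zero _⟩⟩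
    | tmul x y =>
      obtain ⟨a, ha, hay⟩ := hmul y
      exact ⟨a, ha, x ⊗ₜ ⟨a • y, hay⟩, by rw [← TensorProduct.tmul_smul]; rfl⟩
    | add u v hu hv =>
      obtain ⟨a, ha, u', hu'⟩ := hu
      obtain ⟨b, hb, v', hv'⟩ := hv
      refine ⟨a * b, fun h => ((inferInstance : p.IsPrime).mem_or_mem h).elim ha hb, ?_⟩
      rw [smul_add]
      refine add_mem ?_ ?_
      · rw [mul_comm, mul_smul, ← algebraMap_smul (EGA4.Cpl A) b]
        exact Subalgebra.smul_mem _ (by exact ⟨u', hu'⟩) _
      · rw [mul_smul, ← algebraMap_smul (EGA4.Cpl A) a]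
        exact Subalgebra.smul_mem _ (by exact ⟨v', hv'⟩) _
  have hunit : ∀ a : A, a ∉ p → IsUnit (algebraMap A (EGA4.Cpl A ⊗[A] L) a) := by
    intro a ha
    have h0 : algebraMap A L a ≠ 0 := by
      rw [IsScalarTower.algebraMap_apply A p.ResidueField L, Ne, map_eq_zero]
      exact fun h => ha (Ideal.algebraMap_residueField_eq_zero.mp h)
    have := (Ne.isUnit h0).map (Algebra.TensorProduct.includeRight : L →ₐ[A] EGA4.Cpl A ⊗[A] L)
    rwa [AlgHom.commutes] at this
  haveI : Nontrivial (EGA4.Cpl A ⊗[A] L) := hι.nontrivial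
  haveI : NoZeroDivisors (EGA4.Cpl A ⊗[A] L) := ⟨fun {z w} hzw => by
    obtain ⟨a, ha, z', hz'⟩ := hclear z
    obtain ⟨b, hb, w', hw'⟩ := hclear w
    have h0 : z' * w' = 0 := hι (by
      rw [map_mul, map_zero, show ι z' = a • z from hz', show ι w' = b • w from hw', smul_mul_smul_comm, hzw,
        smul_zero])
    rcases mul_eq_zero.mp h0 with h | h
    · refine Or.inl ((hunit a ha).mul_right_eq_zero.mp ?_)
      rw [← Algebra.smul_def, ← show ι z' = a • z from hz', h, map_zero]
    · refine Or.inr ((hunit b hb).mul_right_eq_zero.mp ?_)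
      rw [← Algebra.smul_def, ← show ι w' = b • w from hw', h, map_zero]⟩
  exact NoZeroDivisors.to_isDomain _

/-- The formal fibres are geometrically integral. -/
theorem isDomain_formalFibre [HenselianLocalRing A] (hA : EGA4.HasGeomNormalFormalFibres A)
    (p : Ideal A) [p.IsPrime] (K : Type u) [Field K] [Algebra p.ResidueField K] :
    IsDomain (K ⊗[p.ResidueField] EGA4.formalFibre A p) := by
  let k := p.ResidueField
  let L := AlgebraicClosure k
  let F := EGA4.formalFibre A p
  haveI := isDomain_tensor_algClosure A hA p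
  let e₁ : L ⊗[k] F ≃+* EGA4.Cpl A ⊗[A] L :=
    (Algebra.TensorProduct.cancelBaseChange A k L L (EGA4.Cpl A)).toRingEquiv.trans
      (Algebra.TensorProduct.comm A L (EGA4.Cpl A)).toRingEquiv
  exact isDomain_extend (L := L) (by exact e₁.toMulEquiv.isDomain_iff.mpr inferInstance)

end Groth.Ega4b.HenselFib
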