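import Groth.Agent.Hensel1.FormallyCatenary
import Groth.Agent.Hensel1.NormalHomBranches
import Groth.Agent.Calg6.BranchCount
import Groth.Agent.S2636
import Groth.Agent.S4754
import Groth.Agent.Hensel1.FieldExtBranches

/-!
# Henselizations of rings with geometrically normal formal fibres are universally catenary
-/

set_option autoImplicit false

universe u

open IsLocalRing
open scoped TensorProduct

namespace Groth.Ega4b.HenselCatenary

open Groth.Hensel1

/-- A ring with a single minimal prime is equidimensional. -/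
theorem isEquidim_of_subsingleton (C : Type u) [CommRing C]
    (h : ∀ P ∈ minimalPrimes C, ∀ P' ∈ minimalPrimes C, P = P') : EGA4.IsEquidim C := by
  intro q hq
  have hall : ∀ x : PrimeSpectrum C, q ≤ x.asIdeal := fun x => by
    obtain ⟨Q, hQ, hle⟩ := Ideal.exists_minimalPrimes_le (I := (⊥ : Ideal C)) (J := x.asIdeal) bot_le
    rw [h q hq Q hQ]
    exact hle
  rw [ringKrullDim_quotient, show PrimeSpectrum.zeroLocus (q : Set C) = Set.univ from
    Set.eq_univ_of_forall fun x => hall x]
  exact Order.krullDim_eq_of_orderIso (OrderIso.Set.univ)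

/-- If a flat faithfully flat extension has as many minimal primes, its fibres over them are irreducible. -/
theorem minimalPrimes_eq_of_card {T C : Type u} [CommRing T] [CommRing C] [Algebra T C]
    [Module.FaithfullyFlat T C] [IsNoetherianRing C]
    (hcard : ENat.card (minimalPrimes C) = ENat.card (minimalPrimes T)) {P P' : Ideal C}
    (hP : P ∈ minimalPrimes C) (hP' : P' ∈ minimalPrimes C)
    (h : P.comap (algebraMap T C) = P'.comap (algebraMap T C)) : P = P' := by
  classical
  have hmin : ∀ P ∈ minimalPrimes C, P.comap (algebraMap T C) ∈ minimalPrimes T := by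
    intro P hP
    haveI := hP.1.1
    refine ⟨⟨Ideal.IsPrime.comap _, bot_le⟩, fun q hq hle => ?_⟩
    haveI := hq.1
    haveI : P.LiesOver (P.comap (algebraMap T C)) := ⟨rfl⟩
    obtain ⟨P₁, hP₁le, hP₁, hP₁o⟩ := Ideal.exists_ideal_le_liesOver_of_le (p := q) P
      (q := P.comap (algebraMap T C)) hle
    have := hP.2 ⟨hP₁, bot_le⟩ hP₁le
    exact (Ideal.comap_mono this).trans hP₁o.over.ge
  let f : minimalPrimes C → minimalPrimes T := fun P => ⟨_, hmin P.1 P.2⟩
  have hf : Function.Surjective f := by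
    rintro ⟨q, hq⟩
    haveI := hq.1.1
    obtain ⟨Q, hQ⟩ := PrimeSpectrum.comap_surjective_of_faithfullyFlat (B := C) ⟨q, hq.1.1⟩
    obtain ⟨P, hP, hle⟩ := Ideal.exists_minimalPrimes_le (I := (⊥ : Ideal C)) (J := Q.asIdeal) bot_le
    refine ⟨⟨P, hP⟩, Subtype.ext ?_⟩
    have h1 : P.comap (algebraMap T C) ≤ q :=
      (Ideal.comap_mono hle).trans (congrArg PrimeSpectrum.asIdeal hQ).le
    exact le_antisymm h1 (hq.2 (hmin P hP).1 h1)
  haveI : Finite (minimalPrimes C) := (minimalPrimes.finite_of_isNoetherianRing C).to_subtype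
  haveI : Finite (minimalPrimes T) := Finite.of_surjective f hf
  have hn : Nat.card (minimalPrimes C) = Nat.card (minimalPrimes T) := by
    rw [ENat.card_eq_coe_natCard, ENat.card_eq_coe_natCard] at hcard
    exact_mod_cast hcard
  exact congrArg Subtype.val ((Nat.bijective_iff_surjective_and_card f).mpr ⟨hf, hn⟩ |>.1
    (a₁ := ⟨P, hP⟩) (a₂ := ⟨P', hP'⟩) (Subtype.ext h))

variable (R S : Type u) [CommRing R] [IsLocalRing R] [IsNoetherianRing R] [CommRing S] [IsLocalRing S]
  [Algebra R S] [IsLocalHom (algebraMap R S)] [Hensel.IsHenselization R S]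

theorem isFormallyEquidim_quotient (hR : EGA4.HasGeomNormalFormalFibres R) (Q : Ideal S) [Q.IsPrime] :
    EGA4.IsFormallyEquidim (S ⧸ Q) := by
  classical
  let p := Q.comap (algebraMap R S)
  have : p.IsPrime := Ideal.IsPrime.comap _
  let A := R ⧸ p
  have : IsLocalHom (algebraMap R A) :=
    IsLocalHom.of_surjective (algebraMap R A) Ideal.Quotient.mk_surjective
  obtain ⟨_, _, hT⟩ := Groth.Agent.S2801.result R A S
  let T := A ⊗[R] S
  obtain ⟨M⟩ := hensModel_of_isHenselization (R := A) (S := T)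
  have : IsNoetherianRing T := M.isNoetherianRing_iff.mp inferInstance
  let π : S →+* T := Algebra.TensorProduct.includeRight.toRingHom
  have hA : ∀ a : A, ∃ r : R, algebraMap R A r = a := fun a => Ideal.Quotient.mk_surjective a
  have hπ : Function.Surjective π := by
    intro x
    induction x using TensorProduct.induction_on with
    | zero => exact ⟨0, map_zero _⟩
    | tmul a s =>
      obtain ⟨r, rfl⟩ := hA a
      refine ⟨r • s, ?_⟩
      show (1 : A) ⊗ₜ[R] (r • s) = algebraMap R A r ⊗ₜ[R] s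
      rw [Algebra.algebraMap_eq_smul_one, TensorProduct.smul_tmul]
    | add x y hx hy =>
      obtain ⟨a, rfl⟩ := hx
      obtain ⟨b, rfl⟩ := hy
      exact ⟨a + b, map_add _ _ _⟩
  let iA : A →ₐ[R] S ⧸ Q := Ideal.Quotient.liftₐ p (Algebra.ofId R (S ⧸ Q)) fun r hr =>
    Ideal.Quotient.eq_zero_iff_mem.mpr hr
  let iS : S →ₐ[R] S ⧸ Q := Ideal.Quotient.mkₐ R Q
  let χ : T →ₐ[R] S ⧸ Q := Algebra.TensorProduct.lift iA iS fun _ _ => .all _ _
  have hχπ : ∀ s, χ (π s) = Ideal.Quotient.mk Q s := fun s => by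
    show χ ((1 : A) ⊗ₜ[R] s) = _
    refine (Algebra.TensorProduct.lift_tmul _ _ _ _ _).trans ?_
    rw [map_one, one_mul]
    rfl
  have hχ : Function.Surjective χ := fun y => by
    obtain ⟨s, rfl⟩ := Ideal.Quotient.mk_surjective y
    exact ⟨π s, hχπ s⟩
  let Q' : Ideal T := RingHom.ker χ.toRingHom
  have : Q'.IsPrime := RingHom.ker_isPrime _
  let e' : T ⧸ Q' ≃+* S ⧸ Q := RingHom.quotientKerEquivOfSurjective (f := χ.toRingHom) hχ
  have hnt : Nontrivial (T ⧸ Q') := Ideal.Quotient.nontrivial_iff.mpr (Ideal.IsPrime.ne_top inferInstance)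
  have hmin : Q' ∈ minimalPrimes T := by
    refine ⟨⟨inferInstance, bot_le⟩, fun P hP hle => ?_⟩
    have := hP.1
    let ε := M.equiv.toRingEquiv
    have := Hens.eq_of_le_of_comap_eq (R := A) (Ω := M.Ω) (P := P.comap ε.toRingHom)
      (Q := Q'.comap ε.toRingHom) (Ideal.comap_mono hle) (by
        rw [Ideal.comap_comap, Ideal.comap_comap,
          show ε.toRingHom.comp (algebraMap A (Hens A M.Ω)) = algebraMap A T from M.equiv.toAlgHom.comp_algebraMap]
        refine le_antisymm (Ideal.comap_mono hle) fun a ha => ?_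
        have h0 : a = 0 := by
          obtain ⟨r, rfl⟩ := hA a
          have h1 : χ (algebraMap A T (algebraMap R A r)) = 0 := ha
          rw [← IsScalarTower.algebraMap_apply, AlgHom.commutes] at h1
          have h2 : Ideal.Quotient.mk Q (algebraMap R S r) = 0 := h1
          exact Ideal.Quotient.eq_zero_iff_mem.mpr
            (show r ∈ p from Ideal.mem_comap.mpr (Ideal.Quotient.eq_zero_iff_mem.mp h2))
        rw [h0]
        exact zero_mem _)
    intro x hx
    obtain ⟨y, rfl⟩ := ε.surjective x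
    exact (this.ge hx : y ∈ P.comap ε.toRingHom)
  have := Groth.Ega4b.isNoetherianRing_cpl T
  have := Groth.Ega4b.isNoetherianRing_cpl A
  have hA' : EGA4.HasGeomNormalFormalFibres A := Groth.Agent.S4754.result R hR p
  have hcpl : IsAdicComplete (maximalIdeal (EGA4.Cpl A)) (EGA4.Cpl A) := by
    rw [AdicCompletion.maximalIdeal_eq_map]
    exact AdicCompletion.isAdicComplete_self _ (maximalIdeal A).fg_of_isNoetherianRing
  have := Groth.Calg6.Branch.henselianLocalRing_of_isAdicComplete (EGA4.Cpl A)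
  obtain ⟨e₁⟩ := nonempty_cpl_henselization A T
  have hcard : ENat.card (minimalPrimes (EGA4.Cpl T)) = ENat.card (minimalPrimes T) := by
    rw [card_minimalPrimes_henselization_eq_numBranches A T, ← (branches_completion_eq A hA').1,
      numBranches_eq_card_minimalPrimes_of_henselian]
    exact (card_minimalPrimes_eq_of_isHomeomorph e₁.toRingHom
      (PrimeSpectrum.isHomeomorph_comap_of_bijective e₁.bijective))
  have : IsLocalHom (algebraMap T (EGA4.Cpl T)) := ⟨fun a ha => by
    by_contra hna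
    have h1 : algebraMap T (EGA4.Cpl T) a ∈ (maximalIdeal T).map (algebraMap T (EGA4.Cpl T)) :=
      Ideal.mem_map_of_mem _ hna
    rw [← AdicCompletion.maximalIdeal_eq_map] at h1
    exact h1 ha⟩
  have : Module.Flat T (EGA4.Cpl T) := AdicCompletion.flat_of_isNoetherian _
  have : Module.FaithfullyFlat T (EGA4.Cpl T) := Module.FaithfullyFlat.of_flat_of_isLocalHom
  have : IsLocalRing (T ⧸ Q') := inferInstance
  obtain ⟨e₂⟩ := nonempty_cpl_ringEquiv (A := T ⧸ Q') (B := S ⧸ Q) e'
  have := nontrivial_cpl (T ⧸ Q')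
  have h2 : EGA4.IsEquidim (EGA4.Cpl (T ⧸ Q')) := by
    refine isEquidim_of_subsingleton _ fun P₀ hP₀ P₁ hP₁ => ?_
    have key : ∀ P ∈ minimalPrimes (EGA4.Cpl (T ⧸ Q')), P.comap (Groth.Ega4b.cplQuot T Q') ∈ minimalPrimes (EGA4.Cpl T) ∧
        (P.comap (Groth.Ega4b.cplQuot T Q')).comap (algebraMap T (EGA4.Cpl T)) = Q' := by
      intro P hP
      have := hP.1.1
      set P' := P.comap (Groth.Ega4b.cplQuot T Q')
      have hP' : P'.IsPrime := Ideal.IsPrime.comap _
      have hK : Q'.map (algebraMap T (EGA4.Cpl T)) ≤ P' := by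
        rw [← Groth.Ega4b.ker_cplQuot]
        intro x hx
        show Groth.Ega4b.cplQuot T Q' x ∈ P
        rw [RingHom.mem_ker.mp hx]
        exact zero_mem _
      have hminP : ∀ P₁ : Ideal (EGA4.Cpl T), P₁.IsPrime → Q'.map (algebraMap T _) ≤ P₁ → P₁ ≤ P' → P' ≤ P₁ := by
        intro P₁ hP₁ hK₁ hle₁
        have hker : RingHom.ker (Groth.Ega4b.cplQuot T Q') ≤ P₁ := by rwa [Groth.Ega4b.ker_cplQuot]
        have hp : (P₁.map (Groth.Ega4b.cplQuot T Q')).IsPrime :=
          Ideal.map_isPrime_of_surjective (Groth.Ega4b.cplQuot_surjective T Q') hker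
        have h3 := hP.2 ⟨hp, bot_le⟩ (Ideal.map_le_iff_le_comap.mpr hle₁)
        calc P' ≤ (P₁.map (Groth.Ega4b.cplQuot T Q')).comap (Groth.Ega4b.cplQuot T Q') :=
              Ideal.comap_mono h3
          _ = P₁ := by
              rw [Ideal.comap_map_of_surjective' _ (Groth.Ega4b.cplQuot_surjective T Q'),
                sup_eq_left.mpr hker]
      have hQ'P : Q' ≤ P'.under T := Ideal.map_le_iff_le_comap.mp hK
      have hover : P'.LiesOver (P'.under T) := ⟨rfl⟩
      obtain ⟨P₁, hP₁le, hP₁, hP₁o⟩ := Ideal.exists_ideal_le_liesOver_of_le (p := Q') P' (q := P'.under T) hQ'P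
      have hP'1 : P' = P₁ := le_antisymm (hminP P₁ hP₁ (Ideal.map_le_iff_le_comap.mpr hP₁o.over.le) hP₁le) hP₁le
      have hover' : P'.comap (algebraMap T (EGA4.Cpl T)) = Q' := by rw [hP'1]; exact hP₁o.over.symm
      refine ⟨⟨⟨hP', bot_le⟩, fun P₂ hP₂ hle₂ => ?_⟩, hover'⟩
      have := hP₂.1
      refine hminP P₂ hP₂.1 (Ideal.map_le_iff_le_comap.mpr ?_) hle₂
      exact hmin.2 ⟨Ideal.IsPrime.comap _, bot_le⟩ ((Ideal.comap_mono hle₂).trans hover'.le)
    have h0 := key P₀ hP₀
    have h1 := key P₁ hP₁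
    exact Ideal.comap_injective_of_surjective _ (Groth.Ega4b.cplQuot_surjective T Q')
      (minimalPrimes_eq_of_card (T := T) hcard h0.1 h1.1 (h0.2.trans h1.2.symm))
  have := e₂.toEquiv.symm.nontrivial
  exact (isEquidim_of_ringEquiv (E := EGA4.Cpl (S ⧸ Q))) e₂ h2

theorem isUniversallyCatenary (hR : EGA4.HasGeomNormalFormalFibres R) : CAlg.IsUniversallyCatenary S := by
  obtain ⟨M⟩ := hensModel_of_isHenselization (R := R) (S := S)
  have : IsNoetherianRing S := M.isNoetherianRing_iff.mp inferInstance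
  exact Groth.Agent.S2636.result S fun Q _ => isFormallyEquidim_quotient R S hR Q

end Groth.Ega4b.HenselCatenary
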