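import Mathlib
import Groth.Prelude
import Groth.Agent.Ega4Algebra2.NormalTensor
import Groth.Agent.Ega4Algebra2.NormalFieldExt
import Groth.Agent.Calg6.MoriNagata
import Groth.Agent.Calg2.CompleteNagata
import Groth.Agent.Calg4.Japanese
import Groth.Agent.Calg1.Completion

/-!
# Integral closure commutes with normal base change
-/

set_option autoImplicit false
set_option linter.style.haveILetI false

universe u v

open TensorProduct Polynomial
open scoped WithZero

namespace Groth.Ega4b.ICBC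

section Module

variable {A : Type u} [CommRing A] (A' : Type u) [CommRing A'] [Algebra A A'] [Module.Flat A A']
variable {M M' : Type u} [AddCommGroup M] [Module A M] [AddCommGroup M'] [Module A M']

/-- The part of `A' ⊗ M` coming from a submodule. -/
def img (N : Submodule A M) : Submodule A (A' ⊗[A] M) :=
  LinearMap.range (N.subtype.lTensor A')

omit [Module.Flat A A'] in
theorem img_mono {N N' : Submodule A M} (h : N ≤ N') : img A' N ≤ img A' N' := by
  rintro _ ⟨z, rfl⟩
  refine ⟨(Submodule.inclusion h).lTensor A' z, ?_⟩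
  rw [← LinearMap.comp_apply, ← LinearMap.lTensor_comp]
  rfl

omit [Module.Flat A A'] in
theorem img_top (z : A' ⊗[A] M) : z ∈ img A' (⊤ : Submodule A M) :=
  LinearMap.lTensor_surjective A' (fun m => ⟨⟨m, trivial⟩, rfl⟩) z

omit [Module.Flat A A'] in
theorem tmul_mem_img {N : Submodule A M} (a : A') {m : M} (hm : m ∈ N) : a ⊗ₜ[A] m ∈ img A' N :=
  ⟨a ⊗ₜ ⟨m, hm⟩, rfl⟩

omit [Module.Flat A A'] in
theorem map_mem_img (f : M →ₗ[A] M') {N : Submodule A M} {N' : Submodule A M'}
    (hle : ∀ n ∈ N, f n ∈ N') {z : A' ⊗[A] M} (hz : z ∈ img A' N) :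
    f.lTensor A' z ∈ img A' N' := by
  obtain ⟨w, rfl⟩ := hz
  refine ⟨(f.restrict hle).lTensor A' w, ?_⟩
  rw [← LinearMap.comp_apply, ← LinearMap.lTensor_comp, ← LinearMap.comp_apply, ← LinearMap.lTensor_comp]
  rfl

theorem mem_img_comap (f : M →ₗ[A] M') {N' : Submodule A M'} {z : A' ⊗[A] M}
    (h : f.lTensor A' z ∈ img A' N') : z ∈ img A' (N'.comap f) := by
  have hex : Function.Exact (N'.comap f).subtype (N'.mkQ.comp f) := by
    rw [LinearMap.exact_iff, LinearMap.ker_comp, Submodule.ker_mkQ, Submodule.range_subtype]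
  refine (Module.Flat.lTensor_exact A' hex z).mp ?_
  obtain ⟨w, hw⟩ := h
  rw [LinearMap.lTensor_comp, LinearMap.comp_apply, ← hw, ← LinearMap.comp_apply, ← LinearMap.lTensor_comp,
    (LinearMap.exact_subtype_mkQ N').linearMap_comp_eq_zero, LinearMap.lTensor_zero, LinearMap.zero_apply]

theorem mem_img_inf {N₁ N₂ : Submodule A M} {z : A' ⊗[A] M} (h₁ : z ∈ img A' N₁)
    (h₂ : z ∈ img A' N₂) : z ∈ img A' (N₁ ⊓ N₂) := by
  obtain ⟨w, rfl⟩ := h₁
  exact map_mem_img A' N₁.subtype (fun n hn => Submodule.mem_inf.mpr ⟨n.2, hn⟩) (mem_img_comap A' N₁.subtype h₂)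

theorem mem_img_finset_inf {ι : Type v} (N : ι → Submodule A M) (I : Finset ι) {z : A' ⊗[A] M}
    (h : ∀ i ∈ I, z ∈ img A' (N i)) : z ∈ img A' (I.inf N) := by
  classical
  induction I using Finset.induction with
  | empty => rw [Finset.inf_empty]; exact img_top A' z
  | insert a s _ ih =>
    rw [Finset.inf_insert]
    exact mem_img_inf A' (h a (Finset.mem_insert_self a s)) (ih fun i hi => h i (Finset.mem_insert_of_mem hi))

theorem mem_img_iInf_fintype {ι : Type v} [Finite ι] (N : ι → Submodule A M) {z : A' ⊗[A] M}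
    (h : ∀ i, z ∈ img A' (N i)) : z ∈ img A' (⨅ i, N i) := by
  haveI := Fintype.ofFinite ι
  rw [← Finset.inf_univ_eq_iInf]
  exact mem_img_finset_inf A' N _ fun i _ => h i

/-- Intersections of finite character commute with a flat base change. -/
theorem mem_img_iInf {ι : Type v} (N : ι → Submodule A M) (hfin : ∀ m, {i | m ∉ N i}.Finite)
    {z : A' ⊗[A] M} (h : ∀ i, z ∈ img A' (N i)) : z ∈ img A' (⨅ i, N i) := by
  classical
  obtain ⟨S, hS⟩ := TensorProduct.exists_finset z
  let I : Finset ι := S.biUnion fun p => (hfin p.2).toFinset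
  have h1 : z ∈ img A' (⨅ i : {i // i ∉ I}, N i) := by
    rw [hS]
    refine Submodule.sum_mem _ fun p hp => tmul_mem_img A' _ ?_
    rw [Submodule.mem_iInf]
    rintro ⟨i, hi⟩
    by_contra hni
    exact hi (Finset.mem_biUnion.mpr ⟨p, hp, (hfin p.2).mem_toFinset.mpr hni⟩)
  have h2 := mem_img_inf A' h1 (mem_img_finset_inf A' N I fun i _ => h i)
  refine img_mono A' ?_ h2
  intro m hm
  rw [Submodule.mem_iInf]
  intro i
  obtain ⟨ha, hb⟩ := Submodule.mem_inf.mp hm
  by_cases hi : i ∈ I
  · exact (Finset.inf_le hi : I.inf N ≤ N i) hb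
  · exact (Submodule.mem_iInf _).mp ha ⟨i, hi⟩

theorem lTensor_injective {f : M →ₗ[A] M'} (hf : Function.Injective f) :
    Function.Injective (f.lTensor A') :=
  Module.Flat.lTensor_preserves_injective_linearMap f hf

end Module

section IntOver

/-- Monic polynomials with coefficients in the image lift to monic polynomials. -/
theorem exists_monic_lift {R S : Type*} [CommRing R] [CommRing S] (f : R →+* S) {p : S[X]} (hp : p.Monic)
    (h : ∀ n, ∃ r, f r = p.coeff n) : ∃ q : R[X], q.map f = p ∧ q.Monic := by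
  rcases subsingleton_or_nontrivial S with hS | hS
  · exact ⟨1, Subsingleton.elim _ _, monic_one⟩
  obtain ⟨q, hq, -, hqm⟩ := Polynomial.lifts_and_degree_eq_and_monic
    ((Polynomial.lifts_iff_coeff_lifts p).mpr h) hp
  exact ⟨q, hq, hqm⟩

variable {A : Type u} [CommRing A] (A' : Type u) [CommRing A'] [Algebra A A']
variable {C C' : Type u} [CommRing C] [Algebra A C] [CommRing C'] [Algebra A C']

/-- Integral over the image of `A' ⊗ B`. -/
def IntOver (B : Subalgebra A C) (z : A' ⊗[A] C) : Prop :=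
  (Algebra.TensorProduct.map (AlgHom.id A' A') B.val).toRingHom.IsIntegralElem z

/-- The base change of an algebra map. -/
noncomputable abbrev bc (f : C →ₐ[A] C') : A' ⊗[A] C →ₐ[A'] A' ⊗[A] C' :=
  Algebra.TensorProduct.map (AlgHom.id A' A') f

theorem bc_eq_lTensor (f : C →ₐ[A] C') (z : A' ⊗[A] C) : bc A' f z = f.toLinearMap.lTensor A' z := by
  induction z with
  | zero => rw [map_zero, map_zero]
  | tmul a c => rfl
  | add x y hx hy => rw [map_add, map_add, hx, hy]

theorem bc_comp {C'' : Type u} [CommRing C''] [Algebra A C''] (f : C →ₐ[A] C') (g : C' →ₐ[A] C'')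
    (z : A' ⊗[A] C) : bc A' g (bc A' f z) = bc A' (g.comp f) z := by
  induction z with
  | zero => simp
  | tmul a c => rfl
  | add x y hx hy => simp only [map_add, hx, hy]

theorem intOver_map (f : C →ₐ[A] C') {B : Subalgebra A C} {B' : Subalgebra A C'}
    (hle : ∀ b ∈ B, f b ∈ B') {z : A' ⊗[A] C} (hz : IntOver A' B z) : IntOver A' B' (bc A' f z) := by
  obtain ⟨p, hp, h0⟩ := hz
  let g : B →ₐ[A] B' := (f.comp B.val).codRestrict B' fun b => hle b b.2
  refine ⟨p.map (bc A' g).toRingHom, hp.map _, ?_⟩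
  rw [eval₂_map]
  have : ((bc A' B'.val).toRingHom).comp (bc A' g).toRingHom =
      (bc A' f).toRingHom.comp (bc A' B.val).toRingHom := by
    refine RingHom.ext fun w => ?_
    show bc A' B'.val (bc A' g w) = bc A' f (bc A' B.val w)
    rw [bc_comp, bc_comp]
    rfl
  rw [this]
  show Polynomial.eval₂ _ ((bc A' f).toRingHom z) p = 0
  rw [← hom_eval₂, h0, map_zero]

theorem intOver_mono {B B' : Subalgebra A C} (h : B ≤ B') {z : A' ⊗[A] C} (hz : IntOver A' B z) :
    IntOver A' B' z := by
  have := intOver_map A' (AlgHom.id A C) (fun b hb => h hb) hz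
  rwa [show bc A' (AlgHom.id A C) z = z by rw [bc, Algebra.TensorProduct.map_id, AlgHom.id_apply]] at this

theorem intOver_comap [Module.Flat A A'] (f : C →ₐ[A] C') (hf : Function.Injective f)
    {B' : Subalgebra A C'} (hle : B' ≤ f.range) {z : A' ⊗[A] C} (hz : IntOver A' B' (bc A' f z)) :
    IntOver A' (B'.comap f) z := by
  obtain ⟨p, hp, h0⟩ := hz
  let g : B'.comap f →ₐ[A] B' := (f.comp (B'.comap f).val).codRestrict B' fun b => b.2
  have hg : Function.Surjective g := fun b => by
    obtain ⟨c, hc⟩ := hle b.2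
    exact ⟨⟨c, show f c ∈ B' by rw [show f c = _ from hc]; exact b.2⟩, Subtype.ext hc⟩
  have hg' : Function.Surjective (bc A' g).toRingHom := fun w => by
    obtain ⟨v, hv⟩ := LinearMap.lTensor_surjective A' (g := g.toLinearMap) hg w
    exact ⟨v, (bc_eq_lTensor A' g v).trans hv⟩
  obtain ⟨q, hq, hqm⟩ := exists_monic_lift (bc A' g).toRingHom hp fun n => hg' _
  refine ⟨q, hqm, ?_⟩
  have hinj : Function.Injective (bc A' f) := fun x y h =>
    lTensor_injective A' (f := f.toLinearMap) hf (by rwa [← bc_eq_lTensor, ← bc_eq_lTensor])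
  refine hinj ?_
  rw [map_zero]
  show (bc A' f).toRingHom _ = 0
  rw [hom_eval₂, ← h0, ← hq, eval₂_map]
  refine congrArg (fun F => Polynomial.eval₂ F _ q) (RingHom.ext fun w => ?_)
  show bc A' f (bc A' (B'.comap f).val w) = bc A' B'.val (bc A' g w)
  rw [bc_comp, bc_comp]
  rfl

/-- Integrality is witnessed by finitely many elements. -/
theorem exists_fg_intOver {B : Subalgebra A C} {z : A' ⊗[A] C} (hz : IntOver A' B z) :
    ∃ B₀ : Subalgebra A C, B₀.FG ∧ B₀ ≤ B ∧ IntOver A' B₀ z := by
  classical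
  obtain ⟨p, hp, h0⟩ := hz
  obtain ⟨L₀, hL₀, hL⟩ := Groth.Ega4b.exists_fg_forall_mem (k := A) (A := A') (L := B)
    ((Finset.range (p.natDegree + 1)).image p.coeff)
  let B₀ : Subalgebra A C := L₀.map B.val
  refine ⟨B₀, hL₀.map _, by rintro _ ⟨b, -, rfl⟩; exact b.2, ?_⟩
  let g : L₀ →ₐ[A] B₀ := (B.val.comp L₀.val).codRestrict B₀ fun b => ⟨b, b.2, rfl⟩
  obtain ⟨q, hq, hqm⟩ := exists_monic_lift (bc A' L₀.val).toRingHom hp (fun n => by
      by_cases hn : n ≤ p.natDegree
      · obtain ⟨w, hw⟩ := hL _ (Finset.mem_image.mpr ⟨n, Finset.mem_range.mpr (by omega), rfl⟩)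
        exact ⟨w, (bc_eq_lTensor A' L₀.val w).trans (hw ▸ rfl)⟩
      · exact ⟨0, by rw [map_zero, coeff_eq_zero_of_natDegree_lt (by omega)]⟩)
  refine ⟨q.map (bc A' g).toRingHom, hqm.map _, ?_⟩
  rw [eval₂_map, ← h0, ← hq, eval₂_map]
  refine congrArg (fun F => Polynomial.eval₂ F _ q) (RingHom.ext fun w => ?_)
  show bc A' B₀.val (bc A' g w) = bc A' B.val (bc A' L₀.val w)
  rw [bc_comp, bc_comp]
  rfl

end IntOver

section Fields

variable {A : Type u} [CommRing A] (A' : Type u) [CommRing A'] [Algebra A A']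

/-- `A' ⊗ L` is normal for every field `L`, when the fibres are geometrically normal. -/
theorem isNormalRing_tensor_field (h : ∀ (p : Ideal A) [p.IsPrime],
      EGA4.IsGeomNormal p.ResidueField (p.Fiber A'))
    (L : Type u) [Field L] [Algebra A L] : EGA4.IsNormalRing (A' ⊗[A] L) := by
  let p := RingHom.ker (algebraMap A L)
  haveI : p.IsPrime := RingHom.ker_isPrime _
  let j : p.ResidueField →ₐ[A] L := Ideal.ResidueField.liftₐ p (Algebra.ofId A L) le_rfl (by
    intro x hx
    exact isUnit_iff_ne_zero.mpr fun h0 => hx h0)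
  letI : Algebra p.ResidueField L := j.toRingHom.toAlgebra
  haveI : IsScalarTower A p.ResidueField L :=
    IsScalarTower.of_algebraMap_eq fun a => (j.commutes a).symm
  have h1 : EGA4.IsNormalRing ((p.Fiber A') ⊗[p.ResidueField] L) :=
    Groth.Ega4b.isNormalRing_tensor_field p.ResidueField (p.Fiber A') L (h p)
  exact isNormalRing_of_ringEquiv
    (((Algebra.TensorProduct.comm p.ResidueField (p.Fiber A') L).toRingEquiv.trans
      (Algebra.TensorProduct.cancelBaseChange A p.ResidueField L L A').toRingEquiv).trans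
      (Algebra.TensorProduct.comm A L A').toRingEquiv) h1

theorem isReduced_tensor_field (h : ∀ (p : Ideal A) [p.IsPrime],
      EGA4.IsGeomNormal p.ResidueField (p.Fiber A'))
    (L : Type u) [Field L] [Algebra A L] : IsReduced (A' ⊗[A] L) :=
  isReduced_of_isNormalRing (isNormalRing_tensor_field A' h L)

end Fields

section DVR

variable {A : Type u} [CommRing A] (A' : Type u) [CommRing A'] [Algebra A A'] [Module.Flat A A']

/-- A ring with a principal prime whose residue tensor is reduced is integrally closed after base change. -/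
theorem mem_range_of_principal {V K : Type u} [CommRing V] [CommRing K] [Algebra A V] [Algebra A K]
    [Algebra V K] [IsScalarTower A V K] (π : V) [IsLocalization.Away π K]
    (hinj : Function.Injective (algebraMap V K)) (hred : IsReduced (A' ⊗[A] (V ⧸ Ideal.span {π})))
    (z : A' ⊗[A] K) (hz : (bc A' (IsScalarTower.toAlgHom A V K)).toRingHom.IsIntegralElem z) :
    z ∈ (bc A' (IsScalarTower.toAlgHom A V K)).range := by
  let φ := bc A' (IsScalarTower.toAlgHom A V K)
  have hφ : Function.Injective φ := fun x y h =>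
    lTensor_injective A' (f := (IsScalarTower.toAlgHom A V K).toLinearMap) hinj
      (by rwa [← bc_eq_lTensor, ← bc_eq_lTensor])
  letI : Algebra (A' ⊗[A] V) (A' ⊗[A] K) := φ.toRingHom.toAlgebra
  haveI : IsScalarTower A' (A' ⊗[A] V) (A' ⊗[A] K) :=
    .of_algebraMap_eq <| by intro l; simp [RingHom.algebraMap_toAlgebra, φ]
  haveI := IsLocalization.tensorProduct_tensorProduct_right A A' (Submonoid.powers π) K
    (by ext; simp [RingHom.algebraMap_toAlgebra, φ])
  let π' : A' ⊗[A] V := 1 ⊗ₜ π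
  have base : ∀ (x : A' ⊗[A] K) (y : A' ⊗[A] V), φ.toRingHom.IsIntegralElem x →
      x * φ π' = φ y → x ∈ φ.range := by
    intro x y hx hxy
    obtain ⟨p, hp, hp0⟩ := hx
    have h1 : (p.scaleRoots π').eval y = 0 := by
      refine hφ ?_
      show φ.toRingHom _ = φ 0
      rw [map_zero, ← eval₂_at_apply]
      show eval₂ φ.toRingHom (φ y) (p.scaleRoots π') = 0
      rw [← hxy, mul_comm]
      show eval₂ φ.toRingHom (φ.toRingHom π' * x) (p.scaleRoots π') = 0
      rw [scaleRoots_eval₂_mul, hp0, mul_zero]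
    let q := Algebra.TensorProduct.map (AlgHom.id A A') (Ideal.Quotient.mkₐ A (Ideal.span {π}))
    have hq : q π' = 0 := by
      show (1 : A') ⊗ₜ[A] Ideal.Quotient.mk (Ideal.span {π}) π = 0
      rw [Ideal.Quotient.eq_zero_iff_mem.mpr (Ideal.mem_span_singleton_self π), TensorProduct.tmul_zero]
    have h2 : ((p.map q.toRingHom).scaleRoots (q.toRingHom π')).eval (q.toRingHom y) = 0 := by
      rw [scaleRoots_eval_map _ hp, h1, map_zero]
    have h3 : IsNilpotent (q.toRingHom y) := by
      rcases subsingleton_or_nontrivial (A' ⊗[A] (V ⧸ Ideal.span {π})) with hs | hs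
      · exact ⟨1, Subsingleton.elim _ _⟩
      rw [show q.toRingHom π' = 0 from hq, scaleRoots_zero, (hp.map _).leadingCoeff, one_smul,
        eval_pow, eval_X] at h2
      exact ⟨_, h2⟩
    have h4 : y ∈ (Ideal.span {π}).map (Algebra.TensorProduct.includeRight : V →ₐ[A] A' ⊗[A] V) := by
      have := Algebra.TensorProduct.lTensor_ker (A := A') (Ideal.Quotient.mkₐ A (Ideal.span {π}))
        (Ideal.Quotient.mkₐ_surjective A _)
      rw [show RingHom.ker (Ideal.Quotient.mkₐ A (Ideal.span {π})) = Ideal.span {π} from Ideal.mk_ker] at this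
      rw [← this, RingHom.mem_ker]
      exact h3.eq_zero
    rw [Ideal.map_span, Set.image_singleton, Ideal.mem_span_singleton'] at h4
    obtain ⟨w, hw⟩ := h4
    refine ⟨w, ?_⟩
    have hu : IsUnit (φ π') := IsLocalization.map_units (A' ⊗[A] K)
      (⟨π', π, Submonoid.mem_powers π, rfl⟩ :
        (Submonoid.powers π).map (Algebra.TensorProduct.includeRight (R := A) (A := A')))
    refine hu.mul_left_injective ?_
    show φ w * φ π' = x * φ π'
    rw [hxy, ← map_mul]
    exact congrArg φ hw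
  obtain ⟨y, ⟨_, _, ⟨n, rfl⟩, rfl⟩, rfl⟩ := IsLocalization.exists_mk'_eq
    ((Submonoid.powers π).map (Algebra.TensorProduct.includeRight (R := A) (A := A'))) z
  have main : ∀ (n : ℕ) (x : A' ⊗[A] K) (y : A' ⊗[A] V), φ.toRingHom.IsIntegralElem x →
      x * φ π' ^ n = φ y → x ∈ φ.range := by
    intro n
    induction n with
    | zero => intro x y _ hxy; rw [pow_zero, mul_one] at hxy; exact ⟨y, hxy.symm⟩
    | succ n ih =>
      intro x y hx hxy
      obtain ⟨y', hy'⟩ := base (x * φ π' ^ n) y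
        (by rw [← map_pow]; exact hx.mul φ.toRingHom (φ.toRingHom.isIntegralElem_map))
        (by rw [mul_assoc, ← pow_succ]; exact hxy)
      exact ih x y' hx hy'.symm
  refine main n _ y hz ?_
  rw [← map_pow, show π' ^ n = (1 : A') ⊗ₜ[A] (π ^ n) by
    rw [Algebra.TensorProduct.tmul_pow, one_pow]]
  exact IsLocalization.mk'_spec (A' ⊗[A] K) y _

variable {K : Type u} [Field K] [Algebra A K]

/-- The valuation ring of a valuation as a subalgebra. -/
def valSubalg (w : Valuation K ℤᵐ⁰) (hw : ∀ a : A, w (algebraMap A K a) ≤ 1) : Subalgebra A K :=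
  { w.valuationSubring.toSubring with algebraMap_mem' := hw }

theorem toAlgHom_subalgebra (V : Subalgebra A K) : IsScalarTower.toAlgHom A V K = V.val :=
  AlgHom.ext fun _ => rfl

/-- The valuation ring is a field or has a principal maximal ideal. -/
theorem exists_uniformizer (w : Valuation K ℤᵐ⁰) (hw : ∀ a : A, w (algebraMap A K a) ≤ 1) :
    valSubalg w hw = ⊤ ∨ ∃ π₀ : valSubalg w hw, (Ideal.span {π₀}).IsMaximal ∧
      IsLocalization.Away π₀ K := by
  set V := valSubalg w hw
  have hV : ∀ x : K, x ∈ V ↔ w x ≤ 1 := fun x => Iff.rfl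
  by_cases htriv : ∀ x : K, x ≠ 0 → w x = 1
  · refine Or.inl (eq_top_iff.mpr fun x _ => (hV x).mpr ?_)
    rcases eq_or_ne x 0 with rfl | hx
    · rw [map_zero]; exact zero_le'
    · rw [htriv x hx]
  right
  push Not at htriv
  obtain ⟨x₀, hx₀, hx₁⟩ := htriv
  have hne : ∃ x : K, x ≠ 0 ∧ w x < 1 := by
    rcases lt_or_gt_of_ne hx₁ with h | h
    · exact ⟨x₀, hx₀, h⟩
    · exact ⟨x₀⁻¹, inv_ne_zero hx₀, by rw [map_inv₀]; exact inv_lt_one_of_one_lt₀ h⟩
  have hlog : ∀ x : K, x ≠ 0 → w x < 1 → WithZero.log (w x) < 0 := fun x hx hx1 => by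
    rw [← WithZero.log_one]
    exact (WithZero.log_lt_log (w.ne_zero_iff.mpr hx) one_ne_zero).mpr hx1
  obtain ⟨g, ⟨π, hπ0, hπ1, hπg⟩, hmax⟩ := Int.exists_greatest_of_bdd
    (P := fun g => ∃ x : K, x ≠ 0 ∧ w x < 1 ∧ WithZero.log (w x) = g)
    ⟨0, by rintro _ ⟨x, hx, hx1, rfl⟩; exact (hlog x hx hx1).le⟩
    (by obtain ⟨x, hx, hx1⟩ := hne; exact ⟨_, x, hx, hx1, rfl⟩)
  have hdiv : ∀ r : K, w r < 1 → w (r / π) ≤ 1 := by
    intro r hr
    rw [map_div₀, div_le_one₀ (zero_lt_iff.mpr (w.ne_zero_iff.mpr hπ0))]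
    rcases eq_or_ne r 0 with h0 | h0
    · rw [h0, map_zero]; exact zero_le'
    · exact (WithZero.log_le_log (w.ne_zero_iff.mpr h0) (w.ne_zero_iff.mpr hπ0)).mp
        ((hmax _ ⟨r, h0, hr, rfl⟩).trans_eq hπg.symm)
  have hpow : ∀ x : K, ∃ n : ℕ, w (x * π ^ n) ≤ 1 := fun x => by
    rcases eq_or_ne x 0 with rfl | hx
    · exact ⟨0, by simp⟩
    refine ⟨(WithZero.log (w x)).toNat, ?_⟩
    have h1 := hlog π hπ0 hπ1
    have h2 := Int.self_le_toNat (WithZero.log (w x))
    have hne' : w (x * π ^ (WithZero.log (w x)).toNat) ≠ 0 :=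
      w.ne_zero_iff.mpr (mul_ne_zero hx (pow_ne_zero _ hπ0))
    refine (WithZero.log_le_log hne' one_ne_zero).mp ?_
    rw [WithZero.log_one, map_mul, map_pow,
      WithZero.log_mul (w.ne_zero_iff.mpr hx) (pow_ne_zero _ (w.ne_zero_iff.mpr hπ0)), WithZero.log_pow,
      nsmul_eq_mul]
    nlinarith
  let π₀ : V := ⟨π, (hV π).mpr hπ1.le⟩
  refine ⟨π₀, ?_, ?_⟩
  · refine Ideal.isMaximal_iff.mpr ⟨fun h1 => ?_, fun J r _ hr hrJ => ?_⟩
    · obtain ⟨c, hc⟩ := Ideal.mem_span_singleton'.mp h1
      have h2 : w ((c : K) * π) = 1 := by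
        rw [show (c : K) * π = 1 from congrArg Subtype.val hc, map_one]
      rw [map_mul] at h2
      exact absurd h2 (ne_of_lt (lt_of_le_of_lt (mul_le_of_le_one_left' ((hV c).mp c.2)) hπ1))
    · have hr1 : w (r : K) = 1 := le_antisymm ((hV r).mp r.2) (not_lt.mp fun h => hr (by
        rw [Ideal.mem_span_singleton']
        exact ⟨⟨(r : K) / π, (hV _).mpr (hdiv r h)⟩, Subtype.ext (div_mul_cancel₀ _ hπ0)⟩))
      have hr0 : (r : K) ≠ 0 := fun h0 => by
        rw [h0, map_zero] at hr1
        exact zero_ne_one hr1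
      have hinv : (r : K)⁻¹ ∈ V := (hV _).mpr (by rw [map_inv₀, hr1, inv_one])
      have : (⟨(r : K)⁻¹, hinv⟩ : V) * r = 1 := Subtype.ext (inv_mul_cancel₀ hr0)
      exact this ▸ J.mul_mem_left _ hrJ
  · refine IsLocalization.Away.mk π₀ (Ne.isUnit hπ0) (fun x => ?_) fun a b hab => ⟨0, ?_⟩
    · obtain ⟨n, hn⟩ := hpow x
      exact ⟨n, ⟨x * π ^ n, (hV _).mpr hn⟩, rfl⟩
    · rw [Subtype.ext hab]

/-- The case of a valuation with values in `ℤᵐ⁰`. -/
theorem mem_img_valSubalg (h : ∀ (L : Type u) [Field L] [Algebra A L], IsReduced (A' ⊗[A] L))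
    (w : Valuation K ℤᵐ⁰) (hw : ∀ a : A, w (algebraMap A K a) ≤ 1) {z : A' ⊗[A] K}
    (hz : IntOver A' (valSubalg w hw) z) :
    z ∈ img A' (Subalgebra.toSubmodule (valSubalg w hw)) := by
  rcases exists_uniformizer w hw with htop | ⟨π₀, hmax, hloc⟩
  · rw [htop, Algebra.top_toSubmodule]
    exact img_top A' z
  generalize valSubalg w hw = V at *
  letI := Ideal.Quotient.field (Ideal.span {π₀})
  haveI := hloc
  unfold IntOver at hz
  rw [← toAlgHom_subalgebra V] at hz
  obtain ⟨y, hy⟩ := mem_range_of_principal A' (V := V) (K := K) π₀ Subtype.val_injective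
    (h _) z hz
  refine ⟨y, ?_⟩
  rw [← hy]
  show _ = bc A' (IsScalarTower.toAlgHom A V K) y
  rw [toAlgHom_subalgebra, bc_eq_lTensor]
  rfl

end DVR

section Noetherian

variable {A : Type u} [CommRing A] (A' : Type u) [CommRing A'] [Algebra A A'] [Module.Flat A A']
variable {K : Type u} [Field K] [Algebra A K]

/-- The integral closure in `K`, as a module over the base. -/
def icl (R : Type u) [CommRing R] [Algebra A R] [Algebra R K] [IsScalarTower A R K] : Submodule A K :=
  ((integralClosure R K).restrictScalars A).toSubmodule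

theorem mem_icl {R : Type u} [CommRing R] [Algebra A R] [Algebra R K] [IsScalarTower A R K] (x : K) :
    x ∈ icl (A := A) (K := K) R ↔ IsIntegral R x := Iff.rfl

/-- Noetherian local domains. -/
theorem mem_img_icl_of_isLocalRing (hA' : ∀ (L : Type u) [Field L] [Algebra A L], IsReduced (A' ⊗[A] L))
    (R : Type u) [CommRing R] [IsDomain R] [IsNoetherianRing R] [IsLocalRing R] [Algebra A R] [Algebra R K]
    [IsScalarTower A R K] [IsFractionRing R K] {z : A' ⊗[A] K}
    (hz : IntOver A' (IsScalarTower.toAlgHom A R K).range z) : z ∈ img A' (icl (A := A) (K := K) R) := by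
  let C := AdicCompletion (IsLocalRing.maximalIdeal R) R
  haveI : IsNoetherianRing C := Groth.Calg1.isNoetherianRing_adicCompletion _ (IsNoetherian.noetherian _)
  haveI : IsAdicComplete (IsLocalRing.maximalIdeal C) C :=
    AdicCompletion.isAdicComplete_of_fg (IsNoetherian.noetherian _)
  haveI : IsLocalHom (algebraMap R C) := ⟨fun a ha => by
    by_contra hna
    have h1 : algebraMap R C a ∈ (IsLocalRing.maximalIdeal R).map (algebraMap R C) :=
      Ideal.mem_map_of_mem _ hna
    rw [← AdicCompletion.maximalIdeal_eq_map] at h1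
    exact h1 ha⟩
  haveI : Module.FaithfullyFlat R C := Module.FaithfullyFlat.of_flat_of_isLocalHom
  have hN : ∀ q : Groth.Calg6.MN.MP C, Module.Finite (C ⧸ q.1) (Groth.Calg6.MN.B q) := fun q =>
    Groth.Calg4.finite_ic_of_isN2 ((Groth.Calg2.CompleteNagata.isNagata_of_isAdicComplete C).2 q.1)
      (FractionRing (C ⧸ q.1)) (FractionRing (C ⧸ q.1))
  haveI : IsFractionRing (integralClosure R K) K :=
    integralClosure.isFractionRing_of_finite_extension K K
  let w := fun i => Groth.Calg6.MN.w (A := R) (K := K) hN i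
  have hw : ∀ i, ∀ a : A, w i (algebraMap A K a) ≤ 1 := fun i a =>
    (Groth.Calg6.MN.mem_iff hN _).mp ⟨algebraMap R _ (algebraMap A R a),
      (IsScalarTower.algebraMap_apply A R K a).symm⟩ i
  have hfin : ∀ x : K, {i | x ∉ Subalgebra.toSubmodule (valSubalg (w i) (hw i))}.Finite := fun x =>
    (Groth.Calg6.Krull.finite_neg w (Groth.Calg6.MN.mem_iff hN) (Groth.Calg6.MN.w_finite hN) x).subset
      fun i (hi : ¬ w i x ≤ 1) => not_le.mp hi
  have hmem : z ∈ img A' (⨅ i, Subalgebra.toSubmodule (valSubalg (w i) (hw i))) :=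
    mem_img_iInf A' _ hfin fun i => mem_img_valSubalg A' hA' (w i) (hw i) (intOver_mono A' (by
      rintro _ ⟨r, rfl⟩
      exact (Groth.Calg6.MN.mem_iff hN _).mp ⟨algebraMap R _ r, rfl⟩ i) hz)
  refine img_mono A' (fun x hx => ?_) hmem
  rw [Submodule.mem_iInf] at hx
  obtain ⟨b, rfl⟩ := (Groth.Calg6.MN.mem_iff hN x).mpr fun i => hx i
  exact b.2

/-- Noetherian domains. -/
theorem mem_img_icl (hA' : ∀ (L : Type u) [Field L] [Algebra A L], IsReduced (A' ⊗[A] L))
    (R : Type u) [CommRing R] [IsDomain R] [IsNoetherianRing R] [Algebra A R] [Algebra R K]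
    [IsScalarTower A R K] [IsFractionRing R K] {z : A' ⊗[A] K}
    (hz : IntOver A' (IsScalarTower.toAlgHom A R K).range z) : z ∈ img A' (icl (A := A) (K := K) R) := by
  classical
  let μ : R → (K →ₗ[A] K) := fun r => LinearMap.mulLeft A (algebraMap R K r)
  let D := icl (A := A) (K := K) R
  let I : Ideal R :=
    { carrier := {r | (μ r).lTensor A' z ∈ img A' D}
      zero_mem' := by
        show (μ 0).lTensor A' z ∈ img A' D
        rw [show μ 0 = 0 from LinearMap.ext fun x => by simp [μ], LinearMap.lTensor_zero, LinearMap.zero_apply]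
        exact zero_mem _
      add_mem' := fun {a b} ha hb => by
        show (μ (a + b)).lTensor A' z ∈ img A' D
        rw [show μ (a + b) = μ a + μ b from LinearMap.ext fun x => by simp [μ, add_mul],
          LinearMap.lTensor_add, LinearMap.add_apply]
        exact add_mem ha hb
      smul_mem' := fun c r hr => by
        show (μ (c * r)).lTensor A' z ∈ img A' D
        rw [show μ (c * r) = (μ c).comp (μ r) from LinearMap.ext fun x => by simp [μ, mul_assoc],
          LinearMap.lTensor_comp, LinearMap.comp_apply]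
        exact map_mem_img A' (μ c) (fun n hn => (isIntegral_algebraMap.mul hn : IsIntegral R _)) hr }
  suffices htop : I = ⊤ by
    have h1 : (μ 1).lTensor A' z ∈ img A' D := (htop.symm ▸ Submodule.mem_top : (1 : R) ∈ I)
    rwa [show μ 1 = LinearMap.id from LinearMap.ext fun x => by simp [μ], LinearMap.lTensor_id,
      LinearMap.id_apply] at h1
  by_contra hne
  obtain ⟨m, hm, hle⟩ := Ideal.exists_le_maximal I hne
  haveI := hm
  let Rm : Subalgebra R K := Localization.subalgebra.ofField K m.primeCompl m.primeCompl_le_nonZeroDivisors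
  haveI : IsLocalization.AtPrime Rm m :=
    Localization.subalgebra.isLocalization_ofField K m.primeCompl m.primeCompl_le_nonZeroDivisors
  haveI : IsFractionRing Rm K :=
    Localization.subalgebra.isFractionRing_ofField K m.primeCompl m.primeCompl_le_nonZeroDivisors
  haveI : IsLocalRing Rm := IsLocalization.AtPrime.isLocalRing Rm m
  haveI : IsNoetherianRing Rm := IsLocalization.isNoetherianRing m.primeCompl Rm ‹_›
  have hz' : IntOver A' (IsScalarTower.toAlgHom A Rm K).range z := intOver_mono A' (by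
    rintro _ ⟨r, rfl⟩
    exact ⟨algebraMap R Rm r, rfl⟩) hz
  have h2 := mem_img_icl_of_isLocalRing A' hA' Rm hz'
  obtain ⟨y, hy⟩ := h2
  obtain ⟨S, hS⟩ := TensorProduct.exists_finset y
  have hclear : ∀ n : icl (A := A) (K := K) Rm, ∃ s : m.primeCompl, IsIntegral R ((s : R) • (n : K)) :=
    fun n => IsIntegral.exists_multiple_integral_of_isLocalization m.primeCompl (n : K) n.2
  choose s hs using hclear
  let t : R := ∏ p ∈ S, (s p.2 : R)
  have ht : t ∈ m.primeCompl := Submonoid.prod_mem _ fun p _ => (s p.2).2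
  refine ht (hle ?_)
  show (μ t).lTensor A' z ∈ img A' D
  rw [← hy, hS, map_sum, map_sum]
  refine Submodule.sum_mem _ fun p hp => ?_
  show p.1 ⊗ₜ[A] (μ t (p.2 : K)) ∈ img A' D
  refine tmul_mem_img A' _ ?_
  show IsIntegral R (algebraMap R K t * (p.2 : K))
  obtain ⟨c, hc⟩ : (s p.2 : R) ∣ t := Finset.dvd_prod_of_mem _ hp
  rw [hc, mul_comm (s p.2 : R), map_mul, mul_assoc, ← Algebra.smul_def (s p.2 : R)]
  exact isIntegral_algebraMap.mul (hs p.2)

end Noetherian

section General

variable {A : Type u} [CommRing A] (A' : Type u) [CommRing A'] [Algebra A A'] [Module.Flat A A']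

theorem bc_injective {C C' : Type u} [CommRing C] [Algebra A C] [CommRing C'] [Algebra A C']
    {f : C →ₐ[A] C'} (hf : Function.Injective f) : Function.Injective (bc A' f) := fun x y h =>
  lTensor_injective A' (f := f.toLinearMap) hf (by rwa [← bc_eq_lTensor, ← bc_eq_lTensor])

/-- Subalgebras of a field. -/
theorem mem_img_of_field [IsNoetherianRing A]
    (hA' : ∀ (L : Type u) [Field L] [Algebra A L], IsReduced (A' ⊗[A] L))
    {K : Type u} [Field K] [Algebra A K] (B : Subalgebra A K) {z : A' ⊗[A] K} (hz : IntOver A' B z) :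
    z ∈ img A' ((integralClosure B K).restrictScalars A).toSubmodule := by
  classical
  obtain ⟨B₀, hB₀, hle, hz₀⟩ := exists_fg_intOver A' hz
  obtain ⟨S, hS⟩ := TensorProduct.exists_finset z
  let G : Finset K := S.image Prod.snd
  let R : ({g // g ∈ G} → Bool) → Subalgebra A K := fun ε =>
    B₀ ⊔ Algebra.adjoin A ((Finset.univ.image fun g : {g // g ∈ G} =>
      if ε g then (g : K) else (g : K)⁻¹ : Finset K) : Set K)
  have hstep : ∀ ε, z ∈ img A' ((integralClosure (R ε) K).restrictScalars A).toSubmodule := by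
    intro ε
    haveI : Algebra.FiniteType A (R ε) :=
      (Subalgebra.fg_iff_finiteType (R ε)).mp (hB₀.sup ⟨_, rfl⟩)
    haveI : IsNoetherianRing (R ε) := Algebra.FiniteType.isNoetherianRing A (R ε)
    let F := FractionRing (R ε)
    let j : F →ₐ[A] K := IsFractionRing.liftAlgHom (K := F) (g := (R ε).val) Subtype.val_injective
    have hj : ∀ r : R ε, j (algebraMap (R ε) F r) = (r : K) := fun r =>
      IsFractionRing.lift_algebraMap Subtype.val_injective r
    have hjr : ∀ k ∈ R ε, k ∈ j.range := fun k hk => ⟨algebraMap (R ε) F ⟨k, hk⟩, hj ⟨k, hk⟩⟩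
    have hG : ∀ g : {g // g ∈ G}, (g : K) ∈ j.range := by
      intro g
      have hg : (if ε g then (g : K) else (g : K)⁻¹) ∈ R ε :=
        Algebra.mem_sup_right (Algebra.subset_adjoin (Finset.mem_image_of_mem _ (Finset.mem_univ g)))
      cases hb : ε g
      · rw [hb, if_neg Bool.false_ne_true] at hg
        obtain ⟨f, hf⟩ := hjr _ hg
        exact ⟨f⁻¹, by show j f⁻¹ = _; rw [map_inv₀, show j f = _ from hf, inv_inv]⟩
      · rw [hb, if_pos rfl] at hg
        exact hjr _ hg
    obtain ⟨z', rfl⟩ : z ∈ (bc A' j).range := by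
      rw [hS]
      refine Subalgebra.sum_mem _ fun p hp => ?_
      obtain ⟨f, hf⟩ := hG ⟨p.2, Finset.mem_image_of_mem _ hp⟩
      exact ⟨p.1 ⊗ₜ f, by show p.1 ⊗ₜ[A] j f = _; rw [show j f = _ from hf]⟩
    have hz' := intOver_comap A' j j.injective (fun k hk => hjr k hk)
      (intOver_mono A' (show B₀ ≤ R ε from le_sup_left) hz₀)
    have h1 := mem_img_icl A' hA' (R ε) (K := F) (intOver_mono A' (by
      intro f hf
      obtain ⟨⟨k, hk⟩, hr⟩ : ∃ r : R ε, (r : K) = j f := ⟨⟨j f, hf⟩, rfl⟩
      exact ⟨⟨k, hk⟩, j.injective ((hj ⟨k, hk⟩).trans hr)⟩) hz')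
    show bc A' j z' ∈ _
    rw [bc_eq_lTensor]
    refine map_mem_img A' j.toLinearMap (fun n (hn : IsIntegral (R ε) n) => ?_) h1
    obtain ⟨q, hq, hq0⟩ := hn
    refine ⟨q, hq, ?_⟩
    have := congrArg j.toRingHom hq0
    rw [hom_eval₂, map_zero, show j.toRingHom.comp (algebraMap (R ε) F) = algebraMap (R ε) K from
      RingHom.ext hj] at this
    exact this
  refine img_mono A' (fun x hx => ?_) (mem_img_iInf_fintype A' _ hstep)
  rw [Submodule.mem_iInf] at hx
  show IsIntegral B x
  by_contra hxB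
  have hcl : IsIntegrallyClosedIn (integralClosure B K).toSubring K :=
    inferInstanceAs (IsIntegrallyClosedIn (integralClosure B K) K)
  obtain ⟨V, hBV, hxV⟩ := Subring.exists_le_valuationSubring_of_isIntegrallyClosedIn
    (R := (integralClosure B K).toSubring) (x := x) hxB
  let V' : Subalgebra A K := { V.toSubring with
    algebraMap_mem' := fun a => hBV (show IsIntegral B _ by
      rw [IsScalarTower.algebraMap_apply A B K]; exact isIntegral_algebraMap) }
  let ε : {g // g ∈ G} → Bool := fun g => decide ((g : K) ∈ V)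
  have hRV : R ε ≤ V' := by
    refine sup_le (fun b hb => hBV (isIntegral_algebraMap (R := B) (x := ⟨b, hle hb⟩))) ?_
    rw [Algebra.adjoin_le_iff]
    intro k hk
    rw [Finset.mem_coe, Finset.mem_image] at hk
    obtain ⟨g, -, rfl⟩ := hk
    show _ ∈ V
    by_cases hg : (g : K) ∈ V
    · simpa [ε, hg] using hg
    · simpa [ε, hg] using (V.mem_or_inv_mem (g : K)).resolve_left hg
  refine hxV ?_
  obtain ⟨q, hq, hq0⟩ := hx ε
  have hint : IsIntegral V x := by
    refine ⟨q.map (Subalgebra.inclusion hRV).toRingHom, hq.map _, ?_⟩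
    rw [eval₂_map]
    exact hq0
  obtain ⟨v, hv⟩ := IsIntegrallyClosed.algebraMap_eq_of_integral hint
  exact hv ▸ v.2

theorem isIntegral_of_forall_minimalPrimes {R C : Type u} [CommRing R] [CommRing C] [Algebra R C] (c : C)
    (h : ∀ P ∈ minimalPrimes C, ∃ q : R[X], q.Monic ∧ aeval c q ∈ P) : IsIntegral R c := by
  let S : Submonoid C :=
    { carrier := {y | ∃ q : R[X], q.Monic ∧ aeval c q = y}
      one_mem' := ⟨1, monic_one, map_one _⟩
      mul_mem' := by
        rintro _ _ ⟨q, hq, rfl⟩ ⟨q', hq', rfl⟩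
        exact ⟨q * q', hq.mul hq', map_mul _ _ _⟩ }
  by_contra hc
  have h0 : Disjoint ((⊥ : Ideal C) : Set C) (S : Set C) := by
    rw [Set.disjoint_left]
    rintro _ hy ⟨q, hq, rfl⟩
    exact hc ⟨q, hq, hy⟩
  obtain ⟨P, hP, -, hPS⟩ := Ideal.exists_le_prime_disjoint ⊥ S h0
  obtain ⟨P₀, hP₀, hle⟩ := Ideal.exists_minimalPrimes_le (I := (⊥ : Ideal C)) (J := P) bot_le
  obtain ⟨q, hq, hqP⟩ := h P₀ hP₀
  exact Set.disjoint_left.mp hPS (hle hqP) ⟨q, hq, rfl⟩

/-- Noetherian rings. -/
theorem mem_img_of_noetherian [IsNoetherianRing A]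
    (hA' : ∀ (L : Type u) [Field L] [Algebra A L], IsReduced (A' ⊗[A] L))
    {C : Type u} [CommRing C] [IsNoetherianRing C] [Algebra A C] (B : Subalgebra A C) {z : A' ⊗[A] C}
    (hz : IntOver A' B z) : z ∈ img A' ((integralClosure B C).restrictScalars A).toSubmodule := by
  haveI : ∀ P : {P // P ∈ minimalPrimes C}, P.1.IsPrime := fun P => P.2.1.1
  haveI : Finite {P // P ∈ minimalPrimes C} :=
    (minimalPrimes.finite_of_isNoetherianRing C).to_subtype
  let φ : ∀ P : {P // P ∈ minimalPrimes C}, C →ₐ[A] P.1.ResidueField := fun P =>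
    IsScalarTower.toAlgHom A C _
  have hstep : ∀ P, z ∈ img A' (((integralClosure (B.map (φ P)) P.1.ResidueField).restrictScalars A).toSubmodule.comap
      (φ P).toLinearMap) := fun P => mem_img_comap A' _ (by
    rw [← bc_eq_lTensor]
    exact mem_img_of_field A' hA' (B.map (φ P)) (intOver_map A' (φ P) (fun b hb => Subalgebra.mem_map.mpr ⟨b, hb, rfl⟩) hz))
  refine img_mono A' (fun c hc => ?_) (mem_img_iInf_fintype A' _ hstep)
  rw [Submodule.mem_iInf] at hc
  refine isIntegral_of_forall_minimalPrimes (R := B) c fun P hP => ?_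
  obtain ⟨q, hq, hq0⟩ := hc ⟨P, hP⟩
  let g : B →ₐ[A] B.map (φ ⟨P, hP⟩) :=
    ((φ ⟨P, hP⟩).comp B.val).codRestrict _ fun b => ⟨b, b.2, rfl⟩
  have hg : Function.Surjective g := by
    rintro ⟨_, b, hb, rfl⟩
    exact ⟨⟨b, hb⟩, rfl⟩
  obtain ⟨q', hq', hqm⟩ := exists_monic_lift g.toRingHom hq fun n => hg _
  refine ⟨q', hqm, ?_⟩
  haveI := hP.1.1
  rw [← Ideal.ker_algebraMap_residueField P, RingHom.mem_ker, aeval_def, hom_eval₂, ← hq0, ← hq', eval₂_map]
  rfl

/-- The main theorem: integral closure commutes with normal base change. -/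
theorem mem_img_of_intOver_of_reduced [IsNoetherianRing A]
    (hA' : ∀ (L : Type u) [Field L] [Algebra A L], IsReduced (A' ⊗[A] L))
    {C : Type u} [CommRing C] [Algebra A C] (B : Subalgebra A C) {z : A' ⊗[A] C}
    (hz : IntOver A' B z) : z ∈ img A' ((integralClosure B C).restrictScalars A).toSubmodule := by
  classical
  obtain ⟨B₀, hB₀, hle, hz₀⟩ := exists_fg_intOver A' hz
  obtain ⟨C₁, hC₁, hzC⟩ := Groth.Ega4b.exists_fg_mem (k := A) (A := A') (L := C) z
  let C₀ : Subalgebra A C := C₁ ⊔ B₀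
  haveI : Algebra.FiniteType A C₀ := (Subalgebra.fg_iff_finiteType C₀).mp (hC₁.sup hB₀)
  haveI : IsNoetherianRing C₀ := Algebra.FiniteType.isNoetherianRing A C₀
  obtain ⟨w, hw⟩ := hzC
  let ι : C₁ →ₐ[A] C₀ := Subalgebra.inclusion le_sup_left
  have hz' : z = bc A' C₀.val (bc A' ι w) := by
    rw [bc_comp, ← hw]
    exact (bc_eq_lTensor A' _ w).symm
  subst hz'
  have h1 := mem_img_of_noetherian A' hA' (B₀.comap C₀.val) (intOver_comap A' C₀.val Subtype.val_injective
    (by rw [Subalgebra.range_val]; exact le_sup_right) hz₀)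
  rw [bc_eq_lTensor]
  refine map_mem_img A' C₀.val.toLinearMap (fun n (hn : IsIntegral (B₀.comap C₀.val) n) => ?_) h1
  obtain ⟨q, hq, hq0⟩ := hn
  let g : B₀.comap C₀.val →ₐ[A] B :=
    (C₀.val.comp (B₀.comap C₀.val).val).codRestrict B fun b => hle b.2
  refine ⟨q.map g.toRingHom, hq.map _, ?_⟩
  rw [eval₂_map]
  have := congrArg C₀.val.toRingHom hq0
  rw [hom_eval₂, map_zero] at this
  exact this

/-- Integral closure commutes with normal base change. -/
theorem mem_img_of_intOver [IsNoetherianRing A]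
    (hA' : ∀ (p : Ideal A) [p.IsPrime], EGA4.IsGeomNormal p.ResidueField (p.Fiber A'))
    {C : Type u} [CommRing C] [Algebra A C] (B : Subalgebra A C) {z : A' ⊗[A] C}
    (hz : IntOver A' B z) : z ∈ img A' ((integralClosure B C).restrictScalars A).toSubmodule :=
  mem_img_of_intOver_of_reduced A' (isReduced_tensor_field A' hA') B hz

/-- The converse inclusion. -/
theorem intOver_of_mem_img {C : Type u} [CommRing C] [Algebra A C] (B : Subalgebra A C) {z : A' ⊗[A] C}
    (hz : z ∈ img A' ((integralClosure B C).restrictScalars A).toSubmodule) : IntOver A' B z := by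
  obtain ⟨w, rfl⟩ := hz
  induction w using TensorProduct.induction_on with
  | zero => rw [map_zero]; exact RingHom.isIntegralElem_zero _
  | add a b ha hb => rw [map_add]; exact RingHom.IsIntegralElem.add _ ha hb
  | tmul a c =>
    obtain ⟨q, hq, hq0⟩ := c.2
    have h1 : IntOver A' B ((1 : A') ⊗ₜ[A] (c : C)) := by
      refine ⟨q.map (Algebra.TensorProduct.includeRight (R := A) (A := A') (B := B)).toRingHom, hq.map _, ?_⟩
      rw [eval₂_map]
      have := congrArg (Algebra.TensorProduct.includeRight (R := A) (A := A') (B := C)).toRingHom hq0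
      rw [hom_eval₂, map_zero] at this
      exact this
    have h2 : IntOver A' B (a ⊗ₜ[A] (1 : C)) :=
      (bc A' B.val).toRingHom.isIntegralElem_map (x := a ⊗ₜ[A] (1 : B))
    have h3 := RingHom.IsIntegralElem.mul _ h2 h1
    rw [Algebra.TensorProduct.tmul_mul_tmul, mul_one, one_mul] at h3
    exact h3

end General

end Groth.Ega4b.ICBC
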