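import Groth.Agent.Ega4Algebra2.PowerSeriesDer
import Mathlib

/-!
# Jacobian rank from a bound on the derivations of the quotient
-/

set_option autoImplicit false

universe u

namespace Groth.Ega4b.Jac

/-- If derivations of the quotient domain `R` induced by `D` are determined by their values on `card κ`
elements, the equations of `R` have Jacobian rank at least `card ι - card κ`. -/
theorem exists_jacobian_of_bound {P R : Type u} [CommRing P] [CommRing R] [IsDomain R] (π : P →+* R)
    (hπ : Function.Surjective π) {ι κ : Type u} [Fintype ι] [Fintype κ] (D : ι → IDer P) (v : κ → P)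
    {h : ℕ} (he : h + Fintype.card κ ≤ Fintype.card ι)
    (hkill : ∀ (δ : IDer R) (w : ι → R), (∀ x, δ (π x) = ∑ i, w i * π (D i x)) →
      (∀ j, δ (π (v j)) = 0) → w = 0) :
    ∃ (f : Fin h → P) (D' : Fin h → IDer P), (∀ i, π (f i) = 0) ∧
      π (Matrix.of fun i j => D' i (f j)).det ≠ 0 := by
  classical
  let K := FractionRing R
  let vec : P → ι → K := fun x i => algebraMap R K (π (D i x))
  let V : Submodule K (ι → K) := Submodule.span K (vec '' {x | π x = 0})
  let U : Submodule K (ι → K) := Submodule.span K (Set.range (vec ∘ v))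
  have hinj := IsFractionRing.injective R K
  have htop : V ⊔ U = ⊤ := by
    by_contra hne
    obtain ⟨φ, hφ0, hφ⟩ := Submodule.exists_dual_map_eq_bot_of_lt_top (lt_top_iff_ne_top.2 hne) inferInstance
    have hker : ∀ y ∈ V ⊔ U, φ y = 0 := fun y hy => by
      have : φ y ∈ (V ⊔ U).map φ := ⟨y, hy, rfl⟩
      rwa [hφ, Submodule.mem_bot] at this
    let w0 : ι → K := fun i => φ (Pi.single i 1)
    have hφeq : ∀ y : ι → K, φ y = ∑ i, y i * w0 i := fun y => by
      conv_lhs => rw [pi_eq_sum_univ' y]
      simp [w0, map_sum]
    obtain ⟨s, hs⟩ := IsLocalization.exist_integer_multiples (nonZeroDivisors R) (Finset.univ) w0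
    choose w hw using fun i => hs i (Finset.mem_univ i)
    have hval : ∀ x, algebraMap R K (∑ i, w i * π (D i x)) = algebraMap R K (s : R) * φ (vec x) := fun x => by
      rw [hφeq, map_sum, Finset.mul_sum]
      refine Finset.sum_congr rfl fun i _ => ?_
      rw [map_mul, hw i, Algebra.smul_def]
      show _ = _ * (algebraMap R K (π (D i x)) * w0 i)
      ring
    let g : P → R := fun x => ∑ i, w i * π (D i x)
    have hg0 : ∀ x, π x = 0 → g x = 0 := fun x hx => hinj (by
      rw [map_zero, hval, hker _ (Submodule.mem_sup_left (Submodule.subset_span (Set.mem_image_of_mem vec hx))), mul_zero])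
    have hgadd : ∀ x y, g (x + y) = g x + g y := fun x y => by
      simp only [g, map_add, mul_add, Finset.sum_add_distrib]
    let lift := Function.surjInv hπ
    have hlift : ∀ r, π (lift r) = r := Function.surjInv_eq hπ
    have hgπ : ∀ x, g (lift (π x)) = g x := fun x => by
      have h1 := hg0 (lift (π x) - x) (by rw [map_sub, hlift, sub_self])
      have h2 := hgadd (lift (π x) - x) x
      rwa [sub_add_cancel, h1, zero_add] at h2
    have hadd : ∀ a b, g (lift (a + b)) = g (lift a) + g (lift b) := fun a b => by
      rw [← hgadd, ← hgπ (lift a + lift b), map_add, hlift, hlift]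
    let δ : IDer R := Derivation.mk'
      (AddMonoidHom.toIntLinearMap (AddMonoidHom.mk' (fun r => g (lift r)) hadd)) fun a b => by
        show g (lift (a * b)) = a • g (lift b) + b • g (lift a)
        rw [← hlift a, ← hlift b, ← map_mul, hgπ, hgπ, hgπ, hlift, hlift, smul_eq_mul, smul_eq_mul,
          Finset.mul_sum, Finset.mul_sum, ← Finset.sum_add_distrib]
        refine Finset.sum_congr rfl fun i _ => ?_
        rw [(D i).leibniz, smul_eq_mul, smul_eq_mul, map_add, map_mul, map_mul, hlift, hlift]
        ring
    have hδ : ∀ x, δ (π x) = ∑ i, w i * π (D i x) := fun x => hgπ x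
    have hw0 := hkill δ w hδ fun j => hinj (by
      rw [map_zero, hδ, hval, hker (vec (v j)) (Submodule.mem_sup_right (Submodule.subset_span ⟨j, rfl⟩)), mul_zero])
    refine hφ0 (LinearMap.ext fun y => ?_)
    rw [hφeq, LinearMap.zero_apply]
    refine Finset.sum_eq_zero fun i _ => ?_
    have h1 := hw i
    rw [hw0, Pi.zero_apply, map_zero, Algebra.smul_def, zero_eq_mul] at h1
    rw [h1.resolve_left ((map_ne_zero_iff _ hinj).2 (nonZeroDivisors.ne_zero s.2)), mul_zero]
  have hrank : h ≤ Module.finrank K V := by
    have h1 : Module.finrank K U ≤ Fintype.card κ := finrank_range_le_card _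
    have h2 := Submodule.finrank_add_le_finrank_add_finrank V U
    rw [htop, finrank_top, Module.finrank_pi] at h2
    omega
  obtain ⟨b, hbsub, hbspan, hbind⟩ := exists_linearIndependent K (vec '' {x | π x = 0})
  haveI : Fintype b := (hbind.setFinite).fintype
  have hcard : h ≤ Fintype.card b := by
    rw [show V = Submodule.span K b from hbspan.symm] at hrank
    exact hrank.trans (by rw [finrank_span_set_eq_card hbind, Set.toFinset_card])
  let emb : Fin h ↪ b := (Fin.castLEEmb hcard).trans (Fintype.equivFin b).symm.toEmbedding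
  choose f hf hfvec using fun i => hbsub (emb i).2
  have hind : LinearIndependent K fun i => vec (f i) := by
    have := hbind.comp emb emb.injective
    simpa [Function.comp_def, hfvec] using this
  obtain ⟨W, hW⟩ := LinearMap.exists_leftInverse_of_injective (Fintype.linearCombination K fun i => vec (f i))
    (LinearMap.ker_eq_bot.2 hind.fintypeLinearCombination_injective)
  let A : Fin h × ι → K := fun x => W (Pi.single x.2 1) x.1
  obtain ⟨s, hs⟩ := IsLocalization.exist_integer_multiples (nonZeroDivisors R) (Finset.univ) A
  choose A' hA' using fun x => hs x (Finset.mem_univ x)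
  choose c hc using fun x => hπ (A' x)
  refine ⟨f, fun i => ∑ l, c (i, l) • D l, hf, ?_⟩
  have hentry : ∀ i j, algebraMap R K (π ((∑ l, c (i, l) • D l : IDer P) (f j))) =
      algebraMap R K (s : R) * (if i = j then 1 else 0) := by
    intro i j
    have h1 : W (vec (f j)) i = if i = j then 1 else 0 := by
      have := congrArg (fun F => F (Pi.single j 1) i) hW
      simp only [LinearMap.comp_apply, LinearMap.id_apply, Fintype.linearCombination_apply_single,
        one_smul, Pi.single_apply] at this
      exact this
    rw [← h1, show (∑ l, c (i, l) • D l : IDer P) (f j) = ∑ l, (c (i, l) • D l : IDer P) (f j) from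
      (congrFun (map_sum (Derivation.coeFnAddMonoidHom (R := ℤ) (A := P) (M := P)) (fun l => c (i, l) • D l) Finset.univ) (f j)).trans (Finset.sum_apply _ _ _), map_sum, map_sum]
    conv_rhs => rw [pi_eq_sum_univ' (vec (f j)), map_sum, Finset.sum_apply, Finset.mul_sum]
    refine Finset.sum_congr rfl fun l _ => ?_
    rw [Derivation.smul_apply, smul_eq_mul, map_mul, map_mul, hc, hA', Algebra.smul_def, map_smul, Pi.smul_apply,
      smul_eq_mul]
    show _ * W (Pi.single l 1) i * vec (f j) l = _
    ring
  rw [RingHom.map_det, ← map_ne_zero_iff _ hinj, RingHom.map_det]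
  have hM : (algebraMap R K).mapMatrix (π.mapMatrix (Matrix.of fun i j => (∑ l, c (i, l) • D l : IDer P) (f j))) =
      algebraMap R K (s : R) • (1 : Matrix (Fin h) (Fin h) K) := by
    ext i j
    simp only [RingHom.mapMatrix_apply, Matrix.map_apply, Matrix.of_apply, Matrix.smul_apply, Matrix.one_apply,
      smul_eq_mul]
    exact hentry i j
  rw [hM, Matrix.det_smul, Matrix.det_one, mul_one]
  exact pow_ne_zero _ ((map_ne_zero_iff _ hinj).2 (nonZeroDivisors.ne_zero s.2))

end Groth.Ega4b.Jac
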