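import Groth.Agent.Calg2.N2Insep
import Groth.Agent.Calg1.NagataBasic
import Groth.Agent.Calg1.NagataTheorem
import Groth.Agent.PropsBasic.NagataLocal
import Groth.Agent.Ega4Algebra2.GRingFibre
import Groth.Agent.Calg4.Japanese
import Groth.Agent.S0571
import Groth.Agent.S4710
import Mathlib

/-!
# The normal-locus criterion for Nagata rings
-/

set_option autoImplicit false
set_option linter.style.haveILetI false

universe u

namespace Groth.Ega4b

/-- A Nagata domain is N-1. -/
theorem isN1_of_isNagata (R : Type u) [CommRing R] [IsDomain R] (h : CAlg.IsNagata R) : CAlg.IsN1 R :=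
  Groth.Calg4.finite_ic_of_isN2 (Groth.Calg1.isN2_self_of_isNagata h) (FractionRing R) (FractionRing R)

/-- The N-1 property of a finite domain extension from the local rings of the base. -/
theorem isN1_localization_of_finite (A B : Type u) [CommRing A] [CommRing B] [IsDomain B] [Algebra A B]
    [Module.Finite A B] (h : ∀ (m : Ideal A) [m.IsMaximal], CAlg.IsNagata (Localization.AtPrime m))
    (n : Ideal B) [n.IsMaximal] : CAlg.IsN1 (Localization.AtPrime n) := by
  let m := n.comap (algebraMap A B)
  haveI : m.IsMaximal := Ideal.isMaximal_comap_of_isIntegral_of_isMaximal n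
  let M := Algebra.algebraMapSubmonoid B m.primeCompl
  let Bm := Localization M
  let Bn := Localization.AtPrime n
  letI : Algebra (Localization.AtPrime m) Bm := localizationAlgebra m.primeCompl B
  haveI : IsScalarTower A (Localization.AtPrime m) Bm :=
    IsScalarTower.of_algebraMap_eq' (by
      rw [RingHom.algebraMap_toAlgebra, IsLocalization.map_comp, IsScalarTower.algebraMap_eq A B Bm])
  haveI : Module.Finite (Localization.AtPrime m) Bm := Module.Finite.of_isLocalization A B m.primeCompl
  have hBm : CAlg.IsNagata Bm := Groth.Calg1.isNagata_of_finite (h m)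
  have hle : M ≤ n.primeCompl := by rintro _ ⟨a, ha, rfl⟩; exact ha
  letI : Algebra Bm Bn := IsLocalization.localizationAlgebraOfSubmonoidLe Bm Bn M n.primeCompl hle
  haveI : IsScalarTower B Bm Bn := IsLocalization.localization_isScalarTower_of_submonoid_le Bm Bn M n.primeCompl hle
  haveI : IsLocalization (n.primeCompl.map (algebraMap B Bm)) Bn :=
    IsLocalization.isLocalization_of_submonoid_le Bm Bn M n.primeCompl hle
  have hBn : CAlg.IsNagata Bn := Groth.PropsBasic.isNagata_of_isLocalization (n.primeCompl.map (algebraMap B Bm)) Bn hBm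
  exact isN1_of_isNagata Bn hBn

/-- Nagata rings via local quotients and normal loci. -/
theorem isNagata_iff_localQuotients (A : Type u) [CommRing A] [IsNoetherianRing A] :
    CAlg.IsNagata A ↔
      ((∀ (m : Ideal A) [m.IsMaximal] (P : Ideal (Localization.AtPrime m)) [P.IsPrime],
          CAlg.IsN2 (Localization.AtPrime m ⧸ P)) ∧
        ∀ (p : Ideal A) [p.IsPrime] (K' : Type u) [Field K'] [Algebra (A ⧸ p) K']
          [Algebra (FractionRing (A ⧸ p)) K'] [IsScalarTower (A ⧸ p) (FractionRing (A ⧸ p)) K']
          [FiniteDimensional (FractionRing (A ⧸ p)) K'] [IsPurelyInseparable (FractionRing (A ⧸ p)) K']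
          (B' : Subalgebra (A ⧸ p) K'), Module.Finite (A ⧸ p) B' → IsFractionRing B' K' →
            ∃ f : B', f ≠ 0 ∧ IsIntegrallyClosed (Localization.Away f)) := by
  classical
  constructor
  · intro hA
    refine ⟨fun m _ P _ => (Groth.Agent.S4710.result A hA m.primeCompl).2 P, ?_⟩
    intro p _ K' _ _ _ _ _ _ B' hfin _
    haveI := hfin
    haveI : IsNoetherianRing B' := IsNoetherianRing.of_finite (A ⧸ p) B'
    have hinj : Function.Injective (algebraMap (A ⧸ p) B') := fun a b hab => by
      refine IsFractionRing.injective (A ⧸ p) (FractionRing (A ⧸ p))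
        ((algebraMap (FractionRing (A ⧸ p)) K').injective ?_)
      rw [← IsScalarTower.algebraMap_apply, ← IsScalarTower.algebraMap_apply]
      exact congrArg Subtype.val hab
    have h1 : CAlg.IsN1 B' :=
      Groth.Calg4.finite_ic_of_isN2 (Groth.Calg1.isN2_of_finite hinj (hA.2 p)) (FractionRing B') (FractionRing B')
    exact ((Groth.Agent.S0571.result B').mp h1).1
  · rintro ⟨h1, h2⟩
    refine ⟨inferInstance, fun p _ L _ _ _ _ hfinL => ?_⟩
    have hloc : ∀ (m : Ideal A) [m.IsMaximal], CAlg.IsNagata (Localization.AtPrime m) :=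
      fun m _ => ⟨inferInstance, fun P _ => h1 m P⟩
    haveI := hfinL
    let B := A ⧸ p
    let K := FractionRing B
    refine Groth.Calg2.N2Insep.finite_of_purelyInseparable B (fun K' _ _ _ _ hfd hpi => ?_) L
    haveI := hfd
    haveI := hpi
    have hfrac : ∀ c : K, ∃ a s : B, algebraMap B K' s ≠ 0 ∧
        algebraMap K K' c * algebraMap B K' s = algebraMap B K' a := by
      intro c
      obtain ⟨a, s, hs, rfl⟩ := IsFractionRing.div_surjective B c
      have hs0 : algebraMap B K s ≠ 0 := IsFractionRing.to_map_ne_zero_of_mem_nonZeroDivisors hs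
      refine ⟨a, s, ?_, ?_⟩
      · rw [IsScalarTower.algebraMap_apply B K K']
        exact (map_ne_zero _).2 hs0
      · rw [IsScalarTower.algebraMap_apply B K K', IsScalarTower.algebraMap_apply B K K', ← map_mul]
        exact congrArg _ (div_mul_cancel₀ _ hs0)
    have hint : ∀ x : K', ∃ s : B, algebraMap B K' s ≠ 0 ∧ IsIntegral B (algebraMap B K' s * x) := fun x => by
      obtain ⟨F, hF, hFx⟩ := Algebra.IsIntegral.isIntegral (R := K) x
      exact exists_isIntegral_mul hfrac x F hF hFx
    choose t ht hti using hint
    let e := Module.finBasis K K'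
    obtain ⟨B', hB'fin, hSB⟩ : ∃ B' : Subalgebra B K', Module.Finite B B' ∧
        ∀ i, algebraMap B K' (t (e i)) * e i ∈ B' :=
      ⟨Algebra.adjoin B (Set.range fun i => algebraMap B K' (t (e i)) * e i),
        Algebra.finite_adjoin_of_finite_of_isIntegral (Set.finite_range _)
          (by rintro _ ⟨i, rfl⟩; exact hti _),
        fun i => Algebra.subset_adjoin ⟨i, rfl⟩⟩
    haveI := hB'fin
    haveI : FaithfulSMul B' K' := (faithfulSMul_iff_algebraMap_injective B' K').2 Subtype.val_injective
    haveI : IsFractionRing B' K' := by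
      let F : Subfield K' := Subfield.closure (B' : Set K')
      have hB : ∀ b ∈ B', b ∈ F := fun b hb => Subfield.subset_closure hb
      have halg : ∀ a : B, algebraMap B K' a ∈ F := fun a => hB _ (B'.algebraMap_mem a)
      have hall : ∀ x : K', x ∈ F := fun x => by
        rw [← e.sum_repr x]
        refine F.sum_mem fun i _ => ?_
        rw [Algebra.smul_def]
        refine F.mul_mem ?_ ?_
        · obtain ⟨a, s, hs, has⟩ := hfrac (e.repr x i)
          rw [eq_div_of_mul_eq hs has]
          exact F.div_mem (halg a) (halg s)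
        · have h1 : algebraMap B K' (t (e i)) * e i / algebraMap B K' (t (e i)) ∈ F :=
            F.div_mem (hB _ (hSB i)) (halg _)
          rwa [mul_div_cancel_left₀ _ (ht (e i))] at h1
      refine IsFractionRing.of_field B' K' fun z => ?_
      obtain ⟨y, hy, w, hw, rfl⟩ := Subfield.mem_closure_iff.1 (hall z)
      have hle : Subring.closure (B' : Set K') ≤ B'.toSubring := Subring.closure_le.2 fun b hb => hb
      exact ⟨⟨y, hle hy⟩, ⟨w, hle hw⟩, rfl⟩
    haveI : IsNoetherianRing B' := IsNoetherianRing.of_finite B B'
    haveI : Module.Finite A B := Module.Finite.of_surjective (Ideal.Quotient.mkₐ A p).toLinearMap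
      (Ideal.Quotient.mkₐ_surjective A p)
    letI : Algebra A B' := ((algebraMap B B').comp (algebraMap A B)).toAlgebra
    haveI : IsScalarTower A B B' := IsScalarTower.of_algebraMap_eq fun _ => rfl
    haveI : Module.Finite A B' := Module.Finite.trans B B'
    have hN1 : CAlg.IsN1 B' := (Groth.Agent.S0571.result B').mpr
      ⟨h2 p K' B' hB'fin inferInstance, fun n _ => isN1_localization_of_finite A B' hloc n⟩
    haveI := Groth.Calg4.finite_ic_of_isN1 hN1 K'
    haveI : Algebra.IsIntegral B B' := Algebra.IsIntegral.of_finite B B'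
    haveI : Module.Finite B (integralClosure B' K') := Module.Finite.trans B' _
    let f : integralClosure B' K' →ₗ[B] integralClosure B K' :=
      { toFun := fun x => ⟨x.1, isIntegral_trans x.1 x.2⟩
        map_add' := fun _ _ => rfl
        map_smul' := fun _ _ => rfl }
    exact Module.Finite.of_surjective f fun y => ⟨⟨y.1, y.2.tower_top⟩, rfl⟩

end Groth.Ega4b
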