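import Groth.Agent.Ega4Algebra2.SemilocalNormalization
import Mathlib

/-! Mori–Nagata: the residue fields of the normalization of a reduced Noetherian local ring are finite. -/

set_option autoImplicit false
universe u

open IsLocalRing

namespace Groth.Ega4Algebra2

theorem finite_quotient_maximal_domain (A : Type u) [CommRing A] [IsDomain A] [IsNoetherianRing A]
    [IsLocalRing A] (K : Type u) [Field K] [Algebra A K] [IsFractionRing A K]
    (M : Ideal (integralClosure A K)) [M.IsMaximal] : Module.Finite A (integralClosure A K ⧸ M) := by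
  classical
  let C := AdicCompletion (maximalIdeal A) A
  haveI : IsNoetherianRing C := Groth.Calg1.isNoetherianRing_adicCompletion _ (IsNoetherian.noetherian _)
  haveI : IsAdicComplete (maximalIdeal C) C :=
    AdicCompletion.isAdicComplete_of_fg (IsNoetherian.noetherian _)
  haveI : Module.FaithfullyFlat A C := Module.FaithfullyFlat.of_flat_of_isLocalHom
  have hN : ∀ q : Groth.Calg6.MN.MP C, Module.Finite (C ⧸ q.1) (Groth.Calg6.MN.B q) := fun q =>
    Groth.Calg4.finite_ic_of_isN2 ((Groth.Calg2.CompleteNagata.isNagata_of_isAdicComplete C).2 q.1)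
      (FractionRing (C ⧸ q.1)) (FractionRing (C ⧸ q.1))
  have hMA : M.comap (algebraMap A _) = (maximalIdeal C).comap (algebraMap A C) := by
    rw [IsLocalRing.eq_maximalIdeal (Ideal.isMaximal_comap_of_isIntegral_of_isMaximal (R := A) M)]
    exact (((IsLocalRing.local_hom_TFAE (algebraMap A C)).out 0 4 rfl rfl).1 inferInstance).symm
  obtain ⟨q, W, hW, hWC, hWP⟩ := Groth.Calg6.MN.exists_component A K M (maximalIdeal C) hMA
  haveI := hW
  haveI := hN q
  let Bq := Groth.Calg6.MN.B q
  haveI : Module.Finite C Bq := Module.Finite.trans (C ⧸ q.1) Bq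
  haveI : Module.Finite C (Bq ⧸ W) := Module.Finite.of_surjective
    (IsScalarTower.toAlgHom C Bq (Bq ⧸ W)).toLinearMap Ideal.Quotient.mk_surjective
  obtain ⟨T, hT⟩ := Module.Finite.fg_top (R := C) (M := Bq ⧸ W)
  have hC : ∀ c : C, ∃ a : A, ∀ v : Bq ⧸ W, c • v = a • v := by
    intro c
    obtain ⟨a, ha⟩ := Ideal.Quotient.mk_surjective (AdicCompletion.evalOneₐ (maximalIdeal A) c)
    refine ⟨a, fun v => ?_⟩
    have h1 : c - algebraMap A C a ∈ maximalIdeal C := by
      have h2 : c - algebraMap A C a ∈ RingHom.ker (AdicCompletion.evalOneₐ (maximalIdeal A)).toRingHom := by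
        show AdicCompletion.evalOneₐ (maximalIdeal A) (c - algebraMap A C a) = 0
        rw [map_sub, AlgHom.commutes, sub_eq_zero, ← ha]
        rfl
      rw [AdicCompletion.ker_evalOneₐ_eq_map _ (IsNoetherian.noetherian _)] at h2
      rw [AdicCompletion.maximalIdeal_eq_map]
      exact h2
    rw [← IsScalarTower.algebraMap_smul C a v, ← sub_eq_zero, ← sub_smul]
    obtain ⟨w, rfl⟩ := Ideal.Quotient.mk_surjective v
    show Ideal.Quotient.mk W ((c - algebraMap A C a) • w) = 0
    rw [Ideal.Quotient.eq_zero_iff_mem, Algebra.smul_def]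
    exact W.mul_mem_right _ (hWC.symm ▸ h1 : c - algebraMap A C a ∈ W.comap (algebraMap C Bq))
  haveI : Module.Finite A (Bq ⧸ W) := ⟨⟨T, top_le_iff.1 fun v _ => by
    have hv : v ∈ Submodule.span C (T : Set (Bq ⧸ W)) := hT ▸ Submodule.mem_top
    induction hv using Submodule.span_induction with
    | mem y hy => exact Submodule.subset_span hy
    | zero => exact zero_mem _
    | add y z _ _ hy hz => exact add_mem (hy trivial) (hz trivial)
    | smul c y _ hy =>
      obtain ⟨a, ha⟩ := hC c
      rw [ha]
      exact Submodule.smul_mem _ a (hy trivial)⟩⟩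
  haveI : IsNoetherian A (Bq ⧸ W) := isNoetherian_of_isNoetherianRing_of_finite A (Bq ⧸ W)
  let g : integralClosure A K ⧸ M →ₐ[A] Bq ⧸ W :=
    Ideal.quotientMapₐ W (Groth.Calg6.MN.σB A K q) hWP.ge
  exact Module.Finite.of_injective g.toLinearMap (Ideal.quotientMap_injective' (H := hWP.ge) hWP.le)

/-- The residue fields of the normalization of a reduced Noetherian local ring are finite over it. -/
theorem finite_quotient_maximal (A : Type u) [CommRing A] [IsReduced A] [IsNoetherianRing A] [IsLocalRing A]
    (M : Ideal (integralClosure A (FractionRing A))) [M.IsMaximal] :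
    Module.Finite A (integralClosure A (FractionRing A) ⧸ M) := by
  classical
  have := (minimalPrimes.finite_of_isNoetherianRing A).to_subtype
  haveI := Fintype.ofFinite (minimalPrimes A)
  have hker : (Finset.univ : Finset (minimalPrimes A)).inf
      (fun P => RingHom.ker (Groth.ReducedNormal.projClosure A P).toRingHom) ≤ M := by
    intro z hz
    rw [Submodule.mem_finsetInf] at hz
    rw [show z = 0 from Subtype.ext (Groth.ReducedNormal.eq_zero_of_forall_proj A _ fun P =>
      congrArg Subtype.val (hz P (Finset.mem_univ P)))]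
    exact M.zero_mem
  obtain ⟨P, -, hP⟩ := (Ideal.IsPrime.inf_le' (s := Finset.univ) inferInstance).1 hker
  haveI := Ideal.minimalPrimes_isPrime P.2
  let π := Groth.ReducedNormal.projClosure A P
  have hsurj : Function.Surjective π.toRingHom := Groth.ReducedNormal.projClosure_surjective A P
  haveI : IsLocalRing (A ⧸ P.1) := IsLocalRing.of_surjective' (Ideal.Quotient.mk P.1) Ideal.Quotient.mk_surjective
  let e : integralClosure A (FractionRing (A ⧸ P.1)) ≃ₐ[A]
      (integralClosure (A ⧸ P.1) (FractionRing (A ⧸ P.1))).restrictScalars A :=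
    Subalgebra.equivOfEq _ _ (Subalgebra.ext fun x =>
      ⟨fun h => h.tower_top, fun h => isIntegral_trans (R := A) x h⟩)
  let N' : Ideal (integralClosure A (FractionRing (A ⧸ P.1))) := M.map π.toRingHom
  haveI : N'.IsMaximal := (Ideal.map_eq_top_or_isMaximal_of_surjective _ hsurj inferInstance).resolve_left fun h => by
    refine (inferInstance : M.IsMaximal).ne_top ?_
    have := congrArg (Ideal.comap π.toRingHom) h
    rwa [Ideal.comap_map_of_surjective _ hsurj, ← RingHom.ker_eq_comap_bot, sup_eq_left.2 hP, Ideal.comap_top] at this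
  let N : Ideal (integralClosure (A ⧸ P.1) (FractionRing (A ⧸ P.1))) := N'.map e.toRingEquiv.toRingHom
  haveI : N.IsMaximal := Ideal.map_isMaximal_of_equiv e.toRingEquiv
  haveI := finite_quotient_maximal_domain (A ⧸ P.1) (FractionRing (A ⧸ P.1)) N
  haveI : Module.Finite A (integralClosure (A ⧸ P.1) (FractionRing (A ⧸ P.1)) ⧸ N) := Module.Finite.trans (A ⧸ P.1) _
  let g : integralClosure A (FractionRing A) →ₐ[A] integralClosure (A ⧸ P.1) (FractionRing (A ⧸ P.1)) :=
    { toFun := fun z => e (π z)
      map_one' := by rw [map_one, map_one]; rfl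
      map_mul' := fun x y => by rw [map_mul, map_mul]; rfl
      map_zero' := by rw [map_zero, map_zero]; rfl
      map_add' := fun x y => by rw [map_add, map_add]; rfl
      commutes' := fun a => by rw [π.commutes, e.commutes]; rfl }
  have hNM : N.comap g.toRingHom = M := by
    ext z
    show e.toRingEquiv.toRingHom (π.toRingHom z) ∈ N ↔ z ∈ M
    rw [show e.toRingEquiv.toRingHom (π.toRingHom z) ∈ N ↔
      z ∈ (((M.map π.toRingHom).map e.toRingEquiv.toRingHom).comap e.toRingEquiv.toRingHom).comap π.toRingHom from Iff.rfl,
      Ideal.comap_map_of_bijective e.toRingEquiv.toRingHom e.toRingEquiv.bijective,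
      Ideal.comap_map_of_surjective _ hsurj, ← RingHom.ker_eq_comap_bot, sup_eq_left.2 hP]
  haveI : IsNoetherian A (integralClosure (A ⧸ P.1) (FractionRing (A ⧸ P.1)) ⧸ N) :=
    isNoetherian_of_isNoetherianRing_of_finite A _
  exact Module.Finite.of_injective (Ideal.quotientMapₐ N g hNM.ge).toLinearMap
    (Ideal.quotientMap_injective' (H := hNM.ge) hNM.le)

end Groth.Ega4Algebra2

namespace Groth.Ega4Algebra2

/-- The residue fields of the normalization are finite over the subfield generated by the ring. -/
theorem finiteDimensional_residueField (A : Type u) [CommRing A] [IsReduced A] [IsNoetherianRing A] [IsLocalRing A]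
    (M : Ideal (integralClosure A (FractionRing A))) [M.IsMaximal] :
    FiniteDimensional (Subfield.closure (Set.range ((algebraMap (integralClosure A (FractionRing A)) M.ResidueField).comp
      (algebraMap A (integralClosure A (FractionRing A)))))) M.ResidueField := by
  haveI := finite_quotient_maximal A M
  haveI : Module.Finite A M.ResidueField := Module.Finite.of_surjective
    (IsScalarTower.toAlgHom A (integralClosure A (FractionRing A) ⧸ M) M.ResidueField).toLinearMap
    (Ideal.bijective_algebraMap_quotient_residueField M).2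
  obtain ⟨T, hT⟩ := Module.Finite.fg_top (R := A) (M := M.ResidueField)
  refine ⟨⟨T, top_le_iff.1 fun v _ => ?_⟩⟩
  have hv : v ∈ Submodule.span A (T : Set M.ResidueField) := hT ▸ Submodule.mem_top
  induction hv using Submodule.span_induction with
  | mem y hy => exact Submodule.subset_span hy
  | zero => exact zero_mem _
  | add y z _ _ hy hz => exact add_mem (hy trivial) (hz trivial)
  | smul a y _ hy =>
    rw [Algebra.smul_def, IsScalarTower.algebraMap_apply A (integralClosure A (FractionRing A)) M.ResidueField]
    exact Submodule.smul_mem _ (⟨_, Subfield.subset_closure ⟨a, rfl⟩⟩ :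
      Subfield.closure (Set.range ((algebraMap (integralClosure A (FractionRing A)) M.ResidueField).comp
        (algebraMap A (integralClosure A (FractionRing A)))))) (hy trivial)

end Groth.Ega4Algebra2
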