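import Groth.Agent.EtaleDeep.PowerSeriesInverse
import Mathlib

/-!
# Substitution of a regular system of parameters of a power series ring
-/

set_option autoImplicit false
set_option linter.style.haveILetI false

open MvPowerSeries

namespace Groth.Ega4b.PSRsop

variable {σ : Type*} [Fintype σ] [DecidableEq σ] {R : Type*} [CommRing R]

/-- linear substitution -/
noncomputable def lin (M : Matrix σ σ R) (i : σ) : MvPowerSeries σ R := ∑ j, C (M i j) * X j

omit [DecidableEq σ] in
lemma constantCoeff_lin (M : Matrix σ σ R) (i : σ) : constantCoeff (lin M i) = 0 := by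
  simp [lin]

omit [DecidableEq σ] in
lemma subst_lin {y : σ → MvPowerSeries σ R} (hy : HasSubst y) (M : Matrix σ σ R) (i : σ) :
    subst y (lin M i) = ∑ j, C (M i j) * y j := by
  rw [lin, ← coe_substAlgHom hy, map_sum]
  refine Finset.sum_congr rfl fun j _ => ?_
  rw [coe_substAlgHom hy, Groth.EtaleDeep.PSInverse.subst_C_mul_X hy]

lemma bijective_subst_of_linear_part (y : σ → MvPowerSeries σ R) (hy0 : ∀ i, constantCoeff (y i) = 0)
    (M : Matrix σ σ R) (hM : IsUnit M.det)
    (hy : ∀ i, (2 : ℕ∞) ≤ (y i - lin M i).order) :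
    Function.Bijective (subst y : MvPowerSeries σ R → MvPowerSeries σ R) := by
  have hys : HasSubst y := hasSubst_of_constantCoeff_zero hy0
  have hlin : ∀ N : Matrix σ σ R, HasSubst (lin N) := fun N =>
    hasSubst_of_constantCoeff_zero (constantCoeff_lin N)
  have hcomp : ∀ N N' : Matrix σ σ R, (fun i => subst (lin N') (lin N i)) = lin (N * N') := by
    intro N N'
    funext i
    rw [subst_lin (hlin N')]
    simp only [lin, Matrix.mul_apply, map_sum, map_mul, Finset.sum_mul, Finset.mul_sum, mul_assoc]
    exact Finset.sum_comm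
  have hone : lin (1 : Matrix σ σ R) = X := by
    funext i
    rw [lin, Finset.sum_eq_single i (fun j _ hj => by simp [hj.symm]) (by simp)]
    simp
  have hbij : Function.Bijective (subst (lin M) : MvPowerSeries σ R → MvPowerSeries σ R) := by
    refine Function.bijective_iff_has_inverse.2 ⟨subst (lin M⁻¹), fun p => ?_, fun p => ?_⟩
    · rw [subst_comp_subst_apply (hlin M) (hlin M⁻¹), hcomp, Matrix.mul_nonsing_inv M hM, hone,
        subst_self, id_eq]
    · rw [subst_comp_subst_apply (hlin M⁻¹) (hlin M), hcomp, Matrix.nonsing_inv_mul M hM, hone,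
        subst_self, id_eq]
  let y' : σ → MvPowerSeries σ R := fun i => ∑ j, C (M⁻¹ i j) * y j
  have hy' : ∀ i, constantCoeff (y' i) = 0 := fun i => by simp [y', hy0]
  have hy's : HasSubst y' := hasSubst_of_constantCoeff_zero hy'
  have hMy : ∀ i, ∑ j, C (M i j) * y' j = y i := by
    intro i
    simp only [y', Finset.mul_sum, ← mul_assoc, ← map_mul]
    rw [Finset.sum_comm]
    simp only [← Finset.sum_mul, ← map_sum, ← Matrix.mul_apply, Matrix.mul_nonsing_inv M hM]
    rw [Finset.sum_eq_single i (fun j _ hj => by simp [hj.symm]) (by simp)]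
    simp
  have hy'X : ∀ i, (2 : ℕ∞) ≤ (y' i - C (1 : R) * X i).order := by
    intro i
    have e : y' i - C (1 : R) * X i = ∑ j, C (M⁻¹ i j) * (y j - lin M j) := by
      simp only [mul_sub, Finset.sum_sub_distrib, y']
      congr 1
      rw [map_one, one_mul]
      have := congrFun (hcomp M⁻¹ M) i
      rw [subst_lin (hlin M), Matrix.nonsing_inv_mul M hM, hone] at this
      exact this.symm
    rw [e]
    refine Finset.sum_induction _ (fun f : MvPowerSeries σ R => (2 : ℕ∞) ≤ f.order)
      (fun f g hf hg => Groth.EtaleDeep.PSInverse.le_order_add' hf hg) (by simp [order_zero])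
      (fun j _ => Groth.EtaleDeep.PSInverse.two_le_order_mul_right (hy j))
  have h2 := Groth.EtaleDeep.PSInverse.bijective_subst y' (fun _ => 1) (fun _ => isUnit_one) hy'X
  have : (subst y : MvPowerSeries σ R → MvPowerSeries σ R) = subst y' ∘ subst (lin M) := by
    funext p
    rw [Function.comp_apply, subst_comp_subst_apply (hlin M) hy's]
    congr 1
    funext i
    rw [subst_lin hy's, hMy]
  rw [this]
  exact h2.comp hbij

omit [Fintype σ] in
lemma coeff_single_one_mul (f g : MvPowerSeries σ R) (j : σ) :
    coeff (Finsupp.single j 1) (f * g) =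
      constantCoeff f * coeff (Finsupp.single j 1) g + coeff (Finsupp.single j 1) f * constantCoeff g := by
  rw [coeff_mul, Finsupp.antidiagonal_single, Finset.sum_map]
  rw [show Finset.HasAntidiagonal.antidiagonal (1 : ℕ) = {(0, 1), (1, 0)} from rfl,
    Finset.sum_insert (by simp), Finset.sum_singleton]
  simp [coeff_zero_eq_constantCoeff_apply]

/-- A system generating the variables modulo the maximal ideal gives a bijective substitution. -/
theorem bijective_subst_of_mem_span [IsLocalRing R] (y : σ → MvPowerSeries σ R)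
    (hy0 : ∀ i, constantCoeff (y i) = 0) (T : Set (MvPowerSeries σ R))
    (hT : ∀ t ∈ T, ∃ r ∈ IsLocalRing.maximalIdeal R, t = C r)
    (hX : ∀ k, X k ∈ Ideal.span (T ∪ Set.range y)) :
    Function.Bijective (subst y : MvPowerSeries σ R → MvPowerSeries σ R) := by
  let M : Matrix σ σ R := Matrix.of fun i j => coeff (Finsupp.single j 1) (y i)
  let π := IsLocalRing.residue R
  have key : ∀ x ∈ Ideal.span (T ∪ Set.range y), π (constantCoeff x) = 0 ∧
      ∃ a : σ → R, ∀ j, π (coeff (Finsupp.single j 1) x) = π (∑ i, a i * M i j) := by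
    intro x hx
    induction hx using Submodule.span_induction with
    | mem x hx =>
      rcases hx with hx | ⟨i, rfl⟩
      · obtain ⟨r, hr, rfl⟩ := hT x hx
        have hr0 : π r = 0 := Ideal.Quotient.eq_zero_iff_mem.2 hr
        refine ⟨by simpa using hr0, 0, fun j => ?_⟩
        rw [coeff_C]
        simp
      · refine ⟨by simp [hy0], Pi.single i 1, fun j => ?_⟩
        rw [Finset.sum_eq_single i (fun k _ hk => by simp [hk]) (by simp)]
        simp [M]
    | zero => exact ⟨by simp, 0, fun j => by simp⟩
    | add x z _ _ hx hz =>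
      obtain ⟨hx0, a, ha⟩ := hx
      obtain ⟨hz0, b, hb⟩ := hz
      exact ⟨by simp [hx0, hz0], a + b, fun j => by simp [ha, hb, add_mul, Finset.sum_add_distrib]⟩
    | smul c x _ hx =>
      obtain ⟨hx0, a, ha⟩ := hx
      refine ⟨by simp [smul_eq_mul, hx0], constantCoeff c • a, fun j => ?_⟩
      rw [smul_eq_mul, coeff_single_one_mul]
      simp [hx0, ha, Finset.mul_sum, mul_assoc]
  choose A hA using fun k => (key (X k) (hX k)).2
  have hAM : π.mapMatrix (Matrix.of A * M) = 1 := by
    ext k j
    have h := hA k j
    rw [RingHom.mapMatrix_apply, Matrix.map_apply, Matrix.mul_apply]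
    simp only [Matrix.of_apply] at h ⊢
    rw [← h, coeff_X, Matrix.one_apply]
    by_cases hkj : k = j
    · subst hkj; simp
    · simp [hkj, Finsupp.single_left_inj, Ne.symm hkj]
  have hdet : IsUnit M.det := by
    have h1 : π (Matrix.of A * M).det = 1 := by rw [RingHom.map_det, hAM, Matrix.det_one]
    rw [Matrix.det_mul, map_mul] at h1
    exact isUnit_of_map_unit π M.det (IsUnit.of_mul_eq_one _ (by rw [mul_comm]; exact h1))
  refine bijective_subst_of_linear_part y hy0 M hdet fun i => ?_
  refine nat_le_order fun e he => ?_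
  have he' : e.degree < 2 := by exact_mod_cast he
  have hcases : e.degree = 0 ∨ e.degree = 1 := by omega
  rcases hcases with h0 | h1
  · rw [Finsupp.degree_eq_zero_iff] at h0
    subst h0
    simp [hy0, constantCoeff_lin, coeff_zero_eq_constantCoeff_apply]
  · obtain ⟨j, rfl⟩ : ∃ j, e = Finsupp.single j 1 := by
      obtain ⟨j, hj⟩ : ∃ j, e j ≠ 0 := by
        by_contra hc
        push Not at hc
        rw [show e = 0 from Finsupp.ext hc, map_zero] at h1
        exact zero_ne_one h1
      have hle : Finsupp.single j 1 ≤ e := Finsupp.single_le_iff.2 (Nat.pos_of_ne_zero hj)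
      refine ⟨j, ?_⟩
      have := congrArg Finsupp.degree (add_tsub_cancel_of_le hle)
      rw [map_add, Finsupp.degree_single, h1] at this
      have h0 : e - Finsupp.single j 1 = 0 := (Finsupp.degree_eq_zero_iff _).1 (by omega)
      exact le_antisymm (tsub_eq_zero_iff_le.1 h0) hle
    rw [map_sub, lin, map_sum, Finset.sum_eq_single j]
    · simp [coeff_single_one_mul, M]
    · intro k _ hk
      simp [coeff_single_one_mul, coeff_X, Finsupp.single_left_inj, Ne.symm hk]
    · simp

end Groth.Ega4b.PSRsop
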