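import Groth.Prelude
import Mathlib

/-!
# Generators of the ideal of a quasi-regular sequence
-/

set_option autoImplicit false
set_option linter.style.haveILetI false

universe u

open MvPolynomial Matrix

namespace Groth.Ega4b.QReg

variable {A : Type u} [CommRing A]

lemma coeff_mem {n : ℕ} {f : Fin n → A} (hf : CAlgX.IsQuasiRegular f) (a : Fin n → A)
    (ha : ∑ i, a i * f i ∈ Ideal.span (Set.range f) ^ 2) (i : Fin n) : a i ∈ Ideal.span (Set.range f) := by
  classical
  have h := hf 1 (∑ j, C (a j) * X j)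
    (IsHomogeneous.sum _ _ _ fun j _ => by
      simpa using (isHomogeneous_C (Fin n) (a j)).mul (isHomogeneous_X A j))
    (by simpa using ha) (Finsupp.single i 1)
  simpa [coeff_sum, coeff_C_mul, coeff_X', Finsupp.single_left_inj] using h

theorem isQuasiRegular_of_span_eq {n : ℕ} (f f' : Fin n → A) (hf : CAlgX.IsQuasiRegular f)
    (h : Ideal.span (Set.range f') = Ideal.span (Set.range f)) : CAlgX.IsQuasiRegular f' := by
  classical
  let J := Ideal.span (Set.range f)
  let q : A →+* A ⧸ J := Ideal.Quotient.mk J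
  have hM : ∀ i, ∃ m : Fin n → A, ∑ j, m j * f j = f' i := fun i =>
    Ideal.mem_span_range_iff_exists_fun.1 (h ▸ Ideal.subset_span ⟨i, rfl⟩)
  have hN : ∀ j, ∃ m : Fin n → A, ∑ i, m i * f' i = f j := fun j =>
    Ideal.mem_span_range_iff_exists_fun.1 (h.symm ▸ Ideal.subset_span ⟨j, rfl⟩)
  choose M hM using hM
  choose N hN using hN
  let M' : Matrix (Fin n) (Fin n) (A ⧸ J) := (Matrix.of M).map q
  let N' : Matrix (Fin n) (Fin n) (A ⧸ J) := (Matrix.of N).map q
  have hNM : N' * M' = 1 := by
    ext j l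
    have h0 : ∑ l, ((Matrix.of N * Matrix.of M - 1 : Matrix (Fin n) (Fin n) A) j l) * f l = 0 := by
      show ((Matrix.of N * Matrix.of M - 1 : Matrix (Fin n) (Fin n) A) *ᵥ f) j = 0
      rw [sub_mulVec, one_mulVec, ← mulVec_mulVec, Pi.sub_apply, sub_eq_zero]
      rw [show Matrix.of M *ᵥ f = f' from funext hM]
      exact hN j
    have h1 : (Matrix.of N * Matrix.of M - 1 : Matrix (Fin n) (Fin n) A) j l ∈ J :=
      coeff_mem hf _ (by rw [h0]; exact zero_mem _) l
    rw [Matrix.sub_apply, ← Ideal.Quotient.eq] at h1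
    have h2 : (N' * M') j l = q ((Matrix.of N * Matrix.of M) j l) := by
      simp [N', M', Matrix.mul_apply]
    rw [h2]
    refine h1.trans ?_
    rcases eq_or_ne j l with rfl | hne
    · simp
    · simp [Matrix.one_apply_ne hne]
  have hMN : M' * N' = 1 := mul_eq_one_comm.1 hNM
  intro d P hP hPJ e
  rw [h] at hPJ ⊢
  let S : MvPolynomial (Fin n) A →ₐ[A] MvPolynomial (Fin n) A := aeval fun i => ∑ l, C (M i l) * X l
  have hev : ∀ (P : MvPolynomial (Fin n) A), eval f (S P) = eval f' P := by
    intro P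
    induction P using MvPolynomial.induction_on with
    | C a => simp [S]
    | add p q hp hq => simp [map_add, hp, hq]
    | mul_X p i hp =>
      rw [map_mul, map_mul, map_mul, hp]
      congr 1
      simp [S, hM i]
  have hhom : (S P).IsHomogeneous d := by
    have := hP.aeval (fun i => ∑ l, C (M i l) * X l) (n := 1) (fun i =>
      IsHomogeneous.sum _ _ _ fun l _ => by simpa using (isHomogeneous_C _ (M i l)).mul (isHomogeneous_X A l))
    rwa [one_mul] at this
  have h0 : MvPolynomial.map q (S P) = 0 := by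
    ext e
    rw [coeff_map, coeff_zero]
    exact Ideal.Quotient.eq_zero_iff_mem.mpr (hf d _ hhom (by rw [hev]; exact hPJ) e)
  let T : Matrix (Fin n) (Fin n) (A ⧸ J) → (MvPolynomial (Fin n) (A ⧸ J) →ₐ[A ⧸ J] MvPolynomial (Fin n) (A ⧸ J)) :=
    fun K => aeval fun i => ∑ l, C (K i l) * X l
  have hS : ∀ P, MvPolynomial.map q (S P) = T M' (MvPolynomial.map q P) := by
    intro P
    induction P using MvPolynomial.induction_on with
    | C a => simp [S, T]
    | add p r hp hr => simp [map_add, hp, hr]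
    | mul_X p i hp =>
      rw [map_mul, map_mul, map_mul, map_mul, hp]
      congr 1
      simp [S, T, M']
  have hTT : (T N').comp (T M') = AlgHom.id _ _ := by
    refine MvPolynomial.algHom_ext fun i => ?_
    simp only [AlgHom.comp_apply, T, aeval_X, map_sum, map_mul, aeval_C, AlgHom.id_apply,
      MvPolynomial.algebraMap_eq, Finset.mul_sum]
    rw [Finset.sum_comm]
    calc (∑ m, ∑ l, C (M' i l) * (C (N' l m) * X m) : MvPolynomial (Fin n) (A ⧸ J))
        = ∑ m, C ((M' * N') i m) * X m := Finset.sum_congr rfl fun m _ => by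
          simp [Matrix.mul_apply, map_sum, Finset.sum_mul, mul_assoc]
      _ = X i := by
          rw [hMN, Finset.sum_eq_single i (fun m _ hm => by simp [Matrix.one_apply_ne hm.symm]) (by simp)]
          simp
  have h3 : MvPolynomial.map q P = 0 := by
    rw [← AlgHom.id_apply (R := A ⧸ J) (MvPolynomial.map q P), ← hTT, AlgHom.comp_apply, ← hS, h0, map_zero]
  exact Ideal.Quotient.eq_zero_iff_mem.1 (by rw [← coeff_map]; exact (congrArg (coeff e) h3).trans (coeff_zero e))

variable (I : Ideal A)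

lemma toCotangent_span_eq_top {m : ℕ} (f : Fin m → I) (h : Ideal.span (Set.range fun i => (f i : A)) = I) :
    Submodule.span (A ⧸ I) (Set.range fun i => I.toCotangent (f i)) = ⊤ := by
  refine eq_top_iff.2 fun y _ => ?_
  obtain ⟨⟨x, hx⟩, rfl⟩ := Ideal.toCotangent_surjective I y
  obtain ⟨c, hc⟩ := Ideal.mem_span_range_iff_exists_fun.1 (h.symm ▸ hx : x ∈ Ideal.span (Set.range fun i => (f i : A)))
  have h1 : (⟨x, hx⟩ : I) = ∑ i, c i • f i := by ext; simp [hc]
  rw [h1, map_sum]
  refine sum_mem fun i _ => ?_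
  rw [map_smul, ← algebraMap_smul (A ⧸ I) (c i)]
  exact Submodule.smul_mem _ _ (Submodule.subset_span ⟨i, rfl⟩)

lemma linearIndependent_toCotangent {m : ℕ} (f : Fin m → I) (hf : CAlgX.IsQuasiRegular fun i => (f i : A))
    (h : Ideal.span (Set.range fun i => (f i : A)) = I) :
    LinearIndependent (A ⧸ I) (fun i => I.toCotangent (f i)) := by
  refine Fintype.linearIndependent_iff.2 fun a ha i => ?_
  choose b hb using fun i => Ideal.Quotient.mk_surjective (a i)
  have h1 : I.toCotangent (∑ i, b i • f i) = 0 := by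
    rw [map_sum, ← ha]
    refine Finset.sum_congr rfl fun i _ => ?_
    rw [map_smul, ← algebraMap_smul (A ⧸ I) (b i), Ideal.Quotient.algebraMap_eq, hb]
  rw [Ideal.toCotangent_eq_zero] at h1
  have h2 : (∑ i, b i * (f i : A)) ∈ Ideal.span (Set.range fun i => (f i : A)) ^ 2 := by
    rw [h]; simpa using h1
  rw [← hb i, Ideal.Quotient.eq_zero_iff_mem]
  exact h ▸ coeff_mem hf b h2 i

theorem isQuasiRegular_and_span_iff [IsLocalRing A] (hI : I ≤ IsLocalRing.maximalIdeal A)
    (hq : ∃ (r : ℕ) (g : Fin r → A), CAlgX.IsQuasiRegular g ∧ Ideal.span (Set.range g) = I)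
    {m : ℕ} (f : Fin m → I) :
    (CAlgX.IsQuasiRegular (fun i => (f i : A)) ∧ Ideal.span (Set.range fun i => (f i : A)) = I) ↔
      (LinearIndependent (A ⧸ I) (fun i => I.toCotangent (f i)) ∧
        Submodule.span (A ⧸ I) (Set.range fun i => I.toCotangent (f i)) = ⊤) := by
  refine ⟨fun ⟨hf, h⟩ => ⟨linearIndependent_toCotangent I f hf h, toCotangent_span_eq_top I f h⟩,
    fun ⟨hli, hsp⟩ => ?_⟩
  classical
  obtain ⟨r, g, hg, hgI⟩ := hq
  have hIfg : I.FG := ⟨(Finset.univ.image g), by rw [Finset.coe_image, Finset.coe_univ, Set.image_univ]; exact hgI⟩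
  have hspan : Ideal.span (Set.range fun i => (f i : A)) = I := by
    refine le_antisymm (Ideal.span_le.2 (by rintro _ ⟨i, rfl⟩; exact (f i).2)) ?_
    refine Submodule.le_of_le_smul_of_le_jacobson_bot hIfg
      (hI.trans (IsLocalRing.maximalIdeal_le_jacobson ⊥)) fun x hx => ?_
    obtain ⟨c, hc⟩ := (Submodule.mem_span_range_iff_exists_fun (A ⧸ I)).1
      (hsp ▸ Submodule.mem_top : I.toCotangent ⟨x, hx⟩ ∈ _)
    choose b hb using fun i => Ideal.Quotient.mk_surjective (c i)
    have h1 : I.toCotangent (⟨x, hx⟩ - ∑ i, b i • f i) = 0 := by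
      rw [map_sub, map_sum, ← hc, sub_eq_zero]
      refine Finset.sum_congr rfl fun i _ => ?_
      rw [map_smul, ← algebraMap_smul (A ⧸ I) (b i), Ideal.Quotient.algebraMap_eq, hb]
    rw [Ideal.toCotangent_eq_zero] at h1
    have h2 : x - ∑ i, b i * (f i : A) ∈ I • I := by
      rw [smul_eq_mul, ← pow_two]; simpa using h1
    rw [← sub_add_cancel x (∑ i, b i * (f i : A))]
    rw [add_comm]
    exact Submodule.add_mem_sup (Ideal.sum_mem _ fun i _ =>
      Ideal.mul_mem_left _ _ (Ideal.subset_span ⟨i, rfl⟩)) h2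
  haveI : Nontrivial (A ⧸ I) := Ideal.Quotient.nontrivial_iff.2 fun h =>
    (IsLocalRing.maximalIdeal.isMaximal A).ne_top (top_le_iff.1 (h ▸ hI))
  let g' : Fin r → I := fun i => ⟨g i, hgI ▸ Ideal.subset_span ⟨i, rfl⟩⟩
  have hmr : r = m := by
    simpa using Fintype.card_congr
      ((Module.Basis.mk (linearIndependent_toCotangent I g' hg hgI) (toCotangent_span_eq_top I g' hgI).ge).indexEquiv
        (Module.Basis.mk hli hsp.ge))
  subst hmr
  exact ⟨isQuasiRegular_of_span_eq g _ hg (hspan.trans hgI.symm), hspan⟩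

end Groth.Ega4b.QReg
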