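import Groth.Agent.Ega4Algebra2.RegSeq
import Mathlib

/-!
# Regular sequences on subquotients, relative to a multiplicative set (elementwise calculus)
-/

set_option linter.style.haveILetI false

universe u v

namespace Groth.Ega4b

open RingTheory.Sequence
open scoped Pointwise

variable {A : Type u} [CommRing A] {M : Type v} [AddCommGroup M] [Module A M]

/-- subquotient -/
abbrev Piece (X Y : Submodule A M) : Type v := X ⧸ Y.comap X.subtype

/-- `gs` is regular on `X/K` up to multiplication by elements of `S` -/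
def RegS (S : Submonoid A) : List A → Submodule A M → Submodule A M → Prop
  | [], _, _ => True
  | g :: gs, X, K => (∀ x ∈ X, g • x ∈ K → ∃ s ∈ S, s • x ∈ K) ∧ RegS S gs X (K ⊔ g • X)

lemma pow_le_mono {I J : Ideal A} (h : I ≤ J) (n : ℕ) (X : Submodule A M) : I ^ n • X ≤ J ^ n • X :=
  Submodule.smul_mono_left (Ideal.pow_right_mono h n)

lemma pow_le_pow_smul {I : Ideal A} {m n : ℕ} (h : m ≤ n) (X : Submodule A M) : I ^ n • X ≤ I ^ m • X :=
  Submodule.smul_mono_left (Ideal.pow_le_pow_right h)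

lemma ofList_cons_pow_succ_le (g : A) (gs : List A) (a : ℕ) (X : Submodule A M) :
    Ideal.ofList (g :: gs) ^ (a + 1) • X ≤
      Ideal.ofList gs ^ (a + 1) • X ⊔ g • (Ideal.ofList (g :: gs) ^ a • X) := by
  rw [Ideal.ofList_cons, sup_comm (Ideal.span {g})]
  refine (Submodule.smul_mono_left (span_pow_succ_le _ g a)).trans (le_of_eq ?_)
  rw [Submodule.sup_smul, Submodule.mul_smul, Submodule.ideal_span_singleton_smul]

lemma ofList_le_cons (g : A) (gs : List A) : Ideal.ofList gs ≤ Ideal.ofList (g :: gs) := by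
  rw [Ideal.ofList_cons]; exact le_sup_right

lemma self_mem_ofList_cons (g : A) (gs : List A) : g ∈ Ideal.ofList (g :: gs) :=
  Ideal.subset_span List.mem_cons_self

lemma smul_mem_pow_succ {g : A} {gs : List A} {a : ℕ} {X : Submodule A M} {x : M}
    (hx : x ∈ Ideal.ofList (g :: gs) ^ a • X) : g • x ∈ Ideal.ofList (g :: gs) ^ (a + 1) • X := by
  rw [pow_succ', Submodule.mul_smul]
  exact Submodule.smul_mem_smul (self_mem_ofList_cons g gs) hx

lemma ideal_smul_pointwise_comm (I : Ideal A) (g : A) (X : Submodule A M) :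
    I • (g • X) = g • (I • X) := by
  rw [← Submodule.ideal_span_singleton_smul g X, ← Submodule.mul_smul, mul_comm, Submodule.mul_smul,
    Submodule.ideal_span_singleton_smul]

theorem exists_smul_mem_pow_smul {S : Submonoid A} : ∀ {gs : List A} {X K : Submodule A M}, K ≤ X →
    RegS S gs X K → ∀ (a : ℕ) (x : M), x ∈ K → x ∈ Ideal.ofList gs ^ a • X →
      ∃ s ∈ S, s • x ∈ Ideal.ofList gs ^ a • K := by
  intro gs
  induction gs with
  | nil =>
    intro X K _ _ a x hxK hx
    refine ⟨1, one_mem S, ?_⟩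
    rcases a with _ | a
    · simpa using hxK
    · simp [pow_succ] at hx ⊢; exact hx
  | cons g gs ih =>
    intro X K hKX hR a
    have hgX : g • X ≤ X := fun y hy => by
      obtain ⟨x, hx, rfl⟩ := (Submodule.mem_smul_pointwise_iff_exists _ _ _).mp hy
      exact X.smul_mem _ hx
    induction a with
    | zero => intro x hxK _; exact ⟨1, one_mem S, by simpa using hxK⟩
    | succ a iha =>
      intro x hxK hx
      obtain ⟨z, hz, w, hw, rfl⟩ := Submodule.mem_sup.mp (ofList_cons_pow_succ_le g gs a X hx)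
      obtain ⟨u, hu, rfl⟩ := (Submodule.mem_smul_pointwise_iff_exists _ _ _).mp hw
      have hzK : z ∈ K ⊔ g • X := by
        have : z = (z + g • u) + g • (-u) := by rw [smul_neg]; abel
        rw [this]
        exact Submodule.add_mem_sup hxK
          (Submodule.smul_mem_pointwise_smul _ g _ (neg_mem (Submodule.smul_le_right hu)))
      obtain ⟨s, hs, hsz⟩ := ih (sup_le hKX hgX) hR.2 (a + 1) z hzK hz
      rw [Submodule.smul_sup, ideal_smul_pointwise_comm] at hsz
      obtain ⟨k', hk', w', hw', hkw⟩ := Submodule.mem_sup.mp hsz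
      obtain ⟨v, hv, rfl⟩ := (Submodule.mem_smul_pointwise_iff_exists _ _ _).mp hw'
      have hvu : v + s • u ∈ Ideal.ofList (g :: gs) ^ a • X :=
        add_mem (pow_le_pow_smul a.le_succ _ (pow_le_mono (ofList_le_cons g gs) _ _ hv))
          (Submodule.smul_mem _ s hu)
      have hgK : g • (v + s • u) ∈ K := by
        have : g • (v + s • u) = s • (z + g • u) - k' := by
          rw [smul_add s, ← hkw, smul_add, smul_comm g s]; abel
        rw [this]
        exact sub_mem (Submodule.smul_mem _ _ hxK) (Submodule.smul_le_right hk')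
      obtain ⟨t, ht, htK⟩ := hR.1 _ (Submodule.smul_le_right hvu) hgK
      obtain ⟨t', ht', htt⟩ := iha _ htK (Submodule.smul_mem _ t hvu)
      refine ⟨t' * t * s, mul_mem (mul_mem ht' ht) hs, ?_⟩
      have : (t' * t * s) • (z + g • u) = (t' * t) • k' + g • (t' • t • (v + s • u)) := by
        rw [mul_smul (t' * t) s, smul_add s, ← hkw, mul_smul t' t, mul_smul t' t,
          smul_comm g t', smul_comm g t, smul_add g v, smul_comm g s, ← smul_add t', ← smul_add t]
        congr 2; abel
      rw [this]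
      exact add_mem (Submodule.smul_mem _ _ (pow_le_mono (ofList_le_cons g gs) _ _ hk'))
        (smul_mem_pow_succ htt)

theorem exists_smul_mem_of_smul_mem {S : Submonoid A} {g : A} {gs : List A} {X K : Submodule A M}
    (hKX : K ≤ X) (hR : RegS S (g :: gs) X K) (a : ℕ) {w : M} (hw : w ∈ X)
    (h : g • w ∈ K ⊔ Ideal.ofList (g :: gs) ^ (a + 1) • X) :
    ∃ s ∈ S, s • w ∈ K ⊔ Ideal.ofList (g :: gs) ^ a • X := by
  obtain ⟨k, hk, y, hy, hky⟩ := Submodule.mem_sup.mp h
  obtain ⟨z, hz, y', hy', rfl⟩ := Submodule.mem_sup.mp (ofList_cons_pow_succ_le g gs a X hy)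
  obtain ⟨u, hu, rfl⟩ := (Submodule.mem_smul_pointwise_iff_exists _ _ _).mp hy'
  have hgX : g • X ≤ X := fun y hy => by
    obtain ⟨x, hx, rfl⟩ := (Submodule.mem_smul_pointwise_iff_exists _ _ _).mp hy
    exact X.smul_mem _ hx
  have hzK : z ∈ K ⊔ g • X := by
    have : z = (-k) + g • (w - u) := by rw [smul_sub, ← hky]; abel
    rw [this]
    exact Submodule.add_mem_sup (neg_mem hk)
      (Submodule.smul_mem_pointwise_smul _ g _ (sub_mem hw (Submodule.smul_le_right hu)))
  obtain ⟨s, hs, hsz⟩ := exists_smul_mem_pow_smul (sup_le hKX hgX) hR.2 (a + 1) z hzK hz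
  rw [Submodule.smul_sup, ideal_smul_pointwise_comm] at hsz
  obtain ⟨k', hk', w', hw', hkw⟩ := Submodule.mem_sup.mp hsz
  obtain ⟨v, hv, rfl⟩ := (Submodule.mem_smul_pointwise_iff_exists _ _ _).mp hw'
  have hgK : g • (s • (w - u) - v) ∈ K := by
    have : g • (s • (w - u) - v) = s • k + k' := by
      have h1 : g • (w - u) = k + z := by rw [smul_sub, ← hky]; abel
      rw [smul_sub g, smul_comm g s, h1, smul_add s k z, ← hkw]; abel
    rw [this]
    exact add_mem (Submodule.smul_mem _ _ hk) (Submodule.smul_le_right hk')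
  obtain ⟨t, ht, htK⟩ :=
    hR.1 _ (sub_mem (X.smul_mem _ (sub_mem hw (Submodule.smul_le_right hu))) (Submodule.smul_le_right hv)) hgK
  refine ⟨t * s, mul_mem ht hs, ?_⟩
  have : (t * s) • w = t • (s • (w - u) - v) + t • (v + s • u) := by
    rw [mul_smul, ← smul_add, smul_sub]; congr 1; abel
  rw [this]
  exact Submodule.add_mem_sup htK (Submodule.smul_mem _ _
    (add_mem (pow_le_pow_smul a.le_succ _ (pow_le_mono (ofList_le_cons g gs) _ _ hv))
      (Submodule.smul_mem _ s hu)))

lemma mem_of_regS_bot {gs : List A} {X K : Submodule A M} (hKX : K ≤ X) (hR : RegS ⊥ gs X K) {a : ℕ}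
    {x : M} (hxK : x ∈ K) (hx : x ∈ Ideal.ofList gs ^ a • X) : x ∈ Ideal.ofList gs ^ a • K := by
  obtain ⟨s, hs, h⟩ := exists_smul_mem_pow_smul hKX hR a x hxK hx
  rwa [Submonoid.mem_bot.mp hs, one_smul] at h

lemma div_of_regS_bot {g : A} {gs : List A} {X K : Submodule A M} (hKX : K ≤ X)
    (hR : RegS ⊥ (g :: gs) X K) {a : ℕ} {w : M} (hw : w ∈ X)
    (h : g • w ∈ K ⊔ Ideal.ofList (g :: gs) ^ (a + 1) • X) :
    w ∈ K ⊔ Ideal.ofList (g :: gs) ^ a • X := by
  obtain ⟨s, hs, h⟩ := exists_smul_mem_of_smul_mem hKX hR a hw h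
  rwa [Submonoid.mem_bot.mp hs, one_smul] at h

/-- the projection of subquotients -/
def pieceProj (g : A) (X K : Submodule A M) : Piece X K →ₗ[A] Piece X (K ⊔ g • X) :=
  Submodule.mapQ _ _ LinearMap.id (by rw [Submodule.comap_id]; exact Submodule.comap_mono le_sup_left)

lemma pieceProj_surjective (g : A) (X K : Submodule A M) : Function.Surjective (pieceProj g X K) :=
  fun q => by
    obtain ⟨x, rfl⟩ := Submodule.Quotient.mk_surjective _ q
    exact ⟨Submodule.Quotient.mk x, rfl⟩

lemma ker_pieceProj (g : A) (X K : Submodule A M) :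
    g • (⊤ : Submodule A (Piece X K)) = LinearMap.ker (pieceProj g X K) := by
  refine le_antisymm ?_ ?_
  · intro q hq
    obtain ⟨q, -, rfl⟩ := (Submodule.mem_smul_pointwise_iff_exists _ _ _).mp hq
    obtain ⟨x, rfl⟩ := Submodule.Quotient.mk_surjective _ q
    rw [LinearMap.mem_ker, ← Submodule.Quotient.mk_smul, pieceProj, Submodule.mapQ_apply,
      Submodule.Quotient.mk_eq_zero]
    exact Submodule.mem_sup_right (Submodule.smul_mem_pointwise_smul _ g _ x.2)
  · intro q hq
    obtain ⟨x, rfl⟩ := Submodule.Quotient.mk_surjective _ q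
    rw [LinearMap.mem_ker, pieceProj, Submodule.mapQ_apply, Submodule.Quotient.mk_eq_zero] at hq
    obtain ⟨k, hk, y, hy, hky⟩ := Submodule.mem_sup.mp hq
    obtain ⟨y, hy', rfl⟩ := (Submodule.mem_smul_pointwise_iff_exists _ _ _).mp hy
    refine (Submodule.mem_smul_pointwise_iff_exists _ _ _).mpr
      ⟨Submodule.Quotient.mk ⟨y, hy'⟩, trivial, ?_⟩
    rw [← Submodule.Quotient.mk_smul, Submodule.Quotient.eq]
    show g • y - (x : M) ∈ K
    have : g • y - (x : M) = -k := by
      rw [show (x : M) = k + g • y from hky.symm]; abel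
    rw [this]; exact neg_mem hk

/-- `QuotSMulTop` of a subquotient -/
noncomputable def quotSMulTopPiece (g : A) (X K : Submodule A M) :
    QuotSMulTop g (Piece X K) ≃ₗ[A] Piece X (K ⊔ g • X) :=
  (Submodule.quotEquivOfEq (g • (⊤ : Submodule A (Piece X K))) (LinearMap.ker (pieceProj g X K))
    (ker_pieceProj g X K)).trans
    ((pieceProj g X K).quotKerEquivOfSurjective (pieceProj_surjective g X K))

theorem regS_bot_iff : ∀ {gs : List A} {X K : Submodule A M},
    RegS ⊥ gs X K ↔ IsWeaklyRegular (Piece X K) gs := by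
  intro gs
  induction gs with
  | nil => intro X K; exact ⟨fun _ => .nil A _, fun _ => trivial⟩
  | cons g gs ih =>
    intro X K
    rw [isWeaklyRegular_cons_iff, (quotSMulTopPiece g X K).isWeaklyRegular_congr, RegS, ih]
    refine and_congr_left' ⟨fun h => IsSMulRegular.of_right_eq_zero_of_smul fun q hq => ?_, fun h x hx hgx => ?_⟩
    · obtain ⟨x, rfl⟩ := Submodule.Quotient.mk_surjective _ q
      rw [← Submodule.Quotient.mk_smul, Submodule.Quotient.mk_eq_zero] at hq
      obtain ⟨s, hs, hsx⟩ := h x x.2 hq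
      rw [Submonoid.mem_bot.mp hs, one_smul] at hsx
      exact (Submodule.Quotient.mk_eq_zero _).mpr hsx
    · refine ⟨1, one_mem _, ?_⟩
      rw [one_smul]
      have : (Submodule.Quotient.mk ⟨x, hx⟩ : Piece X K) = 0 := by
        apply h
        show g • (Submodule.Quotient.mk ⟨x, hx⟩ : Piece X K) = g • (0 : Piece X K)
        rw [smul_zero]
        exact (Submodule.Quotient.mk_eq_zero _).mpr hgx
      exact (Submodule.Quotient.mk_eq_zero (K.comap X.subtype)).mp this

theorem regS_of_forall {S : Submonoid A} : ∀ {gs : List A} {X K : Submodule A M},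
    (∀ (i : ℕ) (hi : i < gs.length), ∀ x ∈ X, gs[i] • x ∈ K ⊔ Ideal.ofList (gs.take i) • X →
      ∃ s ∈ S, s • x ∈ K ⊔ Ideal.ofList (gs.take i) • X) → RegS S gs X K := by
  intro gs
  induction gs with
  | nil => intros; trivial
  | cons g gs ih =>
    intro X K H
    refine ⟨fun x hx hgx => ?_, ih fun i hi x hx hgx => ?_⟩
    · simpa using H 0 (Nat.succ_pos _) x hx (by simpa using hgx)
    · have e : K ⊔ Ideal.ofList ((g :: gs).take (i + 1)) • X =
          K ⊔ g • X ⊔ Ideal.ofList (gs.take i) • X := by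
        rw [List.take_succ_cons, Ideal.ofList_cons, Submodule.sup_smul,
          Submodule.ideal_span_singleton_smul, sup_assoc]
      rw [← e]
      exact H (i + 1) (Nat.succ_lt_succ hi) x hx (by rw [e]; exact hgx)

/-- elements of `X` that are locally in the next step of the filtration are in it; and `gs` is
regular -/
theorem regS_bot_of_locally (𝔖 : Set (Submonoid A)) : ∀ {gs : List A} {X K : Submodule A M}, K ≤ X →
    (∀ S ∈ 𝔖, RegS S gs X K) →
    (∀ x ∈ X, (∀ S ∈ 𝔖, ∃ s ∈ S, s • x ∈ K ⊔ Ideal.ofList gs • X) → x ∈ K ⊔ Ideal.ofList gs • X) →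
    (∀ (J : Ideal A) (K' : Submodule A M), (∀ r ∈ J, r ∈ Ideal.ofList gs) → ∀ x : M,
      (∀ a : ℕ, x ∈ K' ⊔ J ^ a • X) → x ∈ K') →
    RegS ⊥ gs X K ∧ ∀ a : ℕ, ∀ x ∈ K ⊔ Ideal.ofList gs ^ a • X,
      (∀ S ∈ 𝔖, ∃ s ∈ S, s • x ∈ K ⊔ Ideal.ofList gs ^ (a + 1) • X) →
        x ∈ K ⊔ Ideal.ofList gs ^ (a + 1) • X := by
  intro gs
  induction gs with
  | nil =>
    intro X K hKX _ h0 _
    refine ⟨trivial, fun a x hx hloc => ?_⟩
    rcases a with _ | a
    · simpa using h0 x (sup_le hKX Submodule.smul_le_right hx) (by simpa using hloc)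
    · simpa [pow_succ] using hx
  | cons g gs ih =>
    intro X K hKX hloc h0 hkrull
    have hgX : g • X ≤ X := fun y hy => by
      obtain ⟨x, hx, rfl⟩ := (Submodule.mem_smul_pointwise_iff_exists _ _ _).mp hy
      exact X.smul_mem _ hx
    have e1 : K ⊔ g • X ⊔ Ideal.ofList gs • X = K ⊔ Ideal.ofList (g :: gs) • X := by
      rw [Ideal.ofList_cons, Submodule.sup_smul, Submodule.ideal_span_singleton_smul, sup_assoc]
    have hKX' : K ⊔ g • X ≤ X := sup_le hKX hgX
    obtain ⟨hreg', htf'⟩ := ih hKX' (fun S hS => (hloc S hS).2) (by rw [e1]; exact h0)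
      (fun J K' hJ => hkrull J K' fun r hr => ofList_le_cons g gs (hJ r hr))
    set G := Ideal.ofList (g :: gs)
    have htf : ∀ a : ℕ, ∀ x ∈ K ⊔ G ^ a • X, (∀ S ∈ 𝔖, ∃ s ∈ S, s • x ∈ K ⊔ G ^ (a + 1) • X) →
        x ∈ K ⊔ G ^ (a + 1) • X := by
      intro a
      induction a with
      | zero =>
        intro x hx hl
        simpa using h0 x (sup_le hKX Submodule.smul_le_right hx) (by simpa using hl)
      | succ a iha =>
        intro x hx hl
        obtain ⟨k, hk, y, hy, rfl⟩ := Submodule.mem_sup.mp hx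
        obtain ⟨z, hz, y', hy', rfl⟩ := Submodule.mem_sup.mp (ofList_cons_pow_succ_le g gs a X hy)
        clear hy
        obtain ⟨y, hy, rfl⟩ := (Submodule.mem_smul_pointwise_iff_exists _ _ _).mp hy'
        have hyX : y ∈ X := Submodule.smul_le_right hy
        have hV : K ⊔ G ^ (a + 1 + 1) • X ≤ K ⊔ g • X ⊔ Ideal.ofList gs ^ (a + 1 + 1) • X := by
          refine sup_le (le_sup_of_le_left le_sup_left) ((ofList_cons_pow_succ_le g gs (a + 1) X).trans
            (sup_le le_sup_right (le_sup_of_le_left (le_sup_of_le_right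
              (smul_mono_right g Submodule.smul_le_right)))))
        have hz2 : z ∈ K ⊔ g • X ⊔ Ideal.ofList gs ^ (a + 1 + 1) • X := by
          refine htf' (a + 1) z (Submodule.mem_sup_right hz) fun S hS => ?_
          obtain ⟨s, hs, hsx⟩ := hl S hS
          refine ⟨s, hs, ?_⟩
          have : s • z = s • (k + (z + g • y)) - (s • k + g • (s • y)) := by
            rw [smul_comm g s, smul_add, smul_add]; abel
          rw [this]
          exact sub_mem (hV hsx) (Submodule.mem_sup_left (Submodule.add_mem_sup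
            (K.smul_mem _ hk) (Submodule.smul_mem_pointwise_smul _ g _ (X.smul_mem _ hyX))))
        obtain ⟨k', hk', z', hz', hzz⟩ := Submodule.mem_sup.mp hz2
        have hk'' : k' ∈ Ideal.ofList gs ^ (a + 1) • (K ⊔ g • X) := by
          refine mem_of_regS_bot hKX' hreg' hk' ?_
          have : k' = z - z' := by rw [← hzz]; abel
          rw [this]
          exact sub_mem hz (pow_le_pow_smul (a + 1).le_succ _ hz')
        have hzU : z ∈ K ⊔ G ^ (a + 1 + 1) • X := by
          rw [← hzz]
          refine add_mem ?_ (Submodule.mem_sup_right (pow_le_mono (ofList_le_cons g gs) _ _ hz'))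
          rw [Submodule.smul_sup, ideal_smul_pointwise_comm] at hk''
          obtain ⟨k₁, hk₁, w, hw, rfl⟩ := Submodule.mem_sup.mp hk''
          obtain ⟨v, hv, rfl⟩ := (Submodule.mem_smul_pointwise_iff_exists _ _ _).mp hw
          exact Submodule.add_mem_sup (Submodule.smul_le_right hk₁)
            (smul_mem_pow_succ (pow_le_mono (ofList_le_cons g gs) _ _ hv))
        have hgy : g • y ∈ K ⊔ G ^ (a + 1 + 1) • X → k + (z + g • y) ∈ K ⊔ G ^ (a + 1 + 1) • X :=
          fun h => add_mem (Submodule.mem_sup_left hk) (add_mem hzU h)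
        apply hgy
        have hy1 : y ∈ K ⊔ G ^ (a + 1) • X := by
          refine iha y (Submodule.mem_sup_right hy) fun S hS => ?_
          obtain ⟨s, hs, hsx⟩ := hl S hS
          have hsy : g • (s • y) ∈ K ⊔ G ^ (a + 1 + 1) • X := by
            have : g • (s • y) = s • (k + (z + g • y)) - (s • k + s • z) := by
              rw [smul_comm g s, smul_add, smul_add]; abel
            rw [this]
            exact sub_mem hsx (add_mem (Submodule.mem_sup_left (K.smul_mem _ hk))
              (Submodule.smul_mem _ _ hzU))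
          obtain ⟨t, ht, hty⟩ := exists_smul_mem_of_smul_mem hKX (hloc S hS) (a + 1) (X.smul_mem _ hyX) hsy
          exact ⟨t * s, mul_mem ht hs, by rwa [mul_smul]⟩
        obtain ⟨k₂, hk₂, v, hv, rfl⟩ := Submodule.mem_sup.mp hy1
        rw [smul_add]
        exact Submodule.add_mem_sup (K.smul_mem _ hk₂) (smul_mem_pow_succ hv)
    refine ⟨⟨fun x hx hgx => ⟨1, one_mem _, ?_⟩, hreg'⟩, htf⟩
    rw [one_smul]
    refine hkrull G K (fun r hr => hr) x fun a => ?_
    induction a with
    | zero => exact Submodule.mem_sup_right (by simpa using hx)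
    | succ a iha =>
      refine htf a x iha fun S hS => ?_
      obtain ⟨s, hs, hsx⟩ := (hloc S hS).1 x hx hgx
      exact ⟨s, hs, Submodule.mem_sup_left hsx⟩

end Groth.Ega4b
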