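import Groth.Agent.Ega4Algebra2.StrictResidue
import Mathlib

/-! Branches of the strict henselization seen by intermediate rings, through residues. -/

set_option autoImplicit false
universe u

open IsLocalRing EGA4loc Polynomial

namespace Groth.Ega4Algebra2.StrictBranch

open GaloisStage StrictResidue

variable {A S : Type u} [CommRing A] [HenselianLocalRing A] [CommRing S] [IsLocalRing S] [Algebra A S]
  [IsLocalHom (algebraMap A S)] [Hensel.IsStrictHenselization A S]

theorem isIntegral_subalgebra (D : Subalgebra A S) : Algebra.IsIntegral A D := by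
  haveI := StrictResidue.isIntegral (A := A) (S := S)
  exact ⟨fun d => (isIntegral_algHom_iff D.val Subtype.val_injective).1 (Algebra.IsIntegral.isIntegral (d : S))⟩

/-- Intermediate rings of the strict henselization are henselian local rings dominated by it. -/
theorem henselian (D : Subalgebra A S) : HenselianLocalRing D ∧ IsLocalHom (algebraMap D S) := by
  haveI := isIntegral_subalgebra D
  exact Groth.Hensel1.henselian_of_isIntegral_subalgebra A S D

/-- The residues of an intermediate ring, an intermediate field. -/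
noncomputable def resField (D : Subalgebra A S) : IntermediateField (ResidueField A) (ResidueField S) :=
  IntermediateField.adjoin (ResidueField A) (residue S '' (D : Set S))

theorem mem_resField {D : Subalgebra A S} {y : ResidueField S} :
    y ∈ resField D ↔ ∃ d ∈ D, residue S d = y := by
  refine ⟨fun hy => ?_, fun ⟨d, hd, h⟩ => h ▸ IntermediateField.subset_adjoin _ _ ⟨d, hd, rfl⟩⟩
  haveI := (inferInstance : Hensel.IsStrictHenselization A S).isSepClosure.separable
  rw [resField, ← IntermediateField.mem_toSubalgebra,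
    IntermediateField.adjoin_toSubalgebra] at hy
  induction hy using Algebra.adjoin_induction with
  | mem z hz => exact hz
  | algebraMap z =>
    obtain ⟨a, rfl⟩ := residue_surjective z
    exact ⟨algebraMap A S a, D.algebraMap_mem a, rfl⟩
  | add z w _ _ hz hw =>
    obtain ⟨a, ha, rfl⟩ := hz
    obtain ⟨b, hb, rfl⟩ := hw
    exact ⟨a + b, D.add_mem ha hb, map_add _ a b⟩
  | mul z w _ _ hz hw =>
    obtain ⟨a, ha, rfl⟩ := hz
    obtain ⟨b, hb, rfl⟩ := hw
    exact ⟨a * b, D.mul_mem ha hb, map_mul _ a b⟩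

/-- Residues of an intermediate ring lift to simple roots inside it. -/
theorem exists_etale_lift (D : Subalgebra A S) {y : ResidueField S} (hy : y ∈ resField D) :
    ∃ t ∈ D, IsEtaleElem A t ∧ residue S t = y := by
  obtain ⟨hD, hloc⟩ := henselian D
  haveI := hD
  haveI := hloc
  haveI := (inferInstance : Hensel.IsStrictHenselization A S).isSepClosure.separable
  obtain ⟨d, hd, rfl⟩ := mem_resField.1 hy
  have hint := Algebra.IsSeparable.isIntegral (ResidueField A) (residue S d)
  obtain ⟨f, hfP, -, hfm⟩ := lifts_and_degree_eq_and_monic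
    (show minpoly (ResidueField A) (residue S d) ∈ lifts (residue A) from
      map_surjective (residue A) residue_surjective _) (minpoly.monic hint)
  have hbar : ∀ (p : A[X]) (x : S), residue S (aeval x p) = aeval (residue S x) (p.map (residue A)) := fun p x => by
    rw [aeval_def, hom_eval₂, aeval_def, eval₂_map]
    rfl
  have h0 : (f.map (algebraMap A D)).eval (⟨d, hd⟩ : D) ∈ maximalIdeal D := by
    intro hu
    refine (residue_ne_zero_iff_isUnit _).2 (hu.map (algebraMap D S)) ?_
    rw [eval_map_algebraMap]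
    show residue S (D.val (aeval (⟨d, hd⟩ : D) f)) = 0
    rw [← aeval_algHom_apply, hbar, hfP]
    exact minpoly.aeval _ _
  have hsimple : ∀ x : D, residue S (x : S) = residue S d → IsUnit (aeval (x : S) (derivative f)) := fun x hx => by
    rw [← residue_ne_zero_iff_isUnit, hbar, hx, ← derivative_map, hfP]
    exact (Algebra.IsSeparable.isSeparable (ResidueField A) _).aeval_derivative_ne_zero (minpoly.aeval _ _)
  have h1 : IsUnit ((f.map (algebraMap A D)).derivative.eval (⟨d, hd⟩ : D)) := by
    refine hloc.map_nonunit _ ?_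
    rw [derivative_map, eval_map_algebraMap]
    show IsUnit (D.val (aeval (⟨d, hd⟩ : D) (derivative f)))
    rw [← aeval_algHom_apply]
    exact hsimple ⟨d, hd⟩ rfl
  obtain ⟨x, hx, hxd⟩ := HenselianLocalRing.is_henselian _ (hfm.map _) _ h0 h1
  have hres : residue S (x : S) = residue S d := by
    rw [← sub_eq_zero, ← map_sub, residue_eq_zero_iff]
    exact map_nonunit (algebraMap D S) _ hxd
  refine ⟨x, x.2, ⟨f, hfm, ?_, hsimple x hres⟩, hres⟩
  rw [IsRoot, eval_map_algebraMap] at hx
  rw [← Subalgebra.coe_val, aeval_algHom_apply, hx, map_zero]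

/-- An intermediate ring contains every simple root whose residue it contains. -/
theorem mem_of_residue [IsNoetherianRing A] (D : Subalgebra A S) {t : S} (ht : IsEtaleElem A t)
    (hres : residue S t ∈ resField D) : t ∈ D := by
  classical
  obtain ⟨t', ht'D, ht', htt⟩ := exists_etale_lift D hres
  obtain ⟨f, R, E, hE, hsE⟩ := exists_galoisStage (A := A) ({t, t'} : Finset S)
  haveI := hE.isLocalRing
  haveI := hE.isLocalHom
  haveI := hE.isLocalHom_algebraMap inferInstance
  let τ : E := ⟨t, hsE (by simp)⟩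
  let τ' : E := ⟨t', hsE (by simp)⟩
  have hτ : residue E τ' = residue E τ := (ResidueField.map (algebraMap E S)).injective htt
  have h := mem_adjoin_of_fixed hE ({τ'} : Set E) (by rintro _ rfl; exact IsEtaleElem.of_subalgebra E (t := τ') ht') τ fun g hg => by
    refine (IsEtaleElem.of_subalgebra E (t := τ) ht).map_eq g.toAlgHom ?_
    show residue E (g τ) = residue E τ
    obtain ⟨σ, hσ⟩ := exists_residue hE g
    rw [← hσ, ← hτ, hσ, hg τ' rfl]
  have h2 : E.val τ ∈ (Algebra.adjoin A ({τ'} : Set E)).map E.val := ⟨τ, h, rfl⟩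
  rw [AlgHom.map_adjoin, Set.image_singleton] at h2
  exact Algebra.adjoin_le (Set.singleton_subset_iff.2 ht'D) h2

/-- Residues of an intermediate ring seen in a Galois stage. -/
noncomputable def stageField (E : Subalgebra A S) [IsLocalRing E] [IsLocalHom (algebraMap E S)]
    [IsLocalHom (algebraMap A E)] (F : IntermediateField (ResidueField A) (ResidueField S)) :
    IntermediateField (ResidueField A) (ResidueField E) :=
  F.comap
    { ResidueField.map (algebraMap E S) with
      commutes' := fun z => by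
        obtain ⟨a, rfl⟩ := residue_surjective z
        rfl }

theorem residue_mem_stageField (E : Subalgebra A S) [IsLocalRing E] [IsLocalHom (algebraMap E S)]
    [IsLocalHom (algebraMap A E)] (F : IntermediateField (ResidueField A) (ResidueField S)) (e : E) :
    residue E e ∈ stageField E F ↔ residue S (e : S) ∈ F := Iff.rfl

/-- Automorphisms fixing the residues of an intermediate ring fix it. -/
theorem fix_of_residue [IsNoetherianRing A] {f : A[X]} {R : Finset S} {E : Subalgebra A S}
    (hE : IsGaloisStage f R E) [IsLocalRing E] [IsLocalHom (algebraMap E S)] [IsLocalHom (algebraMap A E)]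
    (D : Subalgebra A S) (x : E)
    (hx : ∀ g : E ≃ₐ[A] E, (∀ e, residue E e ∈ stageField E (resField D) → residue E (g e) = residue E e) → g x = x) :
    (x : S) ∈ D := by
  let T : Set E := {t | IsEtaleElem A (t : S) ∧ (t : S) ∈ D}
  have h := mem_adjoin_of_fixed hE T (fun t ht => IsEtaleElem.of_subalgebra E ht.1) x fun g hg => by
    refine hx g fun e he => ?_
    obtain ⟨t, htD, ht, hte⟩ := exists_etale_lift D ((residue_mem_stageField E _ e).1 he)
    have htE : t ∈ E := mem_of_residue E ht (hte ▸ mem_resField.2 ⟨e, e.2, rfl⟩)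
    have h1 : residue E (⟨t, htE⟩ : E) = residue E e := (ResidueField.map (algebraMap E S)).injective hte
    obtain ⟨σ, hσ⟩ := exists_residue hE g
    rw [← hσ, ← h1, hσ, hg ⟨t, htE⟩ ⟨ht, htD⟩]
  have h2 : E.val x ∈ (Algebra.adjoin A T).map E.val := ⟨x, h, rfl⟩
  rw [AlgHom.map_adjoin] at h2
  exact Algebra.adjoin_le (by rintro _ ⟨t, ht, rfl⟩; exact ht.2) h2

/-- The criterion for the minimal primes to be separated by an intermediate ring. -/
theorem separated_of_residue [IsNoetherianRing A] (D : Subalgebra A S)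
    (h : ∀ (K : Type u) [Field K] [Algebra A K] (π : S →ₐ[A] K), RingHom.ker π ∈ minimalPrimes S →
      ∀ (y : ResidueField S) (c : K), c ∈ Subfield.closure (Set.range (algebraMap A K)) →
        Agree π y c → y ∈ resField D)
    (P Q : Ideal S) (hP : P ∈ minimalPrimes S) (hQ : Q ∈ minimalPrimes S)
    (hPQ : ∀ d ∈ D, d ∈ P ↔ d ∈ Q) : P = Q := by
  classical
  haveI := StrictResidue.isNoetherianRing (A := A) (S := S)
  obtain ⟨s, hs⟩ := StrictStage.exists_separating (A := A) (minimalPrimes S)
    (minimalPrimes.finite_of_isNoetherianRing S) fun P hP Q hQ hle => le_antisymm hle (hQ.2 hP.1 hle)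
  obtain ⟨f, R, E, hE, hsE⟩ := exists_galoisStage (A := A) s
  haveI := hE.isLocalRing
  haveI := hE.isLocalHom
  haveI := hE.isLocalHom_algebraMap inferInstance
  haveI := finite_aut hE
  refine hs E hsE P hP Q hQ ?_
  suffices key : ∀ P Q : Ideal S, P ∈ minimalPrimes S → Q ∈ minimalPrimes S → (∀ d ∈ D, d ∈ Q → d ∈ P) →
      ∀ x : E, (x : S) ∈ Q → (x : S) ∈ P by
    ext x
    exact ⟨key Q P hQ hP (fun d hd => (hPQ d hd).1) x, key P Q hP hQ (fun d hd => (hPQ d hd).2) x⟩
  intro P Q hP hQ hQP x hx
  haveI := Ideal.minimalPrimes_isPrime hP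
  let π : S →ₐ[A] FractionRing (S ⧸ P) :=
    (IsScalarTower.toAlgHom A (S ⧸ P) (FractionRing (S ⧸ P))).comp (Ideal.Quotient.mkₐ A P)
  have hker : RingHom.ker π = P := ker_toAlgHom_quotient P
  let H : Subgroup (E ≃ₐ[A] E) :=
    { carrier := {g | ∀ e, residue E e ∈ stageField E (resField D) → residue E (g e) = residue E e}
      one_mem' := fun e _ => rfl
      mul_mem' := fun {g g'} hg hg' e he => by
        show residue E (g (g' e)) = _
        rw [hg (g' e) (by rw [hg' e he]; exact he), hg' e he]
      inv_mem' := fun {g} hg e he => by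
        show residue E (g.symm e) = _
        obtain ⟨σ, hσ⟩ := exists_residue hE g
        apply σ.injective
        rw [hσ, hσ, g.apply_symm_apply, hg e he] }
  haveI := Fintype.ofFinite H
  let N : E := ∏ g : H, g.1 x
  have hND : (N : S) ∈ D := fix_of_residue hE D N fun g hg => by
    rw [map_prod]
    refine Fintype.prod_equiv (Equiv.mulLeft (⟨g, hg⟩ : H)) _ _ fun h => ?_
    rfl
  have hNQ : (N : S) ∈ Q := by
    have hN : N = (1 : H).1 x * ∏ g ∈ Finset.univ.erase (1 : H), g.1 x :=
      (Finset.mul_prod_erase Finset.univ (fun g : H => g.1 x) (Finset.mem_univ _)).symm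
    rw [hN, Subalgebra.coe_mul]
    exact Q.mul_mem_right _ hx
  have hNP : π (N : S) = 0 := by
    have h1 : (N : S) ∈ RingHom.ker π := hker.symm ▸ hQP _ hND hNQ
    exact h1
  change π.comp E.val (∏ g : H, g.1 x) = 0 at hNP
  rw [map_prod, Finset.prod_eq_zero_iff] at hNP
  obtain ⟨g, -, hg⟩ := hNP
  have h2 := (GaloisStage.key hE (π.comp E.val) (Subfield.closure (Set.range (algebraMap A (FractionRing (S ⧸ P)))))
    (fun a => Subfield.subset_closure ⟨a, rfl⟩) (stageField E (resField D))
    (fun c hc => h _ π (hker.symm ▸ hP) _ _ hc (agree_self π (c : S))) g.1 g.2).2 x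
  rw [← hker]
  exact h2.1 hg

/-- A prime of a stage over a minimal prime of the base is the contraction of a minimal prime. -/
theorem exists_minimalPrime_comap {E : Subalgebra A S} [Algebra.IsIntegral A E] (P : Ideal E) [P.IsPrime]
    (hP : P.comap (algebraMap A E) ∈ minimalPrimes A) :
    ∃ Q ∈ minimalPrimes S, Q.comap (algebraMap E S) = P := by
  have hmin : P ∈ minimalPrimes E := by
    refine ⟨⟨inferInstance, bot_le⟩, fun P' hP' hle => ?_⟩
    haveI := hP'.1
    by_contra hne
    have h1 := Ideal.IntegralClosure.comap_lt_comap (R := A) (I := P') (J := P) (lt_of_le_not_ge hle hne)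
    exact h1.not_ge (hP.2 ⟨Ideal.IsPrime.comap _, bot_le⟩ h1.le)
  obtain ⟨Q, hQ, hQP⟩ := Ideal.exists_comap_eq_of_mem_minimalPrimes_of_injective
    (f := algebraMap E S) Subtype.val_injective P hmin
  haveI := hQ
  obtain ⟨Q', hQ', hle⟩ := Ideal.exists_minimalPrimes_le (bot_le (a := Q))
  refine ⟨Q', hQ', le_antisymm ((Ideal.comap_mono hle).trans hQP.le) ?_⟩
  haveI := Ideal.minimalPrimes_isPrime hQ'
  exact hmin.2 ⟨Ideal.IsPrime.comap _, bot_le⟩ ((Ideal.comap_mono hle).trans hQP.le)

/-- Separation of the minimal primes forces the residues of the fractions into the intermediate ring. -/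
theorem residue_mem_of_separated [IsNoetherianRing A] {f : A[X]} {R : Finset S} {E : Subalgebra A S}
    (hE : IsGaloisStage f R E) [IsLocalRing E] [IsLocalHom (algebraMap E S)] [IsLocalHom (algebraMap A E)]
    (D : Subalgebra A S) (hDE : D ≤ E)
    (hrig : ∀ φ ψ : D →ₐ[A] E, (∀ d, residue E (φ d) = residue E (ψ d)) → φ = ψ)
    (hsep : ∀ P ∈ minimalPrimes S, ∀ Q ∈ minimalPrimes S, (∀ d ∈ D, d ∈ P ↔ d ∈ Q) → P = Q)
    {K : Type u} [Field K] [Algebra A K] (π : S →ₐ[A] K) (hπ : RingHom.ker π ∈ minimalPrimes S)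
    (a b : E) (haD : (a : S) ∈ D) (hbD : (b : S) ∈ D) (hb : π (b : S) ≠ 0) (c : K)
    (hc : c * π (b : S) = π (a : S)) (g : E ≃ₐ[A] E) (hga : g a = a) (hgb : g b = b) (e : E)
    (he : Agree π (residue S (e : S)) c) : residue S (g e : S) ∈ resField D := by
  haveI := hE.finite
  haveI : Algebra.IsIntegral A E := Algebra.IsIntegral.of_finite A E
  haveI := (isGalois hE).1
  haveI := (isGalois hE).2
  haveI := Ideal.minimalPrimes_isPrime hπ
  -- the branch moved by `g`
  let P : Ideal E := RingHom.ker (π.comp (E.val.comp g.symm.toAlgHom))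
  haveI : P.IsPrime := RingHom.ker_isPrime _
  have hPA : P.comap (algebraMap A E) ∈ minimalPrimes A := by
    rw [show P.comap (algebraMap A E) = (RingHom.ker π).comap (algebraMap A S) from Ideal.ext fun a => by
      show π (g.symm (algebraMap A E a) : S) = 0 ↔ π (algebraMap A S a) = 0
      rw [AlgEquiv.commutes]; rfl]
    exact comap_mem_minimalPrimes hπ
  obtain ⟨Q, hQ, hQP⟩ := exists_minimalPrime_comap P hPA
  haveI := Ideal.minimalPrimes_isPrime hQ
  let π' : S →ₐ[A] FractionRing (S ⧸ Q) :=
    (IsScalarTower.toAlgHom A (S ⧸ Q) (FractionRing (S ⧸ Q))).comp (Ideal.Quotient.mkₐ A Q)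
  have hker' : RingHom.ker π' = Q := ker_toAlgHom_quotient Q
  have hkg : ∀ x : E, π' (g x : S) = 0 ↔ π (x : S) = 0 := fun x => by
    show (g x : S) ∈ RingHom.ker π' ↔ _
    rw [hker', show (g x : S) ∈ Q ↔ g x ∈ P from (SetLike.ext_iff.1 hQP (g x))]
    show π (g.symm (g x) : S) = 0 ↔ _
    rw [g.symm_apply_apply]
  have hb' : π' (b : S) ≠ 0 := fun h => hb ((hkg b).1 (by rw [hgb]; exact h))
  obtain ⟨c', hc'⟩ : ∃ c', c' * π' (b : S) = π' (a : S) := ⟨π' (a : S) / π' (b : S), div_mul_cancel₀ _ hb'⟩
  have he' := agree_map π π' g hkg a b hga hgb hb c hc c' hc' e he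
  show residue S (g e : S) ∈ resField D
  rw [← residue_mem_stageField E, ← IsGalois.fixedField_fixingSubgroup (stageField E (resField D))]
  rintro ⟨σ, hσ⟩
  obtain ⟨h, hh⟩ := exists_lift hE σ
  have hfix : ∀ x : E, (x : S) ∈ D → h x = x := fun x hx => by
    have h1 := AlgHom.congr_fun (hrig (h.toAlgHom.comp (Subalgebra.inclusion hDE)) (Subalgebra.inclusion hDE) fun d => by
      show residue E (h _) = _
      rw [hh]
      exact hσ ⟨_, (residue_mem_stageField E _ _).2 (mem_resField.2 ⟨(d : S), d.2, rfl⟩)⟩) ⟨x, hx⟩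
    exact h1
  -- separation makes the branch stable
  let P' : Ideal E := P.comap h.toAlgHom.toRingHom
  haveI : P'.IsPrime := Ideal.IsPrime.comap _
  have hP'A : P'.comap (algebraMap A E) ∈ minimalPrimes A := by
    rw [Ideal.comap_comap, show h.toAlgHom.toRingHom.comp (algebraMap A E) = algebraMap A E from h.toAlgHom.comp_algebraMap]
    exact hPA
  obtain ⟨Q', hQ', hQP'⟩ := exists_minimalPrime_comap P' hP'A
  have hQQ : Q' = Q := hsep Q' hQ' Q hQ fun d hd => by
    rw [show d ∈ Q' ↔ (⟨d, hDE hd⟩ : E) ∈ P' from SetLike.ext_iff.1 hQP' ⟨d, hDE hd⟩,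
      show d ∈ Q ↔ (⟨d, hDE hd⟩ : E) ∈ P from SetLike.ext_iff.1 hQP ⟨d, hDE hd⟩]
    show h ⟨d, hDE hd⟩ ∈ P ↔ _
    rw [hfix _ hd]
  have hkh : ∀ x : E, π' (h x : S) = 0 ↔ π' (x : S) = 0 := fun x => by
    show (h x : S) ∈ RingHom.ker π' ↔ (x : S) ∈ RingHom.ker π'
    rw [hker', show (h x : S) ∈ Q ↔ h x ∈ P from SetLike.ext_iff.1 hQP (h x), ← hQQ]
    exact (SetLike.ext_iff.1 hQP' x).symm
  have h2 := Agree.unique π' (agree_map π' π' h hkh a b (hfix a haD) (hfix b hbD) hb' c' hc' c' hc' (g e) he') he'
  show σ (residue E (g e)) = residue E (g e)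
  rw [← hh]
  exact (ResidueField.map (algebraMap E S)).injective h2

/-- A finite étale intermediate ring is a stage. -/
theorem isStage_of_etale [IsNoetherianRing A] (D : Subalgebra A S) [Algebra.Etale A D] [Module.Finite A D] :
    StrictStage.IsStage D := by
  obtain ⟨hD, hloc⟩ := henselian D
  haveI := hD
  haveI := hloc
  haveI := StrictStage.weaklyEtale (A := A) (S := S)
  haveI : Algebra.WeaklyEtale D S := Groth.EtaleAlgebra.weaklyEtale_of_tower A D S
  haveI : IsLocalHom (algebraMap A D) := ⟨fun a ha => by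
    have h1 := ha.map (algebraMap D S)
    rw [← IsScalarTower.algebraMap_apply] at h1
    exact isUnit_of_map_unit (algebraMap A S) a h1⟩
  refine ⟨inferInstance, hloc, fun _ => ?_, Module.FaithfullyFlat.of_flat_of_isLocalHom, inferInstance, fun _ => inferInstance⟩
  exact Groth.Agent.S16438.result A S D Algebra.FormallyUnramified.map_maximalIdeal

/-- Automorphism rigidity of a stage. -/
theorem rigid_of_isStage {D : Subalgebra A S} (hD : StrictStage.IsStage D) {E : Subalgebra A S} [IsLocalRing E]
    (φ ψ : D →ₐ[A] E) (h : ∀ d, residue E (φ d) = residue E (ψ d)) : φ = ψ := by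
  haveI := hD.isLocalRing
  haveI : IsLocalHom (algebraMap A D) := ⟨fun a ha => by
    haveI := hD.isLocalHom
    have h1 := ha.map (algebraMap D S)
    rw [← IsScalarTower.algebraMap_apply] at h1
    exact isUnit_of_map_unit (algebraMap A S) a h1⟩
  exact Groth.Hensel1.algHom_eq_of_essentiallyEtale (hD.essEt inferInstance) h

/-- The two forms of separation for a stage. -/
theorem map_comap_iff_separated {D : Subalgebra A S} (hD : StrictStage.IsStage D) :
    (∀ Q ∈ minimalPrimes S, Q = Ideal.map (algebraMap D S) (Q.comap (algebraMap D S))) ↔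
      ∀ P ∈ minimalPrimes S, ∀ Q ∈ minimalPrimes S, (∀ d ∈ D, d ∈ P ↔ d ∈ Q) → P = Q := by
  constructor
  · intro h P hP Q hQ hPQ
    have h1 : P.comap (algebraMap D S) = Q.comap (algebraMap D S) := Ideal.ext fun d => hPQ d d.2
    rw [h P hP, h Q hQ, h1]
  · intro h Q hQ
    exact StrictStage.eq_map_comap hD Q hQ fun P hP hPQ =>
      h P hP Q hQ fun d hd => SetLike.ext_iff.1 hPQ ⟨d, hd⟩

end Groth.Ega4Algebra2.StrictBranch
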