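import Groth.Agent.Ega4Algebra2.ResidualForward
import Groth.Agent.Ega4Algebra2.StrictBranch
import Mathlib

/-! From the residual products to ind-étale intermediate rings. -/

set_option autoImplicit false
universe u

open IsLocalRing Polynomial
open scoped TensorProduct

namespace Groth.Ega4Algebra2.Residual

variable {A S : Type u} [CommRing A] [IsLocalRing A] [IsReduced A] [IsNoetherianRing A]
  [CommRing S] [IsLocalRing S] [Algebra A S] [IsLocalHom (algebraMap A S)] [Hensel.IsStrictHenselization A S]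
  (H : Subalgebra A S) [HenselianLocalRing H] [IsLocalHom (algebraMap H S)] [Hensel.IsStrictHenselization H S]
  {D : Subalgebra A S} [IsLocalRing D] [IsLocalHom (algebraMap D S)]
  {A' : Subalgebra A (FractionRing S)} (hA' : IsNormalisation (⊥ : Subalgebra A S) A')
  {D' : Subalgebra A (FractionRing S)} (hD' : IsNormalisation D D')
  (hle : A' ≤ D') (ι : D →ₐ[A] D') (hι : ∀ d : D, (ι d : FractionRing S) = algebraMap S (FractionRing S) d)

include hι in
theorem rT_eq_red (Q : minimalPrimes S) (t : A' ⊗[A] D) :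
    rT H hA'.le_intg D Q t =
      red H Q (Subalgebra.inclusion hD'.le_intg (Algebra.TensorProduct.productMap (Subalgebra.inclusion hle) ι t)) :=
  congrArg (red H Q) (prodIntg_eq A' hA'.le_intg D hD'.le_intg hle ι hι t)

/-- The kernel of the residue map of a normalization is maximal. -/
theorem isMaximal_ker_redD (Q : minimalPrimes S) :
    (RingHom.ker ((red H Q).comp (Subalgebra.inclusion hD'.le_intg).toRingHom)).IsMaximal := by
  haveI : IsLocalHom D.val.toRingHom := (inferInstance : IsLocalHom (algebraMap D S))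
  exact isMaximal_ker H (D := D) D.val.toRingHom
    ((algebraMap S (FractionRing S)).comp D.val.toRingHom |>.codRestrict D' fun d => hD'.algebraMap_mem d.2)
    (fun z => by
      obtain ⟨P, hP, hP0⟩ := ((hD' _).1 z.2).1
      exact ⟨P, hP, Subtype.ext (by
        show D'.val.toRingHom (eval₂ _ z P) = 0
        rw [hom_eval₂]
        exact hP0)⟩)
    (Subalgebra.inclusion hD'.le_intg).toRingHom (fun d => rfl) Q

variable (hsurj : Function.Surjective ((Ideal.Quotient.mkₐ A (Ideal.jacobson (⊥ : Ideal D'))).comp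
  (Algebra.TensorProduct.productMap (Subalgebra.inclusion hle) ι)))

include hA' hι hsurj in
/-- Residues of the normalization are residual products. -/
theorem exists_rT_eq (z : D') : ∃ t : A' ⊗[A] D, ∀ Q : minimalPrimes S,
    red H Q (Subalgebra.inclusion hD'.le_intg z) = rT H hA'.le_intg D Q t := by
  obtain ⟨t, ht⟩ := hsurj (Ideal.Quotient.mk _ z)
  refine ⟨t, fun Q => ?_⟩
  rw [rT_eq_red H hA' hD' hle ι hι]
  have h1 : z - Algebra.TensorProduct.productMap (Subalgebra.inclusion hle) ι t ∈ Ideal.jacobson (⊥ : Ideal D') :=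
    Ideal.Quotient.eq.1 ht.symm
  have h2 := (Ideal.mem_sInf.1 h1) (I := RingHom.ker ((red H Q).comp (Subalgebra.inclusion hD'.le_intg).toRingHom)) ⟨bot_le, isMaximal_ker_redD H hD' Q⟩
  rw [RingHom.mem_ker, map_sub, sub_eq_zero] at h2
  exact h2

include hA' hι hsurj in
/-- Every maximal ideal of the normalization is seen by a branch. -/
theorem backward_maximal (N : Ideal D') [N.IsMaximal] :
    ∃ Q : minimalPrimes S, ∀ z : D', z ∈ N ↔ red H Q (Subalgebra.inclusion hD'.le_intg z) = 0 := by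
  let pm := Algebra.TensorProduct.productMap (Subalgebra.inclusion hle) ι
  let L := D' ⧸ N
  letI : Field L := Ideal.Quotient.field N
  have hι' : ι.toRingHom.IsIntegral := fun z => by
    obtain ⟨P, hP, hP0⟩ := ((hD' _).1 z.2).1
    refine ⟨P, hP, Subtype.ext ?_⟩
    show D'.val.toRingHom (eval₂ _ z P) = 0
    rw [hom_eval₂, show D'.val.toRingHom.comp ι.toRingHom = algebraMap D (FractionRing S) from RingHom.ext hι]
    exact hP0
  have hm : ∀ d ∈ maximalIdeal D, ((Ideal.Quotient.mk N).comp pm.toRingHom) ((1 : A') ⊗ₜ d) = 0 := fun d hd => by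
    refine Ideal.Quotient.eq_zero_iff_mem.2 ?_
    have h1 : pm ((1 : A') ⊗ₜ d) = ι d := Algebra.TensorProduct.productMap_right_apply _ _ d
    show pm ((1 : A') ⊗ₜ d) ∈ N
    rw [h1]
    letI := ι.toRingHom.toAlgebra
    haveI : Algebra.IsIntegral D D' := ⟨hι'⟩
    exact ((eq_maximalIdeal (Ideal.isMaximal_comap_of_isIntegral_of_isMaximal (R := D) N)).symm ▸ hd :
      d ∈ N.comap (algebraMap D D'))
  obtain ⟨Q, hQ⟩ := point_lift H A' hA'.le_intg D (fun x hx => hA'.isIntegral_bot hx) (fun x hx => ((hA' x).1 hx).2)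
    (D' ⧸ N) ((Ideal.Quotient.mk N).comp pm.toRingHom) hm
  refine ⟨Q, fun z => ?_⟩
  obtain ⟨t, ht⟩ := hsurj (Ideal.Quotient.mk _ z)
  have h1 : z - pm t ∈ Ideal.jacobson (⊥ : Ideal D') := Ideal.Quotient.eq.1 ht.symm
  have h2 := (Ideal.mem_sInf.1 h1) (I := RingHom.ker ((red H Q).comp (Subalgebra.inclusion hD'.le_intg).toRingHom)) ⟨bot_le, isMaximal_ker_redD H hD' Q⟩
  rw [RingHom.mem_ker, map_sub, sub_eq_zero] at h2
  have h3 : z - pm t ∈ N := (Ideal.mem_sInf.1 h1) (I := N) ⟨bot_le, inferInstance⟩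
  rw [show z ∈ N ↔ pm t ∈ N from ⟨fun h => (sub_sub_cancel z (pm t)) ▸ N.sub_mem h h3,
    fun h => (sub_add_cancel z (pm t)) ▸ N.add_mem h3 h⟩, ← Ideal.Quotient.eq_zero_iff_mem]
  refine (hQ t).trans ?_
  show rT H hA'.le_intg D Q t = 0 ↔ _
  rw [rT_eq_red H hA' hD' hle ι hι]
  exact Iff.of_eq (congrArg (· = 0) h2.symm)

variable (hresH : ∀ d ∈ D, ∃ h ∈ H, residue S h = residue S d)

include hA' hresH in
/-- Residual products are residues of fractions of the henselian base. -/
theorem exists_base_witness (t : A' ⊗[A] D) :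
    ∃ w : intg A S, (w : FractionRing S) ∈ fractions H ∧ ∀ Q, rT H hA'.le_intg D Q t = red H Q w := by
  induction t with
  | zero => exact ⟨0, Subalgebra.zero_mem _, fun Q => by rw [map_zero, map_zero]⟩
  | tmul a d =>
    obtain ⟨h, hh, hhd⟩ := hresH d d.2
    refine ⟨Subalgebra.inclusion hA'.le_intg a * ⟨algebraMap S (FractionRing S) h, algebraMap_mem_intg h⟩, ?_, fun Q => ?_⟩
    · refine Subalgebra.mul_mem _ ?_ ⟨1, one_mem _, h, hh, by rw [map_one, one_mul]⟩
      obtain ⟨s, hs, b, hb, hsb⟩ := ((hA' _).1 a.2).2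
      exact ⟨s, hs, b, bot_le (a := H) hb, hsb⟩
    · rw [rT_tmul, map_mul]
      exact congrArg₂ (· * ·) rfl ((redS_eq_iff H Q _ _).2 hhd.symm)
  | add x y hx hy =>
    obtain ⟨v, hv, hvQ⟩ := hx
    obtain ⟨w, hw, hwQ⟩ := hy
    exact ⟨v + w, Subalgebra.add_mem _ hv hw, fun Q => by rw [map_add, map_add, hvQ, hwQ]⟩

include hA' hresH in
/-- Branches with the same kernel on the base have the same residual products. -/
theorem rT_eq_zero_iff_of_same_base {Q Q' : minimalPrimes S} (h : ∀ x ∈ H, x ∈ Q.1 ↔ x ∈ Q'.1) (t : A' ⊗[A] D) :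
    rT H hA'.le_intg D Q t = 0 ↔ rT H hA'.le_intg D Q' t = 0 := by
  obtain ⟨w, hw, hwQ⟩ := exists_base_witness H hA' hresH t
  rw [hwQ, hwQ, red_eq_zero_iff, red_eq_zero_iff]
  have key : ∀ Q Q' : minimalPrimes S, (∀ x ∈ H, x ∈ Q.1 → x ∈ Q'.1) →
      IsSmallElem H (Phi A Q w) → IsSmallElem H (Phi A Q' w) := by
    rintro Q Q' hQ ⟨P, hP, hPm, hP0⟩
    refine ⟨P, hP, hPm, ?_⟩
    let y : FractionRing S := eval₂ (algebraMap H (FractionRing S)) (w : FractionRing S) P
    have hy : y ∈ fractions H := by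
      show eval₂ _ _ P ∈ _
      rw [eval₂_eq_sum_range]
      exact Subalgebra.sum_mem _ fun i _ => Subalgebra.mul_mem _
        (show algebraMap H (FractionRing S) (P.coeff i) ∈ fractions H from
          ⟨1, one_mem _, ((P.coeff i : H) : S), (P.coeff i).2, by rw [map_one, one_mul]; rfl⟩)
        (Subalgebra.pow_mem _ hw i)
    have hev : ∀ Q : minimalPrimes S, Phi A Q y = aeval (Phi A Q w) P := fun Q => by
      show (Phi A Q).toRingHom (eval₂ _ _ P) = _
      rw [hom_eval₂, aeval_def]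
      congr 1
      exact RingHom.ext fun x => Phi_algebraMap Q (x : S)
    rw [← hev] at hP0 ⊢
    exact eq_zero_of_same_contraction (K := BranchField Q) (K' := BranchField Q') H hy
      (IsScalarTower.toAlgHom A S (BranchField Q)) (IsScalarTower.toAlgHom A S (BranchField Q'))
      ((ker_toAlgHom (A := A) Q').symm ▸ Q'.2)
      (fun d hd hd0 => (ker_toAlgHom (A := A) Q').ge (hQ d hd ((ker_toAlgHom (A := A) Q).le hd0)))
      (Phi (A := A) Q) (fun x => Phi_algebraMap (A := A) Q x) (Phi (A := A) Q') (fun x => Phi_algebraMap (A := A) Q' x) hP0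
  exact ⟨key Q Q' fun x hx => (h x hx).1, key Q' Q fun x hx => (h x hx).2⟩

variable (G : Subalgebra A S) (hDG : D ≤ G) (hHG : H ≤ G)
  (hres : ∀ g ∈ G, ∃ d ∈ D, residue S g = residue S d)
  (hstageD : ∀ s : Finset S, (s : Set S) ⊆ G → ∃ (E : Type u) (_ : CommRing E) (_ : Algebra D E) (j : E →+* S),
    (∀ d : D, j (algebraMap D E d) = (d : S)) ∧ EGA4loc.IsEssentiallyEtale D E ∧ (s : Set S) ⊆ Set.range j ∧
      Set.range j ⊆ G)

/-- The embedding of an étale stage over an intermediate ring into a branch. -/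
noncomputable def stageMapD {E : Type u} [CommRing E] (j : E →+* S) (Q : minimalPrimes S) : E →+* BranchRing H Q :=
  (phiW H Q).comp (((algebraMap S (FractionRing S)).comp j).codRestrict (intg A S) fun _ => algebraMap_mem_intg _)

omit [IsReduced A] [IsNoetherianRing A] in
theorem stageMapD_coe {E : Type u} [CommRing E] (j : E →+* S) (Q : minimalPrimes S) (e : E) :
    (stageMapD H j Q e : BranchField Q) = algebraMap S (BranchField Q) (j e) :=
  Phi_algebraMap Q (j e)

include hι hsurj hA' hD' hres hstageD hresH in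
/-- Branches with the same kernel on the base have the same kernel on the intermediate henselian ring. -/
theorem backward_same_kernel {Q Q' : minimalPrimes S} (h : ∀ x ∈ H, x ∈ Q.1 ↔ x ∈ Q'.1) :
    ∀ x ∈ G, x ∈ Q.1 ↔ x ∈ Q'.1 := by
  classical
  intro x hx
  obtain ⟨E, _, _, j, hj, hE, hxE, hjG⟩ := hstageD {x} (by simpa using hx)
  obtain ⟨e, rfl⟩ : x ∈ Set.range j := hxE (by simp)
  have hred : ∀ z : D', red H Q ⟨z, hD'.le_intg z.2⟩ = 0 ↔ red H Q' ⟨z, hD'.le_intg z.2⟩ = 0 := fun z => by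
    obtain ⟨t, ht⟩ := exists_rT_eq H hA' hD' hle ι hι hsurj z
    show red H Q (Subalgebra.inclusion hD'.le_intg z) = 0 ↔ red H Q' (Subalgebra.inclusion hD'.le_intg z) = 0
    rw [ht, ht]
    exact rT_eq_zero_iff_of_same_base H hA' hresH h t
  have hf : ∀ z : D', normMap H hD'.le_intg Q z = 0 ↔ normMap H hD'.le_intg Q' z = 0 := fun z => by
    have h1 := hD'.phi_eq_zero_iff H hred z
    exact ⟨fun h => Subtype.ext (h1.1 (congrArg Subtype.val h)), fun h => Subtype.ext (h1.2 (congrArg Subtype.val h))⟩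
  letI : Algebra D D' := ι.toRingHom.toAlgebra
  have hcompat : ∀ Q : minimalPrimes S, (normMap H hD'.le_intg Q).comp (algebraMap D D') =
      (stageMapD H j Q).comp (algebraMap D E) := fun Q => RingHom.ext fun d => Subtype.ext (by
    show Phi A Q (ι d : FractionRing S) = Phi A Q (algebraMap S (FractionRing S) (j (algebraMap D E d)))
    rw [hι, hj])
  have hpre : ∀ y : D' ⊗[D] E, ∃ z : D', ∀ Q, residue _ (tensorLift (normMap H hD'.le_intg Q) (stageMapD H j Q) (hcompat Q) y) =
      red H Q (Subalgebra.inclusion hD'.le_intg z) := fun y => by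
    induction y with
    | zero => exact ⟨0, fun Q => by simp⟩
    | tmul n c =>
      obtain ⟨d, hd, hcd⟩ := hres (j c) (hjG ⟨c, rfl⟩)
      refine ⟨n * ι ⟨d, hd⟩, fun Q => ?_⟩
      rw [tensorLift_tmul, map_mul, map_mul, map_mul,
        red_eq_redS H Q d (z := Subalgebra.inclusion hD'.le_intg (ι ⟨d, hd⟩)) (hι _)]
      exact congrArg₂ (· * ·) rfl ((redS_eq_iff H Q _ _).2 hcd)
    | add y y' hy hy' =>
      obtain ⟨z, hz⟩ := hy
      obtain ⟨z', hz'⟩ := hy'
      exact ⟨z + z', fun Q => by rw [map_add, map_add, map_add, map_add, hz, hz']⟩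
  have h2 := branch_ker_eq hE _ _ (hcompat Q) _ _ (hcompat Q') (hD'.isIntegrallyClosed H Q) hf (fun y => by
    obtain ⟨z, hz⟩ := hpre y
    rw [hz, hz]
    exact hred z) ((1 : D') ⊗ₜ e)
  rw [tensorLift_tmul, tensorLift_tmul, map_one, map_one, one_mul, one_mul] at h2
  have h3 : ∀ Q : minimalPrimes S, stageMapD H j Q e = 0 ↔ j e ∈ Q.1 := fun Q =>
    ⟨fun h => (ker_toAlgHom (A := A) Q).le ((stageMapD_coe H j Q e).symm.trans (congrArg Subtype.val h)),
      fun h => Subtype.ext ((stageMapD_coe H j Q e).trans ((ker_toAlgHom (A := A) Q).ge h))⟩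
  exact (h3 Q).symm.trans (h2.trans (h3 Q'))

include hι hsurj hA' hD' hres hstageD hresH hHG in
/-- Residues of fractions of the intermediate henselian ring come from fractions of the base. -/
theorem backward_residue (Q : minimalPrimes S) (c : S)
    (hc : algebraMap S (BranchField Q) c ∈ Subfield.closure (algebraMap S (BranchField Q) '' (G : Set S))) :
    ∃ a ∈ H, ∃ b ∈ H, algebraMap S (BranchField Q) b ≠ 0 ∧ ∃ w : intg A S,
      algebraMap S (BranchField Q) b * Phi A Q w = algebraMap S (BranchField Q) a ∧ redS H Q c = red H Q w := by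
  classical
  set π := algebraMap S (BranchField Q)
  have hsub : Subring.closure (π '' (G : Set S)) ≤ (π.comp G.val.toRingHom).range :=
    Subring.closure_le.2 (by rintro _ ⟨g, hg, rfl⟩; exact ⟨⟨g, hg⟩, rfl⟩)
  obtain ⟨a, b, hbG, haG, hb0, hab⟩ : ∃ a b : S, b ∈ G ∧ a ∈ G ∧ π b ≠ 0 ∧ π c * π b = π a := by
    obtain ⟨n, hn, m, hm, hnm⟩ := Subfield.mem_closure_iff.1 hc
    obtain ⟨a, ha⟩ := hsub hn
    obtain ⟨b, hb⟩ := hsub hm
    by_cases hm0 : m = 0
    · refine ⟨0, 1, G.one_mem, G.zero_mem, by rw [map_one]; exact one_ne_zero, ?_⟩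
      rw [← hnm, hm0, div_zero, zero_mul, map_zero]
    · refine ⟨a, b, b.2, a.2, (hb.symm ▸ hm0 : (π.comp G.val.toRingHom) b ≠ 0), ?_⟩
      show π c * (π.comp G.val.toRingHom) b = (π.comp G.val.toRingHom) a
      rw [ha, hb, ← hnm, div_mul_cancel₀ _ hm0]
  haveI := StrictResidue.isIntegral (A := H) (S := S)
  obtain ⟨P, hP, hP0⟩ := Algebra.IsIntegral.isIntegral (R := H) c
  let sset : Finset S := insert a (insert b ((Finset.range (P.natDegree + 1)).image fun i => ((P.coeff i : H) : S)))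
  obtain ⟨E, _, _, j, hj, hE, hsE, hjG⟩ := hstageD sset (by
    intro x hx
    rcases Finset.mem_insert.1 hx with rfl | hx
    · exact haG
    rcases Finset.mem_insert.1 hx with rfl | hx
    · exact hbG
    · obtain ⟨i, -, rfl⟩ := Finset.mem_image.1 hx
      exact hHG (P.coeff i).2)
  obtain ⟨ea, hea⟩ := hsE (show a ∈ sset from Finset.mem_insert_self _ _)
  obtain ⟨eb, heb⟩ := hsE (show b ∈ sset from Finset.mem_insert_of_mem (Finset.mem_insert_self _ _))
  letI : Algebra D D' := ι.toRingHom.toAlgebra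
  have hcompat : (normMap H hD'.le_intg Q).comp (algebraMap D D') = (stageMapD H j Q).comp (algebraMap D E) :=
    RingHom.ext fun d => Subtype.ext (by
      show Phi A Q (ι d : FractionRing S) = Phi A Q (algebraMap S (FractionRing S) (j (algebraMap D E d)))
      rw [hι, hj])
  let w₀ : BranchRing H Q := phiW H Q ⟨algebraMap S (FractionRing S) c, algebraMap_mem_intg c⟩
  have hw₀ : (w₀ : BranchField Q) = π c := Phi_algebraMap Q c
  obtain ⟨P', hP', -, hP'm⟩ := lifts_and_degree_eq_and_monic (f := j)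
    (p := P.map H.val.toRingHom) ((lifts_iff_coeff_lifts _).2 fun i => by
      rw [coeff_map]
      by_cases hi : i ≤ P.natDegree
      · exact hsE (Finset.mem_insert_of_mem (Finset.mem_insert_of_mem
          (Finset.mem_image.2 ⟨i, Finset.mem_range.2 (by omega), rfl⟩)))
      · exact ⟨0, by rw [map_zero, coeff_eq_zero_of_natDegree_lt (by omega), map_zero]⟩) (hP.map _)
  obtain ⟨ξ, η, hη, hξ⟩ := branch_integral hE _ _ hcompat (hD'.isIntegrallyClosed H Q) w₀ ea eb
    (fun h => hb0 (by rw [← heb, ← stageMapD_coe H j Q, h]; rfl))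
    (Subtype.ext (by rw [MulMemClass.coe_mul, stageMapD_coe, stageMapD_coe, hw₀, hea, heb, hab]))
    ⟨P', hP'm, Subtype.ext (by
      show (BranchRing H Q).val.toRingHom (eval₂ (stageMapD H j Q) w₀ P') = 0
      rw [hom_eval₂, show (BranchRing H Q).val.toRingHom.comp (stageMapD H j Q) =
        (algebraMap S (BranchField Q)).comp j from RingHom.ext (stageMapD_coe H j Q), ← eval₂_map, hP', eval₂_map]
      show eval₂ _ (w₀ : BranchField Q) P = 0
      rw [hw₀, ← hom_eval₂, show eval₂ H.val.toRingHom c P = 0 from hP0, map_zero])⟩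
  have hpre : ∀ y : D' ⊗[D] E, ∃ t : A' ⊗[A] D,
      residue _ (tensorLift (normMap H hD'.le_intg Q) (stageMapD H j Q) hcompat y) = rT H hA'.le_intg D Q t := fun y => by
    induction y with
    | zero => exact ⟨0, by simp⟩
    | tmul n e =>
      obtain ⟨d, hd, hed⟩ := hres (j e) (hjG ⟨e, rfl⟩)
      obtain ⟨t, ht⟩ := exists_rT_eq H hA' hD' hle ι hι hsurj n
      refine ⟨t * ((1 : A') ⊗ₜ ⟨d, hd⟩), ?_⟩
      rw [map_mul, ← ht, rT_tmul, map_one, map_one, one_mul, tensorLift_tmul, map_mul]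
      exact congrArg₂ (· * ·) rfl ((redS_eq_iff H Q _ _).2 hed)
    | add y y' hy hy' =>
      obtain ⟨t, ht⟩ := hy
      obtain ⟨t', ht'⟩ := hy'
      exact ⟨t + t', by rw [map_add, map_add, map_add, ht, ht']⟩
  obtain ⟨t, ht⟩ := hpre ξ
  obtain ⟨t', ht'⟩ := hpre η
  obtain ⟨t'', i, hi, hinv⟩ := (isMaximal_ker_rT H hA' D Q).exists_inv (x := t') fun h => (ht' ▸ hη) h
  have ht'' : rT H hA'.le_intg D Q t' * rT H hA'.le_intg D Q t'' = 1 := by
    have h1 := congrArg (rT H hA'.le_intg D Q) hinv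
    rw [map_add, map_mul, map_one, show rT H hA'.le_intg D Q i = 0 from hi, add_zero] at h1
    rw [mul_comm]; exact h1
  obtain ⟨w, ⟨s, hs, num, hnum, hsnum⟩, hwQ⟩ := exists_base_witness H hA' hresH (t * t'')
  refine ⟨num, hnum, algebraMap A S s, H.algebraMap_mem s, ?_, w, ?_, ?_⟩
  · intro h
    rw [← IsScalarTower.algebraMap_apply] at h
    exact algebraMap_ne_zero (IsScalarTower.toAlgHom A S (BranchField Q)) ((ker_toAlgHom (A := A) Q).symm ▸ Q.2) hs h
  · rw [← Phi_algebraMap (A := A) Q num, ← hsnum, map_mul, AlgHom.commutes, ← IsScalarTower.algebraMap_apply]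
  · rw [← hwQ, map_mul]
    have h1 := congrArg (residue (BranchRing H Q)) hξ
    rw [map_mul, ht, ht'] at h1
    change red H Q ⟨algebraMap S (FractionRing S) c, algebraMap_mem_intg c⟩ * _ = _ at h1
    rw [red_eq_redS H Q c (z := ⟨algebraMap S (FractionRing S) c, algebraMap_mem_intg c⟩) rfl] at h1
    rw [← h1, mul_assoc, ht'', mul_one]

include hι hsurj hA' hD' hres hstageD hresH hHG in
/-- The intermediate henselian ring is the base. -/
theorem backward_le [IsNoetherianRing H] : G ≤ H := by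
  classical
  intro x hx
  obtain ⟨f, R, E, hE, hxE⟩ := GaloisStage.exists_galoisStage (A := H) ({x} : Finset S)
  haveI := hE.isLocalRing
  haveI := hE.isLocalHom
  haveI := hE.isLocalHom_algebraMap inferInstance
  haveI := GaloisStage.finite_aut hE
  haveI := Fintype.ofFinite (E ≃ₐ[H] E)
  haveI := hE.finite
  haveI : Algebra.IsIntegral H E := Algebra.IsIntegral.of_finite H E
  let xE : E := ⟨x, hxE (by simp)⟩
  suffices hfix : ∀ g : E ≃ₐ[H] E, g xE = xE by
    obtain ⟨h, hh⟩ := GaloisStage.mem_range_of_fixed hE xE hfix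
    have h1 : (h : S) = x := congrArg Subtype.val hh
    exact h1 ▸ h.2
  intro g₀
  rw [← sub_eq_zero]
  refine Subtype.ext (eq_zero_of_forall (A := A) fun Q hQ => ?_)
  let Q₀ : minimalPrimes S := ⟨Q, hQ⟩
  show ((g₀ xE - xE : E) : S) ∈ Q₀.1
  generalize Q₀ = Q'
  clear Q₀ hQ Q
  rename' Q' => Q
  let π : S →ₐ[H] BranchField Q := IsScalarTower.toAlgHom H S (BranchField Q)
  have hπker : ∀ s : S, π s = 0 ↔ s ∈ Q.1 := fun s =>
    ⟨fun h => (ker_toAlgHom (A := A) Q).le h, fun h => (ker_toAlgHom (A := A) Q).ge h⟩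
  let f0 : E →ₐ[H] BranchField Q := π.comp E.val
  let stab : (E ≃ₐ[H] E) → Prop := fun g => ∀ e : E, f0 (g e) = 0 ↔ f0 e = 0
  choose res hres' using GaloisStage.exists_residue hE
  let Λ : IntermediateField (ResidueField H) (ResidueField E) :=
    IntermediateField.fixedField (Subgroup.closure (res '' {g | stab g}))
  let L : Subfield (BranchField Q) := Subfield.closure (algebraMap S (BranchField Q) '' (G : Set S))
  have hΛ : ∀ c : E, f0 c ∈ L → residue E c ∈ Λ := by
    intro c hc
    obtain ⟨a, ha, b, hb, hb0, w, hw, hcw⟩ :=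
      backward_residue H hA' hD' hle ι hι hsurj hresH G hHG hres hstageD Q (c : S) hc
    rw [IntermediateField.mem_fixedField_iff]
    suffices hle' : Subgroup.closure (res '' {g | stab g}) ≤ MulAction.stabilizer _ (residue E c) from
      fun σ hσ => hle' hσ
    rw [Subgroup.closure_le]
    rintro _ ⟨γ, hγ, rfl⟩
    show res γ (residue E c) = residue E c
    rw [hres']
    have h1 := StrictResidue.agree_map π π γ hγ (algebraMap H E ⟨a, ha⟩) (algebraMap H E ⟨b, hb⟩) (γ.commutes _)
      (γ.commutes _) hb0 (Phi A Q w) (by rw [mul_comm]; exact hw) (Phi A Q w) (by rw [mul_comm]; exact hw) c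
      ((agree_iff_red H Q _ w).2 hcw)
    exact (ResidueField.map (algebraMap E S)).injective
      (StrictResidue.Agree.unique π h1 ((agree_iff_red H Q _ w).2 hcw))
  have hkey : ∀ γ, stab γ → f0 (γ xE) = f0 xE := fun γ hγ =>
    (GaloisStage.key hE f0 L (fun a => Subfield.subset_closure ⟨(a : S), hHG a.2, rfl⟩) Λ hΛ γ fun e he => by
      rw [← hres']
      exact (IntermediateField.mem_fixedField_iff _ _).1 he _ (Subgroup.subset_closure ⟨γ, hγ, rfl⟩)).1 xE
      (Subfield.subset_closure ⟨x, hx, rfl⟩)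
  -- an element of the stage outside the branch but in its other conjugates
  have hsep : ∀ g : E ≃ₐ[H] E, ∃ e : E, f0 e ≠ 0 ∧ (¬ stab g → f0 (g e) = 0) := by
    intro g
    by_cases hg : stab g
    · exact ⟨1, by rw [map_one]; exact one_ne_zero, fun h => absurd hg h⟩
    by_contra hc
    push Not at hc
    refine hg fun e => ?_
    let P₁ : Ideal E := RingHom.ker f0
    let Pg : Ideal E := RingHom.ker (f0.comp g.toAlgHom)
    haveI : Pg.IsPrime := RingHom.ker_isPrime _
    have hle₁ : Pg ≤ P₁ := fun e he => by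
      by_contra hne
      exact (hc e hne).2 he
    have heq : Pg = P₁ := by
      by_contra hne
      have h1 := Ideal.IntegralClosure.comap_lt_comap (R := H) (I := Pg) (J := P₁) (lt_of_le_of_ne hle₁ hne)
      refine h1.ne (Ideal.ext fun a => ?_)
      show f0 (g (algebraMap H E a)) = 0 ↔ f0 (algebraMap H E a) = 0
      rw [g.commutes]
    exact SetLike.ext_iff.1 heq e
  choose e he0 heg using hsep
  let s0 : E := ∏ g : E ≃ₐ[H] E, e g
  have hs0 : f0 s0 ≠ 0 := by
    rw [map_prod]; exact Finset.prod_ne_zero_iff.2 fun g _ => he0 g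
  have hs0g : ∀ g, ¬ stab g → f0 (g s0) = 0 := fun g hg => by
    rw [map_prod, map_prod]; exact Finset.prod_eq_zero (Finset.mem_univ g) (heg g hg)
  -- independence of the stabilising conjugates
  let Γ := {g : E ≃ₐ[H] E // stab g}
  haveI : Fintype Γ := Fintype.ofFinite _
  let ev : Γ → (E →* BranchField Q) := fun g => (f0.comp g.1.toAlgHom).toRingHom.toMonoidHom
  have hev : Function.Injective ev := fun g g' h => Subtype.ext (AlgEquiv.ext fun c => AlgHom.congr_fun
    (GaloisStage.ext_residue hE (g := g.1.toAlgHom) (g' := g'.1.toAlgHom) fun c => (ResidueField.map (algebraMap E S)).injective (by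
      have h1 := DFunLike.congr_fun h c
      exact StrictResidue.Agree.unique π (StrictResidue.agree_self π (g.1 c : S))
        ((show π (g.1 c : S) = π (g'.1 c : S) from h1).symm ▸ StrictResidue.agree_self π (g'.1 c : S)))) c)
  obtain ⟨t1, ht1⟩ : ∃ t1 : E, ∑ g : Γ, f0 (g.1 s0) * f0 (g.1 t1) ≠ 0 := by
    by_contra hc
    push Not at hc
    have hli := (linearIndependent_monoidHom E (BranchField Q)).comp ev hev
    have h0 := Fintype.linearIndependent_iff.1 hli (fun g => f0 (g.1 s0)) (funext fun t => by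
      rw [Finset.sum_apply, Pi.zero_apply, ← hc t]
      rfl) ⟨1, fun _ => Iff.rfl⟩
    exact hs0 h0
  -- the traces
  obtain ⟨b, hb⟩ := GaloisStage.mem_range_of_fixed hE (∑ g : E ≃ₐ[H] E, g (s0 * t1)) fun h => by
    rw [map_sum]
    exact Fintype.sum_equiv (Equiv.mulLeft h) _ _ fun g => rfl
  obtain ⟨a, ha⟩ := GaloisStage.mem_range_of_fixed hE (∑ g : E ≃ₐ[H] E, g (s0 * t1 * xE)) fun h => by
    rw [map_sum]
    exact Fintype.sum_equiv (Equiv.mulLeft h) _ _ fun g => rfl
  have hab : f0 (algebraMap H E a) = f0 xE * f0 (algebraMap H E b) := by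
    rw [ha, hb, map_sum, map_sum, Finset.mul_sum]
    refine Finset.sum_congr rfl fun g _ => ?_
    by_cases hg : stab g
    · rw [map_mul g (s0 * t1), map_mul f0, hkey g hg, mul_comm]
    · rw [map_mul g (s0 * t1), map_mul g s0, map_mul f0, map_mul f0, hs0g g hg]
      ring
  have hb0 : f0 (algebraMap H E b) ≠ 0 := by
    rw [hb, map_sum, ← Finset.sum_subset (Finset.subset_univ ((Finset.univ : Finset (E ≃ₐ[H] E)).filter stab))
      (fun g _ hg => by
        rw [map_mul g, map_mul f0, hs0g g (by simpa using hg), zero_mul]),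
      Finset.sum_subtype _ (fun g => by simp) (F := (inferInstance : Fintype Γ))]
    simpa [map_mul] using ht1
  -- the same relation on the moved branch
  let Pg : Ideal E := RingHom.ker (f0.comp g₀.toAlgHom)
  haveI : Pg.IsPrime := RingHom.ker_isPrime _
  obtain ⟨Q', hQ', hQP⟩ := StrictBranch.exists_minimalPrime_comap (A := H) (S := S) Pg (by
    rw [show Pg.comap (algebraMap H E) = (RingHom.ker π).comap (algebraMap H S) from Ideal.ext fun r => by
      show f0 (g₀ (algebraMap H E r)) = 0 ↔ π (algebraMap H S r) = 0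
      rw [g₀.commutes]; rfl]
    exact StrictResidue.comap_mem_minimalPrimes (by
      rw [show RingHom.ker π = Q.1 from Ideal.ext hπker]; exact Q.2))
  have hsameH : ∀ y ∈ H, y ∈ Q.1 ↔ y ∈ Q' := fun y hy => by
    rw [show y ∈ Q' ↔ algebraMap H E ⟨y, hy⟩ ∈ Pg from SetLike.ext_iff.1 hQP (algebraMap H E ⟨y, hy⟩), ← hπker]
    show _ ↔ f0 (g₀ (algebraMap H E ⟨y, hy⟩)) = 0
    rw [g₀.commutes]
    rfl
  have hsameG := backward_same_kernel H hA' hD' hle ι hι hsurj hresH G hres hstageD (Q := Q) (Q' := ⟨Q', hQ'⟩) hsameH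
    (((algebraMap H E b * xE - algebraMap H E a : E) : S)) (by
      rw [Subalgebra.coe_sub, Subalgebra.coe_mul]
      exact G.sub_mem (G.mul_mem (hHG b.2) hx) (hHG a.2))
  have h1 : f0 (g₀ (algebraMap H E b * xE - algebraMap H E a)) = 0 := by
    have h2 := hsameG.1 ((hπker _).1 (show f0 (algebraMap H E b * xE - algebraMap H E a) = 0 by
      rw [map_sub, map_mul, hab]; ring))
    exact (SetLike.ext_iff.1 hQP (algebraMap H E b * xE - algebraMap H E a)).1 h2
  rw [map_sub g₀, map_mul g₀, g₀.commutes, g₀.commutes, map_sub f0, map_mul f0, hab,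
    show f0 (algebraMap H E b) * f0 (g₀ xE) - f0 xE * f0 (algebraMap H E b) =
      f0 (algebraMap H E b) * f0 (g₀ xE - xE) by rw [map_sub]; ring] at h1
  exact (hπker _).1 ((mul_eq_zero.1 h1).resolve_left hb0)

end Groth.Ega4Algebra2.Residual
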