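import Groth.Agent.Ega4Algebra2.StrictResidue
import Groth.Agent.Hensel1.Transfer
import Groth.Agent.Hensel1.Universal
import Groth.Agent.Hensel1.Reduced
import Groth.Agent.FlatmorThree.NLHens
import Mathlib

/-! The henselian subalgebra of a strict henselization attached to an intermediate residue field. -/

set_option autoImplicit false
universe u

open IsLocalRing EGA4loc Polynomial

namespace Groth.Ega4Algebra2.Residual

/-- Intermediate henselian rings over which a strict henselization stays one. -/
theorem isStrictHenselization_of_tower {A S : Type u} [CommRing A] [IsLocalRing A] [CommRing S] [IsLocalRing S]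
    [Algebra A S] [IsLocalHom (algebraMap A S)] [hS : Hensel.IsStrictHenselization A S]
    (B : Type u) [CommRing B] [IsLocalRing B] [Algebra A B] [Algebra B S] [IsScalarTower A B S]
    [IsLocalHom (algebraMap B S)] [IsLocalHom (algebraMap A B)]
    (huniq : ∀ (T : Type u) [CommRing T] [IsLocalRing T] [Algebra A T] (f f' : B →ₐ[A] T),
      (∀ b, residue T (f b) = residue T (f' b)) → f = f') :
    Hensel.IsStrictHenselization B S where
  henselian := hS.henselian
  isSepClosure := by
    haveI : IsScalarTower (ResidueField A) (ResidueField B) (ResidueField S) :=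
      IsScalarTower.of_algebraMap_eq fun z => by
        obtain ⟨a, rfl⟩ := residue_surjective z
        show residue S (algebraMap A S a) = residue S (algebraMap B S (algebraMap A B a))
        rw [← IsScalarTower.algebraMap_apply]
    haveI := hS.isSepClosure.separable
    exact ⟨hS.isSepClosure.sep_closed,
      Algebra.isSeparable_tower_top_of_isSeparable (ResidueField A) (ResidueField B) (ResidueField S)⟩
  universal := fun T _ _ f _ τ hτ => by
    haveI : IsLocalHom (f.comp (algebraMap A B)) := RingHom.isLocalHom_comp f _
    obtain ⟨g, ⟨hgA, hgτ⟩, hguniq⟩ := hS.universal T (f.comp (algebraMap A B)) τ (RingHom.ext fun z => by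
      obtain ⟨a, rfl⟩ := residue_surjective z
      have h := RingHom.congr_fun hτ (residue B (algebraMap A B a))
      show τ (residue S (algebraMap A S a)) = residue T (f (algebraMap A B a))
      rw [IsScalarTower.algebraMap_apply A B S]
      exact h)
    letI : Algebra A T := (f.comp (algebraMap A B)).toAlgebra
    have hgB : g.comp (algebraMap B S) = f := by
      let g₁ : B →ₐ[A] T :=
        { g.comp (algebraMap B S) with
          commutes' := fun a => by
            show g (algebraMap B S (algebraMap A B a)) = _
            rw [← IsScalarTower.algebraMap_apply]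
            exact RingHom.congr_fun hgA a }
      let f₁ : B →ₐ[A] T := { f with commutes' := fun a => rfl }
      have h := huniq T g₁ f₁ fun b => by
        show residue T (g (algebraMap B S b)) = residue T (f b)
        rw [hgτ]
        exact RingHom.congr_fun hτ (residue B b)
      exact RingHom.ext fun b => AlgHom.congr_fun h b
    refine ⟨g, ⟨hgB, hgτ⟩, fun g' ⟨h1, h2⟩ => hguniq g' ⟨?_, h2⟩⟩
    rw [IsScalarTower.algebraMap_eq A B S, ← RingHom.comp_assoc, h1]

variable {A S : Type u} [CommRing A] [IsLocalRing A] [CommRing S] [IsLocalRing S] [Algebra A S]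
  [IsLocalHom (algebraMap A S)] [Hensel.IsStrictHenselization A S]

/-- The henselian ind-étale subalgebra with residue field `F`. -/
structure IsResidual (F : IntermediateField (ResidueField A) (ResidueField S)) (H : Subalgebra A S) : Prop where
  henselian : HenselianLocalRing H
  isLocalHom : IsLocalHom (algebraMap H S)
  strict : ∀ (_ : IsLocalRing H) (_ : IsLocalHom (algebraMap H S)), Hensel.IsStrictHenselization H S
  noetherian : IsNoetherianRing A → IsNoetherianRing H
  residue_mem : ∀ h ∈ H, residue S h ∈ F
  exists_residue : ∀ y ∈ F, ∃ h ∈ H, residue S h = y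
  map_maximalIdeal : ∀ h ∈ H, residue S h = 0 → ∃ (n : ℕ) (a : Fin n → A) (x : Fin n → S),
    (∀ i, a i ∈ maximalIdeal A) ∧ (∀ i, x i ∈ H) ∧ h = ∑ i, algebraMap A S (a i) * x i
  stage : ∀ s : Finset S, (s : Set S) ⊆ H → ∃ E : Subalgebra A S, E ≤ H ∧ (s : Set S) ⊆ E ∧
    ∃ _ : IsLocalRing E, IsEssentiallyEtale A E
  le_range : ∀ (T : Type u) [CommRing T] [HenselianLocalRing T] [Algebra A T] (θ : T →ₐ[A] S),
    IsLocalHom θ.toRingHom → (∀ y ∈ F, ∃ t, residue S (θ t) = y) → H ≤ θ.range

open Groth.Hensel1 in
/-- Existence of the henselian ind-étale subalgebra with a given residue field. -/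
theorem exists_isResidual (F : IntermediateField (ResidueField A) (ResidueField S)) :
    ∃ H : Subalgebra A S, IsResidual F H := by
  haveI := (inferInstance : Hensel.IsStrictHenselization A S).henselian
  haveI := (inferInstance : Hensel.IsStrictHenselization A S).isSepClosure.separable
  haveI : IsScalarTower A (ResidueField A) F := IsScalarTower.of_algebraMap_eq fun a => rfl
  haveI : Algebra.IsSeparable (ResidueField A) F := Algebra.isSeparable_tower_bot_of_isSeparable _ F (ResidueField S)
  let τ : F →+* ResidueField S := F.val.toRingHom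
  obtain ⟨g, hg, hguniq⟩ := Hens.existsUnique_lift (R := A) (Ω := F) (T := S) τ fun r => rfl
  let M := Hens A F
  have hgloc : IsLocalHom g.toRingHom := ⟨fun x hx => by
    rw [Hens.isUnit_iff]
    intro h
    refine (residue_ne_zero_iff_isUnit _).2 hx ?_
    show residue S (g x) = 0
    rw [hg, h, map_zero]⟩
  haveI : HenselianLocalRing M := Hens.henselianLocalRing
  letI : Algebra M S := g.toRingHom.toAlgebra
  haveI : IsScalarTower A M S := IsScalarTower.of_algebraMap_eq fun a => (g.commutes a).symm
  haveI : IsLocalHom (algebraMap M S) := hgloc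
  have huniq : ∀ (T : Type u) [CommRing T] [IsLocalRing T] [Algebra A T] (f f' : M →ₐ[A] T),
      (∀ b, residue T (f b) = residue T (f' b)) → f = f' := fun T _ _ _ f f' h => AlgHom.ext fun x => by
    obtain ⟨i, y, rfl⟩ := Hens.exists_of x
    have : f.comp (Hens.of i) = f'.comp (Hens.of i) := IsLocalization.algHom_ext i.q.primeCompl
      (algHom_eq_of_residue_eq fun c => h _)
    exact AlgHom.congr_fun this y
  haveI : Hensel.IsStrictHenselization M S := isStrictHenselization_of_tower (A := A) M huniq
  haveI := StrictResidue.flat (A := M) (S := S)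
  haveI : Module.FaithfullyFlat M S := Module.FaithfullyFlat.of_flat_of_isLocalHom
  have hinj : Function.Injective g := by
    rw [injective_iff_map_eq_zero]
    intro x hx
    have h := Ideal.comap_map_eq_self_of_faithfullyFlat (B := S) (⊥ : Ideal M)
    rw [Ideal.map_bot] at h
    exact h.le (show algebraMap M S x ∈ (⊥ : Ideal S) from hx)
  let e : M ≃ₐ[A] g.range := AlgEquiv.ofInjective g hinj
  haveI : IsLocalRing g.range := IsLocalRing.of_surjective' e.toAlgHom.toRingHom e.surjective
  haveI : HenselianLocalRing g.range :=
    Groth.FlatmorThree.NLHens.henselianLocalRing_of_surjective e.toAlgHom.toRingHom e.surjective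
  have hloc : IsLocalHom (algebraMap g.range S) := ⟨fun x hx => by
    obtain ⟨m, rfl⟩ := e.surjective x
    exact (isUnit_of_map_unit (algebraMap M S) m hx).map e⟩
  haveI := hloc
  refine ⟨g.range, inferInstance, hloc, ?_, fun hN => ?_, ?_, fun y hy => ?_, ?_, fun s hs => ?_, ?_⟩
  · intro _ _
    haveI : IsLocalHom (algebraMap A g.range) := ⟨fun a ha => by
      have h1 := ha.map (algebraMap g.range S)
      rw [← IsScalarTower.algebraMap_apply] at h1
      exact isUnit_of_map_unit (algebraMap A S) a h1⟩
    refine isStrictHenselization_of_tower (A := A) g.range fun T _ _ _ f f' h => AlgHom.ext fun x => ?_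
    obtain ⟨m, rfl⟩ := e.surjective x
    exact AlgHom.congr_fun (huniq T (f.comp e.toAlgHom) (f'.comp e.toAlgHom) fun b => h _) m
  · haveI : IsNoetherianRing M := Hens.isNoetherianRing
    exact isNoetherianRing_of_surjective M g.range e.toAlgHom.toRingHom e.surjective
  · rintro _ ⟨x, rfl⟩
    show residue S (g x) ∈ F
    rw [hg]
    exact (Hens.pt x).2
  · obtain ⟨x, hx⟩ := Hens.pt_surjective (R := A) (⟨y, hy⟩ : F)
    refine ⟨g x, ⟨x, rfl⟩, ?_⟩
    rw [hg, hx]
    rfl
  · rintro _ ⟨x, rfl⟩ hx
    replace hx : residue S (g x) = 0 := hx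
    have hxm : x ∈ maximalIdeal M := by
      rw [Hens.mem_maximalIdeal_iff]
      exact τ.injective (by rw [← hg, hx, map_zero])
    rw [← Hens.map_maximalIdeal (R := A) (Ω := F), Ideal.map, ← Ideal.submodule_span_eq,
      Submodule.mem_span_set'] at hxm
    obtain ⟨n, f, v, hv⟩ := hxm
    choose a ha hav using fun i => (v i).2
    refine ⟨n, a, fun i => g (f i), ha, fun i => ⟨f i, rfl⟩, ?_⟩
    show g x = _
    rw [← hv, map_sum]
    refine Finset.sum_congr rfl fun i _ => ?_
    rw [smul_eq_mul, map_mul, ← hav i, g.commutes, mul_comm]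
  · choose x hx using fun z : s => hs z.2
    obtain ⟨i, y, hy⟩ := Hens.exists_of_fintype x
    have hinj' : Function.Injective (g.comp (Hens.of i)) := hinj.comp (Hens.injective_of i)
    let e' : i.Obj ≃ₐ[A] (g.comp (Hens.of i)).range := AlgEquiv.ofInjective _ hinj'
    refine ⟨(g.comp (Hens.of i)).range, ?_, fun z hz => ⟨y ⟨z, hz⟩, ?_⟩,
      IsLocalRing.of_surjective' e'.toAlgHom.toRingHom e'.surjective, ?_⟩
    · rintro _ ⟨w, rfl⟩
      exact ⟨_, rfl⟩
    · show g (Hens.of i (y ⟨z, hz⟩)) = z
      rw [hy]
      exact hx ⟨z, hz⟩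
    · exact ⟨i.P.Ring, inferInstance, inferInstance, i.q, inferInstance, inferInstance, i.comap_q, ⟨e'.symm⟩⟩
  · intro T _ _ _ θ hθ hres
    haveI := hθ
    let rT : ResidueField T →+* ResidueField S := ResidueField.map θ.toRingHom
    have hF : ∀ y : F, ∃ z : ResidueField T, rT z = y := fun y => by
      obtain ⟨t, ht⟩ := hres y y.2
      exact ⟨residue T t, ht⟩
    choose σ hσ using hF
    let σ' : F →+* ResidueField T :=
      { toFun := σ
        map_one' := rT.injective (by rw [hσ, map_one]; rfl)
        map_mul' := fun a b => rT.injective (by rw [hσ, map_mul rT, hσ, hσ]; rfl)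
        map_zero' := rT.injective (by rw [hσ, map_zero]; rfl)
        map_add' := fun a b => rT.injective (by rw [hσ, map_add rT, hσ, hσ]; rfl) }
    obtain ⟨gT, hgT, -⟩ := Hens.existsUnique_lift (R := A) (Ω := F) (T := T) σ' fun r => rT.injective (by
      show rT (σ _) = rT (residue T (algebraMap A T r))
      rw [hσ]
      show _ = residue S (θ (algebraMap A T r))
      rw [θ.commutes]
      rfl)
    have h : θ.comp gT = g := hguniq _ fun x => by
      show rT (residue T (gT x)) = τ (Hens.pt x)
      rw [hgT]
      exact hσ _
    rintro _ ⟨x, rfl⟩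
    exact ⟨gT x, AlgHom.congr_fun h x⟩

end Groth.Ega4Algebra2.Residual
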