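import Groth.Agent.Hensel1.Transfer
import Groth.Agent.Hensel1.EssEt
import Groth.Agent.Hensel1.StrictBaseChange
import Groth.Agent.HensPair.IndEtale
import Groth.Agent.EtaleDeep.IndEt.Etale
import Groth.Agent.EtaleAlgebra.WeaklyEtale
import Groth.Agent.EtaleAlgebra.AbsFlat
import Mathlib

/-! Essentially étale stages inside a strict henselization, and minimal primes extended from a stage. -/

set_option autoImplicit false
universe u

open IsLocalRing EGA4loc
open scoped TensorProduct

namespace Groth.Ega4Algebra2.StrictStage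

variable {A S : Type u} [CommRing A] [IsLocalRing A] [CommRing S] [IsLocalRing S] [Algebra A S]
  [IsLocalHom (algebraMap A S)] [Hensel.IsStrictHenselization A S]

theorem weaklyEtale : Algebra.WeaklyEtale A S := by
  obtain ⟨M⟩ := Groth.Hensel1.hensModel_of_isStrictHenselization (R := A) (S := S)
  exact Groth.EtaleDeep.IndEt.weaklyEtale (Groth.HensPair.isIndEtale_of_hensModel M)

/-- The properties of a stage. -/
structure IsStage (E : Subalgebra A S) : Prop where
  isLocalRing : IsLocalRing E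
  isLocalHom : IsLocalHom (algebraMap E S)
  essEt : ∀ _ : IsLocalRing E, IsEssentiallyEtale A E
  faithfullyFlat : Module.FaithfullyFlat E S
  weaklyEtale : Algebra.WeaklyEtale E S
  finite : HenselianLocalRing A → Module.Finite A E

/-- Every finite subset of the strict henselization lies in a stage. -/
theorem exists_stage (s : Finset S) : ∃ E : Subalgebra A S, (s : Set S) ⊆ E ∧ IsStage E := by
  obtain ⟨M⟩ := Groth.Hensel1.hensModel_of_isStrictHenselization (R := A) (S := S)
  obtain ⟨i, y, hy⟩ := Groth.Hensel1.Hens.exists_of_ring_fintype (fun k : s => M.equiv.symm (k : S))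
  let g : i.Obj →ₐ[A] S := M.equiv.toAlgHom.comp (Groth.Hensel1.Hens.of i)
  have hg : Function.Injective g := M.equiv.injective.comp (Groth.Hensel1.Hens.injective_of i)
  let eE : i.Obj ≃ₐ[A] g.range := AlgEquiv.ofInjective g hg
  haveI hEloc : IsLocalRing g.range := eE.toRingEquiv.isLocalRing
  have hlocalg : IsLocalHom g.toRingHom := ⟨fun x hx => by
    refine (Groth.Hensel1.Hens.isLocalHom_of i).map_nonunit x ?_
    have h1 := hx.map M.equiv.symm
    change IsUnit (M.equiv.symm (M.equiv (Groth.Hensel1.Hens.of i x))) at h1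
    rwa [AlgEquiv.symm_apply_apply] at h1⟩
  have hlocE : IsLocalHom (algebraMap g.range S) := ⟨fun x hx => by
    obtain ⟨x, rfl⟩ := eE.surjective x
    exact (hlocalg.map_nonunit x hx).map eE⟩
  have hff : Module.FaithfullyFlat g.range S := by
    haveI : Module.Flat g.range S := by
      show (algebraMap g.range S).Flat
      have : (algebraMap g.range S) =
          (g.toRingHom).comp (eE.symm.toRingEquiv.toRingHom) := RingHom.ext fun x => by
        obtain ⟨x, rfl⟩ := eE.surjective x
        show _ = g (eE.symm (eE x))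
        rw [eE.symm_apply_apply]
        rfl
      rw [this]
      exact (RingHom.Flat.of_bijective eE.symm.bijective).comp
        ((Groth.Hensel1.Hens.flat_of i).comp (RingHom.Flat.of_bijective M.equiv.bijective))
    exact Module.FaithfullyFlat.of_flat_of_isLocalHom
  haveI := weaklyEtale (A := A) (S := S)
  haveI := Groth.EtaleAlgebra.weaklyEtale_of_faithfullyFlat A g.range S
  refine ⟨g.range, fun k hk => ⟨algebraMap _ _ (y ⟨k, hk⟩), ?_⟩, hEloc, hlocE, fun _ => ?_, hff,
    Groth.EtaleAlgebra.weaklyEtale_of_tower A g.range S, fun hA => ?_⟩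
  · show M.equiv (Groth.Hensel1.Hens.of i _) = k
    rw [hy]
    exact M.equiv.apply_symm_apply _
  · refine ⟨i.P.Ring, inferInstance, inferInstance, i.q, inferInstance, inferInstance, ?_, ⟨eE.symm⟩⟩
    ext a
    show i.pt (algebraMap A i.P.Ring a) = 0 ↔ a ∈ maximalIdeal A
    rw [AlgHom.commutes, IsScalarTower.algebraMap_apply A (ResidueField A) M.Ω,
      map_eq_zero_iff _ (algebraMap (ResidueField A) M.Ω).injective]
    exact residue_eq_zero_iff a
  · let j : i.P.Ring →ₐ[A] S := g.comp (IsScalarTower.toAlgHom A _ _)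
    haveI : ((maximalIdeal S).comap j.toRingHom).IsPrime := Ideal.IsPrime.comap _
    haveI : Algebra.QuasiFiniteAt A ((maximalIdeal S).comap j.toRingHom) :=
      Algebra.QuasiFinite.of_isLocalization (S := i.P.Ring) ((maximalIdeal S).comap j.toRingHom).primeCompl
    have hint : ∀ c, IsIntegral A (j c) := fun c =>
      Groth.Hensel1.isIntegral_of_quasiFiniteAt_centre A A i.P.Ring S j.toRingHom (by
        rw [Algebra.algebraMap_self, RingHom.comp_id]; exact j.comp_algebraMap) c
    haveI : Algebra.IsIntegral A j.range := ⟨fun ⟨x, c, hc⟩ => by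
      rw [← isIntegral_algHom_iff j.range.val Subtype.val_injective]
      exact hc ▸ hint c⟩
    obtain ⟨-, hloc⟩ := Groth.Hensel1.henselian_of_isIntegral_subalgebra A S j.range
    haveI : Algebra.FiniteType A j.range :=
      Algebra.FiniteType.of_surjective j.rangeRestrict (AlgHom.rangeRestrict_surjective j)
    haveI : Module.Finite A j.range := Algebra.IsIntegral.finite
    have heq : g.range = j.range := by
      refine le_antisymm ?_ (AlgHom.range_comp_le_range _ _)
      rintro _ ⟨x, rfl⟩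
      obtain ⟨c, d, rfl⟩ := IsLocalization.exists_mk'_eq i.q.primeCompl x
      have h1 : g (IsLocalization.mk' i.Obj c d) * j d = j c := by
        show _ * g (algebraMap _ _ (d : i.P.Ring)) = g (algebraMap _ _ c)
        rw [← map_mul, IsLocalization.mk'_spec]
      have hu : IsUnit (⟨j d, d, rfl⟩ : j.range) := by
        refine hloc.map_nonunit _ ?_
        exact (IsLocalization.map_units i.Obj d).map g
      obtain ⟨v, hv⟩ := hu.exists_right_inv
      have hv' : j d * (v : S) = 1 := congrArg Subtype.val hv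
      show g (IsLocalization.mk' i.Obj c d) ∈ j.range
      rw [← mul_one (g _), ← hv', ← mul_assoc, h1]
      exact j.range.mul_mem ⟨c, rfl⟩ v.2
    rw [heq]
    infer_instance

/-- If minimal primes are separated by a stage, they are extended from it. -/
theorem eq_map_comap {E : Subalgebra A S} (hE : IsStage E) (Q : Ideal S) (hQ : Q ∈ minimalPrimes S)
    (hsep : ∀ P ∈ minimalPrimes S, P.comap (algebraMap E S) = Q.comap (algebraMap E S) → P = Q) :
    Q = Ideal.map (algebraMap E S) (Q.comap (algebraMap E S)) := by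
  haveI := hE.faithfullyFlat
  haveI := hE.weaklyEtale
  haveI := Ideal.minimalPrimes_isPrime hQ
  set p := Q.comap (algebraMap E S) with hp
  haveI : p.IsPrime := Ideal.IsPrime.comap _
  haveI := Algebra.HasGoingDown.of_flat (R := E) (S := S)
  have hpmin : ∀ p' : Ideal E, p'.IsPrime → p' ≤ p → p' = p := fun p' hp' hle => by
    haveI : Q.LiesOver p := ⟨rfl⟩
    obtain ⟨P', hP', _, hP'o⟩ := Ideal.exists_ideal_le_liesOver_of_le (S := S) Q hle
    rw [hP'o.over, le_antisymm hP' (hQ.2 ⟨‹_›, bot_le⟩ hP')]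
  have hrad : (p.map (algebraMap E S)).radical = p.map (algebraMap E S) := by
    haveI : IsReduced ((E ⧸ p) ⊗[E] S) :=
      Groth.EtaleAlgebra.isReduced_of_weaklyEtale (E ⧸ p) ((E ⧸ p) ⊗[E] S)
    haveI : IsReduced (S ⊗[E] (E ⧸ p)) :=
      isReduced_of_injective (Algebra.TensorProduct.comm E S (E ⧸ p)).toRingEquiv.toRingHom
        (Algebra.TensorProduct.comm E S (E ⧸ p)).injective
    haveI : IsReduced (S ⧸ p.map (algebraMap E S)) :=
      isReduced_of_injective (Algebra.TensorProduct.quotIdealMapEquivTensorQuot S p).toRingEquiv.toRingHom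
        (Algebra.TensorProduct.quotIdealMapEquivTensorQuot S p).injective
    exact Ideal.IsRadical.radical ((Ideal.isRadical_iff_quotient_reduced _).2 inferInstance)
  refine le_antisymm ?_ Ideal.map_comap_le
  rw [← hrad, ← Ideal.sInf_minimalPrimes]
  refine le_sInf fun P hP => ?_
  haveI := hP.1.1
  have hge : p ≤ P.comap (algebraMap E S) := Ideal.map_le_iff_le_comap.1 hP.1.2
  have hPp : P.comap (algebraMap E S) = p := by
    refine le_antisymm ?_ hge
    haveI : P.LiesOver (P.comap (algebraMap E S)) := ⟨rfl⟩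
    obtain ⟨P', hP', hP'p, hP'o⟩ := Ideal.exists_ideal_le_liesOver_of_le (S := S) P hge
    have : P ≤ P' := hP.2 ⟨hP'p, Ideal.map_le_iff_le_comap.2 hP'o.over.le⟩ hP'
    exact (Ideal.comap_mono this).trans hP'o.over.ge
  refine (hsep P ⟨⟨‹_›, bot_le⟩, fun P' hP'' hle => ?_⟩ hPp).ge
  refine hP.2 ⟨hP''.1, Ideal.map_le_iff_le_comap.2 (le_of_eq ?_)⟩ hle
  haveI := hP''.1
  exact (hpmin _ (Ideal.IsPrime.comap _) ((Ideal.comap_mono hle).trans hPp.le)).symm

/-- Elements separating a finite set of pairwise incomparable ideals. -/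
theorem exists_separating (T : Set (Ideal S)) (hT : T.Finite) (hinc : ∀ P ∈ T, ∀ Q ∈ T, P ≤ Q → P = Q) :
    ∃ s : Finset S, ∀ E : Subalgebra A S, (s : Set S) ⊆ E → ∀ P ∈ T, ∀ Q ∈ T,
      P.comap (algebraMap E S) = Q.comap (algebraMap E S) → P = Q := by
  classical
  have hsep : ∀ x ∈ (T ×ˢ T) ∩ {x : Ideal S × Ideal S | x.1 ≠ x.2}, ∃ a, a ∈ x.1 ∧ a ∉ x.2 :=
    fun x hx => SetLike.not_le_iff_exists.1 fun hle => hx.2 (hinc _ hx.1.1 _ hx.1.2 hle)
  choose! a ha using hsep
  refine ⟨((hT.prod hT).inter_of_left {x | x.1 ≠ x.2}).toFinset.image a, fun E hE P hP Q hQ hPQ => ?_⟩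
  by_contra hne
  have haE : a (P, Q) ∈ E := hE (by simp only [Finset.coe_image, Set.Finite.coe_toFinset]; exact ⟨_, ⟨⟨hP, hQ⟩, hne⟩, rfl⟩)
  have h1 : (⟨a (P, Q), haE⟩ : E) ∈ P.comap (algebraMap E S) := (ha (P, Q) ⟨⟨hP, hQ⟩, hne⟩).1
  rw [hPQ] at h1
  exact (ha (P, Q) ⟨⟨hP, hQ⟩, hne⟩).2 h1

/-- Elements of `S/Q` that are fractions of elements of a stage extending `Q` come from the stage. -/
theorem mem_of_fraction {E : Subalgebra A S} (hE : IsStage E) (Q : Ideal S) [Q.IsPrime]
    (hQ : Q = Ideal.map (algebraMap E S) (Q.comap (algebraMap E S)))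
    (K : Type u) [Field K] [Algebra (S ⧸ Q) K] [IsFractionRing (S ⧸ Q) K]
    (x : S) (hx : algebraMap (S ⧸ Q) K (Ideal.Quotient.mk Q x) ∈
      Subfield.closure ((fun e : S => algebraMap (S ⧸ Q) K (Ideal.Quotient.mk Q e)) '' (E : Set S))) :
    ∃ e ∈ E, Ideal.Quotient.mk Q e = Ideal.Quotient.mk Q x := by
  haveI := hE.faithfullyFlat
  let f : E →+* K := ((algebraMap (S ⧸ Q) K).comp (Ideal.Quotient.mk Q)).comp (algebraMap E S)
  have hset : ((fun e : S => algebraMap (S ⧸ Q) K (Ideal.Quotient.mk Q e)) '' (E : Set S)) = Set.range f := by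
    ext z
    exact ⟨fun ⟨e, he, h⟩ => ⟨⟨e, he⟩, h⟩, fun ⟨⟨e, he⟩, h⟩ => ⟨e, he, h⟩⟩
  rw [hset, Subfield.mem_closure_iff] at hx
  obtain ⟨y, hy, z, hz, hxyz⟩ := hx
  rw [← RingHom.coe_range, Subring.closure_eq] at hy hz
  obtain ⟨e₁, rfl⟩ := hy
  obtain ⟨e₂, rfl⟩ := hz
  by_cases h2 : f e₂ = 0
  · refine ⟨0, E.zero_mem, IsFractionRing.injective (S ⧸ Q) K ?_⟩
    rw [← hxyz, h2, div_zero, map_zero, map_zero]
  rw [div_eq_iff h2] at hxyz
  have h3 : x * (e₂ : S) - (e₁ : S) ∈ Q := by
    rw [← Ideal.Quotient.eq_zero_iff_mem, ← map_eq_zero_iff _ (IsFractionRing.injective (S ⧸ Q) K),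
      map_sub, map_mul, map_sub, map_mul, sub_eq_zero]
    exact hxyz.symm
  have h4 : e₁ ∈ Ideal.span {e₂} ⊔ Q.comap (algebraMap E S) := by
    rw [← Ideal.comap_map_eq_self_of_faithfullyFlat (A := E) (B := S) (Ideal.span {e₂} ⊔ Q.comap (algebraMap E S)),
      Ideal.mem_comap, Ideal.map_sup, ← hQ, Ideal.map_span, Set.image_singleton]
    show (e₁ : S) ∈ _
    rw [show (e₁ : S) = x * (e₂ : S) + -(x * (e₂ : S) - (e₁ : S)) by ring]
    exact Submodule.add_mem_sup (Ideal.mem_span_singleton'.2 ⟨x, rfl⟩) (Q.neg_mem h3)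
  obtain ⟨u, hu, π, hπ, hup⟩ := Submodule.mem_sup.1 h4
  obtain ⟨e, rfl⟩ := Ideal.mem_span_singleton'.1 hu
  refine ⟨e, e.2, IsFractionRing.injective (S ⧸ Q) K ?_⟩
  have h5 : f e₁ = f e * f e₂ := by
    have hπ0 : f π = 0 := by
      show algebraMap (S ⧸ Q) K (Ideal.Quotient.mk Q (π : S)) = 0
      rw [Ideal.Quotient.eq_zero_iff_mem.2 (show (π : S) ∈ Q from hπ), map_zero]
    rw [← hup, map_add, map_mul, hπ0, add_zero]
  exact mul_right_cancel₀ h2 (h5.symm.trans hxyz)

end Groth.Ega4Algebra2.StrictStage
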