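import Groth.Agent.Ega4Algebra2.StageGalois
import Groth.Agent.S16441
import Groth.Agent.Hensel1.Transfer
import Mathlib

/-! Residues of integral elements of a field under the strict henselization of a henselian local ring. -/

set_option autoImplicit false
universe u

open IsLocalRing EGA4loc Polynomial

namespace Groth.Ega4Algebra2

/-- A root of a monic polynomial all of whose lower coefficients are non-units of the base. -/
def IsSmallElem (A : Type u) {K : Type u} [CommRing A] [IsLocalRing A] [CommRing K] [Algebra A K] (z : K) : Prop :=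
  ∃ f : A[X], f.Monic ∧ (∀ i < f.natDegree, f.coeff i ∈ maximalIdeal A) ∧ aeval z f = 0

namespace StrictResidue

section Small

variable {A : Type u} [CommRing A] [HenselianLocalRing A] {K : Type u} [Field K] [Algebra A K]

theorem isLocalRing_integralClosure : IsLocalRing (integralClosure A K) :=
  Groth.EtaleAlgebra.isLocalRing_of_isIntegral_domain A _

/-- Algebra maps between local rings integral over the base are local. -/
theorem isLocalHom_algHom {B C : Type u} [CommRing B] [IsLocalRing B] [CommRing C] [IsLocalRing C]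
    [Algebra A B] [Algebra A C] [Algebra.IsIntegral A B] [Algebra.IsIntegral A C] (g : B →ₐ[A] C) :
    IsLocalHom g.toRingHom := by
  have h : (maximalIdeal C).comap g.toRingHom = maximalIdeal B := by
    haveI : ((maximalIdeal C).comap g.toRingHom).IsPrime := Ideal.IsPrime.comap _
    refine IsLocalRing.eq_maximalIdeal (Ideal.isMaximal_of_isIntegral_of_isMaximal_comap
      (R := A) _ ?_)
    rw [Ideal.comap_comap, show g.toRingHom.comp (algebraMap A B) = algebraMap A C from g.comp_algebraMap]
    exact Ideal.isMaximal_comap_of_isIntegral_of_isMaximal (maximalIdeal C)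
  exact ((IsLocalRing.local_hom_TFAE g.toRingHom).out 0 4 rfl rfl).2 h

theorem isSmallElem_iff [IsLocalRing (integralClosure A K)] (c : integralClosure A K) :
    IsSmallElem A (c : K) ↔ c ∈ maximalIdeal (integralClosure A K) := by
  haveI : IsLocalHom (algebraMap A (integralClosure A K)) :=
    Groth.EtaleAlgebra.isLocalHom_of_isIntegral A _
  constructor
  · rintro ⟨f, hm, hco, hroot⟩
    have h0 : aeval c f = 0 :=
      Subtype.ext (by rw [← Subalgebra.coe_val, ← aeval_algHom_apply]; exact hroot)
    rw [← residue_eq_zero_iff]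
    have h1 := congrArg (residue (integralClosure A K)) h0
    rw [map_zero, aeval_def, hom_eval₂, eval₂_eq_sum_range, Finset.sum_range_succ, Finset.sum_eq_zero,
      zero_add, hm.coeff_natDegree, map_one, one_mul] at h1
    · exact eq_zero_of_pow_eq_zero h1
    · intro i hi
      rw [RingHom.comp_apply, (residue_eq_zero_iff _).2 (map_nonunit (algebraMap A (integralClosure A K)) _
        (hco i (Finset.mem_range.1 hi))), zero_mul]
  · intro hc
    let C₀ : Subalgebra A (integralClosure A K) := Algebra.adjoin A {c}
    haveI : Module.Finite A C₀ := Module.Finite.iff_fg.2 (IsIntegral.fg_adjoin_singleton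
      ((isIntegral_algHom_iff (integralClosure A K).val Subtype.val_injective).1 c.2))
    haveI : IsLocalRing C₀ := Groth.EtaleAlgebra.isLocalRing_of_isIntegral_domain A C₀
    haveI : Algebra.IsIntegral A C₀ := Algebra.IsIntegral.of_finite A C₀
    let c₀ : C₀ := ⟨c, Algebra.self_mem_adjoin_singleton A c⟩
    haveI : IsLocalHom C₀.val.toRingHom := isLocalHom_algHom C₀.val
    have hc0 : c₀ ∈ maximalIdeal C₀ := fun hu => hc (hu.map C₀.val)
    let I := (maximalIdeal A).map (algebraMap A C₀)
    have hrad : maximalIdeal C₀ ≤ I.radical := by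
      rw [Ideal.radical_eq_sInf]
      refine le_sInf fun P ⟨hle, hP⟩ => ?_
      haveI := hP
      refine (IsLocalRing.eq_maximalIdeal (Ideal.isMaximal_of_isIntegral_of_isMaximal_comap (R := A) P ?_)).ge
      have h2 : maximalIdeal A ≤ P.comap (algebraMap A C₀) := Ideal.map_le_iff_le_comap.1 hle
      rw [← (maximalIdeal.isMaximal A).eq_of_le (Ideal.IsPrime.comap _).ne_top h2]
      infer_instance
    obtain ⟨n, hn⟩ := hrad hc0
    obtain ⟨p, hpm, -, hpc, hp0⟩ := LinearMap.exists_monic_and_natDegree_eq_and_coeff_mem_pow_and_aeval_eq_zero A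
      (LinearMap.mulLeft A (c₀ ^ (n + 1))) (maximalIdeal A) (by
        rintro _ ⟨x, rfl⟩
        rw [Ideal.smul_top_eq_map]
        show c₀ ^ (n + 1) * x ∈ I
        rw [pow_succ, mul_assoc]
        exact Ideal.mul_mem_right _ _ hn)
    refine ⟨p.comp (X ^ (n + 1)), hpm.comp (monic_X_pow _) (by rw [natDegree_X_pow]; omega), fun i hi => ?_, ?_⟩
    · rw [← Polynomial.expand_eq_comp_X_pow, coeff_expand (Nat.succ_pos n)]
      split_ifs with hdvd
      · refine Ideal.pow_le_self ?_ (hpc _)
        rw [← Polynomial.expand_eq_comp_X_pow, natDegree_expand] at hi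
        have : i / (n + 1) < p.natDegree := Nat.div_lt_of_lt_mul (by rw [mul_comm]; exact hi)
        simp only [Nat.succ_eq_add_one] at *
        omega
      · exact zero_mem _
    · have h3 : aeval (c₀ ^ (n + 1)) p = 0 := by
        have h4 := LinearMap.congr_fun hp0 (1 : C₀)
        rw [LinearMap.zero_apply] at h4
        rw [← h4]
        have h5 : aeval (Algebra.lmul A C₀ (c₀ ^ (n + 1))) p = Algebra.lmul A C₀ (aeval (c₀ ^ (n + 1)) p) :=
          aeval_algHom_apply _ _ _
        show _ = aeval (Algebra.lmul A C₀ (c₀ ^ (n + 1))) p 1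
        rw [h5]
        exact (mul_one _).symm
      rw [aeval_comp, map_pow, aeval_X,
        show (c : K) = (((integralClosure A K).val.comp C₀.val) c₀ : K) from rfl, ← map_pow,
        aeval_algHom_apply, h3, map_zero]

theorem IsSmallElem.isIntegral {z : K} (h : IsSmallElem A z) : IsIntegral A z :=
  let ⟨f, hm, _, h0⟩ := h
  ⟨f, hm, h0⟩

theorem isSmallElem_add {z w : K} (hz : IsSmallElem A z) (hw : IsSmallElem A w) : IsSmallElem A (z + w) := by
  haveI := isLocalRing_integralClosure (A := A) (K := K)
  exact (isSmallElem_iff ((⟨z, IsSmallElem.isIntegral hz⟩ : integralClosure A K) + ⟨w, IsSmallElem.isIntegral hw⟩)).2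
    (Ideal.add_mem _ ((isSmallElem_iff ⟨z, IsSmallElem.isIntegral hz⟩).1 hz)
      ((isSmallElem_iff ⟨w, IsSmallElem.isIntegral hw⟩).1 hw))

theorem isSmallElem_neg {z : K} (hz : IsSmallElem A z) : IsSmallElem A (-z) := by
  haveI := isLocalRing_integralClosure (A := A) (K := K)
  exact (isSmallElem_iff (-(⟨z, IsSmallElem.isIntegral hz⟩ : integralClosure A K))).2
    (neg_mem ((isSmallElem_iff ⟨z, IsSmallElem.isIntegral hz⟩).1 hz))

/-- A unit of a subalgebra integral over the base is not small. -/
theorem not_isUnit_of_isSmallElem {B : Type u} [CommRing B] [Algebra A B] [Algebra.IsIntegral A B]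
    (g : B →ₐ[A] K) {b : B} (h : IsSmallElem A (g b)) : ¬ IsUnit b := by
  haveI := isLocalRing_integralClosure (A := A) (K := K)
  intro hu
  let g' : B →ₐ[A] integralClosure A K :=
    g.codRestrict (integralClosure A K) fun x => (Algebra.IsIntegral.isIntegral (R := A) x).map g
  exact (isSmallElem_iff (g' b)).1 h (hu.map g')

theorem isSmallElem_of_not_isUnit {B : Type u} [CommRing B] [IsLocalRing B] [Algebra A B] [Algebra.IsIntegral A B]
    (g : B →ₐ[A] K) {b : B} (h : ¬ IsUnit b) : IsSmallElem A (g b) := by
  haveI := isLocalRing_integralClosure (A := A) (K := K)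
  let g' : B →ₐ[A] integralClosure A K :=
    g.codRestrict (integralClosure A K) fun x => (Algebra.IsIntegral.isIntegral (R := A) x).map g
  haveI : IsLocalHom g'.toRingHom := isLocalHom_algHom g'
  exact (isSmallElem_iff (g' b)).2 fun hu => h (IsLocalHom.map_nonunit (f := g'.toRingHom) b hu)

end Small

variable {A S : Type u} [CommRing A] [HenselianLocalRing A] [CommRing S] [IsLocalRing S] [Algebra A S]
  [IsLocalHom (algebraMap A S)] [Hensel.IsStrictHenselization A S]

/-- The strict henselization of a henselian local ring is integral over it. -/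
theorem isIntegral : Algebra.IsIntegral A S := ⟨fun x => by
  obtain ⟨E, hxE, hE⟩ := StrictStage.exists_stage (A := A) ({x} : Finset S)
  haveI := hE.finite inferInstance
  exact ((Algebra.IsIntegral.of_finite A E).isIntegral (⟨x, hxE (by simp)⟩ : E)).map E.val⟩

theorem flat : Module.Flat A S :=
  (Groth.Hensel1.hensModel_of_isStrictHenselization (R := A) (S := S)).some.flat

theorem isNoetherianRing [IsNoetherianRing A] : IsNoetherianRing S :=
  (Groth.Hensel1.hensModel_of_isStrictHenselization (R := A) (S := S)).some.isNoetherianRing_iff.1 inferInstance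

theorem isReduced [IsReduced A] : IsReduced S := by
  haveI := StrictStage.weaklyEtale (A := A) (S := S)
  exact Groth.EtaleAlgebra.isReduced_of_weaklyEtale A S

/-- A minimal prime of the strict henselization lies over a minimal prime. -/
theorem comap_mem_minimalPrimes {Q : Ideal S} (hQ : Q ∈ minimalPrimes S) :
    Q.comap (algebraMap A S) ∈ minimalPrimes A := by
  haveI := flat (A := A) (S := S)
  haveI := Algebra.HasGoingDown.of_flat (R := A) (S := S)
  haveI := Ideal.minimalPrimes_isPrime hQ
  refine ⟨⟨Ideal.IsPrime.comap _, bot_le⟩, fun p' hp' hle => ?_⟩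
  haveI := hp'.1
  haveI : Q.LiesOver (Q.comap (algebraMap A S)) := ⟨rfl⟩
  obtain ⟨P', hP', _, hP'o⟩ := Ideal.exists_ideal_le_liesOver_of_le (S := S) Q hle
  rw [hP'o.over, le_antisymm hP' (hQ.2 ⟨‹_›, bot_le⟩ hP')]

/-- A non-zero-divisor of an intermediate ring avoids the minimal primes. -/
theorem notMem_minimalPrimes [IsNoetherianRing A] [IsReduced A] (D : Subalgebra A S) {u : D}
    (hu : u ∈ nonZeroDivisors D) {Q : Ideal S} (hQ : Q ∈ minimalPrimes S) : (u : S) ∉ Q := by
  intro huQ
  obtain ⟨E, huE, hE⟩ := StrictStage.exists_stage (A := A) ({(u : S)} : Finset S)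
  haveI := hE.isLocalRing
  haveI := hE.isLocalHom
  haveI : IsLocalHom (algebraMap A E) := ⟨fun a ha => by
    have h1 := ha.map (algebraMap E S)
    rw [← IsScalarTower.algebraMap_apply] at h1
    exact isUnit_of_map_unit (algebraMap A S) a h1⟩
  obtain ⟨w, s, hs, hsw⟩ := Groth.Agent.S16441.exists_mul_eq (minimalPrimes.finite_of_isNoetherianRing A) D E
    (hE.essEt inferInstance) u hu (huE (by simp))
  have hsQ : algebraMap A S s ∈ Q := by
    rw [show algebraMap A S s = (u : S) * w from (congrArg Subtype.val hsw).symm]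
    exact Q.mul_mem_right _ huQ
  exact Set.disjoint_left.1 (Ideal.disjoint_nonZeroDivisors_of_mem_minimalPrimes (comap_mem_minimalPrimes (A := A) hQ))
    (show s ∈ Q.comap (algebraMap A S) from hsQ) hs

/-- A map to a field with minimal kernel extends to the fractions of an intermediate ring. -/
theorem exists_frac [IsNoetherianRing A] [IsReduced A] (D : Subalgebra A S) {K : Type u} [Field K]
    [Algebra A K] (π : S →ₐ[A] K) (hπ : RingHom.ker π ∈ minimalPrimes S) :
    ∃ ψ : FractionRing D →ₐ[A] K, ∀ d : D, ψ (algebraMap D (FractionRing D) d) = π d := by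
  have hu : ∀ u : nonZeroDivisors D, IsUnit (π.comp D.val (u : D)) := fun u =>
    isUnit_iff_ne_zero.2 fun h => notMem_minimalPrimes D u.2 hπ h
  exact ⟨IsLocalization.liftAlgHom hu, fun d => IsLocalization.lift_eq _ d⟩

/-- The kernel of a map to a field defined on a minimal prime quotient. -/
theorem ker_toAlgHom_quotient (Q : Ideal S) [Q.IsPrime] :
    RingHom.ker ((IsScalarTower.toAlgHom A (S ⧸ Q) (FractionRing (S ⧸ Q))).comp (Ideal.Quotient.mkₐ A Q)) = Q := by
  ext s
  show algebraMap (S ⧸ Q) (FractionRing (S ⧸ Q)) (Ideal.Quotient.mk Q s) = 0 ↔ _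
  rw [map_eq_zero_iff _ (IsFractionRing.injective (S ⧸ Q) (FractionRing (S ⧸ Q))), Ideal.Quotient.eq_zero_iff_mem]

/-- The residue of an integral element of the field is the given residue of the strict henselization. -/
def Agree {K : Type u} [Field K] [Algebra A K] (π : S →ₐ[A] K) (y : ResidueField S) (c : K) : Prop :=
  ∃ s : S, residue S s = y ∧ IsSmallElem A (π s - c)

section

variable {K : Type u} [Field K] [Algebra A K] (π : S →ₐ[A] K)

theorem agree_iff [IsLocalRing (integralClosure A K)] (s : S) (c : integralClosure A K) :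
    Agree π (residue S s) (c : K) ↔
      ∀ hs : IsIntegral A (π s), residue (integralClosure A K) ⟨π s, hs⟩ = residue _ c := by
  haveI := isIntegral (A := A) (S := S)
  let g : S →ₐ[A] integralClosure A K :=
    π.codRestrict (integralClosure A K) fun x => (Algebra.IsIntegral.isIntegral (R := A) x).map π
  haveI : IsLocalHom g.toRingHom := isLocalHom_algHom g
  constructor
  · rintro ⟨t, ht, hsmall⟩ hs
    have h1 : residue _ (g t) = residue _ c := by
      rw [← sub_eq_zero, ← map_sub, residue_eq_zero_iff]
      exact (isSmallElem_iff (g t - c)).1 hsmall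
    have h2 : residue _ (g s) = residue _ (g t) := by
      rw [← sub_eq_zero, ← map_sub, residue_eq_zero_iff, ← map_sub]
      refine map_nonunit g.toRingHom _ ?_
      rw [← residue_eq_zero_iff, map_sub, ht, sub_self]
    exact h2.trans h1
  · intro h
    refine ⟨s, rfl, ?_⟩
    refine (isSmallElem_iff (g s - c)).2 ?_
    rw [← residue_eq_zero_iff, map_sub, sub_eq_zero]
    exact h _

theorem Agree.isIntegral {y : ResidueField S} {c : K} (h : Agree π y c) : IsIntegral A c := by
  haveI := StrictResidue.isIntegral (A := A) (S := S)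
  obtain ⟨s, -, hs⟩ := h
  have h1 := ((Algebra.IsIntegral.isIntegral (R := A) s).map π).sub (IsSmallElem.isIntegral hs)
  rwa [sub_sub_cancel] at h1

theorem agree_self (s : S) : Agree π (residue S s) (π s) :=
  ⟨s, rfl, by rw [sub_self]; exact ⟨X, monic_X, fun i hi => by
    rw [natDegree_X] at hi; obtain rfl : i = 0 := by omega
    simp, by simp⟩⟩

theorem Agree.unique {y y' : ResidueField S} {c : K} (h : Agree π y c) (h' : Agree π y' c) : y = y' := by
  haveI := isLocalRing_integralClosure (A := A) (K := K)
  haveI := StrictResidue.isIntegral (A := A) (S := S)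
  obtain ⟨s, rfl⟩ := residue_surjective y
  obtain ⟨s', rfl⟩ := residue_surjective y'
  let g : S →ₐ[A] integralClosure A K :=
    π.codRestrict (integralClosure A K) fun x => (Algebra.IsIntegral.isIntegral (R := A) x).map π
  haveI : IsLocalHom g.toRingHom := isLocalHom_algHom g
  have h1 := (agree_iff π s ⟨c, Agree.isIntegral π h⟩).1 h (g s).2
  have h2 := (agree_iff π s' ⟨c, Agree.isIntegral π h⟩).1 h' (g s').2
  apply (ResidueField.map g.toRingHom).injective
  exact h1.trans h2.symm

theorem agree_zero_iff {z : K} : Agree π 0 z ↔ IsSmallElem A z := by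
  haveI := StrictResidue.isIntegral (A := A) (S := S)
  constructor
  · rintro ⟨s, hs, hsm⟩
    have h1 := isSmallElem_add (isSmallElem_of_not_isUnit π (b := s) (by
      rw [← residue_ne_zero_iff_isUnit, hs]; exact fun h => h rfl)) (isSmallElem_neg hsm)
    rwa [← sub_eq_add_neg, sub_sub_cancel] at h1
  · intro hz
    exact ⟨0, map_zero _, by rw [map_zero, zero_sub]; exact isSmallElem_neg hz⟩

theorem Agree.congr {y : ResidueField S} {c c' : K} (h : Agree π y c) (hc : IsSmallElem A (c - c')) :
    Agree π y c' := by
  obtain ⟨s, hs, hsm⟩ := h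
  exact ⟨s, hs, by rw [← sub_add_sub_cancel (π s) c c']; exact isSmallElem_add hsm hc⟩

/-- An integral element with a separable residual equation agrees with a residue of `S`. -/
theorem exists_agree_of_separable (c : K) (hc : IsIntegral A c) (P : A[X]) (hP : (P.map (residue A)).Separable)
    (h0 : IsSmallElem A (aeval c P)) : ∃ y, Agree π y c := by
  haveI := isLocalRing_integralClosure (A := A) (K := K)
  haveI := isIntegral (A := A) (S := S)
  haveI := (inferInstance : Hensel.IsStrictHenselization A S).isSepClosure.sep_closed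
  let g : S →ₐ[A] integralClosure A K :=
    π.codRestrict (integralClosure A K) fun x => (Algebra.IsIntegral.isIntegral (R := A) x).map π
  haveI : IsLocalHom g.toRingHom := isLocalHom_algHom g
  let ρ := ResidueField.map g.toRingHom
  let c' : integralClosure A K := ⟨c, hc⟩
  let Pk := (P.map (residue A)).map (algebraMap (ResidueField A) (ResidueField S))
  have hsplit : Pk.Splits := IsSepClosed.splits_of_separable _ hP.map
  have h1 : (Pk.map ρ).eval (residue _ c') = 0 := by
    rw [Polynomial.map_map, Polynomial.map_map,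
      show (ρ.comp (algebraMap (ResidueField A) (ResidueField S))).comp (residue A) =
        (residue _).comp (algebraMap A (integralClosure A K)) from RingHom.ext fun a => by
          show residue _ (g (algebraMap A S a)) = _
          rw [g.commutes]; rfl,
      ← Polynomial.map_map, eval_map, eval₂_at_apply, eval_map, ← aeval_def, residue_eq_zero_iff,
      ← isSmallElem_iff]
    show IsSmallElem A ((integralClosure A K).val (aeval c' P))
    rw [← aeval_algHom_apply]
    exact h0
  rw [hsplit.eq_prod_roots, Polynomial.map_mul, map_C, eval_mul, eval_C, mul_eq_zero,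
    map_eq_zero_iff _ ρ.injective, leadingCoeff_eq_zero] at h1
  have h2 := h1.resolve_left hP.map.ne_zero
  rw [Polynomial.map_multiset_prod, eval_multiset_prod, Multiset.prod_eq_zero_iff] at h2
  obtain ⟨q, hq, hq0⟩ := Multiset.mem_map.1 h2
  obtain ⟨q', hq', rfl⟩ := Multiset.mem_map.1 hq
  obtain ⟨α, -, rfl⟩ := Multiset.mem_map.1 hq'
  obtain ⟨s, rfl⟩ := residue_surjective α
  refine ⟨residue S s, (agree_iff π s c').2 fun hs => ?_⟩
  rw [Polynomial.map_sub, map_X, map_C, eval_sub, eval_X, eval_C, sub_eq_zero] at hq0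
  exact hq0.symm

end

/-- Agreement of residues is transported by automorphisms respecting the kernels. -/
theorem agree_map {E : Subalgebra A S} [IsLocalRing E] [IsLocalHom (algebraMap E S)]
    {K K' : Type u} [Field K] [Algebra A K] [Field K'] [Algebra A K'] (π : S →ₐ[A] K) (π' : S →ₐ[A] K')
    (g : E ≃ₐ[A] E) (hker : ∀ e : E, π' (g e : S) = 0 ↔ π (e : S) = 0) (a b : E) (ha : g a = a) (hb : g b = b)
    (hb0 : π (b : S) ≠ 0) (c : K) (hc : c * π (b : S) = π (a : S))
    (c' : K') (hc' : c' * π' (b : S) = π' (a : S)) (e : E)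
    (he : Agree π (residue S (e : S)) c) : Agree π' (residue S (g e : S)) c' := by
  haveI := isLocalRing_integralClosure (A := A) (K := K)
  haveI := isIntegral (A := A) (S := S)
  have hint : IsIntegral A c := Agree.isIntegral π he
  have hb0' : π' (b : S) ≠ 0 := fun h => hb0 ((hker b).1 (by rw [hb]; exact h))
  let πE : E →ₐ[A] K := π.comp E.val
  let πE' : E →ₐ[A] K' := π'.comp E.val
  have hsm : IsSmallElem A (πE e - c) := by
    have h := (agree_iff π (e : S) ⟨c, hint⟩).1 he
      ((Algebra.IsIntegral.isIntegral (R := A) (e : S)).map π)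
    rw [← sub_eq_zero, ← map_sub, residue_eq_zero_iff, ← isSmallElem_iff] at h
    exact h
  obtain ⟨f, hm, hco, hf⟩ := hsm
  let P : E → E := fun x => ∑ i ∈ Finset.range (f.natDegree + 1),
    algebraMap A E (f.coeff i) * (b * x - a) ^ i * b ^ (f.natDegree - i)
  have hP : ∀ (L : Type u) [Field L] [Algebra A L] (q : E →ₐ[A] L) (d : L), d * q b = q a →
      ∀ x, q (P x) = q b ^ f.natDegree * aeval (q x - d) f := fun L _ _ q d hd x => by
    rw [map_sum, aeval_eq_sum_range, Finset.mul_sum]
    refine Finset.sum_congr rfl fun i hi => ?_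
    rw [map_mul, map_mul, map_pow, map_pow, map_sub, map_mul, AlgHom.commutes, Algebra.smul_def,
      ← hd, show q b * q x - d * q b = q b * (q x - d) by ring, mul_pow]
    have hpow : q b ^ i * q b ^ (f.natDegree - i) = q b ^ f.natDegree := by
      rw [← pow_add, Nat.add_sub_cancel' (Nat.lt_succ_iff.1 (Finset.mem_range.1 hi))]
    linear_combination (algebraMap A L (f.coeff i) * (q x - d) ^ i) * hpow
  have hgP : g (P e) = P (g e) := by
    simp only [P, map_sum, map_mul, map_pow, map_sub, AlgEquiv.commutes, ha, hb]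
  have h1 : πE' (P (g e)) = 0 := by
    rw [← hgP]
    exact (hker _).2 ((hP K πE c hc e).trans (by rw [hf, mul_zero]))
  rw [hP K' πE' c' hc', mul_eq_zero] at h1
  exact ⟨_, rfl, f, hm, hco, h1.resolve_left (pow_ne_zero _ hb0')⟩

/-- Polynomials respect agreement. -/
theorem agree_aeval {K : Type u} [Field K] [Algebra A K] (π : S →ₐ[A] K) {s : S} {c : K}
    (h : Agree π (residue S s) c) (P : A[X]) : Agree π (residue S (aeval s P)) (aeval c P) := by
  haveI := isLocalRing_integralClosure (A := A) (K := K)
  haveI := isIntegral (A := A) (S := S)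
  let g : S →ₐ[A] integralClosure A K :=
    π.codRestrict (integralClosure A K) fun x => (Algebra.IsIntegral.isIntegral (R := A) x).map π
  let c' : integralClosure A K := ⟨c, Agree.isIntegral π h⟩
  rw [show aeval c P = ((aeval c' P : integralClosure A K) : K) from
    (aeval_algHom_apply (integralClosure A K).val c' P)]
  refine (agree_iff π _ _).2 fun hs => ?_
  have h1 : residue _ (g s) = residue _ c' := (agree_iff π s c').1 h (g s).2
  show residue _ (g (aeval s P)) = _
  rw [← aeval_algHom_apply]
  show residue _ (aeval (g s) P) = residue _ (aeval c' P)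
  rw [aeval_def, aeval_def, hom_eval₂, hom_eval₂, h1]

section Normalisation

variable [IsNoetherianRing A] [IsReduced A] (D : Subalgebra A S)

theorem isIntegral_normalisation (z : integralClosure D (FractionRing D)) : IsIntegral A (z : FractionRing D) := by
  haveI := isIntegral (A := A) (S := S)
  haveI : Algebra.IsIntegral A D :=
    ⟨fun d => (isIntegral_algHom_iff D.val Subtype.val_injective).1 (Algebra.IsIntegral.isIntegral (d : S))⟩
  exact isIntegral_trans (R := A) (A := D) _ z.2

/-- A map to a field cuts out a maximal ideal of the normalisation. -/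
theorem exists_maximal {K : Type u} [Field K] [Algebra A K] (ψ : FractionRing D →ₐ[A] K) :
    ∃ N : Ideal (integralClosure D (FractionRing D)), N.IsMaximal ∧
      ∀ z : integralClosure D (FractionRing D), z ∈ N ↔ IsSmallElem A (ψ (z : FractionRing D)) := by
  haveI := isLocalRing_integralClosure (A := A) (K := K)
  let ι : integralClosure D (FractionRing D) →ₐ[A] FractionRing D :=
    ((integralClosure D (FractionRing D)).val).restrictScalars A
  let f : integralClosure D (FractionRing D) →ₐ[A] integralClosure A K :=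
    (ψ.comp ι).codRestrict (integralClosure A K) fun z => (isIntegral_normalisation D z).map ψ
  haveI : Algebra.IsIntegral A (integralClosure D (FractionRing D)) :=
    ⟨fun z => (isIntegral_algHom_iff ι Subtype.val_injective).1 (isIntegral_normalisation D z)⟩
  haveI : ((maximalIdeal (integralClosure A K)).comap f.toRingHom).IsPrime := Ideal.IsPrime.comap _
  refine ⟨(maximalIdeal (integralClosure A K)).comap f.toRingHom,
    Ideal.isMaximal_of_isIntegral_of_isMaximal_comap (R := A) _ ?_, fun z => (isSmallElem_iff (f z)).symm⟩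
  rw [Ideal.comap_comap, show f.toRingHom.comp (algebraMap A _) = algebraMap A (integralClosure A K) from f.comp_algebraMap]
  exact Ideal.isMaximal_comap_of_isIntegral_of_isMaximal _

/-- Every maximal ideal of the normalisation comes from a minimal prime of the strict henselization. -/
theorem exists_minimalPrime (M : Ideal (integralClosure D (FractionRing D))) [M.IsMaximal] :
    ∃ (K : Type u) (_ : Field K) (_ : Algebra A K) (π : S →ₐ[A] K) (ψ : FractionRing D →ₐ[A] K),
      RingHom.ker π ∈ minimalPrimes S ∧ (∀ d : D, ψ (algebraMap D (FractionRing D) d) = π d) ∧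
      ∀ z : integralClosure D (FractionRing D), z ∈ M ↔ IsSmallElem A (ψ (z : FractionRing D)) := by
  classical
  haveI := isReduced (A := A) (S := S)
  haveI := isNoetherianRing (A := A) (S := S)
  have hfin := minimalPrimes.finite_of_isNoetherianRing S
  let π : ∀ Q : minimalPrimes S, S →ₐ[A] FractionRing (S ⧸ Q.1) := fun Q =>
    (IsScalarTower.toAlgHom A (S ⧸ Q.1) (FractionRing (S ⧸ Q.1))).comp (Ideal.Quotient.mkₐ A Q.1)
  haveI : ∀ Q : minimalPrimes S, Q.1.IsPrime := fun Q => Ideal.minimalPrimes_isPrime Q.2
  have hker : ∀ Q : minimalPrimes S, RingHom.ker (π Q) = Q.1 := fun Q => ker_toAlgHom_quotient Q.1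
  choose ψ hψ using fun Q : minimalPrimes S => exists_frac D (π Q) ((hker Q).symm ▸ Q.2)
  let ι : integralClosure D (FractionRing D) →ₐ[A] FractionRing D :=
    ((integralClosure D (FractionRing D)).val).restrictScalars A
  let J : minimalPrimes S → Ideal (integralClosure D (FractionRing D)) := fun Q =>
    RingHom.ker ((ψ Q).comp ι)
  haveI := hfin.to_subtype
  haveI := Fintype.ofFinite (minimalPrimes S)
  have hJ : Finset.univ.inf J ≤ M := by
    intro z hz
    rw [Submodule.mem_finsetInf] at hz
    obtain ⟨⟨a, b⟩, hab⟩ := IsLocalization.surj (nonZeroDivisors D) (z : FractionRing D)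
    have ha : (a : S) = 0 := IsNilpotent.eq_zero (by
      refine nilpotent_iff_mem_prime.2 fun P hP => ?_
      obtain ⟨Q, hQ, hQP⟩ := Ideal.exists_minimalPrimes_le (bot_le (a := P))
      refine hQP ?_
      show (a : S) ∈ (⟨Q, hQ⟩ : minimalPrimes S).1
      rw [← hker ⟨Q, hQ⟩]
      show π ⟨Q, hQ⟩ (a : S) = 0
      rw [← hψ, ← hab, map_mul, show ψ ⟨Q, hQ⟩ (z : FractionRing D) = 0 from hz _ (Finset.mem_univ _), zero_mul])
    have hz0 : (z : FractionRing D) = 0 := by
      rw [← (IsLocalization.map_units (FractionRing D) b).mul_left_eq_zero, hab,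
        show a = 0 from Subtype.ext ha, map_zero]
    rw [show z = 0 from Subtype.ext hz0]
    exact zero_mem _
  obtain ⟨Q, -, hQ⟩ := (Ideal.IsPrime.inf_le' (s := Finset.univ) inferInstance).1 hJ
  obtain ⟨N, hN, hNz⟩ := exists_maximal D (ψ Q)
  refine ⟨_, inferInstance, inferInstance, π Q, ψ Q, (hker Q).symm ▸ Q.2, hψ Q, fun z => ?_⟩
  suffices M = N by rw [this]; exact hNz z
  haveI := hN
  let f := ((ψ Q).comp ι).rangeRestrict
  have hfs : Function.Surjective f := AlgHom.rangeRestrict_surjective _
  haveI : Algebra.IsIntegral A ((ψ Q).comp ι).range := ⟨fun ⟨x, z, hzx⟩ => by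
    rw [← isIntegral_algHom_iff ((ψ Q).comp ι).range.val Subtype.val_injective]
    exact hzx ▸ (isIntegral_normalisation D z).map (ψ Q)⟩
  haveI : IsLocalRing ((ψ Q).comp ι).range := Groth.EtaleAlgebra.isLocalRing_of_isIntegral_domain A _
  have hkerf : RingHom.ker f.toRingHom = J Q := by
    ext w
    show f w = 0 ↔ _
    rw [← Subtype.coe_inj]
    rfl
  have hJN : J Q ≤ N := fun w hw => by
    rw [hNz, show ψ Q (w : FractionRing D) = 0 from hw]
    exact ⟨X, monic_X, fun i hi => by
      rw [natDegree_X] at hi; obtain rfl : i = 0 := by omega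
      simp, by simp⟩
  have key : ∀ P : Ideal (integralClosure D (FractionRing D)), P.IsMaximal → J Q ≤ P →
      P = (maximalIdeal ((ψ Q).comp ι).range).comap f.toRingHom := by
    intro P hP hle
    haveI := hP
    haveI : ((maximalIdeal ((ψ Q).comp ι).range).comap f.toRingHom).IsMaximal :=
      Ideal.comap_isMaximal_of_surjective _ hfs
    refine hP.eq_of_le (Ideal.IsMaximal.ne_top ‹_›) fun w hw hu => ?_
    obtain ⟨v, hv⟩ := hu.exists_right_inv
    obtain ⟨v, rfl⟩ := hfs v
    refine hP.ne_top ((Ideal.eq_top_iff_one _).2 ?_)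
    have h1 : w * v - 1 ∈ P := hle (hkerf ▸ (by
      show f (w * v - 1) = 0
      rw [map_sub, map_mul, map_one]
      exact sub_eq_zero.2 hv))
    have h2 := P.sub_mem (P.mul_mem_right v hw) h1
    rwa [sub_sub_cancel] at h2
  rw [key M inferInstance hQ, key N hN hJN]

/-- Integral elements in the image of the fractions come from the normalisation. -/
theorem exists_normalisation_preimage {K : Type u} [Field K] [Algebra A K] (π : S →ₐ[A] K)
    (hπ : RingHom.ker π ∈ minimalPrimes S) (ψ : FractionRing D →ₐ[A] K)
    (hψ : ∀ d : D, ψ (algebraMap D (FractionRing D) d) = π d) (z : FractionRing D)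
    (hz : IsIntegral A (ψ z)) : ∃ w : integralClosure D (FractionRing D), ψ (w : FractionRing D) = ψ z := by
  classical
  haveI := isReduced (A := A) (S := S)
  haveI := isNoetherianRing (A := A) (S := S)
  haveI := isIntegral (A := A) (S := S)
  haveI : Algebra.IsIntegral A D :=
    ⟨fun d => (isIntegral_algHom_iff D.val Subtype.val_injective).1 (Algebra.IsIntegral.isIntegral (d : S))⟩
  set Q := RingHom.ker π with hQdef
  haveI : Q.IsPrime := Ideal.minimalPrimes_isPrime hπ
  let p : Ideal D := Q.comap D.val.toRingHom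
  haveI : p.IsPrime := Ideal.IsPrime.comap _
  have hfin := minimalPrimes.finite_of_isNoetherianRing S
  let T : Finset (Ideal D) :=
    (hfin.toFinset.image fun P : Ideal S => P.comap D.val.toRingHom).erase p
  have hTp : ∀ q ∈ T, q.IsPrime ∧ q.comap (algebraMap A D) ∈ minimalPrimes A := by
    intro q hq
    obtain ⟨P, hP, rfl⟩ := Finset.mem_image.1 (Finset.mem_of_mem_erase hq)
    haveI := Ideal.minimalPrimes_isPrime (hfin.mem_toFinset.1 hP)
    refine ⟨Ideal.IsPrime.comap _, ?_⟩
    rw [Ideal.comap_comap, show D.val.toRingHom.comp (algebraMap A D) = algebraMap A S from D.val.comp_algebraMap]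
    exact comap_mem_minimalPrimes (hfin.mem_toFinset.1 hP)
  have hinc : ∀ q q' : Ideal D, q.IsPrime → q'.IsPrime → q'.comap (algebraMap A D) ∈ minimalPrimes A →
      q ≤ q' → q = q' := by
    intro q q' hq hq' hmin hle
    haveI := hq
    haveI := hq'
    by_contra hne
    have h1 := Ideal.IntegralClosure.comap_lt_comap (R := A) (I := q) (J := q') (lt_of_le_of_ne hle hne)
    exact h1.not_ge (hmin.2 ⟨Ideal.IsPrime.comap _, bot_le⟩ h1.le)
  have hpmin : p.comap (algebraMap A D) ∈ minimalPrimes A := by
    rw [Ideal.comap_comap, show D.val.toRingHom.comp (algebraMap A D) = algebraMap A S from D.val.comp_algebraMap]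
    exact comap_mem_minimalPrimes hπ
  obtain ⟨t, htT, htp⟩ : ∃ t : D, (∀ q ∈ T, t ∈ q) ∧ t ∉ p := by
    by_contra hc
    push Not at hc
    have hle : T.inf id ≤ p := fun t ht => hc t fun q hq => (Submodule.mem_finsetInf.1 ht) q hq
    obtain ⟨q, hq, hqp⟩ := (Ideal.IsPrime.inf_le' (s := T) (f := id) inferInstance).1 hle
    exact Finset.ne_of_mem_erase hq (hinc q p (hTp q hq).1 inferInstance hpmin hqp)
  obtain ⟨t', ht'p, ht'T⟩ : ∃ t' : D, t' ∈ p ∧ ∀ q ∈ T, t' ∉ q := by
    by_contra hc
    push Not at hc
    have hle : (p : Set D) ⊆ ⋃ q ∈ (↑T : Set (Ideal D)), (q : Set D) := fun t ht => by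
      obtain ⟨q, hq, htq⟩ := hc t ht
      exact Set.mem_biUnion hq htq
    obtain ⟨q, hq, hpq⟩ := (Ideal.subset_union_prime ⊥ ⊥ (fun i hi _ _ => (hTp i hi).1)).1 hle
    exact Finset.ne_of_mem_erase hq (hinc p q inferInstance (hTp q hq).1 (hTp q hq).2 hpq).symm
  have hzero : ∀ d : D, d ∈ p → (∀ q ∈ T, d ∈ q) → d = 0 := fun d hdp hdT =>
    Subtype.ext (IsNilpotent.eq_zero (nilpotent_iff_mem_prime.2 fun P hP => by
      obtain ⟨P₀, hP₀, hle⟩ := Ideal.exists_minimalPrimes_le (bot_le (a := P))
      refine hle ?_
      by_cases h : P₀.comap D.val.toRingHom = p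
      · exact (h.symm ▸ hdp : d ∈ P₀.comap D.val.toRingHom)
      · exact hdT _ (Finset.mem_erase.2 ⟨h, Finset.mem_image.2 ⟨P₀, hfin.mem_toFinset.2 hP₀, rfl⟩⟩)))
  have hu : t + t' ∈ nonZeroDivisors D := mem_nonZeroDivisors_iff_right.2 fun v hv => hzero v
    (by
      refine (Ideal.IsPrime.mem_or_mem inferInstance (show v * (t + t') ∈ p from hv ▸ zero_mem _)).resolve_right
        fun h => htp ?_
      exact (Ideal.add_mem_iff_left _ ht'p).1 h)
    fun q hq => ((hTp q hq).1.mem_or_mem (show v * (t + t') ∈ q from hv ▸ zero_mem _)).resolve_right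
      fun h => ht'T q hq ((Ideal.add_mem_iff_right _ (htT q hq)).1 h)
  let ι : D →ₐ[A] FractionRing D := IsScalarTower.toAlgHom A D (FractionRing D)
  obtain ⟨ui, hui⟩ := (IsLocalization.map_units (FractionRing D) (⟨t + t', hu⟩ : nonZeroDivisors D)).exists_right_inv
  have hui' : (ι t + ι t') * ui = 1 := by rw [← map_add]; exact hui
  have htt' : ι t * ι t' = 0 := by
    rw [← map_mul, hzero (t * t') (p.mul_mem_left _ ht'p) (fun q hq => q.mul_mem_right _ (htT q hq)), map_zero]
  set e := ι t * ui with he
  have hee : e * e = e := by linear_combination (ι t * ui) * hui' - ui ^ 2 * htt'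
  have hπt' : π (t' : S) = 0 := ht'p
  have hψe : ψ e = 1 := by
    have h1 := congrArg ψ hui'
    rw [map_mul, map_add, map_one, show ψ (ι t') = 0 from (hψ t').trans hπt', add_zero, ← map_mul] at h1
    exact h1
  obtain ⟨g, hgm, hg⟩ := hz
  rw [← aeval_def, aeval_algHom_apply] at hg
  have heg : e * aeval z g = 0 := by
    obtain ⟨⟨a, b⟩, hab⟩ := IsLocalization.surj (nonZeroDivisors D) (aeval z g)
    have hπa : π (a : S) = 0 := by rw [← hψ, ← hab, map_mul, hg, zero_mul]
    have hta : ι t * ι a = 0 := by
      rw [← map_mul, hzero (t * a) (p.mul_mem_left _ hπa) (fun q hq => q.mul_mem_right _ (htT q hq)), map_zero]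
    refine (IsLocalization.map_units (FractionRing D) b).mul_left_eq_zero.1 ?_
    rw [mul_assoc, hab, he]
    show ι t * ui * ι a = 0
    linear_combination ui * hta
  have hint : IsIntegral A (e * z) := by
    refine ⟨X * g, monic_X.mul hgm, ?_⟩
    rw [← aeval_def, map_mul, aeval_X]
    have key : e * aeval (e * z) g = e * aeval z g := by
      rw [aeval_eq_sum_range, aeval_eq_sum_range, Finset.mul_sum, Finset.mul_sum]
      refine Finset.sum_congr rfl fun i _ => ?_
      rw [mul_smul_comm, mul_smul_comm, mul_pow, ← mul_assoc]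
      congr 2
      rw [← pow_succ']
      exact (show IsIdempotentElem e from hee).pow_succ_eq i
    rw [mul_comm e z, mul_assoc, mul_comm z e, key, heg, mul_zero]
  exact ⟨⟨e * z, hint.tower_top⟩, by rw [map_mul, hψe, one_mul]⟩

end Normalisation

end StrictResidue

end Groth.Ega4Algebra2
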