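import Groth.Agent.Ega4Algebra2.ResidualSetup
import Groth.Agent.Ega4Algebra2.StrictResidue
import Groth.Agent.EtaleAlgebra.WeaklyEtaleField
import Mathlib

/-! Residue maps of the branches of a strict henselization on the integral closure in the total ring of
fractions, points of residual products, and the kernel of the residual product map. -/

set_option autoImplicit false
universe u

open IsLocalRing EGA4loc Polynomial
open scoped TensorProduct

namespace Groth.Ega4Algebra2.Residual

/-- A maximal ideal containing the kernel of an integral map to a local ring is the preimage of the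
maximal ideal. -/
theorem eq_comap_maximalIdeal {T W : Type u} [CommRing T] [CommRing W] [IsLocalRing W] (f : T →+* W)
    (hf : f.IsIntegral) (M : Ideal T) [M.IsMaximal] (hM : RingHom.ker f ≤ M) :
    M = (maximalIdeal W).comap f := by
  letI := f.toAlgebra
  haveI : Algebra.IsIntegral T W := ⟨hf⟩
  obtain ⟨P, -, hP, hPM⟩ := Ideal.exists_ideal_over_prime_of_isIntegral M (⊥ : Ideal W) (by
    intro x hx
    exact hM hx)
  have hPmax : P.IsMaximal := Ideal.isMaximal_of_isIntegral_of_isMaximal_comap (R := T) P (hPM ▸ inferInstance)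
  rw [← eq_maximalIdeal hPmax]
  exact hPM.symm

theorem isIntegral_includeRight {A B C : Type u} [CommRing A] [CommRing B] [CommRing C] [Algebra A B] [Algebra A C]
    (hB : ∀ b : B, IsIntegral A b) :
    ((Algebra.TensorProduct.includeRight : C →ₐ[A] B ⊗[A] C) : C →+* B ⊗[A] C).IsIntegral := by
  intro x
  induction x with
  | zero => exact RingHom.isIntegralElem_zero _
  | tmul b c =>
    rw [show b ⊗ₜ[A] c = (Algebra.TensorProduct.includeLeft : B →ₐ[A] B ⊗[A] C) b *
      (Algebra.TensorProduct.includeRight : C →ₐ[A] B ⊗[A] C) c by simp]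
    refine RingHom.IsIntegralElem.mul _ ?_ (RingHom.isIntegralElem_map _)
    obtain ⟨P, hP, hP0⟩ := hB b
    refine ⟨P.map (algebraMap A C), hP.map _, ?_⟩
    rw [eval₂_map, AlgHom.comp_algebraMap]
    have h1 := congrArg (Algebra.TensorProduct.includeLeft : B →ₐ[A] B ⊗[A] C) hP0
    rw [map_zero, ← aeval_def, ← aeval_algHom_apply] at h1
    exact h1
  | add x y hx hy => exact RingHom.IsIntegralElem.add _ hx hy

theorem isMaximal_ker_of_comp {S T Ω : Type u} [CommRing S] [CommRing T] [CommRing Ω] [IsDomain Ω] (i : S →+* T)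
    (hi : i.IsIntegral) (h : T →+* Ω) (hm : (RingHom.ker (h.comp i)).IsMaximal) : (RingHom.ker h).IsMaximal := by
  letI := i.toAlgebra
  haveI : Algebra.IsIntegral S T := ⟨hi⟩
  haveI := RingHom.ker_isPrime h
  exact Ideal.isMaximal_of_isIntegral_of_isMaximal_comap (R := S) _ hm

/-- A point of a residual product avoiding an element outside the expected kernel. -/
theorem exists_point_aux {A D N : Type u} [CommRing A] [IsLocalRing A] [CommRing D] [IsLocalRing D] [CommRing N]
    [Algebra A D] [IsLocalHom (algebraMap A D)] [Algebra A N] [Algebra.IsIntegral A N]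
    [Algebra.IsSeparable (ResidueField A) (ResidueField D)] (t : N ⊗[A] D)
    (ht : t ∉ (Ideal.jacobson (⊥ : Ideal N)).map (Algebra.TensorProduct.includeLeft : N →ₐ[A] N ⊗[A] D) ⊔
            (maximalIdeal D).map (Algebra.TensorProduct.includeRight : D →ₐ[A] N ⊗[A] D)) :
    ∃ (L : Type u) (_ : Field L) (φ : N ⊗[A] D →+* L), (∀ d ∈ maximalIdeal D, φ (1 ⊗ₜ d) = 0) ∧ φ t ≠ 0 := by
  classical
  set J := Ideal.jacobson (⊥ : Ideal N) with hJ
  set I := J.map (Algebra.TensorProduct.includeLeft : N →ₐ[A] N ⊗[A] D) ⊔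
    (maximalIdeal D).map (Algebra.TensorProduct.includeRight : D →ₐ[A] N ⊗[A] D)
  have hmJ : ∀ a ∈ maximalIdeal A, algebraMap A N a ∈ J := fun a ha => by
    rw [hJ, Ideal.jacobson, Ideal.mem_sInf]
    rintro M ⟨-, hM⟩
    haveI := hM
    have := eq_maximalIdeal (Ideal.isMaximal_comap_of_isIntegral_of_isMaximal (R := A) M)
    exact (this.symm ▸ ha : a ∈ M.comap (algebraMap A N))
  let lX : ResidueField A →+* (N ⧸ J) := Ideal.Quotient.lift (maximalIdeal A) (algebraMap A (N ⧸ J)) fun a ha =>
    Ideal.Quotient.eq_zero_iff_mem.2 (hmJ a ha)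
  letI : Algebra (ResidueField A) (N ⧸ J) := RingHom.toAlgebra (S := N ⧸ J) lX
  haveI : IsScalarTower A (ResidueField A) (N ⧸ J) := IsScalarTower.of_algebraMap_eq fun a => rfl
  haveI : IsReduced (N ⧸ J) := (Ideal.isRadical_iff_quotient_reduced J).1 (Ideal.isRadical_jacobson ⊥)
  haveI : Algebra.WeaklyEtale (ResidueField A) (ResidueField D) :=
    Groth.EtaleAlgebra.weaklyEtale_of_isSepElem Set.univ (Algebra.adjoin_univ _ _) fun x _ =>
      ⟨_, Algebra.IsSeparable.isSeparable (ResidueField A) x, minpoly.aeval _ _⟩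
  haveI : IsReduced ((N ⧸ J) ⊗[ResidueField A] ResidueField D) := Groth.EtaleAlgebra.isReduced_of_weaklyEtale (N ⧸ J) ((N ⧸ J) ⊗[ResidueField A] ResidueField D)
  let θ : N ⊗[A] D →ₐ[A] ((N ⧸ J) ⊗[ResidueField A] ResidueField D) := Algebra.TensorProduct.productMap
    (((Algebra.TensorProduct.includeLeft : (N ⧸ J) →ₐ[ResidueField A] ((N ⧸ J) ⊗[ResidueField A] ResidueField D)).restrictScalars A).comp (Ideal.Quotient.mkₐ A J))
    (((Algebra.TensorProduct.includeRight : ResidueField D →ₐ[ResidueField A] ((N ⧸ J) ⊗[ResidueField A] ResidueField D)).restrictScalars A).comp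
      (IsScalarTower.toAlgHom A D (ResidueField D)))
  let lZ : ResidueField A →+* ((N ⊗[A] D) ⧸ I) := Ideal.Quotient.lift (maximalIdeal A) (algebraMap A ((N ⊗[A] D) ⧸ I)) fun a ha =>
    Ideal.Quotient.eq_zero_iff_mem.2 (Ideal.mem_sup_left
      (Ideal.mem_map_of_mem (Algebra.TensorProduct.includeLeft : N →ₐ[A] N ⊗[A] D) (hmJ a ha)))
  letI : Algebra (ResidueField A) ((N ⊗[A] D) ⧸ I) := lZ.toAlgebra
  let f₁ : (N ⧸ J) →ₐ[ResidueField A] ((N ⊗[A] D) ⧸ I) :=
    { Ideal.Quotient.lift J ((Ideal.Quotient.mk I).comp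
        (Algebra.TensorProduct.includeLeft : N →ₐ[A] N ⊗[A] D).toRingHom) fun a ha =>
          Ideal.Quotient.eq_zero_iff_mem.2 (Ideal.mem_sup_left
            (Ideal.mem_map_of_mem (Algebra.TensorProduct.includeLeft : N →ₐ[A] N ⊗[A] D) ha)) with
      commutes' := fun z => by
        obtain ⟨a, rfl⟩ := residue_surjective z
        rfl }
  let f₂ : ResidueField D →ₐ[ResidueField A] ((N ⊗[A] D) ⧸ I) :=
    { Ideal.Quotient.lift (maximalIdeal D) ((Ideal.Quotient.mk I).comp
        (Algebra.TensorProduct.includeRight : D →ₐ[A] N ⊗[A] D).toRingHom) fun d hd =>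
          Ideal.Quotient.eq_zero_iff_mem.2 (Ideal.mem_sup_right
            (Ideal.mem_map_of_mem (Algebra.TensorProduct.includeRight : D →ₐ[A] N ⊗[A] D) hd)) with
      commutes' := fun z => by
        obtain ⟨a, rfl⟩ := residue_surjective z
        show Ideal.Quotient.mk I ((Algebra.TensorProduct.includeRight : D →ₐ[A] N ⊗[A] D) (algebraMap A D a)) = _
        rw [AlgHom.commutes]
        rfl }
  let ψ : ((N ⧸ J) ⊗[ResidueField A] ResidueField D) →ₐ[ResidueField A] ((N ⊗[A] D) ⧸ I) := Algebra.TensorProduct.lift f₁ f₂ fun _ _ => Commute.all _ _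
  have hψθ : ∀ x, ψ (θ x) = Ideal.Quotient.mk I x := fun x => by
    induction x with
    | zero => simp
    | tmul a d =>
      show ψ (((Ideal.Quotient.mk J a) ⊗ₜ[ResidueField A] (1 : ResidueField D)) * ((1 : (N ⧸ J)) ⊗ₜ residue D d)) = _
      rw [Algebra.TensorProduct.tmul_mul_tmul, mul_one, one_mul, Algebra.TensorProduct.lift_tmul]
      show Ideal.Quotient.mk I (a ⊗ₜ 1) * Ideal.Quotient.mk I (1 ⊗ₜ d) = _
      rw [← map_mul, Algebra.TensorProduct.tmul_mul_tmul, mul_one, one_mul]
    | add x y hx hy => simp only [map_add, hx, hy]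
  have hθt : θ t ≠ 0 := fun h => ht (Ideal.Quotient.eq_zero_iff_mem.1 (by rw [← hψθ, h, map_zero]))
  obtain ⟨P, hP, htP⟩ : ∃ P : Ideal ((N ⧸ J) ⊗[ResidueField A] ResidueField D), P.IsPrime ∧ θ t ∉ P := by
    by_contra hc
    push Not at hc
    exact hθt (IsNilpotent.eq_zero (nilpotent_iff_mem_prime.2 fun P hP => hc P hP))
  haveI := hP
  refine ⟨FractionRing (((N ⧸ J) ⊗[ResidueField A] ResidueField D) ⧸ P), inferInstance,
    (algebraMap ((N ⧸ J) ⊗[ResidueField A] ResidueField D) (FractionRing (((N ⧸ J) ⊗[ResidueField A] ResidueField D) ⧸ P))).comp θ.toRingHom, fun d hd => ?_, ?_⟩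
  · have h0 : θ (1 ⊗ₜ d) = 0 := by
      show θ (Algebra.TensorProduct.includeRight d) = 0
      rw [show θ (Algebra.TensorProduct.includeRight d) =
        (1 : (N ⧸ J)) ⊗ₜ[ResidueField A] residue D d from Algebra.TensorProduct.productMap_right_apply _ _ d,
        (residue_eq_zero_iff d).2 hd, TensorProduct.tmul_zero]
    rw [RingHom.comp_apply, AlgHom.toRingHom_eq_coe, RingHom.coe_coe, h0, map_zero]
  · rw [RingHom.comp_apply, AlgHom.toRingHom_eq_coe, RingHom.coe_coe, IsScalarTower.algebraMap_apply ((N ⧸ J) ⊗[ResidueField A] ResidueField D) (((N ⧸ J) ⊗[ResidueField A] ResidueField D) ⧸ P),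
      Ideal.Quotient.algebraMap_eq]
    rw [Ne, map_eq_zero_iff _ (IsFractionRing.injective (((N ⧸ J) ⊗[ResidueField A] ResidueField D) ⧸ P) (FractionRing (((N ⧸ J) ⊗[ResidueField A] ResidueField D) ⧸ P))), Ideal.Quotient.eq_zero_iff_mem]
    exact htP


variable {A S : Type u} [CommRing A] [IsLocalRing A] [CommRing S] [IsLocalRing S] [Algebra A S]

instance (Q : minimalPrimes S) : Q.1.IsPrime := Ideal.minimalPrimes_isPrime Q.2

/-- The field of a branch. -/
abbrev BranchField (Q : minimalPrimes S) : Type u := FractionRing (S ⧸ Q.1)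

theorem ker_toAlgHom (Q : minimalPrimes S) : RingHom.ker (IsScalarTower.toAlgHom A S (BranchField Q)) = Q.1 := by
  ext s
  rw [RingHom.mem_ker, IsScalarTower.coe_toAlgHom', IsScalarTower.algebraMap_apply S (S ⧸ Q.1) (BranchField Q),
    map_eq_zero_iff _ (IsFractionRing.injective (S ⧸ Q.1) (BranchField Q)), Ideal.Quotient.algebraMap_eq,
    Ideal.Quotient.eq_zero_iff_mem]

variable (A) in
/-- The extension of a branch to the total ring of fractions. -/
noncomputable def Phi (Q : minimalPrimes S) : FractionRing S →ₐ[A] BranchField Q :=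
  IsLocalization.liftAlgHom (M := nonZeroDivisors S) (f := IsScalarTower.toAlgHom A S (BranchField Q)) fun u =>
    isUnit_iff_ne_zero.2 fun h => Set.disjoint_left.1 (Ideal.disjoint_nonZeroDivisors_of_mem_minimalPrimes Q.2)
      ((ker_toAlgHom (A := A) Q).le h) u.2

@[simp]
theorem Phi_algebraMap (Q : minimalPrimes S) (s : S) :
    Phi A Q (algebraMap S (FractionRing S) s) = algebraMap S (BranchField Q) s :=
  IsLocalization.lift_eq _ s

variable (A S) in
/-- The elements of the total ring of fractions integral over the strict henselization. -/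
noncomputable abbrev intg : Subalgebra A (FractionRing S) := (integralClosure S (FractionRing S)).restrictScalars A

theorem mem_intg_of_isIntegral {z : FractionRing S} (h : IsIntegral A z) : z ∈ intg A S := h.tower_top

theorem mem_intg_of_isIntegral' (D : Subalgebra A S) {z : FractionRing S} (h : IsIntegral D z) : z ∈ intg A S :=
  h.tower_top

theorem algebraMap_mem_intg (s : S) : algebraMap S (FractionRing S) s ∈ intg A S := isIntegral_algebraMap

variable [IsLocalHom (algebraMap A S)] [Hensel.IsStrictHenselization A S]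
  (H : Subalgebra A S) [HenselianLocalRing H] [IsLocalHom (algebraMap H S)] [Hensel.IsStrictHenselization H S]

/-- The valuation-like ring of a branch. -/
noncomputable abbrev BranchRing (Q : minimalPrimes S) : Subalgebra H (BranchField Q) := integralClosure H (BranchField Q)

instance (Q : minimalPrimes S) : IsLocalRing (BranchRing H Q) := StrictResidue.isLocalRing_integralClosure

/-- A branch on the integral elements. -/
noncomputable def phiW (Q : minimalPrimes S) : intg A S →+* BranchRing H Q where
  toFun z := ⟨Phi A Q z, by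
    haveI := StrictResidue.isIntegral (A := H) (S := S)
    have h : (algebraMap S (BranchField Q)).IsIntegralElem (Phi A Q z) := by
      obtain ⟨P, hP, hP0⟩ := (z.2 : IsIntegral S (z : FractionRing S))
      refine ⟨P, hP, ?_⟩
      have h1 := congrArg (Phi A Q).toRingHom hP0
      rw [hom_eval₂, map_zero] at h1
      rwa [show (Phi A Q).toRingHom.comp (algebraMap S (FractionRing S)) = algebraMap S (BranchField Q) from
        RingHom.ext (Phi_algebraMap Q)] at h1
    exact isIntegral_trans (R := H) (A := S) _ h⟩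
  map_one' := Subtype.ext (map_one _)
  map_mul' _ _ := Subtype.ext (map_mul _ _ _)
  map_zero' := Subtype.ext (map_zero _)
  map_add' _ _ := Subtype.ext (map_add _ _ _)

@[simp]
theorem phiW_coe (Q : minimalPrimes S) (z : intg A S) : (phiW H Q z : BranchField Q) = Phi A Q z := rfl

/-- The residue map of a branch. -/
noncomputable def red (Q : minimalPrimes S) : intg A S →+* ResidueField (BranchRing H Q) :=
  (residue (BranchRing H Q)).comp (phiW H Q)

/-- The residue map on the strict henselization. -/
noncomputable def redS (Q : minimalPrimes S) : S →+* ResidueField (BranchRing H Q) :=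
  (red H Q).comp ((algebraMap S (FractionRing S)).codRestrict (intg A S) algebraMap_mem_intg)

theorem redS_eq_zero_iff (Q : minimalPrimes S) (s : S) : redS H Q s = 0 ↔ residue S s = 0 := by
  haveI := StrictResidue.isIntegral (A := H) (S := S)
  let g : S →ₐ[H] BranchRing H Q :=
    (IsScalarTower.toAlgHom H S (BranchField Q)).codRestrict _ fun s =>
      (Algebra.IsIntegral.isIntegral (R := H) s).map (IsScalarTower.toAlgHom H S (BranchField Q))
  haveI := StrictResidue.isLocalHom_algHom g
  have h : phiW H Q ⟨algebraMap S (FractionRing S) s, algebraMap_mem_intg s⟩ = g s := Subtype.ext (Phi_algebraMap Q s)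
  show residue _ (phiW H Q ⟨algebraMap S (FractionRing S) s, algebraMap_mem_intg s⟩) = 0 ↔ _
  rw [h, residue_eq_zero_iff, residue_eq_zero_iff, mem_maximalIdeal, mem_maximalIdeal, mem_nonunits_iff,
    mem_nonunits_iff]
  exact not_congr ⟨fun hu => IsLocalHom.map_nonunit (f := g.toRingHom) s hu, fun hu => hu.map g⟩

theorem redS_eq_iff (Q : minimalPrimes S) (s t : S) : redS H Q s = redS H Q t ↔ residue S s = residue S t := by
  rw [← sub_eq_zero, ← map_sub, redS_eq_zero_iff, map_sub, sub_eq_zero]

theorem red_eq_zero_iff (Q : minimalPrimes S) (z : intg A S) :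
    red H Q z = 0 ↔ IsSmallElem H (Phi A Q z) := by
  show residue _ (phiW H Q z) = 0 ↔ _
  rw [residue_eq_zero_iff]
  exact (StrictResidue.isSmallElem_iff (phiW H Q z)).symm

theorem agree_iff_red (Q : minimalPrimes S) (s : S) (z : intg A S) :
    StrictResidue.Agree (IsScalarTower.toAlgHom H S (BranchField Q)) (residue S s) (Phi A Q z) ↔
      redS H Q s = red H Q z := by
  have h : algebraMap S (BranchField Q) s = Phi A Q (algebraMap S (FractionRing S) s) := (Phi_algebraMap Q s).symm
  rw [← phiW_coe H Q z, StrictResidue.agree_iff]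
  constructor
  · intro h1
    refine Eq.trans ?_ (h1 (h ▸ (phiW H Q ⟨_, algebraMap_mem_intg s⟩).2))
    exact congrArg (residue _) (Subtype.ext h.symm)
  · intro h1 hs
    refine Eq.trans ?_ h1
    exact congrArg (residue _) (Subtype.ext h)

/-- The kernel of a residue map on a ring integral over a local ring dominated by the strict henselization
is maximal. -/
theorem isMaximal_ker {D : Type u} [CommRing D] [IsLocalRing D] (j : D →+* S) [IsLocalHom j] {N : Type u} [CommRing N]
    (k : D →+* N) (hk : k.IsIntegral) (incl : N →+* intg A S)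
    (hcomm : ∀ d, (incl (k d) : FractionRing S) = algebraMap S (FractionRing S) (j d)) (Q : minimalPrimes S) :
    (RingHom.ker ((red H Q).comp incl)).IsMaximal := by
  letI := k.toAlgebra
  haveI : Algebra.IsIntegral D N := ⟨hk⟩
  haveI := RingHom.ker_isPrime ((red H Q).comp incl)
  refine Ideal.isMaximal_of_isIntegral_of_isMaximal_comap (R := D) _ ?_
  convert maximalIdeal.isMaximal D
  ext d
  show red H Q (incl (k d)) = 0 ↔ _
  rw [show incl (k d) = (⟨algebraMap S (FractionRing S) (j d), algebraMap_mem_intg _⟩ : intg A S) from Subtype.ext (hcomm d)]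
  show redS H Q (j d) = 0 ↔ _
  rw [redS_eq_zero_iff, residue_eq_zero_iff, mem_maximalIdeal, mem_maximalIdeal, mem_nonunits_iff, mem_nonunits_iff]
  exact not_congr (isUnit_map_iff j d)

section Tensor

variable (A' : Subalgebra A (FractionRing S)) (hA'i : A' ≤ intg A S) (D : Subalgebra A S)

/-- The product map into the integral elements. -/
noncomputable def prodIntg : A' ⊗[A] D →ₐ[A] intg A S :=
  Algebra.TensorProduct.productMap (Subalgebra.inclusion hA'i)
    (((IsScalarTower.toAlgHom A S (FractionRing S)).comp D.val).codRestrict (intg A S) fun d => algebraMap_mem_intg _)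

theorem prodIntg_tmul (a : A') (d : D) :
    (prodIntg A' hA'i D (a ⊗ₜ d) : FractionRing S) = (a : FractionRing S) * algebraMap S (FractionRing S) d := rfl

/-- Agreement with any product map into an intermediate ring of fractions. -/
theorem prodIntg_eq {D' : Subalgebra A (FractionRing S)} (hD'i : D' ≤ intg A S) (hle : A' ≤ D') (ι : D →ₐ[A] D')
    (hι : ∀ d : D, (ι d : FractionRing S) = algebraMap S (FractionRing S) d) (t : A' ⊗[A] D) :
    prodIntg A' hA'i D t = Subalgebra.inclusion hD'i (Algebra.TensorProduct.productMap (Subalgebra.inclusion hle) ι t) := by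
  induction t with
  | zero => simp
  | tmul a d =>
    refine Subtype.ext ?_
    rw [prodIntg_tmul, Algebra.TensorProduct.productMap_apply_tmul]
    show _ = (a : FractionRing S) * (ι d : FractionRing S)
    rw [hι]
  | add x y hx hy => simp only [map_add, hx, hy]

variable [IsReduced A] [IsNoetherianRing A]

/-- The minimal primes of the normalization of the base lie over minimal primes. -/
theorem comap_mem_minimalPrimes' (hA'f : ∀ x ∈ A', x ∈ fractions (⊥ : Subalgebra A S)) {P : Ideal A'}
    (hP : P ∈ minimalPrimes A') : P.comap (algebraMap A A') ∈ minimalPrimes A := by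
  haveI := Ideal.minimalPrimes_isPrime hP
  have hno : ∀ s ∈ nonZeroDivisors A, algebraMap A A' s ∉ P := fun s hs h =>
    Set.disjoint_left.1 (Ideal.disjoint_nonZeroDivisors_of_mem_minimalPrimes hP) h
      (mem_nonZeroDivisors_iff_right.2 fun v hv => Subtype.ext (by
        have h1 : (v : FractionRing S) * algebraMap A (FractionRing S) s = 0 := congrArg Subtype.val hv
        exact ((isUnit_algebraMap (S := S) hs).mul_left_eq_zero).1 h1))
  have hfin := minimalPrimes.finite_of_isNoetherianRing A
  have hsub : (P.comap (algebraMap A A') : Set A) ⊆ ⋃ p ∈ (hfin.toFinset : Set (Ideal A)), (p : Set A) := fun x hx => by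
    by_contra hc
    simp only [Set.Finite.coe_toFinset, Set.mem_iUnion, not_exists] at hc
    refine hno x (mem_nonZeroDivisors_iff_right.2 fun v hv => IsNilpotent.eq_zero (nilpotent_iff_mem_prime.2 fun p hp => ?_)) hx
    obtain ⟨q, hq, hle⟩ := Ideal.exists_minimalPrimes_le (bot_le (a := p))
    haveI := Ideal.minimalPrimes_isPrime hq
    exact hle (((Ideal.minimalPrimes_isPrime hq).mem_or_mem (hv ▸ zero_mem q : v * x ∈ q)).resolve_right (hc q hq))
  obtain ⟨p, hp, hle⟩ := (Ideal.subset_union_prime ⊥ ⊥ fun i hi _ _ =>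
    Ideal.minimalPrimes_isPrime (hfin.mem_toFinset.1 hi)).1 hsub
  have hp' := hfin.mem_toFinset.1 hp
  exact le_antisymm hle (hp'.2 ⟨Ideal.IsPrime.comap _, bot_le⟩ hle) ▸ hp'

include hA'i in
/-- A point of the residual product is a branch. -/
theorem point_lift [IsLocalRing D] [IsLocalHom (algebraMap D S)]
    (hA' : ∀ x ∈ A', IsIntegral A x) (hA'f : ∀ x ∈ A', x ∈ fractions (⊥ : Subalgebra A S))
    (L : Type u) [Field L] (φ : A' ⊗[A] D →+* L) (hm : ∀ d ∈ maximalIdeal D, φ (1 ⊗ₜ d) = 0) :
    ∃ Q : minimalPrimes S, ∀ t, φ t = 0 ↔ red H Q (prodIntg A' hA'i D t) = 0 := by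
  classical
  haveI := (inferInstance : Hensel.IsStrictHenselization A S).isSepClosure.separable
  let Ω := AlgebraicClosure L
  letI : Algebra A L := (φ.comp (algebraMap A (A' ⊗[A] D))).toAlgebra
  let φ' : A' ⊗[A] D →ₐ[A] L := { φ with commutes' := fun a => rfl }
  haveI : IsLocalHom (algebraMap A D) := ⟨fun a ha => by
    have h1 := ha.map (algebraMap D S)
    rw [← IsScalarTower.algebraMap_apply] at h1
    exact isUnit_of_map_unit (algebraMap A S) a h1⟩
  let ω : ResidueField D →+* Ω := Ideal.Quotient.lift (maximalIdeal D)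
    ((algebraMap L Ω).comp (φ.comp (Algebra.TensorProduct.includeRight : D →ₐ[A] A' ⊗[A] D).toRingHom))
    fun d hd => by
      show algebraMap L Ω (φ (1 ⊗ₜ d)) = 0
      rw [hm d hd, map_zero]
  letI : Algebra (ResidueField D) Ω := ω.toAlgebra
  haveI : IsScalarTower (ResidueField A) (ResidueField D) (ResidueField S) :=
    IsScalarTower.of_algebraMap_eq fun z => by
      obtain ⟨a, rfl⟩ := residue_surjective z
      rfl
  haveI : Algebra.IsSeparable (ResidueField D) (ResidueField S) :=
    Algebra.isSeparable_tower_top_of_isSeparable (ResidueField A) _ _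
  let τ : ResidueField S →ₐ[ResidueField D] Ω := IsAlgClosed.lift
  have hτD : ∀ d : D, τ (residue S (d : S)) = algebraMap L Ω (φ (1 ⊗ₜ d)) := fun d => τ.commutes (residue D d)
  let hS' : S →ₐ[A] Ω :=
    { τ.toRingHom.comp (residue S) with
      commutes' := fun a => by
        show τ (residue S (algebraMap A S a)) = _
        have h1 := hτD (algebraMap A D a)
        rw [Subalgebra.coe_algebraMap] at h1
        rw [h1, IsScalarTower.algebraMap_apply A L Ω]
        congr 1
        exact (congrArg φ
          ((Algebra.TensorProduct.includeRight : D →ₐ[A] A' ⊗[A] D).commutes a)) }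
  let h : (A' ⊗[A] S) →ₐ[A] Ω := Algebra.TensorProduct.lift
    ((IsScalarTower.toAlgHom A L Ω).comp (φ'.comp Algebra.TensorProduct.includeLeft)) hS' fun _ _ => Commute.all _ _
  let ν : A' ⊗[A] D →ₐ[A] (A' ⊗[A] S) := Algebra.TensorProduct.map (AlgHom.id A A') D.val
  have hν : ∀ t, h (ν t) = algebraMap L Ω (φ t) := fun t => by
    induction t with
    | zero => simp
    | tmul a d =>
      show algebraMap L Ω (φ (a ⊗ₜ 1)) * τ (residue S (d : S)) = _
      rw [hτD, ← map_mul, ← map_mul, Algebra.TensorProduct.tmul_mul_tmul, mul_one, one_mul]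
    | add x y hx hy => simp only [map_add, hx, hy]
  haveI := RingHom.ker_isPrime h
  obtain ⟨𝔮, h𝔮, h𝔮le⟩ := Ideal.exists_minimalPrimes_le (bot_le (a := RingHom.ker h))
  haveI := Ideal.minimalPrimes_isPrime h𝔮
  haveI := flat (A := A) (S := S)
  haveI := Algebra.HasGoingDown.of_flat (R := A') (S := (A' ⊗[A] S))
  have h𝔮A' : 𝔮.comap (algebraMap A' (A' ⊗[A] S)) ∈ minimalPrimes A' := by
    refine ⟨⟨Ideal.IsPrime.comap _, bot_le⟩, fun p hp hle => ?_⟩
    haveI := hp.1
    haveI : 𝔮.LiesOver (𝔮.comap (algebraMap A' (A' ⊗[A] S))) := ⟨rfl⟩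
    obtain ⟨P, hP, _, hPo⟩ := Ideal.exists_ideal_le_liesOver_of_le (S := (A' ⊗[A] S)) 𝔮 hle
    rw [hPo.over, le_antisymm hP (h𝔮.2 ⟨‹_›, bot_le⟩ hP)]
  let incR : S →ₐ[A] (A' ⊗[A] S) := Algebra.TensorProduct.includeRight
  let QI : Ideal S := 𝔮.comap incR.toRingHom
  haveI : QI.IsPrime := Ideal.IsPrime.comap _
  have hQA : QI.comap (algebraMap A S) ∈ minimalPrimes A := by
    have h1 := comap_mem_minimalPrimes' A' hA'f h𝔮A'
    rwa [Ideal.comap_comap, ← IsScalarTower.algebraMap_eq, ← incR.comp_algebraMap, ← Ideal.comap_comap] at h1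
  obtain ⟨Q, hQ⟩ : ∃ Q : minimalPrimes S, Q.1 = QI := ⟨⟨QI, mem_minimalPrimes_of_comap hQA⟩, rfl⟩
  refine ⟨Q, ?_⟩
  let gT : (A' ⊗[A] S) →ₐ[A] intg A S := Algebra.TensorProduct.productMap (Subalgebra.inclusion hA'i)
    ((IsScalarTower.toAlgHom A S (FractionRing S)).codRestrict (intg A S) algebraMap_mem_intg)
  have hgν : ∀ t, gT (ν t) = prodIntg A' hA'i D t := fun t => by
    induction t with
    | zero => simp
    | tmul a d => rfl
    | add x y hx hy => simp only [map_add, hx, hy]
  let f : (A' ⊗[A] S) →+* BranchRing H Q := (phiW H Q).comp gT.toRingHom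
  have hden : ∀ x : (A' ⊗[A] S), ∃ s ∈ nonZeroDivisors A, ∃ σ : S, algebraMap A (A' ⊗[A] S) s * x = incR σ := by
    intro x
    induction x with
    | zero => exact ⟨1, one_mem _, 0, by simp⟩
    | tmul a σ =>
      obtain ⟨s, hs, d, hd, hsd⟩ := hA'f _ a.2
      obtain ⟨b, rfl⟩ := Algebra.mem_bot.1 hd
      refine ⟨s, hs, algebraMap A S b * σ, ?_⟩
      have h1 : algebraMap A A' s * a = algebraMap A A' b :=
        Subtype.ext (hsd.trans (IsScalarTower.algebraMap_apply A S (FractionRing S) b).symm)
      show algebraMap A (A' ⊗[A] S) s * (a ⊗ₜ σ) = 1 ⊗ₜ (algebraMap A S b * σ)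
      rw [Algebra.TensorProduct.algebraMap_apply, Algebra.TensorProduct.tmul_mul_tmul, one_mul, h1,
        Algebra.algebraMap_eq_smul_one, TensorProduct.smul_tmul, ← Algebra.smul_def]
    | add x y hx hy =>
      obtain ⟨s, hs, σ, hσ⟩ := hx
      obtain ⟨s', hs', σ', hσ'⟩ := hy
      refine ⟨s * s', mul_mem hs hs', algebraMap A S s' * σ + algebraMap A S s * σ', ?_⟩
      rw [map_add incR, map_mul incR, map_mul incR, incR.commutes, incR.commutes, ← hσ, ← hσ', map_mul]
      ring
  have hgR : ∀ σ : S, (gT (incR σ) : FractionRing S) = algebraMap S (FractionRing S) σ := fun σ => by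
    show ((1 : A') : FractionRing S) * algebraMap S (FractionRing S) σ = _
    rw [Subalgebra.coe_one, one_mul]
  have hf𝔮 : RingHom.ker f ≤ 𝔮 := by
    intro x hx
    obtain ⟨s, hs, σ, hσ⟩ := hden x
    have h1 : f (incR σ) = 0 := by rw [← hσ, map_mul, (RingHom.mem_ker (f := f)).1 hx, mul_zero]
    have h2 : σ ∈ QI := by
      have h3 : Phi A Q (gT (incR σ) : FractionRing S) = 0 := congrArg Subtype.val h1
      have h5 := hgR σ
      rw [h5] at h3
      exact hQ.le ((ker_toAlgHom (A := A) Q).le ((Phi_algebraMap (A := A) Q σ).symm.trans h3))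
    have h4 : algebraMap A (A' ⊗[A] S) s * x ∈ 𝔮 := hσ ▸ h2
    refine (Ideal.IsPrime.mem_or_mem inferInstance h4).resolve_left fun hmem => ?_
    exact algebraMap_notMem (A := A) Q.2 hs (hQ.ge (show incR (algebraMap A S s) ∈ 𝔮 by rw [incR.commutes]; exact hmem))
  have hint : RingHom.IsIntegral (R := A' ⊗[A] S) (A := BranchRing H Q) f := by
    have h1 : (algebraMap H (BranchRing H Q)).IsIntegral := (inferInstance : Algebra.IsIntegral H (BranchRing H Q)).1
    rw [show algebraMap H (BranchRing H Q) = f.comp (incR.toRingHom.comp (algebraMap H S)) from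
      RingHom.ext fun x => Subtype.ext (by
        show algebraMap H (BranchField Q) x = Phi A Q (gT (incR (x : S)) : FractionRing S)
        rw [IsScalarTower.algebraMap_apply H S (BranchField Q), ← Phi_algebraMap (A := A) Q (algebraMap H S x)]
        congr 1
        exact (hgR _).symm)] at h1
    exact RingHom.IsIntegral.tower_top _ _ h1
  haveI : (RingHom.ker h).IsMaximal := by
    refine isMaximal_ker_of_comp (S := S) (T := A' ⊗[A] S) (Ω := Ω) incR.toRingHom
      (isIntegral_includeRight (C := S) fun a => (isIntegral_algHom_iff A'.val Subtype.val_injective).1 (hA' _ a.2))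
      h.toRingHom ?_
    convert maximalIdeal.isMaximal S
    ext σ
    show h (incR σ) = 0 ↔ _
    rw [show h (incR σ) = τ (residue S σ) from by
      show h (1 ⊗ₜ σ) = _
      rw [Algebra.TensorProduct.lift_tmul, map_one, one_mul]
      rfl, map_eq_zero_iff τ τ.toRingHom.injective, residue_eq_zero_iff]
  have hkey : RingHom.ker h = (maximalIdeal (BranchRing H Q)).comap f :=
    eq_comap_maximalIdeal (T := A' ⊗[A] S) (W := BranchRing H Q) f hint _ (hf𝔮.trans h𝔮le)
  intro t
  rw [← map_eq_zero_iff (algebraMap L Ω) (algebraMap L Ω).injective, ← hν, ← RingHom.mem_ker, hkey,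
    Ideal.mem_comap, ← residue_eq_zero_iff, ← hgν]
  rfl

include hA'i in
/-- The kernel of the residual product map: a point avoiding a given element outside the expected kernel. -/
theorem exists_point [IsLocalRing D] [IsLocalHom (algebraMap D S)] (hA' : ∀ x ∈ A', IsIntegral A x)
    (t : A' ⊗[A] D)
    (ht : t ∉ (Ideal.jacobson (⊥ : Ideal A')).map (Algebra.TensorProduct.includeLeft : A' →ₐ[A] A' ⊗[A] D) ⊔
            (maximalIdeal D).map (Algebra.TensorProduct.includeRight : D →ₐ[A] A' ⊗[A] D)) :
    ∃ (L : Type u) (_ : Field L) (φ : A' ⊗[A] D →+* L), (∀ d ∈ maximalIdeal D, φ (1 ⊗ₜ d) = 0) ∧ φ t ≠ 0 := by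
  haveI := (inferInstance : Hensel.IsStrictHenselization A S).isSepClosure.separable
  haveI : IsLocalHom (algebraMap A D) := ⟨fun a ha => by
    have h1 := ha.map (algebraMap D S)
    rw [← IsScalarTower.algebraMap_apply] at h1
    exact isUnit_of_map_unit (algebraMap A S) a h1⟩
  haveI : Algebra.IsIntegral A A' := ⟨fun a => (isIntegral_algHom_iff A'.val Subtype.val_injective).1 (hA' _ a.2)⟩
  haveI : IsScalarTower (ResidueField A) (ResidueField D) (ResidueField S) :=
    IsScalarTower.of_algebraMap_eq fun z => by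
      obtain ⟨a, rfl⟩ := residue_surjective z
      rfl
  haveI : Algebra.IsSeparable (ResidueField A) (ResidueField D) :=
    Algebra.isSeparable_tower_bot_of_isSeparable _ (ResidueField D) (ResidueField S)
  exact exists_point_aux (A := A) (D := D) (N := A') t ht

end Tensor

end Groth.Ega4Algebra2.Residual
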