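import Groth.Agent.Ega4Algebra2.ResidualMain
import Groth.Agent.FlatMor2.WeaklyEtaleStalk
import Groth.Agent.S16438
import Groth.Agent.S16449
import Groth.Agent.S16441
import Mathlib

/-! Finiteness in the residual product criterion. -/

set_option autoImplicit false
universe u

open IsLocalRing Polynomial
open scoped TensorProduct

namespace Groth.Ega4Algebra2.Residual

variable {A S : Type u} [CommRing A] [IsLocalRing A] [CommRing S] [IsLocalRing S] [Algebra A S]
  [IsLocalHom (algebraMap A S)] [Hensel.IsStrictHenselization A S]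

/-- An essentially étale local algebra embeds in the strict henselization. -/
theorem injective_of_essEt {E : Type u} [CommRing E] [IsLocalRing E] [Algebra A E]
    (hE : EGA4loc.IsEssentiallyEtale A E) (k : E →ₐ[A] S) : Function.Injective k := by
  obtain ⟨C, _, _, q, _, hC, hq, ⟨e⟩⟩ := hE
  haveI := hC
  haveI : Algebra.WeaklyEtale C (Localization.AtPrime q) :=
    Groth.FlatMor2.weaklyEtale_localization q.primeCompl
  haveI : Algebra.WeaklyEtale A (Localization.AtPrime q) := Algebra.WeaklyEtale.trans A C _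
  haveI := StrictStage.weaklyEtale (A := A) (S := S)
  let k' : Localization.AtPrime q →ₐ[A] S := k.comp e.symm.toAlgHom
  letI := k'.toRingHom.toAlgebra
  haveI : IsScalarTower A (Localization.AtPrime q) S := IsScalarTower.of_algebraMap_eq fun a => (k'.commutes a).symm
  haveI : IsLocalHom (algebraMap (Localization.AtPrime q) S) :=
    Groth.Hensel1.isLocalHom_of_essentiallyEtale ⟨C, inferInstance, inferInstance, q, inferInstance, hC, hq, ⟨AlgEquiv.refl⟩⟩ k'
  haveI : Algebra.WeaklyEtale (Localization.AtPrime q) S := Groth.EtaleAlgebra.weaklyEtale_of_tower A _ S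
  haveI : Module.FaithfullyFlat (Localization.AtPrime q) S := Module.FaithfullyFlat.of_flat_of_isLocalHom
  intro x y h
  apply e.injective
  refine FaithfulSMul.algebraMap_injective (Localization.AtPrime q) S ?_
  show k (e.symm (e x)) = k (e.symm (e y))
  rw [e.symm_apply_apply, e.symm_apply_apply, h]

variable [IsReduced A] [IsNoetherianRing A]

/-- Non-zero-divisors of an intermediate ring stay non-zero-divisors. -/
theorem coe_mem_nonZeroDivisors (E : Subalgebra A S) {u : E} (hu : u ∈ nonZeroDivisors E) :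
    (u : S) ∈ nonZeroDivisors S := by
  obtain ⟨w, s, hs, hw⟩ := exists_inverse E hu
  refine mem_nonZeroDivisors_iff_right.2 fun v hv => ?_
  refine IsLocalization.injective (FractionRing S) le_rfl ?_
  refine ((isUnit_algebraMap (A := A) (S := S) hs).mul_left_eq_zero).1 ?_ |>.trans (map_zero _).symm
  rw [IsScalarTower.algebraMap_apply A S (FractionRing S), ← map_mul, ← hw, ← mul_assoc, hv, zero_mul, map_zero]

variable (H : Subalgebra A S) [HenselianLocalRing H] [IsLocalHom (algebraMap H S)] [Hensel.IsStrictHenselization H S]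
  {D : Subalgebra A S} [IsLocalRing D] [IsLocalHom (algebraMap D S)]
  {A' : Subalgebra A (FractionRing S)} (hA' : IsNormalisation (⊥ : Subalgebra A S) A')
  {D' : Subalgebra A (FractionRing S)} (hD' : IsNormalisation D D')
  (hle : A' ≤ D') (ι : D →ₐ[A] D') (hι : ∀ d : D, (ι d : FractionRing S) = algebraMap S (FractionRing S) d)
  (hsurj : Function.Surjective ((Ideal.Quotient.mkₐ A (Ideal.jacobson (⊥ : Ideal D'))).comp
    (Algebra.TensorProduct.productMap (Subalgebra.inclusion hle) ι)))

include H hA' hD' hι hsurj in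
/-- The intermediate ring is essentially of finite type. -/
theorem essFiniteType_of_residual (hA : EGA4.IsExcellent A) (hfin : {N : Ideal D' | N.IsMaximal}.Finite)
    (E : Subalgebra A S) [IsLocalRing E] (hE : EGA4loc.IsEssentiallyEtale A E) (hDE : D ≤ E) :
    Algebra.EssFiniteType A D := by
  classical
  haveI : IsLocalHom (algebraMap E S) := Groth.Hensel1.isLocalHom_of_essentiallyEtale hE E.val
  haveI : IsLocalHom (algebraMap A E) := isLocalHom_algebraMap' E
  let D₀ : Subalgebra A E := (Subalgebra.inclusion hDE).range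
  let eD : D ≃ₐ[A] D₀ := AlgEquiv.ofInjective (Subalgebra.inclusion hDE) (Subalgebra.inclusion_injective hDE)
  haveI : IsLocalRing D₀ := IsLocalRing.of_surjective' eD.toAlgHom.toRingHom eD.surjective
  haveI : IsLocalHom (algebraMap D₀ E) := ⟨fun x hx => by
    obtain ⟨d, rfl⟩ := eD.surjective x
    exact (isUnit_of_map_unit (algebraMap D S) d (hx.map E.val)).map eD⟩
  let F₀ := FractionRing E
  have hu : ∀ v : nonZeroDivisors E, IsUnit (((IsScalarTower.toAlgHom A S (FractionRing S)).comp E.val) (v : E)) :=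
    fun v => IsLocalization.map_units (FractionRing S) (⟨_, coe_mem_nonZeroDivisors E v.2⟩ : nonZeroDivisors S)
  let jF : F₀ →ₐ[A] FractionRing S := IsLocalization.liftAlgHom hu
  have hjF : ∀ e : E, jF (algebraMap E F₀ e) = algebraMap S (FractionRing S) (e : S) := fun e => IsLocalization.lift_eq _ e
  have hjFi : Function.Injective jF := by
    rw [injective_iff_map_eq_zero]
    intro z hz
    obtain ⟨a, v, rfl⟩ := IsLocalization.exists_mk'_eq (nonZeroDivisors E) z
    have h1 := congrArg jF (IsLocalization.mk'_spec F₀ a v)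
    rw [map_mul, hz, zero_mul, hjF] at h1
    have h2 : a = 0 := Subtype.ext (IsLocalization.injective (FractionRing S) (le_refl (nonZeroDivisors S))
      (h1.symm.trans (map_zero _).symm))
    rw [h2, IsLocalization.mk'_zero]
  have hjD : ∀ d : D₀, jF (algebraMap D₀ F₀ d) = algebraMap D (FractionRing S) (eD.symm d) := fun d => by
    obtain ⟨d, rfl⟩ := eD.surjective d
    rw [eD.symm_apply_apply]
    exact hjF (Subalgebra.inclusion hDE d)
  have hintD : ∀ x : F₀, IsIntegral D₀ x ↔ IsIntegral D (jF x) := fun x => by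
    constructor
    · rintro ⟨P, hP, hP0⟩
      refine ⟨P.map eD.symm.toAlgHom.toRingHom, hP.map _, ?_⟩
      rw [eval₂_map, show (algebraMap D (FractionRing S)).comp eD.symm.toAlgHom.toRingHom =
        jF.toRingHom.comp (algebraMap D₀ F₀) from RingHom.ext fun d => (hjD d).symm]
      show eval₂ _ (jF.toRingHom x) P = 0
      rw [← hom_eval₂, hP0, map_zero]
    · rintro ⟨P, hP, hP0⟩
      refine ⟨P.map eD.toAlgHom.toRingHom, hP.map _, hjFi ?_⟩
      rw [map_zero]
      show jF.toRingHom _ = 0
      rw [hom_eval₂, eval₂_map, show (jF.toRingHom.comp (algebraMap D₀ F₀)).comp eD.toAlgHom.toRingHom =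
        algebraMap D (FractionRing S) from RingHom.ext fun d => (hjD (eD d)).trans (by rw [eD.symm_apply_apply])]
      exact hP0
  have hrange : ∀ y ∈ D', ∃ x : F₀, jF x = y := fun y hy => by
    obtain ⟨s, hs, d, hd, hsd⟩ := ((hD' y).1 hy).2
    have hsu : algebraMap A E s ∈ nonZeroDivisors E := mem_nonZeroDivisors_iff_right.2 fun v hv => Subtype.ext (by
      have h1 : algebraMap S (FractionRing S) (v : S) * algebraMap A (FractionRing S) s = 0 := by
        rw [IsScalarTower.algebraMap_apply A S (FractionRing S), ← map_mul]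
        exact (congrArg (algebraMap S (FractionRing S)) (congrArg Subtype.val hv)).trans (map_zero _)
      exact IsLocalization.injective (FractionRing S) le_rfl
        ((((isUnit_algebraMap (A := A) (S := S) hs).mul_left_eq_zero).1 h1).trans (map_zero _).symm))
    refine ⟨IsLocalization.mk' F₀ (⟨d, hDE hd⟩ : E) (⟨algebraMap A E s, hsu⟩ : nonZeroDivisors E), ?_⟩
    refine (isUnit_algebraMap (A := A) (S := S) hs).mul_left_cancel ?_
    rw [hsd, mul_comm, IsScalarTower.algebraMap_apply A S (FractionRing S)]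
    rw [show algebraMap S (FractionRing S) (algebraMap A S s) = jF (algebraMap E F₀ (algebraMap A E s)) from
      (hjF (algebraMap A E s)).symm, ← map_mul jF]
    exact (congrArg jF (IsLocalization.mk'_spec F₀ (⟨d, hDE hd⟩ : E) ⟨algebraMap A E s, hsu⟩)).trans (hjF _)
  let D'₀ : Subalgebra A F₀ := D'.comap jF
  let eD' : D'₀ →ₐ[A] D' := (jF.comp D'₀.val).codRestrict D' fun x => x.2
  have heD' : Function.Bijective eD' := ⟨fun x y h => Subtype.ext (hjFi (congrArg Subtype.val h)), fun y => by
    obtain ⟨x, hx⟩ := hrange y y.2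
    exact ⟨⟨x, show jF x ∈ D' from hx.symm ▸ y.2⟩, Subtype.ext hx⟩⟩
  have hD'₀ : ∀ x : F₀, x ∈ D'₀ ↔ (IsIntegral D₀ x ∧
      ∃ a ∈ nonZeroDivisors A, ∃ d ∈ D₀, algebraMap A F₀ a * x = algebraMap E F₀ d) := fun x => by
    show jF x ∈ D' ↔ _
    rw [hD', ← hintD]
    refine and_congr_right fun _ => ⟨fun ⟨a, ha, d, hd, h⟩ => ⟨a, ha, _, ⟨⟨d, hd⟩, rfl⟩, hjFi ?_⟩,
      fun ⟨a, ha, _, ⟨d, rfl⟩, h⟩ => ⟨a, ha, d, d.2, ?_⟩⟩
    · rw [map_mul, jF.commutes, h]
      exact (hjF (Subalgebra.inclusion hDE ⟨d, hd⟩)).symm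
    · have h1 := congrArg jF h
      rw [map_mul, jF.commutes] at h1
      rw [h1]
      exact hjF (Subalgebra.inclusion hDE d)
  have hle₀ : D'₀ ≤ ((integralClosure E F₀).restrictScalars A) := fun x hx => by
    have h1 : IsIntegral D₀ x := ((hD'₀ x).1 hx).1
    exact h1.tower_top
  let E' := (integralClosure E F₀).restrictScalars A
  have hjE : ∀ x : E', jF x ∈ intg A S := fun x => by
    obtain ⟨P, hP, hP0⟩ := (x.2 : IsIntegral E (x : F₀))
    refine ⟨P.map E.val.toRingHom, hP.map _, ?_⟩
    rw [eval₂_map, show (algebraMap S (FractionRing S)).comp E.val.toRingHom = jF.toRingHom.comp (algebraMap E F₀) from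
      RingHom.ext fun e => (hjF e).symm]
    show eval₂ _ (jF.toRingHom x) P = 0
    rw [← hom_eval₂, hP0, map_zero]
  let jE : E' →ₐ[A] intg A S := (jF.comp E'.val).codRestrict (intg A S) hjE
  let kE : E →+* E' := (algebraMap E F₀).codRestrict E' fun e => isIntegral_algebraMap
  have hkE : kE.IsIntegral := fun x => by
    obtain ⟨P, hP, hP0⟩ := (x.2 : IsIntegral E (x : F₀))
    refine ⟨P, hP, Subtype.ext ?_⟩
    show E'.val.toRingHom (eval₂ kE x P) = 0
    rw [hom_eval₂]
    exact hP0
  haveI : IsLocalHom E.val.toRingHom := (inferInstance : IsLocalHom (algebraMap E S))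
  haveI hEss : Algebra.EssFiniteType A D₀ := by
    refine Groth.Agent.S16449.result A E hA hE D₀ D'₀ hD'₀ hle₀ ?_ (fun M hM => ?_) (fun N hN => ?_)
    · refine (hfin.image (Ideal.comap eD'.toRingHom)).subset fun N hN => ?_
      haveI : N.IsMaximal := hN
      refine ⟨N.map eD'.toRingHom, ?_, Ideal.comap_map_of_bijective _ heD'⟩
      exact Ideal.IsMaximal.map_bijective eD'.toRingHom heD' inferInstance
    · haveI := hM
      letI := kE.toAlgebra
      haveI : Algebra.IsIntegral E E' := ⟨hkE⟩
      have hME : M.comap (algebraMap E E') = maximalIdeal E :=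
        eq_maximalIdeal (Ideal.isMaximal_comap_of_isIntegral_of_isMaximal (R := E) M)
      haveI : (M.comap (Subalgebra.inclusion hle₀).toRingHom).IsPrime := Ideal.IsPrime.comap _
      let kD : D₀ →+* D'₀ := (algebraMap D₀ F₀).codRestrict D'₀ fun d => by
        show jF (algebraMap D₀ F₀ d) ∈ D'
        rw [hjD]
        exact hD'.algebraMap_mem (eD.symm d).2
      letI := kD.toAlgebra
      haveI : Algebra.IsIntegral D₀ D'₀ := ⟨fun x => by
        obtain ⟨P, hP, hP0⟩ := ((hD'₀ x).1 x.2).1
        refine ⟨P, hP, Subtype.ext ?_⟩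
        show D'₀.val.toRingHom (eval₂ kD x P) = 0
        rw [hom_eval₂]
        exact hP0⟩
      refine Ideal.isMaximal_of_isIntegral_of_isMaximal_comap (R := D₀) (M.comap (Subalgebra.inclusion hle₀).toRingHom) ?_
      convert maximalIdeal.isMaximal D₀
      ext d
      show (⟨algebraMap E F₀ (d : E), _⟩ : E') ∈ M ↔ _
      rw [show ((⟨algebraMap E F₀ (d : E), isIntegral_algebraMap⟩ : E') ∈ M ↔ (d : E) ∈ maximalIdeal E) from
        SetLike.ext_iff.1 hME (d : E), mem_maximalIdeal, mem_maximalIdeal, mem_nonunits_iff, mem_nonunits_iff]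
      exact not_congr (isUnit_map_iff (algebraMap D₀ E) d)
    · let N' : Ideal D' := N.map eD'.toRingHom
      haveI := hN
      haveI : N'.IsMaximal := Ideal.IsMaximal.map_bijective eD'.toRingHom heD' hN
      obtain ⟨Q, hQ⟩ := backward_maximal H hA' hD' hle ι hι hsurj N'
      refine ⟨RingHom.ker ((red H Q).comp jE.toRingHom),
        isMaximal_ker H E.val.toRingHom kE hkE jE.toRingHom (fun e => hjF e) Q, ?_⟩
      rw [← Ideal.comap_map_of_bijective eD'.toRingHom heD' (I := N)]
      ext x
      exact (hQ (eD' x)).symm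
  exact Algebra.EssFiniteType.of_surjective eD.symm.toAlgHom eD.symm.surjective

end Groth.Ega4Algebra2.Residual
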