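import Groth.Agent.Ega4Algebra2.ResidualNormal
import Mathlib

/-! From ind-étale intermediate rings to the residual products. -/

set_option autoImplicit false
universe u

open IsLocalRing Polynomial
open scoped TensorProduct

namespace Groth.Ega4Algebra2.Residual

variable {A S : Type u} [CommRing A] [IsLocalRing A] [IsReduced A] [IsNoetherianRing A]
  [CommRing S] [IsLocalRing S] [Algebra A S] [IsLocalHom (algebraMap A S)] [Hensel.IsStrictHenselization A S]
  (H : Subalgebra A S) [HenselianLocalRing H] [IsLocalHom (algebraMap H S)] [Hensel.IsStrictHenselization H S]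
  {D : Subalgebra A S} [IsLocalRing D] [IsLocalHom (algebraMap D S)]

/-- Two residues in the strict henselization give the same residue on a branch. -/
theorem red_eq_redS (Q : minimalPrimes S) (s : S) {z : intg A S}
    (h : (z : FractionRing S) = algebraMap S (FractionRing S) s) : red H Q z = redS H Q s :=
  congrArg (red H Q) (Subtype.ext h)

variable {A' : Subalgebra A (FractionRing S)} (hA' : IsNormalisation (⊥ : Subalgebra A S) A')

/-- The residual product map of a branch. -/
noncomputable def rT (hA'i : A' ≤ intg A S) (D : Subalgebra A S) (Q : minimalPrimes S) :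
    A' ⊗[A] D →+* ResidueField (BranchRing H Q) :=
  (red H Q).comp (prodIntg A' hA'i D).toRingHom

theorem rT_tmul (hA'i : A' ≤ intg A S) (D : Subalgebra A S) (Q : minimalPrimes S) (a : A') (d : D) :
    rT H hA'i D Q (a ⊗ₜ d) = red H Q (Subalgebra.inclusion hA'i a) * redS H Q d := by
  show red H Q (prodIntg A' hA'i D (a ⊗ₜ d)) = _
  rw [← red_eq_redS H Q (d : S) (z := ⟨algebraMap S (FractionRing S) (d : S), algebraMap_mem_intg _⟩) rfl, ← map_mul]
  rfl

include hA'

theorem IsNormalisation.isIntegral_bot {a : FractionRing S} (ha : a ∈ A') : IsIntegral A a :=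
  (isIntegral_bot_iff a).1 ((hA' a).1 ha).1

/-- The kernel of a residual product map is maximal. -/
theorem isMaximal_ker_rT (D : Subalgebra A S) [IsLocalRing D] [IsLocalHom (algebraMap D S)] (Q : minimalPrimes S) :
    (RingHom.ker (rT H hA'.le_intg D Q)).IsMaximal := by
  refine isMaximal_ker_of_comp (S := D) (T := A' ⊗[A] D) (Ω := ResidueField (BranchRing H Q))
    ((Algebra.TensorProduct.includeRight : D →ₐ[A] A' ⊗[A] D) : D →+* A' ⊗[A] D)
    (isIntegral_includeRight fun a => (isIntegral_algHom_iff A'.val Subtype.val_injective).1 (hA'.isIntegral_bot a.2))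
    (rT H hA'.le_intg D Q) ?_
  convert maximalIdeal.isMaximal D
  ext d
  show rT H hA'.le_intg D Q ((1 : A') ⊗ₜ d) = 0 ↔ _
  rw [rT_tmul, map_one, map_one, one_mul, redS_eq_zero_iff, residue_eq_zero_iff, mem_maximalIdeal, mem_maximalIdeal,
    mem_nonunits_iff, mem_nonunits_iff]
  exact not_congr (isUnit_map_iff (algebraMap D S) d)

variable (G : Subalgebra A S)
  (hres : ∀ g ∈ G, ∃ d ∈ D, residue S g = residue S d)
  (hstage : ∀ s : Finset S, (s : Set S) ⊆ G →
    ∃ E : Subalgebra A S, E ≤ G ∧ (s : Set S) ⊆ E ∧ ∃ _ : IsLocalRing E, EGA4loc.IsEssentiallyEtale A E)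

/-- The embedding of an intermediate ring into a branch. -/
noncomputable def stageMap (E : Subalgebra A S) (Q : minimalPrimes S) : E →+* BranchRing H Q :=
  (phiW H Q).comp (((algebraMap S (FractionRing S)).comp E.val.toRingHom).codRestrict (intg A S)
    fun _ => algebraMap_mem_intg _)

omit hA' in
theorem stageMap_coe (E : Subalgebra A S) (Q : minimalPrimes S) (e : E) :
    (stageMap H E Q e : BranchField Q) = algebraMap S (BranchField Q) (e : S) :=
  Phi_algebraMap Q (e : S)

/-- The restriction of a branch to a normalization. -/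
noncomputable def normMap {N : Subalgebra A (FractionRing S)} (hNi : N ≤ intg A S) (Q : minimalPrimes S) :
    N →+* BranchRing H Q :=
  (phiW H Q).comp (Subalgebra.inclusion hNi).toRingHom

omit hA' in
theorem normMap_compat {N : Subalgebra A (FractionRing S)} (hNi : N ≤ intg A S) (E : Subalgebra A S) (Q : minimalPrimes S) :
    (normMap H hNi Q).comp (algebraMap A N) = (stageMap H E Q).comp (algebraMap A E) :=
  RingHom.ext fun a => Subtype.ext (by
    show Phi A Q (algebraMap A (FractionRing S) a) = Phi A Q (algebraMap S (FractionRing S) (algebraMap A S a))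
    rw [← IsScalarTower.algebraMap_apply])

include hres in
/-- On a stage, residues are residual products. -/
theorem exists_residual_preimage (E : Subalgebra A S) (hE : E ≤ G) (x : A' ⊗[A] E) :
    ∃ t : A' ⊗[A] D, ∀ Q, residue _ (tensorLift (normMap H hA'.le_intg Q) (stageMap H E Q) (normMap_compat H _ E Q) x) =
      rT H hA'.le_intg D Q t := by
  induction x with
  | zero => exact ⟨0, fun Q => by simp⟩
  | tmul a e =>
    obtain ⟨d, hd, hed⟩ := hres (e : S) (hE e.2)
    refine ⟨a ⊗ₜ ⟨d, hd⟩, fun Q => ?_⟩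
    rw [rT_tmul, tensorLift_tmul, map_mul]
    exact congrArg₂ (· * ·) rfl ((redS_eq_iff H Q _ _).2 hed)
  | add x y hx hy =>
    obtain ⟨t, ht⟩ := hx
    obtain ⟨t', ht'⟩ := hy
    exact ⟨t + t', fun Q => by rw [map_add, map_add, map_add, ht, ht']⟩

variable {D' : Subalgebra A (FractionRing S)} (hD' : IsNormalisation D D')

include hres hstage hD' in
/-- An element of the normalization in a stage, along a branch. -/
theorem exists_stage_data (hDG : D ≤ G) (z : D') :
    ∃ (E : Subalgebra A S) (_ : IsLocalRing E) (s : A) (d : E), EGA4loc.IsEssentiallyEtale A E ∧ E ≤ G ∧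
      s ∈ nonZeroDivisors A ∧ algebraMap A (FractionRing S) s * z = algebraMap S (FractionRing S) (d : S) ∧
      ∀ Q, (stageMap H E Q).IsIntegralElem (normMap H hD'.le_intg Q z) := by
  classical
  obtain ⟨⟨P, hP, hP0⟩, s, hs, d, hd, hsd⟩ := (hD' _).1 z.2
  let sset : Finset S := insert d ((Finset.range (P.natDegree + 1)).image fun i => ((P.coeff i : D) : S))
  have hsub : (sset : Set S) ⊆ G := by
    intro x hx
    rcases Finset.mem_insert.1 hx with rfl | hx
    · exact hDG hd
    · obtain ⟨i, -, rfl⟩ := Finset.mem_image.1 hx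
      exact hDG (P.coeff i).2
  obtain ⟨E, hEG, hsE, hEloc, hE⟩ := hstage sset hsub
  refine ⟨E, hEloc, s, ⟨d, hsE (Finset.mem_insert_self _ _)⟩, hE, hEG, hs, hsd, fun Q => ?_⟩
  obtain ⟨P', hP', -, hP'm⟩ := lifts_and_degree_eq_and_monic (f := E.val.toRingHom)
    (p := P.map D.val.toRingHom) ((lifts_iff_coeff_lifts _).2 fun i => by
      rw [coeff_map]
      by_cases hi : i ≤ P.natDegree
      · exact ⟨⟨_, hsE (Finset.mem_insert_of_mem (Finset.mem_image.2 ⟨i, Finset.mem_range.2 (by omega), rfl⟩))⟩, rfl⟩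
      · exact ⟨0, by rw [map_zero, coeff_eq_zero_of_natDegree_lt (by omega), map_zero]⟩) (hP.map _)
  refine ⟨P', hP'm, Subtype.ext ?_⟩
  show (BranchRing H Q).val.toRingHom (eval₂ (stageMap H E Q) (normMap H hD'.le_intg Q z) P') = 0
  rw [hom_eval₂, show (BranchRing H Q).val.toRingHom.comp (stageMap H E Q) =
    (algebraMap S (BranchField Q)).comp E.val.toRingHom from RingHom.ext (stageMap_coe H E Q), ← eval₂_map, hP', eval₂_map]
  have h1 := congrArg (Phi A Q).toRingHom hP0
  rw [hom_eval₂, map_zero] at h1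
  rw [← h1]
  congr 1
  exact RingHom.ext fun y => (Phi_algebraMap Q (y : S)).symm

variable (hDG : D ≤ G)

include hres hstage hD' hDG in
/-- Residues of the normalization are residual products. -/
theorem forward_surjective (z : D') (Q : minimalPrimes S) :
    ∃ t : A' ⊗[A] D, red H Q (Subalgebra.inclusion hD'.le_intg z) = rT H hA'.le_intg D Q t := by
  obtain ⟨E, hEloc, s, d, hE, hEG, hs, hsd, hint⟩ := exists_stage_data H hA' G hres hstage hD' hDG z
  obtain ⟨ξ, η, hη, hξ⟩ := branch_integral hE (normMap H hA'.le_intg Q) (stageMap H E Q) (normMap_compat H _ E Q)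
    (hA'.isIntegrallyClosed H Q) (normMap H hD'.le_intg Q z) d (algebraMap A E s)
    (fun h => algebraMap_ne_zero (IsScalarTower.toAlgHom A S (BranchField Q))
      ((ker_toAlgHom (A := A) Q).symm ▸ Q.2) hs (by
        have h1 := congrArg Subtype.val h
        rw [stageMap_coe, Subalgebra.coe_algebraMap, ← IsScalarTower.algebraMap_apply] at h1
        exact h1))
    (Subtype.ext (by
      rw [MulMemClass.coe_mul, stageMap_coe, stageMap_coe, Subalgebra.coe_algebraMap, ← IsScalarTower.algebraMap_apply,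
        ← Phi_algebraMap (A := A) Q (d : S), ← hsd, map_mul, AlgHom.commutes, mul_comm]
      rfl)) (hint Q)
  obtain ⟨t, ht⟩ := exists_residual_preimage H hA' G hres E hEG ξ
  obtain ⟨t', ht'⟩ := exists_residual_preimage H hA' G hres E hEG η
  have hne : rT H hA'.le_intg D Q t' ≠ 0 := ht' Q ▸ hη
  haveI := isMaximal_ker_rT H hA' D Q
  obtain ⟨t'', i, hi, hinv⟩ := (isMaximal_ker_rT H hA' D Q).exists_inv (x := t') fun h => hne h
  have ht'' : rT H hA'.le_intg D Q t' * rT H hA'.le_intg D Q t'' = 1 := by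
    have h1 := congrArg (rT H hA'.le_intg D Q) hinv
    rw [map_add, map_mul, map_one, show rT H hA'.le_intg D Q i = 0 from hi, add_zero] at h1
    rw [mul_comm]; exact h1
  refine ⟨t * t'', ?_⟩
  have h1 := congrArg (residue (BranchRing H Q)) hξ
  rw [map_mul, ht Q, ht' Q] at h1
  change red H Q (Subalgebra.inclusion hD'.le_intg z) * _ = _ at h1
  rw [map_mul, ← h1, mul_assoc, ht'', mul_one]

include hres hstage hD' hDG in
/-- Branches with the same residual products have the same residual kernel on the normalization. -/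
theorem forward_injective (Q Q' : minimalPrimes S)
    (hT : ∀ t : A' ⊗[A] D, rT H hA'.le_intg D Q t = 0 ↔ rT H hA'.le_intg D Q' t = 0) (z : D') :
    red H Q (Subalgebra.inclusion hD'.le_intg z) = 0 ↔ red H Q' (Subalgebra.inclusion hD'.le_intg z) = 0 := by
  obtain ⟨E, hEloc, s, d, hE, hEG, hs, hsd, hint⟩ := exists_stage_data H hA' G hres hstage hD' hDG z
  have hs0 : ∀ Q : minimalPrimes S, stageMap H E Q (algebraMap A E s) ≠ 0 := fun Q h =>
    algebraMap_ne_zero (IsScalarTower.toAlgHom A S (BranchField Q)) ((ker_toAlgHom (A := A) Q).symm ▸ Q.2) hs (by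
      have h1 := congrArg Subtype.val h
      rw [stageMap_coe, Subalgebra.coe_algebraMap, ← IsScalarTower.algebraMap_apply] at h1
      exact h1)
  have hzd : ∀ Q : minimalPrimes S, normMap H hD'.le_intg Q z * stageMap H E Q (algebraMap A E s) = stageMap H E Q d :=
    fun Q => Subtype.ext (by
      rw [MulMemClass.coe_mul, stageMap_coe, stageMap_coe, Subalgebra.coe_algebraMap, ← IsScalarTower.algebraMap_apply,
        ← Phi_algebraMap (A := A) Q (d : S), ← hsd, map_mul, AlgHom.commutes, mul_comm]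
      rfl)
  obtain ⟨ξ, η, hη, hξ⟩ := branch_integral hE (normMap H hA'.le_intg Q) (stageMap H E Q) (normMap_compat H _ E Q)
    (hA'.isIntegrallyClosed H Q) (normMap H hD'.le_intg Q z) d (algebraMap A E s) (hs0 Q) (hzd Q) (hint Q)
  -- the residual kernels agree on the stage
  have hres' : ∀ x, residue _ (tensorLift (normMap H hA'.le_intg Q) (stageMap H E Q) (normMap_compat H _ E Q) x) = 0 ↔
      residue _ (tensorLift (normMap H hA'.le_intg Q') (stageMap H E Q') (normMap_compat H _ E Q') x) = 0 := fun x => by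
    obtain ⟨t, ht⟩ := exists_residual_preimage H hA' G hres E hEG x
    rw [ht Q, ht Q']
    exact hT t
  have hA0 : ∀ a : A', normMap H hA'.le_intg Q a = 0 ↔ normMap H hA'.le_intg Q' a = 0 := fun a => by
    have h1 := hA'.phi_eq_zero_iff H (Q := Q) (Q' := Q') (fun a => by
      have h2 := hT (a ⊗ₜ 1)
      rwa [rT_tmul, rT_tmul, Subalgebra.coe_one, map_one, map_one, mul_one, mul_one] at h2) a
    exact ⟨fun h => Subtype.ext (h1.1 (congrArg Subtype.val h)), fun h => Subtype.ext (h1.2 (congrArg Subtype.val h))⟩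
  let T := tensorLift (normMap H hA'.le_intg Q) (stageMap H E Q) (normMap_compat H _ E Q)
  let T' := tensorLift (normMap H hA'.le_intg Q') (stageMap H E Q') (normMap_compat H _ E Q')
  have h1E : ∀ (Q : minimalPrimes S) (e : E),
      tensorLift (normMap H hA'.le_intg Q) (stageMap H E Q) (normMap_compat H _ E Q) ((1 : A') ⊗ₜ e) = stageMap H E Q e :=
    fun Q e => by rw [tensorLift_tmul, map_one, one_mul]
  have h0 : T (((1 : A') ⊗ₜ d) * η - ((1 : A') ⊗ₜ algebraMap A E s) * ξ) = 0 := by
    rw [map_sub, map_mul, map_mul, h1E, h1E, ← hzd Q, ← hξ]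
    ring
  have h0' : T' (((1 : A') ⊗ₜ d) * η - ((1 : A') ⊗ₜ algebraMap A E s) * ξ) = 0 :=
    (branch_ker_eq hE _ _ (normMap_compat H _ E Q) _ _ (normMap_compat H _ E Q') (hA'.isIntegrallyClosed H Q) hA0 hres' _).1 h0
  rw [map_sub, map_mul, map_mul, h1E, h1E, ← hzd Q', sub_eq_zero, mul_comm (normMap H hD'.le_intg Q' z), mul_assoc] at h0'
  have hξ' := mul_left_cancel₀ (hs0 Q') h0'
  have h2 := congrArg (residue (BranchRing H Q)) hξ
  have h3 := congrArg (residue (BranchRing H Q')) hξ'
  rw [map_mul] at h2 h3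
  have hη' : residue _ (T' η) ≠ 0 := fun h => hη ((hres' η).2 h)
  constructor
  · intro h
    change red H Q (Subalgebra.inclusion hD'.le_intg z) * _ = _ at h2
    rw [h, zero_mul] at h2
    rw [(hres' ξ).1 h2.symm] at h3
    exact (mul_eq_zero.1 h3).resolve_right hη'
  · intro h
    change red H Q' (Subalgebra.inclusion hD'.le_intg z) * _ = _ at h3
    rw [h, zero_mul] at h3
    rw [(hres' ξ).2 h3.symm] at h2
    exact (mul_eq_zero.1 h2).resolve_right hη

variable (hHG : H ≤ G)
  (hflat : ∀ (I : Ideal D) (x : D), Subalgebra.inclusion hDG x ∈ I.map (Subalgebra.inclusion hDG) → x ∈ I)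

omit hA' in
include hD' hHG hflat in
/-- Every maximal ideal of the normalization is seen by a branch. -/
theorem forward_maximal (N : Ideal D') [N.IsMaximal] :
    ∃ Q : minimalPrimes S, ∀ z : D', z ∈ N ↔ red H Q (Subalgebra.inclusion hD'.le_intg z) = 0 := by
  classical
  let F := FractionRing S
  let ιG : G →ₐ[A] intg A S :=
    ((IsScalarTower.toAlgHom A S F).comp G.val).codRestrict (intg A S) fun _ => algebraMap_mem_intg _
  let gT : D' ⊗[A] G →ₐ[A] intg A S := Algebra.TensorProduct.productMap (Subalgebra.inclusion hD'.le_intg) ιG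
  let IG : A → Ideal G := fun s => Ideal.map (Subalgebra.inclusion hDG)
    { carrier := {i : D | ∃ n ∈ N, algebraMap S F (i : S) = algebraMap A F s * ((n : D') : F)}
      zero_mem' := ⟨0, N.zero_mem, by simp⟩
      add_mem' := fun {i j} ⟨n, hn, hi⟩ ⟨m, hm, hj⟩ => ⟨n + m, N.add_mem hn hm, by
        rw [Subalgebra.coe_add, map_add, hi, hj, Subalgebra.coe_add, mul_add]⟩
      smul_mem' := fun c i ⟨n, hn, hi⟩ => ⟨⟨_, hD'.algebraMap_mem c.2⟩ * n, N.mul_mem_left _ hn, by
        rw [smul_eq_mul, Subalgebra.coe_mul, map_mul, hi, Subalgebra.coe_mul]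
        ring⟩ }
  let P : D' ⊗[A] G → Prop := fun x => ∃ s ∈ nonZeroDivisors A, ∃ y ∈ IG s,
    algebraMap A F s * (gT x : F) = algebraMap S F (y : S)
  have hscale : ∀ (s b : A) (y : G) (d : D) (w : D'), algebraMap A F b * (w : F) = algebraMap S F (d : S) →
      y ∈ IG s → y * Subalgebra.inclusion hDG d ∈ IG (s * b) := by
    intro s b y d w hw hy
    have h1 : y * Subalgebra.inclusion hDG d ∈ IG s * Ideal.span {Subalgebra.inclusion hDG d} :=
      Ideal.mul_mem_mul hy (Ideal.mem_span_singleton_self _)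
    rw [← Set.image_singleton, ← Ideal.map_span, ← Ideal.map_mul] at h1
    refine Ideal.map_mono ?_ h1
    rw [Ideal.mul_le]
    intro i hi j hj
    obtain ⟨c, rfl⟩ := Ideal.mem_span_singleton.1 hj
    obtain ⟨n, hn, hi⟩ := hi
    refine ⟨⟨_, hD'.algebraMap_mem c.2⟩ * (w * n), N.mul_mem_left _ (N.mul_mem_left _ hn), ?_⟩
    rw [Subalgebra.coe_mul, Subalgebra.coe_mul, map_mul, map_mul, hi, ← hw, Subalgebra.coe_mul, Subalgebra.coe_mul, map_mul]
    ring
  have hadd : ∀ x y, P x → P y → P (x + y) := by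
    rintro x y ⟨s, hs, a, ha, hsa⟩ ⟨t, ht, b, hb, htb⟩
    refine ⟨s * t, mul_mem hs ht, a * Subalgebra.inclusion hDG (algebraMap A D t) +
      b * Subalgebra.inclusion hDG (algebraMap A D s), Ideal.add_mem _ (hscale s t a _ 1 ?_ ha)
        (mul_comm s t ▸ hscale t s b _ 1 ?_ hb), ?_⟩
    · rw [OneMemClass.coe_one, mul_one, Subalgebra.coe_algebraMap, ← IsScalarTower.algebraMap_apply]
    · rw [OneMemClass.coe_one, mul_one, Subalgebra.coe_algebraMap, ← IsScalarTower.algebraMap_apply]
    · rw [map_add gT, Subalgebra.coe_add, Subalgebra.coe_add, map_add, Subalgebra.coe_mul, Subalgebra.coe_mul,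
        map_mul (algebraMap S F), map_mul (algebraMap S F), ← hsa, ← htb, map_mul]
      show _ = _ * algebraMap S F (algebraMap A S t) + _ * algebraMap S F (algebraMap A S s)
      rw [← IsScalarTower.algebraMap_apply, ← IsScalarTower.algebraMap_apply]
      ring
  have hmul : ∀ r x, P x → P (r * x) := by
    intro r x hx
    induction r with
    | zero => exact ⟨1, one_mem _, 0, Ideal.zero_mem _, by simp⟩
    | add r r' hr hr' => rw [add_mul]; exact hadd _ _ hr hr'
    | tmul w g =>
      obtain ⟨s, hs, y, hy, hsy⟩ := hx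
      obtain ⟨b, hb, d, hd, hbd⟩ := ((hD' _).1 w.2).2
      refine ⟨s * b, mul_mem hs hb, g * (y * Subalgebra.inclusion hDG ⟨d, hd⟩),
        Ideal.mul_mem_left _ _ (hscale s b y ⟨d, hd⟩ w hbd hy), ?_⟩
      rw [map_mul gT, Subalgebra.coe_mul, Subalgebra.coe_mul, Subalgebra.coe_mul, map_mul (algebraMap S F),
        map_mul (algebraMap S F), ← hsy, map_mul]
      show _ * _ * ((w : F) * algebraMap S F (g : S) * _) = _ * (_ * algebraMap S F d)
      rw [← hbd]
      ring
  let J : Ideal (D' ⊗[A] G) :=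
    { carrier := {x | P x}
      zero_mem' := ⟨1, one_mem _, 0, Ideal.zero_mem _, by simp⟩
      add_mem' := fun {x y} => hadd x y
      smul_mem' := hmul }
  have hJ : J ≠ ⊤ := by
    intro htop
    obtain ⟨s, hs, y, hy, hsy⟩ := (Ideal.eq_top_iff_one J).1 htop
    rw [map_one, OneMemClass.coe_one, mul_one, IsScalarTower.algebraMap_apply A S F] at hsy
    have hys : y = Subalgebra.inclusion hDG (algebraMap A D s) := by
      refine Subtype.ext ?_
      show (y : S) = algebraMap A S s
      by_contra hne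
      refine hne (sub_eq_zero.1 (eq_zero_of_forall (A := A) fun Q hQ => ?_))
      refine (ker_toAlgHom (A := A) ⟨Q, hQ⟩).le ?_
      rw [RingHom.mem_ker, map_sub, sub_eq_zero]
      have h1 := congrArg (Phi A ⟨Q, hQ⟩) hsy
      rw [Phi_algebraMap, Phi_algebraMap] at h1
      exact h1.symm
    obtain ⟨n, hn, hsn⟩ := hflat _ (algebraMap A D s) (hys ▸ hy)
    refine (inferInstance : N.IsMaximal).ne_top ((Ideal.eq_top_iff_one N).2 ?_)
    convert hn
    refine Subtype.ext ((isUnit_algebraMap (A := A) (S := S) hs).mul_left_cancel ?_)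
    rw [OneMemClass.coe_one, mul_one, ← hsn]
    rw [Subalgebra.coe_algebraMap, ← IsScalarTower.algebraMap_apply]
  obtain ⟨M, hM, hJM⟩ := Ideal.exists_le_maximal J hJ
  haveI := isNoetherianRing (A := A) (S := S)
  haveI : Finite (minimalPrimes S) := (minimalPrimes.finite_of_isNoetherianRing S).to_subtype
  haveI : Fintype (minimalPrimes S) := Fintype.ofFinite _
  obtain ⟨Q, -, hQ⟩ : ∃ Q ∈ (Finset.univ : Finset (minimalPrimes S)), RingHom.ker ((phiW H Q).comp gT.toRingHom) ≤ M := by
    refine (Ideal.IsPrime.inf_le' hM.isPrime).1 fun x hx => hJM ⟨1, one_mem _, 0, Ideal.zero_mem _, ?_⟩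
    rw [map_one, one_mul, ZeroMemClass.coe_zero, map_zero]
    refine eq_zero_of_branches (A := A) _ fun K _ _ π hπ Φ hΦ => ?_
    obtain ⟨Q₀, hQ₀⟩ : ∃ Q₀ : minimalPrimes S, Q₀.1 = RingHom.ker π := ⟨⟨_, hπ⟩, rfl⟩
    have h1 := congrArg Subtype.val (RingHom.mem_ker.1 ((Submodule.mem_finsetInf.1 hx) Q₀ (Finset.mem_univ _)))
    have hπ₀ : ∀ d : S, IsScalarTower.toAlgHom A S (BranchField Q₀) d = 0 → π d = 0 := fun d hd =>
      RingHom.mem_ker.1 (hQ₀.le ((ker_toAlgHom (A := A) Q₀).le hd))
    refine eq_zero_of_same_contraction (⊤ : Subalgebra A S) (y := ((gT x : intg A S) : F)) (K := BranchField Q₀) (K' := K) ?_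
      (IsScalarTower.toAlgHom A S (BranchField Q₀)) π hπ (fun d _ hd => hπ₀ d hd) (Phi (A := A) Q₀)
      (fun x => Phi_algebraMap (A := A) Q₀ x) Φ hΦ ?_
    swap
    · exact h1
    obtain ⟨a, u, hau⟩ := IsLocalization.exists_mk'_eq (nonZeroDivisors S) ((gT x : intg A S) : F)
    obtain ⟨w, s, hs, hw⟩ := exists_inverse (A := A) (⊤ : Subalgebra A S) (u := ⟨(u : S), Algebra.mem_top⟩)
      (mem_nonZeroDivisors_iff_right.2 fun v hv => Subtype.ext
        (mem_nonZeroDivisors_iff_right.1 u.2 (v : S) (congrArg Subtype.val hv)))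
    refine ⟨s, hs, a * (w : S), Algebra.mem_top, ?_⟩
    rw [IsScalarTower.algebraMap_apply A S F, ← hau, ← hw, map_mul, map_mul, ← IsLocalization.mk'_spec F a u]
    ring
  haveI := hM
  have hint : RingHom.IsIntegral (R := D' ⊗[A] G) (A := BranchRing H Q) ((phiW H Q).comp gT.toRingHom) := by
    have h1 : (algebraMap H (BranchRing H Q)).IsIntegral := (inferInstance : Algebra.IsIntegral H (BranchRing H Q)).1
    rw [show algebraMap H (BranchRing H Q) = ((phiW H Q).comp gT.toRingHom).comp
        ((Algebra.TensorProduct.includeRight : G →ₐ[A] D' ⊗[A] G).toRingHom.comp (Subalgebra.inclusion hHG).toRingHom) from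
      RingHom.ext fun x => Subtype.ext (by
        show algebraMap H (BranchField Q) x = Phi A Q (((1 : D') : F) * algebraMap S F (x : S))
        rw [OneMemClass.coe_one, one_mul, Phi_algebraMap, IsScalarTower.algebraMap_apply H S (BranchField Q)]
        rfl)] at h1
    exact RingHom.IsIntegral.tower_top _ _ h1
  have hMeq : M = (maximalIdeal (BranchRing H Q)).comap ((phiW H Q).comp gT.toRingHom) :=
    eq_comap_maximalIdeal (T := D' ⊗[A] G) (W := BranchRing H Q) _ hint M hQ
  haveI : IsLocalHom D.val.toRingHom := (inferInstance : IsLocalHom (algebraMap D S))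
  have hker := isMaximal_ker H (D := D) D.val.toRingHom
    ((algebraMap S F).comp D.val.toRingHom |>.codRestrict D' fun d => hD'.algebraMap_mem d.2)
    (fun z => by
      obtain ⟨P, hP, hP0⟩ := ((hD' _).1 z.2).1
      exact ⟨P, hP, Subtype.ext (by
        show D'.val.toRingHom (eval₂ _ z P) = 0
        rw [hom_eval₂]
        exact hP0)⟩)
    (Subalgebra.inclusion hD'.le_intg).toRingHom (fun d => rfl) Q
  refine ⟨Q, fun z => ?_⟩
  suffices hle : N ≤ RingHom.ker ((red H Q).comp (Subalgebra.inclusion hD'.le_intg).toRingHom) by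
    rw [(inferInstance : N.IsMaximal).eq_of_le hker.ne_top hle]
    rfl
  intro n hn
  obtain ⟨s, hs, d, hd, hsd⟩ := ((hD' _).1 n.2).2
  have hnJ : (Algebra.TensorProduct.includeLeft : D' →ₐ[A] D' ⊗[A] G) n ∈ J :=
    ⟨s, hs, Subalgebra.inclusion hDG ⟨d, hd⟩, Ideal.mem_map_of_mem _ ⟨n, hn, hsd.symm⟩, by
      show _ * (((n : D') : F) * algebraMap S F ((1 : G) : S)) = _
      rw [OneMemClass.coe_one, map_one, mul_one, hsd]
      rfl⟩
  have h2 := hJM hnJ
  rw [hMeq, Ideal.mem_comap, ← residue_eq_zero_iff] at h2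
  show red H Q _ = 0
  refine Eq.trans (congrArg (red H Q) (Subtype.ext ?_)) h2
  show _ = ((n : D') : F) * algebraMap S F ((1 : G) : S)
  rw [OneMemClass.coe_one, map_one, mul_one]
  rfl

end Groth.Ega4Algebra2.Residual
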