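import Groth.Agent.Ega4Algebra2.ResidualBackward
import Groth.Agent.Ega4Algebra2.ResidualBase
import Groth.Agent.Hensel1.Reduced
import Mathlib

/-! The henselization of an intermediate ring of a strict henselization. -/

set_option autoImplicit false
universe u

open IsLocalRing Polynomial
open scoped TensorProduct

namespace Groth.Ega4Algebra2.Residual

open Groth.Hensel1 in
/-- The henselization has the residue field of the base. -/
theorem hens_residue (D Dh : Type u) [CommRing D] [IsLocalRing D] [CommRing Dh] [IsLocalRing Dh] [Algebra D Dh]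
    [IsLocalHom (algebraMap D Dh)] [Hensel.IsHenselization D Dh] (y : Dh) :
    ∃ d : D, residue Dh y = residue Dh (algebraMap D Dh d) := by
  obtain ⟨e⟩ := exists_algEquiv_of_isHenselization D Dh
  obtain ⟨d, hd⟩ := residue_surjective (Hens.pt (e.symm y))
  refine ⟨d, ?_⟩
  haveI : IsLocalHom e.toAlgHom.toRingHom := IsLocalHom.of_surjective _ e.surjective
  have h1 : residue _ (e.symm y) = residue _ (algebraMap D (Hens D (ResidueField D)) d) := by
    rw [Hens.residue_eq_iff, AlgHom.commutes, ← hd]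
    rfl
  have h2 := congrArg (ResidueField.map e.toAlgHom.toRingHom) h1
  rw [ResidueField.map_residue, ResidueField.map_residue] at h2
  simpa using h2

open Groth.Hensel1 in
/-- Finitely many elements of the henselization lie in an essentially étale stage. -/
theorem hens_stage (D Dh : Type u) [CommRing D] [IsLocalRing D] [CommRing Dh] [IsLocalRing Dh] [Algebra D Dh]
    [IsLocalHom (algebraMap D Dh)] [Hensel.IsHenselization D Dh] {ι : Type} [Finite ι] (x : ι → Dh) :
    ∃ (E : Type u) (_ : CommRing E) (_ : IsLocalRing E) (_ : Algebra D E) (j : E →ₐ[D] Dh),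
      EGA4loc.IsEssentiallyEtale D E ∧ IsLocalHom j.toRingHom ∧ Function.Injective j ∧ ∀ k, x k ∈ j.range := by
  obtain ⟨e⟩ := exists_algEquiv_of_isHenselization D Dh
  obtain ⟨i, y, hy⟩ := Hens.exists_of_fintype fun k => e.symm (x k)
  refine ⟨i.Obj, inferInstance, inferInstance, inferInstance, e.toAlgHom.comp (Hens.of i),
    ⟨i.P.Ring, inferInstance, inferInstance, i.q, inferInstance, inferInstance, i.comap_q, ⟨AlgEquiv.refl⟩⟩, ?_,
    e.injective.comp (Hens.injective_of i), fun k => ⟨y k, ?_⟩⟩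
  · haveI : IsLocalHom e.toAlgHom.toRingHom := IsLocalHom.of_surjective _ e.surjective
    haveI := Hens.isLocalHom_of i
    exact RingHom.isLocalHom_comp e.toAlgHom.toRingHom (Hens.of i).toRingHom
  · show e (Hens.of i (y k)) = x k
    rw [hy, AlgEquiv.apply_symm_apply]

theorem hens_isLocalHom (D Dh : Type u) [CommRing D] [IsLocalRing D] [CommRing Dh] [IsLocalRing Dh] [Algebra D Dh]
    [IsLocalHom (algebraMap D Dh)] [Hensel.IsHenselization D Dh] {S : Type u} [CommRing S] [IsLocalRing S]
    (θ : Dh →+* S) [IsLocalHom (θ.comp (algebraMap D Dh))] : IsLocalHom θ := by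
  obtain ⟨M⟩ := Groth.Hensel1.hensModel_of_isHenselization (R := D) (S := Dh)
  refine ((local_hom_TFAE θ).out 0 2 rfl rfl).2 ?_
  rw [← M.map_maximalIdeal, Ideal.map_map]
  exact ((local_hom_TFAE (θ.comp (algebraMap D Dh))).out 0 2 rfl rfl).1 inferInstance

variable {A S : Type u} [CommRing A] [IsLocalRing A] [IsReduced A] [IsNoetherianRing A]
  [CommRing S] [IsLocalRing S] [Algebra A S] [IsLocalHom (algebraMap A S)] [Hensel.IsStrictHenselization A S]
  (H : Subalgebra A S) [HenselianLocalRing H] [IsLocalHom (algebraMap H S)] [Hensel.IsStrictHenselization H S]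
  {D : Subalgebra A S} [IsLocalRing D] [IsLocalHom (algebraMap D S)]
  {A' : Subalgebra A (FractionRing S)} (hA' : IsNormalisation (⊥ : Subalgebra A S) A')
  {D' : Subalgebra A (FractionRing S)} (hD' : IsNormalisation D D')
  (hle : A' ≤ D') (ι : D →ₐ[A] D') (hι : ∀ d : D, (ι d : FractionRing S) = algebraMap S (FractionRing S) d)
  (hsurj : Function.Surjective ((Ideal.Quotient.mkₐ A (Ideal.jacobson (⊥ : Ideal D'))).comp
    (Algebra.TensorProduct.productMap (Subalgebra.inclusion hle) ι)))

include H hA' hD' hι hsurj in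
/-- The henselization of the intermediate ring embeds in the strict henselization. -/
theorem injective_hens (Dh : Type u) [CommRing Dh] [IsLocalRing Dh] [Algebra D Dh] [IsLocalHom (algebraMap D Dh)]
    [hDh : Hensel.IsHenselization D Dh] (θ : Dh →+* S) (hθ : ∀ d : D, θ (algebraMap D Dh d) = (d : S)) :
    Function.Injective θ := by
  classical
  haveI := hDh.henselian
  haveI : IsLocalHom (θ.comp (algebraMap D Dh)) := by
    rw [show θ.comp (algebraMap D Dh) = algebraMap D S from RingHom.ext hθ]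
    infer_instance
  haveI := hens_isLocalHom D Dh θ
  obtain ⟨M⟩ := Groth.Hensel1.hensModel_of_isHenselization (R := D) (S := Dh)
  haveI := isReduced (A := A) (S := S)
  haveI : IsReduced D := isReduced_of_injective D.val Subtype.val_injective
  haveI : IsReduced Dh := M.isReduced_iff.1 inferInstance
  rw [injective_iff_map_eq_zero]
  intro x hx
  refine IsNilpotent.eq_zero (nilpotent_iff_mem_prime.2 fun P hP => ?_)
  obtain ⟨𝔭, h𝔭, h𝔭P⟩ := Ideal.exists_minimalPrimes_le (bot_le (a := P))
  refine h𝔭P ?_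
  clear h𝔭P hP P
  haveI := Ideal.minimalPrimes_isPrime h𝔭
  -- the contraction
  haveI := M.flat
  haveI := Algebra.HasGoingDown.of_flat (R := D) (S := Dh)
  have hp : 𝔭.comap (algebraMap D Dh) ∈ minimalPrimes D := by
    refine ⟨⟨Ideal.IsPrime.comap _, bot_le⟩, fun p hp hle => ?_⟩
    haveI := hp.1
    haveI : 𝔭.LiesOver (𝔭.comap (algebraMap D Dh)) := ⟨rfl⟩
    obtain ⟨P, hP, _, hPo⟩ := Ideal.exists_ideal_le_liesOver_of_le (S := Dh) 𝔭 hle
    rw [hPo.over, le_antisymm hP (h𝔭.2 ⟨‹_›, bot_le⟩ hP)]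
  obtain ⟨P₀, hP₀, hP₀p⟩ := Ideal.exists_comap_eq_of_mem_minimalPrimes_of_injective
    (f := algebraMap D S) Subtype.val_injective _ hp
  haveI := hP₀
  obtain ⟨Q₁, hQ₁, hQ₁le⟩ := Ideal.exists_minimalPrimes_le (bot_le (a := P₀))
  haveI := Ideal.minimalPrimes_isPrime hQ₁
  obtain ⟨Q₀, hQ₀⟩ : ∃ Q₀ : minimalPrimes S, Q₀.1 = Q₁ := ⟨⟨Q₁, hQ₁⟩, rfl⟩
  have hQ₀p : ∀ d : D, (d : S) ∈ Q₀.1 ↔ algebraMap D Dh d ∈ 𝔭 := fun d => by
    have h1 : Q₁.comap (algebraMap D S) = 𝔭.comap (algebraMap D Dh) :=
      le_antisymm ((Ideal.comap_mono hQ₁le).trans hP₀p.le)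
        (hp.2 ⟨Ideal.IsPrime.comap _, bot_le⟩ ((Ideal.comap_mono hQ₁le).trans hP₀p.le))
    rw [hQ₀]
    exact SetLike.ext_iff.1 h1 d
  -- the branch of the henselization
  let K' := FractionRing (Dh ⧸ 𝔭)
  let π' : Dh →+* K' := algebraMap Dh K'
  have hπ' : ∀ y, π' y = 0 ↔ y ∈ 𝔭 := fun y => by
    show algebraMap Dh K' y = 0 ↔ _
    rw [IsScalarTower.algebraMap_apply Dh (Dh ⧸ 𝔭) K', map_eq_zero_iff _ (IsFractionRing.injective (Dh ⧸ 𝔭) K'),
      Ideal.Quotient.algebraMap_eq, Ideal.Quotient.eq_zero_iff_mem]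
  let W' := integralClosure Dh K'
  haveI : IsLocalRing W' := StrictResidue.isLocalRing_integralClosure
  haveI : IsLocalHom (algebraMap Dh W') := by
    refine ((local_hom_TFAE (algebraMap Dh W')).out 0 4 rfl rfl).2 ?_
    exact eq_maximalIdeal (Ideal.isMaximal_comap_of_isIntegral_of_isMaximal (maximalIdeal W'))
  have hsD : ∀ s ∈ nonZeroDivisors A, π' (algebraMap D Dh (algebraMap A D s)) ≠ 0 := fun s hs h =>
    algebraMap_notMem (A := A) Q₀.2 hs ((hQ₀p (algebraMap A D s)).2 ((hπ' _).1 h))
  have hdat : ∀ z : D', ∃ s ∈ nonZeroDivisors A, ∃ d : D,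
      algebraMap A (FractionRing S) s * z = algebraMap S (FractionRing S) (d : S) := fun z => by
    obtain ⟨s, hs, d, hd, h⟩ := ((hD' _).1 z.2).2
    exact ⟨s, hs, ⟨d, hd⟩, h⟩
  choose sz hsz dz hdz using hdat
  have hinjF : Function.Injective (algebraMap S (FractionRing S)) := IsLocalization.injective _ le_rfl
  let ρ₀ : D' → K' := fun z => π' (algebraMap D Dh (dz z)) / π' (algebraMap D Dh (algebraMap A D (sz z)))
  have hρ : ∀ (z : D') (s : A) (d : D), algebraMap A (FractionRing S) s * z = algebraMap S (FractionRing S) (d : S) →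
      ρ₀ z * π' (algebraMap D Dh (algebraMap A D s)) = π' (algebraMap D Dh d) := fun z s d h => by
    rw [div_mul_eq_mul_div, div_eq_iff (hsD _ (hsz z)), ← map_mul, ← map_mul, ← map_mul, ← map_mul]
    congr 2
    refine Subtype.ext (hinjF ?_)
    rw [Subalgebra.coe_mul, Subalgebra.coe_mul, map_mul, map_mul, ← hdz z, ← h, Subalgebra.coe_algebraMap,
      Subalgebra.coe_algebraMap, ← IsScalarTower.algebraMap_apply, ← IsScalarTower.algebraMap_apply]
    ring
  let ρ : D' →+* K' :=
    { toFun := ρ₀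
      map_one' := by
        have h1 := hρ 1 1 1 (by rw [map_one, OneMemClass.coe_one, OneMemClass.coe_one, one_mul, map_one])
        simpa using h1
      map_zero' := by
        have h1 := hρ 0 1 0 (by rw [map_one, ZeroMemClass.coe_zero, ZeroMemClass.coe_zero, one_mul, map_zero])
        simpa using h1
      map_mul' := fun z w => by
        have h1 := hρ (z * w) (sz z * sz w) (dz z * dz w) (by
          rw [map_mul, Subalgebra.coe_mul, Subalgebra.coe_mul, map_mul, ← hdz z, ← hdz w]; ring)
        rw [map_mul, map_mul, map_mul, map_mul, map_mul, ← hρ z _ _ (hdz z), ← hρ w _ _ (hdz w)] at h1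
        exact mul_right_cancel₀ (mul_ne_zero (hsD _ (hsz z)) (hsD _ (hsz w))) (h1.trans (by ring))
      map_add' := fun z w => by
        have h1 := hρ (z + w) (sz z * sz w) (algebraMap A D (sz w) * dz z + algebraMap A D (sz z) * dz w) (by
          rw [map_mul, Subalgebra.coe_add, Subalgebra.coe_add, Subalgebra.coe_mul, Subalgebra.coe_mul, map_add, map_mul,
            map_mul, ← hdz z, ← hdz w, Subalgebra.coe_algebraMap, Subalgebra.coe_algebraMap,
            ← IsScalarTower.algebraMap_apply, ← IsScalarTower.algebraMap_apply]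
          ring)
        simp only [map_mul, map_add] at h1
        rw [← hρ z _ _ (hdz z), ← hρ w _ _ (hdz w)] at h1
        exact mul_right_cancel₀ (mul_ne_zero (hsD _ (hsz z)) (hsD _ (hsz w))) (h1.trans (by ring)) }
  have hρι : ∀ d : D, ρ (ι d) = π' (algebraMap D Dh d) := fun d => by
    have h1 := hρ (ι d) 1 d (by rw [map_one, one_mul, hι])
    rw [map_one, map_one, map_one, mul_one] at h1
    exact h1
  have hρint : ∀ z : D', IsIntegral Dh (ρ z) := fun z => by
    obtain ⟨P, hP, hP0⟩ := ((hD' _).1 z.2).1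
    refine ⟨P.map (algebraMap D Dh), hP.map _, ?_⟩
    have h0 : eval₂ ι.toRingHom z P = 0 := Subtype.ext (by
      show D'.val.toRingHom (eval₂ _ z P) = 0
      rw [hom_eval₂, show D'.val.toRingHom.comp ι.toRingHom = algebraMap D (FractionRing S) from RingHom.ext hι]
      exact hP0)
    have h1 := congrArg ρ h0
    rw [hom_eval₂, map_zero, show ρ.comp ι.toRingHom = π'.comp (algebraMap D Dh) from RingHom.ext hρι] at h1
    rw [eval₂_map]
    exact h1
  let f' : D' →+* W' := ρ.codRestrict W' hρint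
  letI : Algebra D D' := ι.toRingHom.toAlgebra
  haveI : Algebra.IsIntegral D D' := ⟨fun z => by
    obtain ⟨P, hP, hP0⟩ := ((hD' _).1 z.2).1
    refine ⟨P, hP, Subtype.ext ?_⟩
    show D'.val.toRingHom (eval₂ ι.toRingHom z P) = 0
    rw [hom_eval₂, show D'.val.toRingHom.comp ι.toRingHom = algebraMap D (FractionRing S) from RingHom.ext hι]
    exact hP0⟩
  have hf'ι : ∀ d : D, f' (ι d) = algebraMap Dh W' (algebraMap D Dh d) := fun d => Subtype.ext (hρι d)
  let N' : Ideal D' := RingHom.ker ((residue W').comp f')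
  haveI : N'.IsPrime := RingHom.ker_isPrime _
  haveI : N'.IsMaximal := by
    refine Ideal.isMaximal_of_isIntegral_of_isMaximal_comap (R := D) _ ?_
    convert maximalIdeal.isMaximal D
    ext d
    show residue W' (f' (ι d)) = 0 ↔ _
    rw [hf'ι, residue_eq_zero_iff, mem_maximalIdeal, mem_maximalIdeal, mem_nonunits_iff, mem_nonunits_iff]
    exact not_congr ((isUnit_map_iff (algebraMap Dh W') _).trans (isUnit_map_iff (algebraMap D Dh) d))
  obtain ⟨Q, hQ⟩ := backward_maximal H hA' hD' hle ι hι hsurj N'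
  -- same contraction
  obtain ⟨e, he, he1, he0⟩ := hD'.exists_idem Q₀
  have hQp : Q.1.comap D.val.toRingHom = Q₀.1.comap D.val.toRingHom := by
    by_contra hne
    have h1 : ρ ⟨e, he⟩ = 1 := by
      have h2 := hρ ⟨e, he⟩ _ _ (hdz ⟨e, he⟩)
      have h3 := congrArg (Phi A Q₀) (hdz ⟨e, he⟩)
      rw [map_mul, AlgHom.commutes, Phi_algebraMap, he1, mul_one, IsScalarTower.algebraMap_apply A S (BranchField Q₀),
        ← sub_eq_zero, ← map_sub] at h3
      have h4 : algebraMap A S (sz ⟨e, he⟩) - (dz ⟨e, he⟩ : S) ∈ Q₀.1 := (ker_toAlgHom (A := A) Q₀).le h3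
      have h5 := (hπ' _).2 ((hQ₀p (algebraMap A D (sz ⟨e, he⟩) - dz ⟨e, he⟩)).1 h4)
      rw [map_sub, map_sub, sub_eq_zero] at h5
      rw [← h5] at h2
      exact (mul_eq_right₀ (hsD _ (hsz _))).1 h2
    have h6 : (⟨e, he⟩ : D') ∈ N' := (hQ _).2 (by
      show residue _ (phiW H Q ⟨e, hD'.le_intg he⟩) = 0
      rw [show phiW H Q ⟨e, hD'.le_intg he⟩ = 0 from Subtype.ext (he0 Q hne), map_zero])
    have h7 : residue W' (f' ⟨e, he⟩) = 0 := h6
    rw [show f' ⟨e, he⟩ = 1 from Subtype.ext h1, map_one] at h7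
    exact one_ne_zero h7
  have hf : ∀ z : D', normMap H hD'.le_intg Q z = 0 ↔ f' z = 0 := fun z => by
    have h1 : normMap H hD'.le_intg Q z = 0 ↔ (dz z : S) ∈ Q.1 := by
      have h3 := congrArg (Phi A Q) (hdz z)
      rw [map_mul, AlgHom.commutes, Phi_algebraMap] at h3
      have hne := algebraMap_ne_zero (IsScalarTower.toAlgHom A S (BranchField Q)) ((ker_toAlgHom (A := A) Q).symm ▸ Q.2) (hsz z)
      refine ⟨fun h => (ker_toAlgHom (A := A) Q).le ?_, fun h => Subtype.ext ?_⟩
      · show algebraMap S (BranchField Q) (dz z : S) = 0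
        rw [← h3, show Phi A Q z = 0 from congrArg Subtype.val h, mul_zero]
      · have h4 : algebraMap S (BranchField Q) (dz z : S) = 0 := (ker_toAlgHom (A := A) Q).ge h
        exact (mul_eq_zero.1 (h3.trans h4)).resolve_left hne
    rw [h1, show ((dz z : S) ∈ Q.1 ↔ (dz z : S) ∈ Q₀.1) from SetLike.ext_iff.1 hQp (dz z), hQ₀p, ← hπ',
      ← hρ z _ _ (hdz z), mul_eq_zero, or_iff_left (hsD _ (hsz z))]
    exact ⟨fun h => Subtype.ext h, fun h => congrArg Subtype.val h⟩
  -- the stage
  obtain ⟨E, _, _, _, j, hE, hjloc, -, hxj⟩ := hens_stage D Dh (fun _ : Unit => x)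
  obtain ⟨c, hc⟩ := hxj ()
  replace hc : j c = x := hc
  have hcompat : (normMap H hD'.le_intg Q).comp (algebraMap D D') =
      (stageMapD H (θ.comp j.toRingHom) Q).comp (algebraMap D E) := RingHom.ext fun d => Subtype.ext (by
    show Phi A Q (ι d : FractionRing S) = Phi A Q (algebraMap S (FractionRing S) (θ (j (algebraMap D E d))))
    rw [hι, j.commutes, hθ])
  have hcompat' : f'.comp (algebraMap D D') = ((algebraMap Dh W').comp j.toRingHom).comp (algebraMap D E) :=
    RingHom.ext fun d => by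
      show f' (ι d) = algebraMap Dh W' (j (algebraMap D E d))
      rw [hf'ι, j.commutes]
  have hpre : ∀ y : D' ⊗[D] E, ∃ z : D',
      residue _ (tensorLift _ _ hcompat y) = red H Q (Subalgebra.inclusion hD'.le_intg z) ∧
      residue _ (tensorLift _ _ hcompat' y) = residue W' (f' z) := fun y => by
    induction y with
    | zero => exact ⟨0, by simp, by simp⟩
    | tmul n b =>
      obtain ⟨d, hd⟩ := hens_residue D Dh (j b)
      refine ⟨n * ι d, ?_, ?_⟩
      · rw [tensorLift_tmul, map_mul, map_mul, map_mul, red_eq_redS H Q (d : S) (z := Subalgebra.inclusion hD'.le_intg (ι d)) (hι d)]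
        refine congrArg₂ (· * ·) rfl ((redS_eq_iff H Q _ _).2 ?_)
        have h1 := congrArg (ResidueField.map θ) hd
        rw [ResidueField.map_residue, ResidueField.map_residue, hθ] at h1
        exact h1
      · rw [tensorLift_tmul, map_mul, map_mul, map_mul, hf'ι]
        refine congrArg₂ (· * ·) rfl ?_
        have h1 := congrArg (ResidueField.map (algebraMap Dh W')) hd
        rw [ResidueField.map_residue, ResidueField.map_residue] at h1
        exact h1
    | add y y' hy hy' =>
      obtain ⟨z, hz, hz'⟩ := hy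
      obtain ⟨w, hw, hw'⟩ := hy'
      exact ⟨z + w, by rw [map_add, map_add, map_add, map_add, hz, hw], by rw [map_add, map_add, map_add, map_add, hz', hw']⟩
  have hmain := branch_ker_eq hE _ _ hcompat _ _ hcompat' (hD'.isIntegrallyClosed H Q) hf (fun y => by
    obtain ⟨z, hz, hz'⟩ := hpre y
    rw [hz, hz']
    exact (hQ z).symm) ((1 : D') ⊗ₜ c)
  rw [tensorLift_tmul, tensorLift_tmul, map_one, map_one, one_mul, one_mul] at hmain
  refine (hπ' x).1 ?_
  have h1 : stageMapD H (θ.comp j.toRingHom) Q c = 0 := Subtype.ext (by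
    rw [stageMapD_coe, RingHom.comp_apply]
    show algebraMap S (BranchField Q) (θ (j c)) = 0
    rw [hc, hx, map_zero])
  have h2 := congrArg Subtype.val (hmain.1 h1)
  rw [← hc]
  exact h2

end Groth.Ega4Algebra2.Residual
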