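import Groth.Agent.Ega4Algebra2.ResidualHens
import Mathlib

/-! The residual product criterion. -/

set_option autoImplicit false
universe u

open IsLocalRing Polynomial
open scoped TensorProduct

namespace Groth.Ega4Algebra2.Residual

variable {A S : Type u} [CommRing A] [IsLocalRing A]
  [CommRing S] [IsLocalRing S] [Algebra A S] [IsLocalHom (algebraMap A S)]

theorem isLocalHom_algebraMap' (D : Subalgebra A S) [IsLocalRing D] [IsLocalHom (algebraMap D S)] :
    IsLocalHom (algebraMap A D) := ⟨fun a ha => by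
  have h1 := ha.map (algebraMap D S)
  rw [← IsScalarTower.algebraMap_apply] at h1
  exact isUnit_of_map_unit (algebraMap A S) a h1⟩

/-- The residue field of a dominated intermediate ring. -/
noncomputable def resF (D : Subalgebra A S) [IsLocalRing D] [IsLocalHom (algebraMap D S)] :
    IntermediateField (ResidueField A) (ResidueField S) :=
  haveI := isLocalHom_algebraMap' D
  ({ ResidueField.map (algebraMap D S) with
      commutes' := fun z => by
        obtain ⟨a, rfl⟩ := residue_surjective z
        rfl } : ResidueField D →ₐ[ResidueField A] ResidueField S).fieldRange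

theorem mem_resF {D : Subalgebra A S} [IsLocalRing D] [IsLocalHom (algebraMap D S)] {y : ResidueField S} :
    y ∈ resF D ↔ ∃ d ∈ D, residue S d = y := by
  constructor
  · rintro ⟨z, rfl⟩
    obtain ⟨d, rfl⟩ := residue_surjective z
    exact ⟨d, d.2, rfl⟩
  · rintro ⟨d, hd, rfl⟩
    exact ⟨residue D ⟨d, hd⟩, rfl⟩

variable [Hensel.IsStrictHenselization A S] [IsReduced A] [IsNoetherianRing A]

/-- The henselian base attached to an intermediate ring, with its instances. -/
theorem exists_base (D : Subalgebra A S) [IsLocalRing D] [IsLocalHom (algebraMap D S)] :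
    ∃ (H : Subalgebra A S) (_ : HenselianLocalRing H) (_ : IsLocalHom (algebraMap H S))
      (_ : Hensel.IsStrictHenselization H S) (_ : IsNoetherianRing H), IsResidual (resF D) H := by
  obtain ⟨H, hH⟩ := exists_isResidual (A := A) (S := S) (resF D)
  haveI := hH.henselian
  haveI := hH.isLocalHom
  exact ⟨H, inferInstance, inferInstance, hH.strict inferInstance inferInstance, hH.noetherian inferInstance, hH⟩

variable (H : Subalgebra A S) [HenselianLocalRing H] [IsLocalHom (algebraMap H S)] [Hensel.IsStrictHenselization H S]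
  {D : Subalgebra A S} [IsLocalRing D] [IsLocalHom (algebraMap D S)]
  {A' : Subalgebra A (FractionRing S)} (hA' : IsNormalisation (⊥ : Subalgebra A S) A')
  {D' : Subalgebra A (FractionRing S)} (hD' : IsNormalisation D D')
  (hle : A' ≤ D') (ι : D →ₐ[A] D') (hι : ∀ d : D, (ι d : FractionRing S) = algebraMap S (FractionRing S) d)

include H hA' hD' hι in
/-- The kernel of the residual product map. -/
theorem kernel_eq :
    RingHom.ker ((Ideal.Quotient.mkₐ A (Ideal.jacobson (⊥ : Ideal D'))).comp
          (Algebra.TensorProduct.productMap (Subalgebra.inclusion hle) ι)) =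
          (Ideal.jacobson (⊥ : Ideal A')).map
              (Algebra.TensorProduct.includeLeft : A' →ₐ[A] A' ⊗[A] D) ⊔
            (maximalIdeal D).map
              (Algebra.TensorProduct.includeRight : D →ₐ[A] A' ⊗[A] D) := by
  set pm := Algebra.TensorProduct.productMap (Subalgebra.inclusion hle) ι
  have hint : ι.toRingHom.IsIntegral := fun z => by
    obtain ⟨P, hP, hP0⟩ := ((hD' _).1 z.2).1
    refine ⟨P, hP, Subtype.ext ?_⟩
    show D'.val.toRingHom (eval₂ _ z P) = 0
    rw [hom_eval₂, show D'.val.toRingHom.comp ι.toRingHom = algebraMap D (FractionRing S) from RingHom.ext hι]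
    exact hP0
  letI := ι.toRingHom.toAlgebra
  haveI : Algebra.IsIntegral D D' := ⟨hint⟩
  haveI := isLocalHom_algebraMap' D
  refine le_antisymm (fun t ht => ?_) (sup_le (Ideal.map_le_iff_le_comap.2 fun a ha => ?_) (Ideal.map_le_iff_le_comap.2 fun d hd => ?_))
  · by_contra hnot
    obtain ⟨L, _, φ, hm, hφt⟩ := exists_point A' hA'.le_intg D (fun x hx => hA'.isIntegral_bot hx) t hnot
    obtain ⟨Q, hQ⟩ := point_lift H A' hA'.le_intg D (fun x hx => hA'.isIntegral_bot hx) (fun x hx => ((hA' x).1 hx).2) L φ hm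
    refine hφt ((hQ t).2 ?_)
    show rT H hA'.le_intg D Q t = 0
    rw [rT_eq_red H hA' hD' hle ι hι]
    have h1 : pm t ∈ Ideal.jacobson (⊥ : Ideal D') := Ideal.Quotient.eq_zero_iff_mem.1 ht
    exact (Ideal.mem_sInf.1 h1) (I := RingHom.ker ((red H Q).comp (Subalgebra.inclusion hD'.le_intg).toRingHom))
      ⟨bot_le, isMaximal_ker_redD H hD' Q⟩
  · refine Ideal.Quotient.eq_zero_iff_mem.2 ?_
    show pm (Algebra.TensorProduct.includeLeft a) ∈ _
    rw [Ideal.jacobson, Ideal.mem_sInf]
    rintro N ⟨-, hN⟩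
    haveI := hN
    show pm (a ⊗ₜ 1) ∈ N
    rw [show pm (a ⊗ₜ 1) = Subalgebra.inclusion hle a from Algebra.TensorProduct.productMap_left_apply _ _ a]
    have hND : N.comap (algebraMap D D') = maximalIdeal D :=
      eq_maximalIdeal (Ideal.isMaximal_comap_of_isIntegral_of_isMaximal (R := D) N)
    haveI : Algebra.IsIntegral A A' := ⟨fun x => (isIntegral_algHom_iff A'.val Subtype.val_injective).1 (hA'.isIntegral_bot x.2)⟩
    haveI : (N.comap (Subalgebra.inclusion hle).toRingHom).IsMaximal := by
      refine Ideal.isMaximal_of_isIntegral_of_isMaximal_comap (R := A) _ ?_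
      rw [Ideal.comap_comap, show (Subalgebra.inclusion hle).toRingHom.comp (algebraMap A A') =
          ι.toRingHom.comp (algebraMap A D) from RingHom.ext fun x =>
            ((Subalgebra.inclusion hle).commutes x).trans (ι.commutes x).symm, ← Ideal.comap_comap,
        show N.comap ι.toRingHom = maximalIdeal D from hND]
      rw [show (maximalIdeal D).comap (algebraMap A D) = maximalIdeal A from
        ((local_hom_TFAE (algebraMap A D)).out 0 4 rfl rfl).1 inferInstance]
      infer_instance
    exact (Ideal.mem_sInf.1 ha) (I := N.comap (Subalgebra.inclusion hle).toRingHom) ⟨bot_le, inferInstance⟩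
  · refine Ideal.Quotient.eq_zero_iff_mem.2 ?_
    show pm (Algebra.TensorProduct.includeRight d) ∈ _
    rw [Ideal.jacobson, Ideal.mem_sInf]
    rintro N ⟨-, hN⟩
    haveI := hN
    show pm ((1 : A') ⊗ₜ d) ∈ N
    rw [show pm ((1 : A') ⊗ₜ d) = ι d from Algebra.TensorProduct.productMap_right_apply _ _ d]
    have hND : N.comap (algebraMap D D') = maximalIdeal D :=
      eq_maximalIdeal (Ideal.isMaximal_comap_of_isIntegral_of_isMaximal (R := D) N)
    exact hND.ge hd

variable (G : Subalgebra A S)

include H hA' hD' hι in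
/-- From an ind-étale intermediate ring to the residual products. -/
theorem core_forward (hHG : H ≤ G) (hDG : D ≤ G) (hres : ∀ g ∈ G, ∃ d ∈ D, residue S g = residue S d)
    (hflat : ∀ (I : Ideal D) (x : D), Subalgebra.inclusion hDG x ∈ I.map (Subalgebra.inclusion hDG) → x ∈ I)
    (hstage : ∀ s : Finset S, (s : Set S) ⊆ G →
      ∃ E : Subalgebra A S, E ≤ G ∧ (s : Set S) ⊆ E ∧ ∃ _ : IsLocalRing E, EGA4loc.IsEssentiallyEtale A E) :
    {N : Ideal D' | N.IsMaximal}.Finite ∧
      Function.Surjective ((Ideal.Quotient.mkₐ A (Ideal.jacobson (⊥ : Ideal D'))).comp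
        (Algebra.TensorProduct.productMap (Subalgebra.inclusion hle) ι)) := by
  classical
  haveI := isNoetherianRing (A := A) (S := S)
  haveI : Finite (minimalPrimes S) := (minimalPrimes.finite_of_isNoetherianRing S).to_subtype
  let kerQ : minimalPrimes S → Ideal D' := fun Q =>
    RingHom.ker ((red H Q).comp (Subalgebra.inclusion hD'.le_intg).toRingHom)
  have hmax : ∀ N : Ideal D', N.IsMaximal → ∃ Q, kerQ Q = N := fun N hN => by
    haveI := hN
    obtain ⟨Q, hQ⟩ := forward_maximal H G hD' hDG hHG hflat N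
    exact ⟨Q, Ideal.ext fun z => (hQ z).symm⟩
  have hfin : {N : Ideal D' | N.IsMaximal}.Finite := (Set.finite_range kerQ).subset fun N hN => hmax N hN
  refine ⟨hfin, fun q => ?_⟩
  obtain ⟨z, rfl⟩ := Ideal.Quotient.mk_surjective q
  let ι' := {N : Ideal D' // N.IsMaximal}
  haveI : Finite ι' := hfin.to_subtype
  choose Qf hQf using fun N : ι' => hmax N.1 N.2
  let I : ι' → Ideal (A' ⊗[A] D) := fun N => RingHom.ker (rT H hA'.le_intg D (Qf N))
  have hI : Pairwise (Function.onFun IsCoprime I) := fun N N' hne => by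
    rw [Function.onFun, Ideal.isCoprime_iff_sup_eq]
    refine (isMaximal_ker_rT H hA' D (Qf N)).coprime_of_ne (isMaximal_ker_rT H hA' D (Qf N')) fun heq => hne ?_
    refine Subtype.ext ?_
    rw [← hQf N, ← hQf N']
    exact Ideal.ext fun w => forward_injective H hA' G hres hstage hD' hDG (Qf N) (Qf N') (fun t => SetLike.ext_iff.1 heq t) w
  choose tz htz using fun N : ι' => forward_surjective H hA' G hres hstage hD' hDG z (Qf N)
  obtain ⟨t, ht⟩ := Ideal.exists_forall_sub_mem_ideal hI tz
  refine ⟨t, Ideal.Quotient.eq.2 ?_⟩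
  rw [Ideal.jacobson, Ideal.mem_sInf]
  rintro N ⟨-, hN⟩
  show _ ∈ (⟨N, hN⟩ : ι').1
  rw [← hQf ⟨N, hN⟩]
  show red H _ (Subalgebra.inclusion hD'.le_intg (Algebra.TensorProduct.productMap (Subalgebra.inclusion hle) ι t - z)) = 0
  rw [map_sub, map_sub, ← rT_eq_red H hA' hD' hle ι hι, htz ⟨N, hN⟩, sub_eq_zero, ← sub_eq_zero, ← map_sub]
  exact ht ⟨N, hN⟩

omit G
variable (Dh : Type u) [CommRing Dh] [IsLocalRing Dh] [Algebra D Dh] [IsLocalHom (algebraMap D Dh)]
  [hDh : Hensel.IsHenselization D Dh] (θ : Dh →+* S) (hθ : ∀ d : D, θ (algebraMap D Dh d) = (d : S))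

/-- The image of the henselization of an intermediate ring. -/
noncomputable def hensRange : Subalgebra A S :=
  letI : Algebra A Dh := ((algebraMap D Dh).comp (algebraMap A D)).toAlgebra
  ({ θ with commutes' := fun a => (hθ (algebraMap A D a)).trans rfl } : Dh →ₐ[A] S).range

omit [IsReduced A] [IsNoetherianRing A] [Hensel.IsStrictHenselization A S] in
theorem mem_hensRange {x : S} : x ∈ hensRange Dh θ hθ ↔ ∃ y, θ y = x := Iff.rfl

include hDh in
theorem hensRange_props : D ≤ hensRange Dh θ hθ ∧ (∀ g ∈ hensRange Dh θ hθ, ∃ d ∈ D, residue S g = residue S d) := by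
  haveI : IsLocalHom (θ.comp (algebraMap D Dh)) := by
    rw [show θ.comp (algebraMap D Dh) = algebraMap D S from RingHom.ext hθ]
    infer_instance
  haveI := hens_isLocalHom D Dh θ
  refine ⟨fun d hd => ⟨algebraMap D Dh ⟨d, hd⟩, hθ ⟨d, hd⟩⟩, fun g hg => ?_⟩
  obtain ⟨y, rfl⟩ := hg
  obtain ⟨d, hd⟩ := hens_residue D Dh y
  refine ⟨d, d.2, ?_⟩
  have h1 := congrArg (ResidueField.map θ) hd
  rw [ResidueField.map_residue, ResidueField.map_residue, hθ] at h1
  exact h1

include hDh in
theorem le_hensRange (hH : IsResidual (resF D) H) : H ≤ hensRange Dh θ hθ := by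
  haveI := hDh.henselian
  haveI : IsLocalHom (θ.comp (algebraMap D Dh)) := by
    rw [show θ.comp (algebraMap D Dh) = algebraMap D S from RingHom.ext hθ]
    infer_instance
  haveI := hens_isLocalHom D Dh θ
  letI : Algebra A Dh := ((algebraMap D Dh).comp (algebraMap A D)).toAlgebra
  refine hH.le_range Dh ({ θ with commutes' := fun a => (hθ (algebraMap A D a)).trans rfl } : Dh →ₐ[A] S)
    (inferInstance : IsLocalHom θ) fun y hy => ?_
  obtain ⟨d, hd, rfl⟩ := mem_resF.1 hy
  exact ⟨algebraMap D Dh ⟨d, hd⟩, congrArg (residue S) (hθ ⟨d, hd⟩)⟩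

include H hA' hD' hι hDh in
/-- From the residual products to an ind-étale henselization. -/
theorem core_backward [IsNoetherianRing H] (hH : IsResidual (resF D) H)
    (hsurj : Function.Surjective ((Ideal.Quotient.mkₐ A (Ideal.jacobson (⊥ : Ideal D'))).comp
      (Algebra.TensorProduct.productMap (Subalgebra.inclusion hle) ι))) :
    Function.Injective θ ∧ hensRange Dh θ hθ ≤ H := by
  classical
  refine ⟨injective_hens H hA' hD' hle ι hι hsurj Dh θ hθ, ?_⟩
  refine backward_le H hA' hD' hle ι hι hsurj (fun d hd => hH.exists_residue _ (mem_resF.2 ⟨d, hd, rfl⟩))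
    (hensRange Dh θ hθ) (le_hensRange H Dh θ hθ hH) (hensRange_props Dh θ hθ).2 fun s hs => ?_
  choose y hy using fun x : s => (mem_hensRange Dh θ hθ).1 (hs x.2)
  obtain ⟨n, ⟨e⟩⟩ : ∃ n, Nonempty (s ≃ Fin n) := ⟨_, ⟨s.equivFin⟩⟩
  obtain ⟨E, _, _, _, j, hE, -, -, hyj⟩ := hens_stage D Dh (fun k => y (e.symm k))
  refine ⟨E, inferInstance, inferInstance, θ.comp j.toRingHom, fun d => by
    show θ (j (algebraMap D E d)) = _
    rw [j.commutes, hθ], hE, fun x hx => ?_, ?_⟩
  · obtain ⟨c, hc⟩ := hyj (e ⟨x, hx⟩)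
    rw [Equiv.symm_apply_apply] at hc
    exact ⟨c, (congrArg θ hc).trans (hy ⟨x, hx⟩)⟩
  · rintro _ ⟨c, rfl⟩
    exact ⟨j c, rfl⟩

end Groth.Ega4Algebra2.Residual
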