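import Groth.Agent.EtaleBase.EtaleLocalAlg
import Mathlib

/-! Étale stages over a normal domain: the local ring at a point is the only branch through it. -/

set_option autoImplicit false
universe u

open scoped TensorProduct
open IsLocalRing

namespace Groth.Ega4Algebra2.Residual

section

variable {A₀ R C : Type u} [CommRing A₀] [CommRing R] [IsDomain R] [IsIntegrallyClosed R] [Algebra A₀ R]
  [CommRing C] [Algebra A₀ C] [Algebra.Etale A₀ C] (q : Ideal C) [q.IsPrime]

theorem stage_aux {κ : Type u} [Field κ] (ψ : R ⊗[A₀] Localization.AtPrime q →+* κ) :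
    ∃ (L : Type u) (_ : CommRing L) (_ : IsDomain L) (lam : R ⊗[A₀] Localization.AtPrime q →+* L),
      IsIntegrallyClosed L ∧
      (∀ l : L, ∃ x η, ψ η ≠ 0 ∧ l * lam η = lam x) ∧
      ∀ (K : Type u) (_ : Field K) (φ : R ⊗[A₀] Localization.AtPrime q →+* K),
        (∀ r : R, φ (r ⊗ₜ 1) = 0 → r = 0) → (∀ x, φ x = 0 → ψ x = 0) →
        ∃ φL : L →+* K, Function.Injective φL ∧ φL.comp lam = φ := by
  let δ : R ⊗[A₀] C →ₐ[R] R ⊗[A₀] Localization.AtPrime q :=
    Algebra.TensorProduct.map (AlgHom.id R R) (IsScalarTower.toAlgHom A₀ C (Localization.AtPrime q))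
  let n : Ideal (R ⊗[A₀] C) := RingHom.ker (ψ.comp δ.toRingHom)
  haveI : n.IsPrime := RingHom.ker_isPrime _
  let L := Localization.AtPrime n
  obtain ⟨hd, hic⟩ := Groth.EtaleBase.isNormalDomain_of_etale_atPrime R (R ⊗[A₀] C) L n
  have hδ : ∀ (r : R) (c : C), δ (r ⊗ₜ c) = r ⊗ₜ algebraMap C (Localization.AtPrime q) c := fun r c => rfl
  have hu : ∀ d : q.primeCompl, IsUnit (((IsScalarTower.toAlgHom A₀ (R ⊗[A₀] C) L).comp
      (Algebra.TensorProduct.includeRight : C →ₐ[A₀] R ⊗[A₀] C)) (d : C)) := fun d => by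
    refine IsLocalization.map_units L (⟨(1 : R) ⊗ₜ[A₀] (d : C), fun h => ?_⟩ : n.primeCompl)
    have h1 : IsUnit (ψ ((1 : R) ⊗ₜ[A₀] algebraMap C (Localization.AtPrime q) (d : C))) :=
      ((IsLocalization.map_units (Localization.AtPrime q) d).map
        (Algebra.TensorProduct.includeRight : Localization.AtPrime q →ₐ[A₀] R ⊗[A₀] Localization.AtPrime q)).map ψ
    exact h1.ne_zero h
  let lamE : Localization.AtPrime q →ₐ[A₀] L := IsLocalization.liftAlgHom hu
  have hlamE : ∀ c : C, lamE (algebraMap C (Localization.AtPrime q) c) =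
      algebraMap (R ⊗[A₀] C) L ((1 : R) ⊗ₜ c) := fun c => IsLocalization.lift_eq _ c
  let lam : R ⊗[A₀] Localization.AtPrime q →ₐ[A₀] L :=
    Algebra.TensorProduct.lift (IsScalarTower.toAlgHom A₀ R L) lamE fun _ _ => Commute.all _ _
  have hlamδ : ∀ p, lam (δ p) = algebraMap (R ⊗[A₀] C) L p := fun p => by
    induction p with
    | zero => simp
    | tmul r c =>
      show (IsScalarTower.toAlgHom A₀ R L r) * lamE (algebraMap C (Localization.AtPrime q) c) = _
      rw [hlamE, IsScalarTower.coe_toAlgHom', IsScalarTower.algebraMap_apply R (R ⊗[A₀] C) L, ← map_mul,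
        Algebra.TensorProduct.algebraMap_apply, Algebra.TensorProduct.tmul_mul_tmul, one_mul, mul_one]
      rfl
    | add a b ha hb => simp only [map_add, ha, hb]
  refine ⟨L, inferInstance, hd, lam.toRingHom, hic, fun l => ?_, fun K _ φ hφR hφψ => ?_⟩
  · obtain ⟨a, b, rfl⟩ := IsLocalization.exists_mk'_eq n.primeCompl l
    exact ⟨δ a, δ b, b.2, by
      show _ * lam (δ b) = lam (δ a)
      rw [hlamδ, hlamδ, IsLocalization.mk'_spec]⟩
  · have huK : ∀ b : n.primeCompl, IsUnit ((φ.comp δ.toRingHom) (b : R ⊗[A₀] C)) := fun b =>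
      isUnit_iff_ne_zero.2 fun h => b.2 (hφψ _ h)
    let φL : L →+* K := IsLocalization.lift huK
    have hφL : ∀ p, φL (algebraMap (R ⊗[A₀] C) L p) = φ (δ p) := fun p => IsLocalization.lift_eq _ p
    refine ⟨φL, ?_, RingHom.ext fun x => ?_⟩
    · rw [injective_iff_map_eq_zero]
      intro l hl
      haveI : (RingHom.ker φL).IsPrime := RingHom.ker_isPrime _
      have h := Algebra.QuasiFinite.eq_of_le_of_under_eq (R := R) (⊥ : Ideal L) (RingHom.ker φL) bot_le ?_
      · exact (h.symm.le hl : l ∈ (⊥ : Ideal L))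
      · ext r
        simp only [Ideal.under, Ideal.mem_comap, Ideal.mem_bot, RingHom.mem_ker]
        refine ⟨fun h => by rw [h, map_zero], fun h => ?_⟩
        rw [IsScalarTower.algebraMap_apply R (R ⊗[A₀] C) L, hφL, δ.commutes] at h
        rw [hφR r h, map_zero]
    · induction x with
      | zero => simp
      | add a b ha hb => simp only [map_add, ha, hb]
      | tmul r e =>
        obtain ⟨c, d, rfl⟩ := IsLocalization.exists_mk'_eq q.primeCompl e
        have h1 : (r ⊗ₜ[A₀] IsLocalization.mk' (Localization.AtPrime q) c d) * δ (1 ⊗ₜ (d : C)) = δ (r ⊗ₜ c) := by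
          rw [hδ, hδ, Algebra.TensorProduct.tmul_mul_tmul, mul_one, IsLocalization.mk'_spec]
        have h2 := congrArg (φL.comp lam.toRingHom) h1
        have h3 := congrArg φ h1
        simp only [RingHom.comp_apply, map_mul, AlgHom.toRingHom_eq_coe, RingHom.coe_coe] at h2 h3
        rw [hlamδ, hlamδ, hφL, hφL, ← h3] at h2
        refine mul_right_cancel₀ (fun h => (IsUnit.map ψ ?_).ne_zero (hφψ _ h)) h2
        exact (IsLocalization.map_units (Localization.AtPrime q) d).map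
          (Algebra.TensorProduct.includeRight : Localization.AtPrime q →ₐ[A₀] R ⊗[A₀] Localization.AtPrime q)

end

/-- The local ring of an étale stage over a normal domain at a point of a branch. -/
theorem stage {A₀ R E : Type u} [CommRing A₀] [IsLocalRing A₀] [CommRing R] [IsDomain R] [IsIntegrallyClosed R]
    [Algebra A₀ R] [CommRing E] [Algebra A₀ E] (hE : EGA4loc.IsEssentiallyEtale A₀ E)
    {κ : Type u} [Field κ] (ψ : R ⊗[A₀] E →+* κ) :
    ∃ (L : Type u) (_ : CommRing L) (_ : IsDomain L) (lam : R ⊗[A₀] E →+* L),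
      IsIntegrallyClosed L ∧
      (∀ l : L, ∃ x η, ψ η ≠ 0 ∧ l * lam η = lam x) ∧
      ∀ (K : Type u) (_ : Field K) (φ : R ⊗[A₀] E →+* K),
        (∀ r : R, φ (r ⊗ₜ 1) = 0 → r = 0) → (∀ x, φ x = 0 → ψ x = 0) →
        ∃ φL : L →+* K, Function.Injective φL ∧ φL.comp lam = φ := by
  obtain ⟨C, _, _, q, _, hC, -, ⟨e⟩⟩ := hE
  haveI := hC
  let ε : R ⊗[A₀] E ≃ₐ[R] R ⊗[A₀] Localization.AtPrime q := Algebra.TensorProduct.congr AlgEquiv.refl e
  obtain ⟨L, hL1, hL2, lam, hL3, hfrac, hK⟩ := stage_aux (R := R) q (ψ.comp ε.symm.toAlgHom.toRingHom)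
  refine ⟨L, hL1, hL2, lam.comp ε.toAlgHom.toRingHom, hL3, fun l => ?_, fun K _ φ hφR hφψ => ?_⟩
  · obtain ⟨x, η, hη, h⟩ := hfrac l
    exact ⟨ε.symm x, ε.symm η, hη, by simpa using h⟩
  · obtain ⟨φL, hinj, hcomp⟩ := hK K inferInstance (φ.comp ε.symm.toAlgHom.toRingHom) (fun r hr => hφR r (by
      simpa [ε] using hr)) fun x hx => hφψ _ hx
    refine ⟨φL, hinj, RingHom.ext fun x => ?_⟩
    have h := RingHom.congr_fun hcomp (ε x)
    simpa using h

/-- Branches through the same point of an étale stage over a normal domain coincide. -/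
theorem stage_ker_eq {A₀ R E : Type u} [CommRing A₀] [IsLocalRing A₀] [CommRing R] [IsDomain R] [IsIntegrallyClosed R]
    [Algebra A₀ R] [CommRing E] [Algebra A₀ E] (hE : EGA4loc.IsEssentiallyEtale A₀ E)
    {κ : Type u} [Field κ] (ψ : R ⊗[A₀] E →+* κ) {K K' : Type u} [Field K] [Field K']
    (φ : R ⊗[A₀] E →+* K) (φ' : R ⊗[A₀] E →+* K')
    (hφR : ∀ r : R, φ (r ⊗ₜ 1) = 0 → r = 0) (hφψ : ∀ x, φ x = 0 → ψ x = 0)
    (hφR' : ∀ r : R, φ' (r ⊗ₜ 1) = 0 → r = 0) (hφψ' : ∀ x, φ' x = 0 → ψ x = 0) (x : R ⊗[A₀] E) :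
    φ x = 0 ↔ φ' x = 0 := by
  obtain ⟨L, _, _, lam, -, -, hK⟩ := stage hE ψ
  obtain ⟨f, hf, rfl⟩ := hK K inferInstance φ hφR hφψ
  obtain ⟨f', hf', rfl⟩ := hK K' inferInstance φ' hφR' hφψ'
  simp only [RingHom.comp_apply, map_eq_zero_iff f hf, map_eq_zero_iff f' hf']

/-- Integral fractions on a branch of an étale stage over a normal domain are defined at the point. -/
theorem stage_integral {A₀ R E : Type u} [CommRing A₀] [IsLocalRing A₀] [CommRing R] [IsDomain R] [IsIntegrallyClosed R]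
    [Algebra A₀ R] [CommRing E] [Algebra A₀ E] (hE : EGA4loc.IsEssentiallyEtale A₀ E)
    {κ : Type u} [Field κ] (ψ : R ⊗[A₀] E →+* κ) {K : Type u} [Field K] (φ : R ⊗[A₀] E →+* K)
    (hφR : ∀ r : R, φ (r ⊗ₜ 1) = 0 → r = 0) (hφψ : ∀ x, φ x = 0 → ψ x = 0)
    (c : K) (a b : R ⊗[A₀] E) (hb : φ b ≠ 0) (hc : c * φ b = φ a) (hint : φ.IsIntegralElem c) :
    ∃ ξ η, ψ η ≠ 0 ∧ c * φ η = φ ξ := by
  obtain ⟨L, _, _, lam, hic, hfrac, hK⟩ := stage hE ψ
  haveI := hic
  obtain ⟨f, hf, rfl⟩ := hK K inferInstance φ hφR hφψ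
  letI : Algebra L K := f.toAlgebra
  haveI : FaithfulSMul L K := (faithfulSMul_iff_algebraMap_injective L K).2 hf
  let F := FractionRing L
  let κF : F →ₐ[L] K := IsFractionRing.liftAlgHom (g := Algebra.ofId L K) hf
  have hκL : ∀ l, κF (algebraMap L F l) = f l := κF.commutes
  have hx : κF (algebraMap L F (lam a) / algebraMap L F (lam b)) = c := by
    rw [map_div₀, hκL, hκL, div_eq_iff (show f (lam b) ≠ 0 from hb)]
    exact hc.symm
  have hintL : IsIntegral L c := by
    obtain ⟨P, hP, hP0⟩ := hint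
    exact ⟨P.map lam, hP.map _, by rw [Polynomial.eval₂_map]; exact hP0⟩
  rw [← hx, isIntegral_algHom_iff κF κF.toRingHom.injective] at hintL
  obtain ⟨l, hl⟩ := IsIntegrallyClosed.isIntegral_iff.1 hintL
  obtain ⟨x, η, hη, h⟩ := hfrac l
  refine ⟨x, η, hη, ?_⟩
  rw [← hx, ← hl, hκL]
  show f l * f (lam η) = f (lam x)
  rw [← map_mul, h]

end Groth.Ega4Algebra2.Residual
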