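import Groth.Agent.Ega4Algebra2.ResidualBranch
import Groth.Agent.Ega4Algebra2.ResidualStage
import Mathlib

/-! Normalizations of intermediate rings along the branches; stages seen on a branch. -/

set_option autoImplicit false
universe u

open IsLocalRing Polynomial
open scoped TensorProduct

namespace Groth.Ega4Algebra2.Residual

/-- The map out of a tensor product given by two compatible ring maps. -/
noncomputable def tensorLift {A₀ N E W : Type u} [CommRing A₀] [CommRing N] [CommRing E] [CommRing W]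
    [Algebra A₀ N] [Algebra A₀ E] (f : N →+* W) (g : E →+* W)
    (h : f.comp (algebraMap A₀ N) = g.comp (algebraMap A₀ E)) : N ⊗[A₀] E →+* W :=
  letI : Algebra A₀ W := (f.comp (algebraMap A₀ N)).toAlgebra
  (Algebra.TensorProduct.productMap (R := A₀) (S := W)
    ({ f with commutes' := fun _ => rfl } : N →ₐ[A₀] W)
    ({ g with commutes' := fun a => (RingHom.congr_fun h a).symm } : E →ₐ[A₀] W)).toRingHom

theorem tensorLift_tmul {A₀ N E W : Type u} [CommRing A₀] [CommRing N] [CommRing E] [CommRing W]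
    [Algebra A₀ N] [Algebra A₀ E] (f : N →+* W) (g : E →+* W)
    (h : f.comp (algebraMap A₀ N) = g.comp (algebraMap A₀ E)) (n : N) (e : E) :
    tensorLift f g h (n ⊗ₜ e) = f n * g e := rfl

/-- Integral fractions on a branch of a stage are defined at the closed point. -/
theorem branch_integral {A₀ N E W : Type u} [CommRing A₀] [IsLocalRing A₀] [CommRing N] [Algebra A₀ N]
    [CommRing E] [Algebra A₀ E] (hE : EGA4loc.IsEssentiallyEtale A₀ E) [CommRing W] [IsDomain W] [IsLocalRing W]
    (f : N →+* W) (g : E →+* W) (h : f.comp (algebraMap A₀ N) = g.comp (algebraMap A₀ E))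
    (hic : IsIntegrallyClosed (N ⧸ RingHom.ker f)) (w : W) (a b : E) (hb : g b ≠ 0) (hw : w * g b = g a)
    (hint : g.IsIntegralElem w) :
    ∃ ξ η, residue W (tensorLift f g h η) ≠ 0 ∧ w * tensorLift f g h η = tensorLift f g h ξ := by
  haveI : (RingHom.ker f).IsPrime := RingHom.ker_isPrime f
  haveI := hic
  let fR : N ⧸ RingHom.ker f →+* W := Ideal.Quotient.lift _ f fun _ hn => hn
  let Φ : (N ⧸ RingHom.ker f) ⊗[A₀] E →+* W := tensorLift fR g h
  let m : N ⊗[A₀] E →ₐ[A₀] (N ⧸ RingHom.ker f) ⊗[A₀] E :=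
    Algebra.TensorProduct.map (Ideal.Quotient.mkₐ A₀ _) (AlgHom.id A₀ E)
  have hm : ∀ x, tensorLift f g h x = Φ (m x) := fun x => by
    induction x with
    | zero => simp
    | tmul n e => rfl
    | add x y hx hy => simp only [map_add, hx, hy]
  have hsurj : Function.Surjective m :=
    TensorProduct.map_surjective (Ideal.Quotient.mkₐ_surjective A₀ _) Function.surjective_id
  let j : W →+* FractionRing W := algebraMap W (FractionRing W)
  have hj : Function.Injective j := IsFractionRing.injective W (FractionRing W)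
  have hone : ∀ e : E, Φ (1 ⊗ₜ e) = g e := fun e => by
    rw [tensorLift_tmul, map_one, one_mul]
  obtain ⟨ξ, η, hη, hξ⟩ := stage_integral hE ((residue W).comp Φ) (j.comp Φ)
    (fun r hr => by
      rw [RingHom.comp_apply, map_eq_zero_iff j hj, tensorLift_tmul, map_one, mul_one] at hr
      obtain ⟨n, rfl⟩ := Ideal.Quotient.mk_surjective r
      exact Ideal.Quotient.eq_zero_iff_mem.2 hr)
    (fun x hx => by
      rw [RingHom.comp_apply, map_eq_zero_iff j hj] at hx
      rw [RingHom.comp_apply, hx, map_zero])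
    (j w) (1 ⊗ₜ a) (1 ⊗ₜ b) (by rw [RingHom.comp_apply, hone, Ne, map_eq_zero_iff j hj]; exact hb)
    (by rw [RingHom.comp_apply, RingHom.comp_apply, hone, hone, ← map_mul, hw])
    (by
      obtain ⟨P, hP, hP0⟩ := hint
      refine ⟨P.map (Algebra.TensorProduct.includeRight : E →ₐ[A₀] (N ⧸ RingHom.ker f) ⊗[A₀] E).toRingHom, hP.map _, ?_⟩
      rw [eval₂_map, RingHom.comp_assoc,
        show Φ.comp (Algebra.TensorProduct.includeRight : E →ₐ[A₀] (N ⧸ RingHom.ker f) ⊗[A₀] E).toRingHom = g from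
          RingHom.ext hone, ← hom_eval₂, hP0, map_zero])
  obtain ⟨ξ', rfl⟩ := hsurj ξ
  obtain ⟨η', rfl⟩ := hsurj η
  refine ⟨ξ', η', by rw [hm]; exact hη, hj ?_⟩
  rw [map_mul, hm, hm]
  exact hξ

/-- Branches through the same closed point of a stage have the same kernel. -/
theorem branch_ker_eq {A₀ N E W W' : Type u} [CommRing A₀] [IsLocalRing A₀] [CommRing N] [Algebra A₀ N]
    [CommRing E] [Algebra A₀ E] (hE : EGA4loc.IsEssentiallyEtale A₀ E) [CommRing W] [IsDomain W] [IsLocalRing W]
    [CommRing W'] [IsDomain W'] [IsLocalRing W']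
    (f : N →+* W) (g : E →+* W) (h : f.comp (algebraMap A₀ N) = g.comp (algebraMap A₀ E))
    (f' : N →+* W') (g' : E →+* W') (h' : f'.comp (algebraMap A₀ N) = g'.comp (algebraMap A₀ E))
    (hic : IsIntegrallyClosed (N ⧸ RingHom.ker f)) (hf : ∀ n, f n = 0 ↔ f' n = 0)
    (hres : ∀ x, residue W (tensorLift f g h x) = 0 ↔ residue W' (tensorLift f' g' h' x) = 0) (x : N ⊗[A₀] E) :
    tensorLift f g h x = 0 ↔ tensorLift f' g' h' x = 0 := by
  haveI : (RingHom.ker f).IsPrime := RingHom.ker_isPrime f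
  haveI := hic
  let fR : N ⧸ RingHom.ker f →+* W := Ideal.Quotient.lift _ f fun _ hn => hn
  let fR' : N ⧸ RingHom.ker f →+* W' := Ideal.Quotient.lift _ f' fun n hn => (hf n).1 hn
  let Φ : (N ⧸ RingHom.ker f) ⊗[A₀] E →+* W := tensorLift fR g h
  let Φ' : (N ⧸ RingHom.ker f) ⊗[A₀] E →+* W' := tensorLift fR' g' h'
  let m : N ⊗[A₀] E →ₐ[A₀] (N ⧸ RingHom.ker f) ⊗[A₀] E :=
    Algebra.TensorProduct.map (Ideal.Quotient.mkₐ A₀ _) (AlgHom.id A₀ E)
  have hm : ∀ x, tensorLift f g h x = Φ (m x) ∧ tensorLift f' g' h' x = Φ' (m x) := fun x => by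
    induction x with
    | zero => simp
    | tmul n e => exact ⟨rfl, rfl⟩
    | add x y hx hy => exact ⟨by simp only [map_add, hx.1, hy.1], by simp only [map_add, hx.2, hy.2]⟩
  let j : W →+* FractionRing W := algebraMap W (FractionRing W)
  have hj : Function.Injective j := IsFractionRing.injective W (FractionRing W)
  let j' : W' →+* FractionRing W' := algebraMap W' (FractionRing W')
  have hj' : Function.Injective j' := IsFractionRing.injective W' (FractionRing W')
  rw [(hm x).1, (hm x).2, ← map_eq_zero_iff j hj, ← map_eq_zero_iff j' hj']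
  refine stage_ker_eq hE ((residue W).comp Φ) (j.comp Φ) (j'.comp Φ') (fun r hr => ?_) (fun y hy => ?_)
    (fun r hr => ?_) (fun y hy => ?_) (m x)
  · rw [RingHom.comp_apply, map_eq_zero_iff j hj, tensorLift_tmul, map_one, mul_one] at hr
    obtain ⟨n, rfl⟩ := Ideal.Quotient.mk_surjective r
    exact Ideal.Quotient.eq_zero_iff_mem.2 hr
  · rw [RingHom.comp_apply, map_eq_zero_iff j hj] at hy
    rw [RingHom.comp_apply, hy, map_zero]
  · rw [RingHom.comp_apply, map_eq_zero_iff j' hj', tensorLift_tmul, map_one, mul_one] at hr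
    obtain ⟨n, rfl⟩ := Ideal.Quotient.mk_surjective r
    exact Ideal.Quotient.eq_zero_iff_mem.2 ((hf n).2 hr)
  · rw [RingHom.comp_apply, map_eq_zero_iff j' hj'] at hy
    obtain ⟨y', rfl⟩ : ∃ y', m y' = y :=
      TensorProduct.map_surjective (Ideal.Quotient.mkₐ_surjective A₀ (RingHom.ker f)) (fun e : E => ⟨e, rfl⟩) y
    show residue W (Φ (m y')) = 0
    rw [← (hm y').1, hres, (hm y').2]
    exact (congrArg (residue W') hy).trans (map_zero _)

theorem isIntegralElem_comp {D R K : Type u} [CommRing D] [CommRing R] [CommRing K] (k : D →+* R) (ρ : R →+* K)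
    (hk : ∀ r, k.IsIntegralElem r) (c : K) (hc : ρ.IsIntegralElem c) : (ρ.comp k).IsIntegralElem c := by
  algebraize [k, ρ, ρ.comp k]
  haveI : Algebra.IsIntegral D R := ⟨hk⟩
  exact isIntegral_trans (R := D) (A := R) c hc

theorem isIntegrallyClosed_of_injective {R K : Type u} [CommRing R] [IsDomain R] [Field K] (ρ : R →+* K)
    (hρ : Function.Injective ρ)
    (h : ∀ c, c ∈ Subfield.closure (Set.range ρ) → ρ.IsIntegralElem c → ∃ r, ρ r = c) : IsIntegrallyClosed R := by
  letI := ρ.toAlgebra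
  let κ : FractionRing R →ₐ[R] K := IsFractionRing.liftAlgHom (g := Algebra.ofId R K) hρ
  refine (isIntegrallyClosed_iff (FractionRing R)).2 fun {x} hx => ?_
  obtain ⟨r, hr⟩ := h (κ x) (by
    obtain ⟨a, b, -, rfl⟩ := IsFractionRing.div_surjective (A := R) x
    rw [map_div₀, κ.commutes, κ.commutes]
    exact div_mem (Subfield.subset_closure ⟨a, rfl⟩) (Subfield.subset_closure ⟨b, rfl⟩)) (hx.map κ)
  exact ⟨r, κ.toRingHom.injective ((κ.commutes r).trans hr)⟩

variable {A S : Type u} [CommRing A] [IsLocalRing A] [IsReduced A] [IsNoetherianRing A]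
  [CommRing S] [IsLocalRing S] [Algebra A S] [IsLocalHom (algebraMap A S)] [Hensel.IsStrictHenselization A S]

/-- The normalization of an intermediate ring in the total ring of fractions. -/
def IsNormalisation (D : Subalgebra A S) (N : Subalgebra A (FractionRing S)) : Prop :=
  ∀ x, x ∈ N ↔ IsIntegral D x ∧ x ∈ fractions D

omit [IsReduced A] [IsNoetherianRing A] [IsLocalHom (algebraMap A S)] [Hensel.IsStrictHenselization A S] [IsLocalRing A] [IsLocalRing S] in
theorem isIntegral_bot_iff (x : FractionRing S) : IsIntegral (⊥ : Subalgebra A S) x ↔ IsIntegral A x := by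
  refine ⟨fun h => ?_, fun h => h.tower_top⟩
  haveI : Algebra.IsIntegral A (⊥ : Subalgebra A S) := ⟨fun y => by
    obtain ⟨a, ha⟩ := Algebra.mem_bot.1 y.2
    rw [show y = algebraMap A _ a from Subtype.ext ha.symm]
    exact isIntegral_algebraMap⟩
  exact isIntegral_trans (R := A) (A := (⊥ : Subalgebra A S)) x h

omit [IsReduced A] [IsNoetherianRing A] [IsLocalHom (algebraMap A S)] [Hensel.IsStrictHenselization A S] [IsLocalRing A] [IsLocalRing S] in
theorem isNormalisation_bot {A' : Subalgebra A (FractionRing S)}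
    (hA' : ∀ x : (FractionRing S), x ∈ A' ↔ (IsIntegral A x ∧
      ∃ a ∈ nonZeroDivisors A, ∃ b : A, algebraMap A (FractionRing S) a * x = algebraMap A (FractionRing S) b)) :
    IsNormalisation (⊥ : Subalgebra A S) A' := fun x => by
  rw [hA', isIntegral_bot_iff]
  refine and_congr_right fun _ => ⟨fun ⟨a, ha, b, hb⟩ => ⟨a, ha, algebraMap A S b, Subalgebra.algebraMap_mem _ b,
    hb.trans (IsScalarTower.algebraMap_apply A S (FractionRing S) b)⟩, fun ⟨a, ha, d, hd, h⟩ => ?_⟩
  obtain ⟨b, rfl⟩ := Algebra.mem_bot.1 hd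
  exact ⟨a, ha, b, h.trans (IsScalarTower.algebraMap_apply A S (FractionRing S) b).symm⟩

variable {D : Subalgebra A S} {N : Subalgebra A (FractionRing S)} (hN : IsNormalisation D N)
include hN

theorem IsNormalisation.le_intg : N ≤ intg A S := fun _ hx => mem_intg_of_isIntegral' D ((hN _).1 hx).1

theorem IsNormalisation.algebraMap_mem {d : S} (hd : d ∈ D) : algebraMap S (FractionRing S) d ∈ N :=
  (hN _).2 ⟨isIntegral_algebraMap (R := D) (A := FractionRing S) (x := ⟨d, hd⟩),
    1, one_mem _, d, hd, by rw [map_one, one_mul]⟩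

/-- The idempotent of a component. -/
theorem IsNormalisation.exists_idem (Q : minimalPrimes S) :
    ∃ e ∈ N, Phi A Q e = 1 ∧ ∀ Q' : minimalPrimes S, Q'.1.comap D.val.toRingHom ≠ Q.1.comap D.val.toRingHom →
      Phi A Q' e = 0 := by
  obtain ⟨t, s, hs, hts, htt, ht⟩ := exists_component D Q.2
  obtain ⟨v, hv⟩ := (isUnit_algebraMap (A := A) (S := S) hs).exists_right_inv
  set e := algebraMap S (FractionRing S) (t : S) * v with he
  have hee : e * e = e := by
    rw [he, mul_mul_mul_comm, ← map_mul, htt, map_mul, ← IsScalarTower.algebraMap_apply]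
    linear_combination (algebraMap S (FractionRing S) (t : S) * v) * hv
  refine ⟨e, (hN e).2 ⟨⟨X ^ 2 - X, monic_X_pow_sub (by simp),
    by rw [eval₂_sub, eval₂_pow, eval₂_X, sq, hee, sub_self]⟩, s, hs, t, t.2, ?_⟩, ?_, fun Q' hne => ?_⟩
  · rw [he, mul_left_comm, hv, mul_one]
  · have h1 : algebraMap S (BranchField Q) (t : S) = algebraMap A (BranchField Q) s := by
      rw [← sub_eq_zero, IsScalarTower.algebraMap_apply A S (BranchField Q), ← map_sub]
      exact (ker_toAlgHom (A := A) Q).ge hts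
    rw [he, map_mul, Phi_algebraMap, h1, ← (Phi A Q).commutes, ← map_mul, hv, map_one]
  · have h1 : algebraMap S (BranchField Q') (t : S) = 0 := (ker_toAlgHom (A := A) Q').ge (ht Q'.1 Q'.2 hne)
    rw [he, map_mul, Phi_algebraMap, h1, zero_mul]

variable (H : Subalgebra A S) [HenselianLocalRing H] [IsLocalHom (algebraMap H S)] [Hensel.IsStrictHenselization H S]

/-- Branches with the same residual kernel have the same contraction. -/
theorem IsNormalisation.comap_eq {Q Q' : minimalPrimes S}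
    (h : ∀ z : N, red H Q ⟨z, hN.le_intg z.2⟩ = 0 ↔ red H Q' ⟨z, hN.le_intg z.2⟩ = 0) :
    Q'.1.comap D.val.toRingHom = Q.1.comap D.val.toRingHom := by
  by_contra hne
  obtain ⟨e, heN, he1, he0⟩ := hN.exists_idem Q
  have h1 : red H Q' ⟨e, hN.le_intg heN⟩ = 0 := by
    show residue _ (phiW H Q' ⟨e, hN.le_intg heN⟩) = 0
    rw [show phiW H Q' ⟨e, hN.le_intg heN⟩ = 0 from Subtype.ext (he0 Q' hne), map_zero]
  have h2 := (h ⟨e, heN⟩).2 h1
  change residue _ (phiW H Q ⟨e, hN.le_intg heN⟩) = 0 at h2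
  rw [show phiW H Q ⟨e, hN.le_intg heN⟩ = 1 from Subtype.ext he1, map_one] at h2
  exact one_ne_zero h2

/-- Branches with the same residual kernel have the same kernel on the normalization. -/
theorem IsNormalisation.phi_eq_zero_iff {Q Q' : minimalPrimes S}
    (h : ∀ z : N, red H Q ⟨z, hN.le_intg z.2⟩ = 0 ↔ red H Q' ⟨z, hN.le_intg z.2⟩ = 0) (z : N) :
    Phi A Q z = 0 ↔ Phi A Q' z = 0 := by
  have key : ∀ Q Q' : minimalPrimes S, Q'.1.comap D.val.toRingHom = Q.1.comap D.val.toRingHom →
      Phi A Q z = 0 → Phi A Q' z = 0 := fun Q Q' hc h0 =>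
    eq_zero_of_same_contraction D ((hN _).1 z.2).2 (IsScalarTower.toAlgHom A S (BranchField Q))
      (IsScalarTower.toAlgHom A S (BranchField Q')) ((ker_toAlgHom (A := A) Q').symm ▸ Q'.2)
      (fun d hd hd0 => (ker_toAlgHom (A := A) Q').ge
        ((SetLike.ext_iff.1 hc ⟨d, hd⟩).2 ((ker_toAlgHom (A := A) Q).le hd0)))
      (Phi A Q) (Phi_algebraMap Q) (Phi A Q') (Phi_algebraMap Q') h0
  exact ⟨key Q Q' (hN.comap_eq H h), key Q' Q (hN.comap_eq H h).symm⟩

/-- The image of a normalization on a branch is a normal domain. -/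
theorem IsNormalisation.isIntegrallyClosed (Q : minimalPrimes S) :
    IsIntegrallyClosed (N ⧸ RingHom.ker ((phiW H Q).comp (Subalgebra.inclusion hN.le_intg).toRingHom)) := by
  set f := (phiW H Q).comp (Subalgebra.inclusion hN.le_intg).toRingHom
  haveI : (RingHom.ker f).IsPrime := RingHom.ker_isPrime f
  let ρ : (N ⧸ RingHom.ker f) →+* BranchField Q :=
    (algebraMap (BranchRing H Q) (BranchField Q)).comp (RingHom.kerLift f)
  refine isIntegrallyClosed_of_injective ρ (Subtype.val_injective.comp (RingHom.kerLift_injective f)) fun c hc hint => ?_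
  let π := IsScalarTower.toAlgHom A S (BranchField Q)
  have hπ : RingHom.ker π ∈ minimalPrimes S := (ker_toAlgHom (A := A) Q).symm ▸ Q.2
  have hle : Subfield.closure (Set.range ρ) ≤ Subfield.closure (π '' (D : Set S)) := Subfield.closure_le.2 (by
    rintro _ ⟨r, rfl⟩
    obtain ⟨z, rfl⟩ := Ideal.Quotient.mk_surjective r
    obtain ⟨a, ha, d, hd, had⟩ := ((hN _).1 z.2).2
    have h1 := congrArg (Phi A Q) had
    rw [map_mul, AlgHom.commutes, Phi_algebraMap] at h1
    have h2 : ρ (Ideal.Quotient.mk _ z) = π d / π (algebraMap A S a) := by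
      rw [π.commutes, eq_div_iff (algebraMap_ne_zero π hπ ha), mul_comm]
      exact h1
    rw [SetLike.mem_coe, h2]
    exact div_mem (Subfield.subset_closure ⟨d, hd, rfl⟩) (Subfield.subset_closure ⟨_, D.algebraMap_mem a, rfl⟩))
  let k : D →+* N :=
    { toFun := fun d => ⟨algebraMap S (FractionRing S) d, hN.algebraMap_mem d.2⟩
      map_one' := Subtype.ext (map_one _)
      map_mul' := fun _ _ => Subtype.ext (map_mul _ _ _)
      map_zero' := Subtype.ext (map_zero _)
      map_add' := fun _ _ => Subtype.ext (map_add _ _ _) }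
  have hcomp : (ρ.comp (Ideal.Quotient.mk _)).comp k = (π.comp D.val).toRingHom := RingHom.ext fun d =>
    Phi_algebraMap (A := A) Q (d : S)
  obtain ⟨g, hg, hg0⟩ : (π.comp D.val).toRingHom.IsIntegralElem c := by
    rw [← hcomp, RingHom.comp_assoc]
    refine isIntegralElem_comp (D := D) (R := N ⧸ RingHom.ker f) (K := BranchField Q) _ ρ (fun r => ?_) c hint
    obtain ⟨z, rfl⟩ := Ideal.Quotient.mk_surjective r
    obtain ⟨P, hP, hP0⟩ := ((hN _).1 z.2).1
    refine ⟨P, hP, ?_⟩
    rw [← hom_eval₂, show eval₂ k z P = 0 from Subtype.ext (by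
      show N.val.toRingHom (eval₂ k z P) = 0
      rw [hom_eval₂]
      exact hP0), map_zero]
  obtain ⟨z, hzf, hzint, hz⟩ := exists_preimage D π hπ (Phi A Q) (Phi_algebraMap Q) c (hle hc) ⟨g, hg, hg0⟩
  exact ⟨Ideal.Quotient.mk _ ⟨z, (hN z).2 ⟨hzint, hzf⟩⟩, hz⟩

end Groth.Ega4Algebra2.Residual
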