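import Groth.Agent.Ega4Algebra2.StrictStage
import Groth.Agent.Ega4Algebra2.EssEtNormalization
import Groth.Agent.S16441
import Groth.Agent.Hensel1.Transfer
import Groth.Agent.EtaleAlgebra.AbsFlat
import Mathlib

/-! The branches of the strict henselization of a reduced Noetherian local ring seen by an intermediate
ring, inside the total ring of fractions: components of the normalization. -/

set_option autoImplicit false
universe u

open IsLocalRing EGA4loc Polynomial

namespace Groth.Ega4Algebra2.Residual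

variable {A S : Type u} [CommRing A] [IsLocalRing A] [IsReduced A] [IsNoetherianRing A]
  [CommRing S] [IsLocalRing S] [Algebra A S] [IsLocalHom (algebraMap A S)]
  [Hensel.IsStrictHenselization A S]

omit [IsReduced A] [IsNoetherianRing A] in
theorem flat : Module.Flat A S :=
  (Groth.Hensel1.hensModel_of_isStrictHenselization (R := A) (S := S)).some.flat

include A in
omit [IsReduced A] in
theorem isNoetherianRing : IsNoetherianRing S :=
  (Groth.Hensel1.hensModel_of_isStrictHenselization (R := A) (S := S)).some.isNoetherianRing_iff.1 inferInstance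

include A in
omit [IsNoetherianRing A] in
theorem isReduced : IsReduced S := by
  haveI := StrictStage.weaklyEtale (A := A) (S := S)
  exact Groth.EtaleAlgebra.isReduced_of_weaklyEtale A S

omit [IsReduced A] [IsNoetherianRing A] in
theorem comap_mem_minimalPrimes {Q : Ideal S} (hQ : Q ∈ minimalPrimes S) :
    Q.comap (algebraMap A S) ∈ minimalPrimes A := by
  haveI := flat (A := A) (S := S)
  haveI := Algebra.HasGoingDown.of_flat (R := A) (S := S)
  haveI := Ideal.minimalPrimes_isPrime hQ
  refine ⟨⟨Ideal.IsPrime.comap _, bot_le⟩, fun p' hp' hle => ?_⟩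
  haveI := hp'.1
  haveI : Q.LiesOver (Q.comap (algebraMap A S)) := ⟨rfl⟩
  obtain ⟨P', hP', _, hP'o⟩ := Ideal.exists_ideal_le_liesOver_of_le (S := S) Q hle
  rw [hP'o.over, le_antisymm hP' (hQ.2 ⟨‹_›, bot_le⟩ hP')]

omit [IsReduced A] [IsNoetherianRing A] in
theorem exists_polynomial_aux {Q : Ideal S} [Q.IsPrime] {K : Type u} [Field K] [Algebra A K] (π : S →ₐ[A] K)
    (hker : ∀ s, π s = 0 ↔ s ∈ Q) {u : S} (hu : u ∉ Q) :
    ∃ P : A[X], algebraMap A S (P.coeff 0) ∉ Q ∧ aeval u P ∈ Q := by
  let q := Q.comap (algebraMap A S)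
  haveI : q.IsPrime := Ideal.IsPrime.comap _
  have hq : ∀ a ∈ q, algebraMap A K a = 0 := fun a ha => by
    rw [← π.commutes]; exact (hker _).2 ha
  letI : Algebra (A ⧸ q) K := (Ideal.Quotient.lift q (algebraMap A K) hq).toAlgebra
  haveI : IsScalarTower A (A ⧸ q) K := IsScalarTower.of_algebraMap_eq fun a => rfl
  obtain ⟨E, huE, hE⟩ := StrictStage.exists_stage (A := A) ({u} : Finset S)
  haveI := hE.isLocalRing
  obtain ⟨a, b, ha, hb, hbu, hab⟩ := Groth.Ega4Algebra2.EssEtNorm.exists_integral_fraction A E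
    (hE.essEt inferInstance) ⟨u, huE (by simp)⟩
  have hb0 : π (b : S) ≠ 0 := by
    intro h
    exact (inferInstance : Q.IsPrime).ne_top
      (Ideal.eq_top_of_isUnit_mem _ ((hker _).1 h) (hbu.map E.val))
  have hu' : π u = π (a : S) * (π (b : S))⁻¹ := by
    rw [← hab, Subalgebra.coe_mul, map_mul, mul_comm (π (b : S)), mul_inv_cancel_right₀ hb0]
  have halg : IsAlgebraic (A ⧸ q) (π u) := by
    rw [hu']
    refine IsAlgebraic.mul ?_ ?_
    · exact ((ha.map (π.comp E.val)).tower_top).isAlgebraic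
    · exact (((hb.map (π.comp E.val)).tower_top).isAlgebraic).inv
  obtain ⟨P, hP0, hP⟩ := halg.exists_nonzero_coeff_and_aeval_eq_zero
    (mem_nonZeroDivisors_of_ne_zero fun h => hu ((hker u).1 h))
  obtain ⟨P', rfl⟩ := Polynomial.map_surjective (Ideal.Quotient.mk q) Ideal.Quotient.mk_surjective P
  refine ⟨P', fun h => hP0 ?_, (hker _).1 ?_⟩
  · rw [coeff_map, Ideal.Quotient.eq_zero_iff_mem]
    exact h
  · rw [← aeval_algHom_apply]
    rwa [← Ideal.Quotient.algebraMap_eq, aeval_map_algebraMap] at hP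

omit [IsReduced A] [IsNoetherianRing A] in
/-- An element of the strict henselization is algebraic over the base along every minimal prime. -/
theorem exists_polynomial {Q : Ideal S} (hQ : Q ∈ minimalPrimes S) {u : S} (hu : u ∉ Q) :
    ∃ P : A[X], algebraMap A S (P.coeff 0) ∉ Q ∧ aeval u P ∈ Q := by
  haveI := Ideal.minimalPrimes_isPrime hQ
  refine exists_polynomial_aux ((IsScalarTower.toAlgHom A (S ⧸ Q) (FractionRing (S ⧸ Q))).comp (Ideal.Quotient.mkₐ A Q))
    (fun s => ?_) hu
  show algebraMap (S ⧸ Q) (FractionRing (S ⧸ Q)) (Ideal.Quotient.mk Q s) = 0 ↔ _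
  rw [map_eq_zero_iff _ (IsFractionRing.injective (S ⧸ Q) (FractionRing (S ⧸ Q))), Ideal.Quotient.eq_zero_iff_mem]

omit [IsReduced A] [IsNoetherianRing A] in
/-- The contraction of a minimal prime to an intermediate ring is maximal among the primes over a
minimal prime of the base. -/
theorem comap_eq_of_le (C : Subalgebra A S) {Q : Ideal S} (hQ : Q ∈ minimalPrimes S) (P : Ideal C) [P.IsPrime]
    (hP : P.comap (algebraMap A C) ∈ minimalPrimes A) (hle : Q.comap C.val.toRingHom ≤ P) :
    Q.comap C.val.toRingHom = P := by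
  haveI := Ideal.minimalPrimes_isPrime hQ
  refine le_antisymm hle fun u hu => ?_
  by_contra hc
  obtain ⟨F, hF0, hF⟩ := exists_polynomial (A := A) hQ (u := (u : S)) hc
  have hmem : aeval u F ∈ P := hle (show C.val (aeval u F) ∈ Q by rw [← aeval_algHom_apply]; exact hF)
  have h0 : algebraMap A C (F.coeff 0) ∈ P := by
    rw [← X_mul_divX_add F, map_add, map_mul, aeval_X, aeval_C] at hmem
    exact (Ideal.add_mem_iff_right _ (P.mul_mem_right _ hu)).1 hmem
  have hqmin := comap_mem_minimalPrimes (A := A) hQ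
  have hle' : Q.comap (algebraMap A S) ≤ P.comap (algebraMap A C) := fun a ha => hle ha
  exact hF0 (hP.2 ⟨Ideal.IsPrime.comap _, bot_le⟩ hle' h0)

omit [IsReduced A] [IsNoetherianRing A] in
/-- A prime of the strict henselization over a minimal prime is minimal. -/
theorem mem_minimalPrimes_of_comap {P : Ideal S} [P.IsPrime]
    (hP : P.comap (algebraMap A S) ∈ minimalPrimes A) : P ∈ minimalPrimes S := by
  obtain ⟨Q, hQ, hQP⟩ := Ideal.exists_minimalPrimes_le (bot_le (a := P))
  suffices P = Q by rwa [this]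
  let P' : Ideal (⊤ : Subalgebra A S) := P.comap (⊤ : Subalgebra A S).val.toRingHom
  haveI : P'.IsPrime := Ideal.IsPrime.comap _
  have h := comap_eq_of_le (A := A) ⊤ hQ P' (by
    rw [Ideal.comap_comap, show (⊤ : Subalgebra A S).val.toRingHom.comp (algebraMap A _) = algebraMap A S from
      (⊤ : Subalgebra A S).val.comp_algebraMap]
    exact hP) (Ideal.comap_mono hQP)
  exact le_antisymm (fun x hx => (SetLike.ext_iff.1 h ⟨x, Algebra.mem_top⟩).2 hx) hQP

/-- A non-zero-divisor of an intermediate ring divides a non-zero-divisor of the base in it. -/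
theorem exists_inverse (D : Subalgebra A S) {u : D} (hu : u ∈ nonZeroDivisors D) :
    ∃ w : D, ∃ s ∈ nonZeroDivisors A, (u : S) * w = algebraMap A S s := by
  obtain ⟨E, huE, hE⟩ := StrictStage.exists_stage (A := A) ({(u : S)} : Finset S)
  haveI := hE.isLocalRing
  haveI := hE.isLocalHom
  haveI : IsLocalHom (algebraMap A E) := ⟨fun a ha => by
    have h1 := ha.map (algebraMap E S)
    rw [← IsScalarTower.algebraMap_apply] at h1
    exact isUnit_of_map_unit (algebraMap A S) a h1⟩
  obtain ⟨w, s, hs, hsw⟩ := Groth.Agent.S16441.exists_mul_eq (minimalPrimes.finite_of_isNoetherianRing A) D E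
    (hE.essEt inferInstance) u hu (huE (by simp))
  exact ⟨w, s, hs, congrArg Subtype.val hsw⟩

omit [IsReduced A] [IsNoetherianRing A] in
theorem algebraMap_notMem {Q : Ideal S} (hQ : Q ∈ minimalPrimes S) {s : A} (hs : s ∈ nonZeroDivisors A) :
    algebraMap A S s ∉ Q := fun h =>
  Set.disjoint_left.1 (Ideal.disjoint_nonZeroDivisors_of_mem_minimalPrimes (comap_mem_minimalPrimes (A := A) hQ))
    (show s ∈ Q.comap (algebraMap A S) from h) hs

include A in
omit [IsNoetherianRing A] in
/-- Elements of all minimal primes vanish. -/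
theorem eq_zero_of_forall {x : S} (h : ∀ Q ∈ minimalPrimes S, x ∈ Q) : x = 0 := by
  haveI := isReduced (A := A) (S := S)
  refine IsNilpotent.eq_zero (nilpotent_iff_mem_prime.2 fun P hP => ?_)
  obtain ⟨Q, hQ, hle⟩ := Ideal.exists_minimalPrimes_le (bot_le (a := P))
  exact hle (h Q hQ)

theorem mem_nonZeroDivisors_of_forall (D : Subalgebra A S) {u : D}
    (h : ∀ Q ∈ minimalPrimes S, (u : S) ∉ Q) : u ∈ nonZeroDivisors D :=
  mem_nonZeroDivisors_iff_right.2 fun v hv => Subtype.ext (eq_zero_of_forall (A := A) fun Q hQ =>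
    ((Ideal.minimalPrimes_isPrime hQ).mem_or_mem
      (show (v : S) * u ∈ Q from (show (v : S) * u = 0 from congrArg Subtype.val hv) ▸ zero_mem _)).resolve_right
        (h Q hQ))

/-- An element separating the branches over one contraction from all the others. -/
theorem exists_component (D : Subalgebra A S) {Q : Ideal S} (hQ : Q ∈ minimalPrimes S) :
    ∃ t : D, ∃ s ∈ nonZeroDivisors A, ((t : S) - algebraMap A S s ∈ Q) ∧
      (t : S) * t = algebraMap A S s * t ∧
      ∀ Q' ∈ minimalPrimes S, Q'.comap D.val.toRingHom ≠ Q.comap D.val.toRingHom → (t : S) ∈ Q' := by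
  classical
  haveI := isNoetherianRing (A := A) (S := S)
  haveI := Ideal.minimalPrimes_isPrime hQ
  have hfin := minimalPrimes.finite_of_isNoetherianRing S
  let p := Q.comap D.val.toRingHom
  haveI : p.IsPrime := Ideal.IsPrime.comap _
  let T : Finset (Ideal D) := (hfin.toFinset.image fun P : Ideal S => P.comap D.val.toRingHom).erase p
  have hT : ∀ q ∈ T, ∃ P ∈ minimalPrimes S, P.comap D.val.toRingHom = q := by
    intro q hq
    obtain ⟨P, hP, rfl⟩ := Finset.mem_image.1 (Finset.mem_of_mem_erase hq)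
    exact ⟨P, hfin.mem_toFinset.1 hP, rfl⟩
  have hTp : ∀ q ∈ T, q.IsPrime := fun q hq => by
    obtain ⟨P, hP, rfl⟩ := hT q hq
    haveI := Ideal.minimalPrimes_isPrime hP
    exact Ideal.IsPrime.comap _
  have hmin : ∀ P ∈ minimalPrimes S, (P.comap D.val.toRingHom).comap (algebraMap A D) ∈ minimalPrimes A := fun P hP => by
    rw [Ideal.comap_comap, show D.val.toRingHom.comp (algebraMap A D) = algebraMap A S from D.val.comp_algebraMap]
    exact comap_mem_minimalPrimes hP
  obtain ⟨t₀, ht₀T, ht₀p⟩ : ∃ t : D, (∀ q ∈ T, t ∈ q) ∧ t ∉ p := by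
    by_contra hc
    push Not at hc
    have hle : T.inf id ≤ p := fun t ht => hc t fun q hq => (Submodule.mem_finsetInf.1 ht) q hq
    obtain ⟨q, hq, hqp⟩ := (Ideal.IsPrime.inf_le' (s := T) (f := id) inferInstance).1 hle
    obtain ⟨P, hP, rfl⟩ := hT q hq
    exact Finset.ne_of_mem_erase hq (comap_eq_of_le D hP p (hmin Q hQ) hqp)
  obtain ⟨t₁, ht₁p, ht₁T⟩ : ∃ t : D, t ∈ p ∧ ∀ q ∈ T, t ∉ q := by
    by_contra hc
    push Not at hc
    have hle : (p : Set D) ⊆ ⋃ q ∈ (↑T : Set (Ideal D)), (q : Set D) := fun t ht => by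
      obtain ⟨q, hq, htq⟩ := hc t ht
      exact Set.mem_biUnion hq htq
    obtain ⟨q, hq, hpq⟩ := (Ideal.subset_union_prime ⊥ ⊥ (fun i hi _ _ => hTp i hi)).1 hle
    obtain ⟨P, hP, rfl⟩ := hT q hq
    haveI := hTp _ hq
    exact Finset.ne_of_mem_erase hq (comap_eq_of_le D hQ _ (hmin P hP) hpq).symm
  have hcases : ∀ P ∈ minimalPrimes S, P.comap D.val.toRingHom = p ∨ P.comap D.val.toRingHom ∈ T := fun P hP => by
    by_cases h : P.comap D.val.toRingHom = p
    · exact Or.inl h
    · exact Or.inr (Finset.mem_erase.2 ⟨h, Finset.mem_image.2 ⟨P, hfin.mem_toFinset.2 hP, rfl⟩⟩)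
  have hu : t₀ + t₁ ∈ nonZeroDivisors D := mem_nonZeroDivisors_of_forall D fun P hP hPu => by
    have hPu' : t₀ + t₁ ∈ P.comap D.val.toRingHom := hPu
    rcases hcases P hP with h | h
    · rw [h] at hPu'
      exact ht₀p ((Ideal.add_mem_iff_left _ ht₁p).1 hPu')
    · exact ht₁T _ h ((Ideal.add_mem_iff_right _ (ht₀T _ h)).1 hPu')
  obtain ⟨w, s, hs, hw⟩ := exists_inverse D hu
  refine ⟨t₀ * w, s, hs, ?_, ?_, fun P hP hne => ?_⟩
  · rw [← hw, Subalgebra.coe_mul, Subalgebra.coe_add,
      show (t₀ : S) * w - ((t₀ : S) + t₁) * w = -((t₁ : S) * w) by ring]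
    exact neg_mem (Q.mul_mem_right _ ht₁p)
  · rw [← sub_eq_zero]
    refine eq_zero_of_forall (A := A) fun P hP => ?_
    rw [← hw, Subalgebra.coe_mul, Subalgebra.coe_add,
      show (t₀ : S) * w * (t₀ * w) - ((t₀ : S) + t₁) * w * (t₀ * w) = -((w : S) * w * (t₀ * t₁)) by ring]
    refine neg_mem (P.mul_mem_left _ ?_)
    rcases hcases P hP with h | h
    · have h1 : t₁ ∈ P.comap D.val.toRingHom := h.symm ▸ ht₁p
      exact P.mul_mem_left _ h1
    · exact P.mul_mem_right _ (ht₀T _ h)
  · rcases hcases P hP with h | h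
    · exact absurd h hne
    · exact P.mul_mem_right _ (ht₀T _ h)

/-- The elements of the total ring of fractions of the strict henselization coming from fractions of an
intermediate ring. -/
def fractions (D : Subalgebra A S) : Subalgebra A (FractionRing S) where
  carrier := {x | ∃ a ∈ nonZeroDivisors A, ∃ d ∈ D,
    algebraMap A (FractionRing S) a * x = algebraMap S (FractionRing S) d}
  mul_mem' := fun {x y} ⟨a, ha, d, hd, hx⟩ ⟨b, hb, e, he, hy⟩ => ⟨a * b, mul_mem ha hb, d * e, D.mul_mem hd he, by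
    rw [map_mul, map_mul, ← hx, ← hy]; ring⟩
  add_mem' := fun {x y} ⟨a, ha, d, hd, hx⟩ ⟨b, hb, e, he, hy⟩ => ⟨a * b, mul_mem ha hb,
    algebraMap A S b * d + algebraMap A S a * e,
    D.add_mem (D.mul_mem (D.algebraMap_mem b) hd) (D.mul_mem (D.algebraMap_mem a) he), by
    rw [map_add, map_mul (algebraMap S (FractionRing S)), map_mul (algebraMap S (FractionRing S)), ← hx, ← hy,
      ← IsScalarTower.algebraMap_apply, ← IsScalarTower.algebraMap_apply, map_mul]
    ring⟩
  algebraMap_mem' := fun a => ⟨1, one_mem _, algebraMap A S a, D.algebraMap_mem a, by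
    rw [map_one, one_mul, ← IsScalarTower.algebraMap_apply]⟩

/-- A map to a field with minimal kernel extends to the total ring of fractions. -/
theorem exists_extend {K : Type u} [Field K] [Algebra A K] (π : S →ₐ[A] K) (hπ : RingHom.ker π ∈ minimalPrimes S) :
    ∃ Φ : FractionRing S →ₐ[A] K, ∀ x : S, Φ (algebraMap S (FractionRing S) x) = π x := by
  have hu : ∀ u : nonZeroDivisors S, IsUnit (π (u : S)) := fun u =>
    isUnit_iff_ne_zero.2 fun h =>
      Set.disjoint_left.1 (Ideal.disjoint_nonZeroDivisors_of_mem_minimalPrimes hπ) h u.2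
  exact ⟨IsLocalization.liftAlgHom hu, fun d => IsLocalization.lift_eq _ d⟩

omit [IsReduced A] [IsNoetherianRing A] in
theorem algebraMap_ne_zero {K : Type u} [Field K] [Algebra A K] (π : S →ₐ[A] K)
    (hπ : RingHom.ker π ∈ minimalPrimes S) {s : A} (hs : s ∈ nonZeroDivisors A) : algebraMap A K s ≠ 0 := fun h =>
  algebraMap_notMem hπ hs (by rw [RingHom.mem_ker, π.commutes]; exact h)

theorem isUnit_algebraMap {s : A} (hs : s ∈ nonZeroDivisors A) : IsUnit (algebraMap A (FractionRing S) s) := by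
  rw [IsScalarTower.algebraMap_apply A S (FractionRing S)]
  refine IsLocalization.map_units (FractionRing S) (⟨_, ?_⟩ : nonZeroDivisors S)
  refine mem_nonZeroDivisors_iff_right.2 fun v hv => eq_zero_of_forall (A := A) fun Q hQ => ?_
  exact ((Ideal.minimalPrimes_isPrime hQ).mem_or_mem (hv ▸ zero_mem _)).resolve_right (algebraMap_notMem hQ hs)

/-- Elements of the total ring of fractions are detected by the branches. -/
theorem eq_zero_of_branches (y : FractionRing S)
    (h : ∀ (K : Type u) [Field K] [Algebra A K] (π : S →ₐ[A] K), RingHom.ker π ∈ minimalPrimes S →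
      ∀ Φ : FractionRing S →ₐ[A] K, (∀ x : S, Φ (algebraMap S (FractionRing S) x) = π x) → Φ y = 0) : y = 0 := by
  obtain ⟨x, u, rfl⟩ := IsLocalization.exists_mk'_eq (nonZeroDivisors S) y
  rw [IsLocalization.mk'_eq_zero_iff]
  refine ⟨1, ?_⟩
  rw [OneMemClass.coe_one, one_mul]
  refine eq_zero_of_forall (A := A) fun Q hQ => ?_
  haveI := Ideal.minimalPrimes_isPrime hQ
  let π : S →ₐ[A] FractionRing (S ⧸ Q) :=
    (IsScalarTower.toAlgHom A (S ⧸ Q) (FractionRing (S ⧸ Q))).comp (Ideal.Quotient.mkₐ A Q)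
  have hker : RingHom.ker π = Q := by
    ext s
    show algebraMap (S ⧸ Q) (FractionRing (S ⧸ Q)) (Ideal.Quotient.mk Q s) = 0 ↔ _
    rw [map_eq_zero_iff _ (IsFractionRing.injective (S ⧸ Q) (FractionRing (S ⧸ Q))), Ideal.Quotient.eq_zero_iff_mem]
  obtain ⟨Φ, hΦ⟩ := exists_extend π (hker.symm ▸ hQ)
  have h1 := congrArg Φ (IsLocalization.mk'_spec (FractionRing S) x u)
  rw [map_mul, h _ π (hker.symm ▸ hQ) Φ hΦ, zero_mul, hΦ] at h1
  rw [← hker]
  exact h1.symm

/-- A fraction of an intermediate ring vanishing on a branch vanishes on every branch with the same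
contraction. -/
theorem eq_zero_of_same_contraction (D : Subalgebra A S) {y : FractionRing S} (hy : y ∈ fractions D)
    {K K' : Type u} [Field K] [Algebra A K] [Field K'] [Algebra A K'] (π : S →ₐ[A] K) (π' : S →ₐ[A] K')
    (hπ' : RingHom.ker π' ∈ minimalPrimes S) (hcomap : ∀ d ∈ D, π d = 0 → π' d = 0)
    (Φ : FractionRing S →ₐ[A] K) (hΦ : ∀ x : S, Φ (algebraMap S (FractionRing S) x) = π x)
    (Φ' : FractionRing S →ₐ[A] K') (hΦ' : ∀ x : S, Φ' (algebraMap S (FractionRing S) x) = π' x)
    (h0 : Φ y = 0) : Φ' y = 0 := by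
  obtain ⟨a, ha, d, hd, hyd⟩ := hy
  have h1 := congrArg Φ hyd
  rw [map_mul, h0, mul_zero, hΦ] at h1
  have h2 := congrArg Φ' hyd
  rw [map_mul, Φ'.commutes, hΦ', hcomap d hd h1.symm] at h2
  exact (mul_eq_zero.1 h2).resolve_left (algebraMap_ne_zero π' hπ' ha)

/-- The subfield generated by an intermediate ring on a branch lifts integrally to its fractions. -/
theorem exists_preimage (D : Subalgebra A S) {K : Type u} [Field K] [Algebra A K] (π : S →ₐ[A] K)
    (hπ : RingHom.ker π ∈ minimalPrimes S) (Φ : FractionRing S →ₐ[A] K)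
    (hΦ : ∀ x : S, Φ (algebraMap S (FractionRing S) x) = π x) (c : K)
    (hc : c ∈ Subfield.closure (π '' (D : Set S)))
    (hint : ∃ g : D[X], g.Monic ∧ g.eval₂ (π.comp D.val).toRingHom c = 0) :
    ∃ z : FractionRing S, z ∈ fractions D ∧ IsIntegral D z ∧ Φ z = c := by
  classical
  haveI := Ideal.minimalPrimes_isPrime hπ
  obtain ⟨t, s, hs, hts, htt, ht⟩ := exists_component D hπ
  have hsub : Subring.closure (π '' (D : Set S)) ≤ (π.comp D.val).toRingHom.range :=
    Subring.closure_le.2 (by rintro _ ⟨d, hd, rfl⟩; exact ⟨⟨d, hd⟩, rfl⟩)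
  obtain ⟨n, hn, m, hm, rfl⟩ := Subfield.mem_closure_iff.1 hc
  obtain ⟨a, ha⟩ := hsub hn
  obtain ⟨b, hb⟩ := hsub hm
  replace ha : π (a : S) = n := ha
  replace hb : π (b : S) = m := hb
  by_cases hb0 : m = 0
  · exact ⟨0, (fractions D).zero_mem, isIntegral_zero, by rw [map_zero, hb0, div_zero]⟩
  -- make `b` invertible away from the component
  set u : D := b * t + (algebraMap A D s - t) with hudef
  have hts' : π ((t : D) : S) = algebraMap A K s := by
    rw [RingHom.mem_ker, map_sub, π.commutes, sub_eq_zero] at hts; exact hts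
  have hu : u ∈ nonZeroDivisors D := mem_nonZeroDivisors_of_forall D fun P hP hPu => by
    haveI := Ideal.minimalPrimes_isPrime hP
    by_cases h : P.comap D.val.toRingHom = (RingHom.ker π).comap D.val.toRingHom
    · have h1 : u ∈ (RingHom.ker π).comap D.val.toRingHom := h ▸ (show u ∈ P.comap D.val.toRingHom from hPu)
      have h2 : π (u : S) = 0 := h1
      rw [hudef] at h2
      simp only [Subalgebra.coe_add, Subalgebra.coe_mul, Subalgebra.coe_sub, map_add, map_mul, map_sub, hts',
        Subalgebra.coe_algebraMap, π.commutes, sub_self, add_zero, hb] at h2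
      exact mul_ne_zero hb0 (algebraMap_ne_zero π hπ hs) h2
    · have h1 := ht P hP h
      have h2 : algebraMap A S s ∈ P := by
        have h3 : (u : S) = (b : S) * t + (algebraMap A S s - t) := rfl
        rw [show algebraMap A S s = (u : S) - ((b : S) * t - t) by rw [h3]; ring]
        exact P.sub_mem hPu (P.sub_mem (P.mul_mem_left _ h1) h1)
      exact algebraMap_notMem hP hs h2
  obtain ⟨w, s₁, hs₁, hw⟩ := exists_inverse D hu
  obtain ⟨v, hv⟩ := (isUnit_algebraMap (A := A) (S := S) hs₁).exists_right_inv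
  let F := FractionRing S
  let num : D := a * w * t
  set z : F := algebraMap S F (num : S) * v with hzdef
  have hzf : z ∈ fractions D := ⟨s₁, hs₁, num, num.2, by rw [hzdef, mul_left_comm, hv, mul_one]⟩
  have hz : Φ z = n / m := by
    have h1 := congrArg π hw
    rw [map_mul, π.commutes, hudef] at h1
    simp only [Subalgebra.coe_add, Subalgebra.coe_mul, Subalgebra.coe_sub, map_add, map_mul, map_sub, hts',
      Subalgebra.coe_algebraMap, π.commutes, sub_self, add_zero, hb] at h1
    have h2 := congrArg Φ hv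
    rw [map_mul, Φ.commutes, map_one] at h2
    rw [hzdef, map_mul, hΦ, eq_div_iff hb0]
    simp only [num, Subalgebra.coe_mul, map_mul, hts', ha]
    linear_combination (n * Φ v) * h1 + n * h2
  refine ⟨z, hzf, ?_, hz⟩
  obtain ⟨g, hg, hg0⟩ := hint
  refine ⟨X * g, monic_X.mul hg, eq_zero_of_branches (A := A) _ fun L _ _ π' hπ' Φ' hΦ' => ?_⟩
  by_cases h : (RingHom.ker π').comap D.val.toRingHom = (RingHom.ker π).comap D.val.toRingHom
  · refine eq_zero_of_same_contraction D ?_ π π' hπ' (fun d hd h0 => ?_) Φ hΦ Φ' hΦ' ?_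
    · rw [eval₂_eq_sum_range]
      exact Subalgebra.sum_mem _ fun i _ => Subalgebra.mul_mem _
        (show algebraMap D F ((X * g).coeff i) ∈ fractions D from
          ⟨1, one_mem _, (((X * g).coeff i : D) : S), ((X * g).coeff i).2, by rw [map_one, one_mul]; rfl⟩)
        (Subalgebra.pow_mem _ hzf i)
    · exact (SetLike.ext_iff.1 h ⟨d, hd⟩).2 h0
    · rw [show Φ (eval₂ (algebraMap D F) z (X * g)) = eval₂ (π.comp D.val).toRingHom (Φ z) (X * g) from by
        rw [← AlgHom.coe_toRingHom, hom_eval₂]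
        congr 1
        exact RingHom.ext fun d => hΦ (d : S)]
      rw [eval₂_mul, hz, hg0, mul_zero]
  · have h0 : Φ' z = 0 := by
      rw [hzdef, map_mul, hΦ']
      simp only [num, Subalgebra.coe_mul, map_mul]
      rw [show π' (t : S) = 0 from ht _ hπ' h]
      ring
    rw [eval₂_mul, eval₂_X, map_mul, h0, zero_mul]

end Groth.Ega4Algebra2.Residual
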