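import Mathlib

/-! Instance shortcuts for residue fields at primes of iterated algebras. -/

universe u

namespace Groth.Ega4Algebra2.ResidueShortcut

variable {R : Type u} [CommRing R] (I : Ideal R) [I.IsPrime]

noncomputable scoped instance (priority := 100000) algebraSelf : Algebra R I.ResidueField := inferInstance

noncomputable scoped instance (priority := 100000) algebraBase {A : Type u} [CommRing A] [Algebra A R] :
    Algebra A I.ResidueField := inferInstance

noncomputable scoped instance (priority := 100000) smulSelf : SMul R I.ResidueField := Algebra.toSMul

noncomputable scoped instance (priority := 100000) moduleSelf : Module R I.ResidueField := Algebra.toModule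

scoped instance (priority := 100000) towerBase {A : Type u} [CommRing A] [Algebra A R] :
    IsScalarTower A R I.ResidueField := inferInstance

end Groth.Ega4Algebra2.ResidueShortcut
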