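import Groth.Agent.Calg6.MoriNagata
import Groth.Agent.Calg2.CompleteNagata
import Groth.Agent.Calg4.Japanese
import Groth.Agent.Calg1.Completion
import Groth.Agent.ReducedNormal.Basic
import Mathlib

/-! The integral closure of a reduced Noetherian local ring in its total ring of fractions is semilocal. -/

set_option autoImplicit false
universe u

namespace Groth.Ega4Algebra2

/-- Only finitely many maximal ideals in the normalisation of a Noetherian local domain. -/
theorem finite_maximal_integralClosure_domain (A : Type u) [CommRing A] [IsDomain A] [IsNoetherianRing A]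
    [IsLocalRing A] (K : Type u) [Field K] [Algebra A K] [IsFractionRing A K] :
    {M : Ideal (integralClosure A K) | M.IsMaximal}.Finite := by
  classical
  let C := AdicCompletion (IsLocalRing.maximalIdeal A) A
  haveI : IsNoetherianRing C := Groth.Calg1.isNoetherianRing_adicCompletion _ (IsNoetherian.noetherian _)
  haveI : IsAdicComplete (IsLocalRing.maximalIdeal C) C :=
    AdicCompletion.isAdicComplete_of_fg (IsNoetherian.noetherian _)
  haveI : IsLocalHom (algebraMap A C) := ⟨fun a ha => by
    by_contra hna
    have h1 : algebraMap A C a ∈ (IsLocalRing.maximalIdeal A).map (algebraMap A C) :=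
      Ideal.mem_map_of_mem _ hna
    rw [← AdicCompletion.maximalIdeal_eq_map] at h1
    exact h1 ha⟩
  haveI : Module.FaithfullyFlat A C := Module.FaithfullyFlat.of_flat_of_isLocalHom
  refine (Groth.Calg6.MN.finite_over (C := C) (K := K) (fun q => ?_) (IsLocalRing.maximalIdeal A)).subset ?_
  · exact Groth.Calg4.finite_ic_of_isN2 ((Groth.Calg2.CompleteNagata.isNagata_of_isAdicComplete C).2 q.1)
      (FractionRing (C ⧸ q.1)) (FractionRing (C ⧸ q.1))
  · intro M hM
    haveI : M.IsMaximal := hM
    exact ⟨hM.isPrime, IsLocalRing.eq_maximalIdeal (Ideal.isMaximal_comap_of_isIntegral_of_isMaximal M)⟩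

/-- Only finitely many maximal ideals in the normalisation of a reduced Noetherian local ring. -/
theorem finite_maximal_integralClosure (A : Type u) [CommRing A] [IsReduced A] [IsNoetherianRing A]
    [IsLocalRing A] : {M : Ideal (integralClosure A (FractionRing A)) | M.IsMaximal}.Finite := by
  classical
  have := (minimalPrimes.finite_of_isNoetherianRing A).to_subtype
  haveI := Fintype.ofFinite (minimalPrimes A)
  have hfin : ∀ P : minimalPrimes A, haveI := Ideal.minimalPrimes_isPrime P.2
      {M : Ideal (integralClosure A (FractionRing (A ⧸ P.1))) | M.IsMaximal}.Finite := by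
    intro P
    haveI := Ideal.minimalPrimes_isPrime P.2
    haveI : IsLocalRing (A ⧸ P.1) := IsLocalRing.of_surjective' (Ideal.Quotient.mk P.1) Ideal.Quotient.mk_surjective
    have hmem : ∀ x : FractionRing (A ⧸ P.1), IsIntegral A x ↔ IsIntegral (A ⧸ P.1) x :=
      fun x => ⟨fun h => h.tower_top, fun h => isIntegral_trans (R := A) x h⟩
    let e : integralClosure A (FractionRing (A ⧸ P.1)) ≃+* integralClosure (A ⧸ P.1) (FractionRing (A ⧸ P.1)) :=
      { toFun := fun x => ⟨x.1, (hmem _).1 x.2⟩
        invFun := fun x => ⟨x.1, (hmem _).2 x.2⟩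
        left_inv := fun x => rfl
        right_inv := fun x => rfl
        map_mul' := fun x y => rfl
        map_add' := fun x y => rfl }
    refine ((finite_maximal_integralClosure_domain (A ⧸ P.1) (FractionRing (A ⧸ P.1))).image
      (Ideal.comap e.toRingHom)).subset fun M hM => ⟨M.map e.toRingHom, ?_, ?_⟩
    · haveI : M.IsMaximal := hM
      exact Ideal.map_isMaximal_of_equiv e
    · exact Ideal.comap_map_of_bijective e.toRingHom e.bijective
  refine ((Set.finite_univ (α := minimalPrimes A)).biUnion fun P _ =>
    (hfin P).image (Ideal.comap (Groth.ReducedNormal.projClosure A P).toRingHom)).subset ?_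
  intro M hM
  haveI : M.IsMaximal := hM
  have hker : (Finset.univ : Finset (minimalPrimes A)).inf
      (fun P => RingHom.ker (Groth.ReducedNormal.projClosure A P).toRingHom) ≤ M := by
    intro z hz
    rw [Submodule.mem_finsetInf] at hz
    rw [show z = 0 from Subtype.ext (Groth.ReducedNormal.eq_zero_of_forall_proj A _ fun P =>
      congrArg Subtype.val (hz P (Finset.mem_univ P)))]
    exact M.zero_mem
  obtain ⟨P, -, hP⟩ := (Ideal.IsPrime.inf_le' hM.isPrime).1 hker
  haveI := Ideal.minimalPrimes_isPrime P.2
  have hsurj : Function.Surjective (Groth.ReducedNormal.projClosure A P).toRingHom :=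
    Groth.ReducedNormal.projClosure_surjective A P
  refine Set.mem_biUnion (Set.mem_univ P) ⟨M.map (Groth.ReducedNormal.projClosure A P).toRingHom, ?_, ?_⟩
  · refine (Ideal.map_eq_top_or_isMaximal_of_surjective _ hsurj hM).resolve_left fun h => hM.ne_top ?_
    have := congrArg (Ideal.comap (Groth.ReducedNormal.projClosure A P).toRingHom) h
    rwa [Ideal.comap_map_of_surjective _ hsurj, ← RingHom.ker_eq_comap_bot, sup_eq_left.2 hP, Ideal.comap_top] at this
  · rw [Ideal.comap_map_of_surjective _ hsurj, ← RingHom.ker_eq_comap_bot, sup_eq_left.2 hP]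

end Groth.Ega4Algebra2
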