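import Groth.Agent.Ega4Algebra2.DerivationExt
import Groth.Agent.Ega41Sep.FieldPBasis
import Groth.Agent.Ega41Sep.Separable
import Mathlib

/-!
# Cofinite subfields of a field of characteristic `p` and degrees of purely inseparable extensions
-/

set_option autoImplicit false

universe u

open EGA41 Groth.Ega41Sep

namespace Groth.Ega4b.Jac

/-- A `p`-basis over the prime field with its derivations. -/
theorem exists_pBasis_derivations (p : ℕ) [hp : Fact p.Prime] (k : Type u) [Field k] [CharP k p] :
    ∃ (B : Set k) (δ : B → IDer k),
      (∀ b b' : B, (b = b' → δ b b' = 1) ∧ (b ≠ b' → δ b b' = 0)) ∧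
      (∀ z, (∀ b, δ b z = 0) → ∃ c, c ^ p = z) ∧
      (∀ F : Subfield k, (∀ c, c ^ p ∈ F) → B ⊆ F → F = ⊤) := by
  classical
  let F₀ := ZModU.{u} p
  letI : Algebra F₀ k := zmodUAlgebra p k
  obtain ⟨B, hB⟩ := exists_isPBasis p F₀ k
  obtain ⟨bas, hbas⟩ := exists_basis_kaehler hB
  let δ : B → IDer k := fun b => toIDer ((bas.coord b).compDer (KaehlerDifferential.D F₀ k))
  have hδ : ∀ (b : B) (z : k), δ b z = bas.repr (KaehlerDifferential.D F₀ k z) b := fun _ _ => rfl
  have hsub : ∀ (F : Subfield k), (∀ c, c ^ p ∈ F) → ∀ z ∈ pPowerSubalgebra p F₀ k, z ∈ F := by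
    intro F hF z hz
    induction hz using Algebra.adjoin_induction with
    | mem y hy => obtain ⟨c, rfl⟩ := hy; exact hF c
    | algebraMap r =>
      have h1 : algebraMap F₀ k r = ((ULift.ringEquiv r : ZMod p).val : k) := by
        show ZMod.castHom (dvd_refl p) k (ULift.ringEquiv r) = _
        rw [ZMod.castHom_apply, ZMod.natCast_val]
      rw [h1]; exact natCast_mem F _
    | add a b _ _ ha hb => exact add_mem ha hb
    | mul a b _ _ ha hb => exact mul_mem ha hb
  have hmem : ∀ (F : Subfield k), (∀ c, c ^ p ∈ F) → ∀ (s : Set k), s ⊆ F → ∀ z,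
      z ∈ Algebra.adjoin (pPowerSubalgebra p F₀ k) s → z ∈ F := by
    intro F hF s hs z hz
    induction hz using Algebra.adjoin_induction with
    | mem y hy => exact hs hy
    | algebraMap r => exact hsub F hF _ r.2
    | add a b _ _ ha hb => exact add_mem ha hb
    | mul a b _ _ ha hb => exact mul_mem ha hb
  refine ⟨B, δ, fun b b' => ?_, fun z hz => ?_, fun F hF hBF => ?_⟩
  · rw [hδ, ← hbas b', Module.Basis.repr_self]
    exact ⟨fun h => by subst h; exact Finsupp.single_eq_same, fun h => Finsupp.single_eq_of_ne h⟩
  · have h0 : KaehlerDifferential.D F₀ k z = 0 := by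
      apply bas.repr.injective
      rw [map_zero]
      exact Finsupp.ext fun b => hz b
    have h1 := (mem_adjoin_iff_D_mem_span (p := p) (k := F₀) (∅ : Set k) z).2 (by rw [h0]; exact zero_mem _)
    let P : Subfield k := (frobenius k p).fieldRange
    have hP : z ∈ P := hmem P (fun c => ⟨c, rfl⟩) ∅ (Set.empty_subset _) z h1
    obtain ⟨c, hc⟩ := hP
    exact ⟨c, hc⟩
  · refine eq_top_iff.2 fun z _ => hmem F hF B hBF z ?_
    rw [mem_adjoin_iff_D_mem_span]
    have := bas.span_eq
    rw [show Set.range bas = KaehlerDifferential.D F₀ k '' B by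
      rw [Set.image_eq_range]; exact congrArg Set.range (funext hbas)] at this
    rw [this]; trivial

variable {F L : Type u} [Field F] [Field L] [Algebra F L] {p : ℕ}

/-- Adjoining finitely many `p`-th roots. -/
theorem finrank_adjoin_le (hp : p.Prime) (G : Finset L) (hG : ∀ g ∈ G, g ^ p ∈ (algebraMap F L).range) :
    FiniteDimensional F (IntermediateField.adjoin F (G : Set L)) ∧
      Module.finrank F (IntermediateField.adjoin F (G : Set L)) ≤ p ^ G.card := by
  classical
  induction G using Finset.induction with
  | empty =>
    rw [Finset.coe_empty, IntermediateField.adjoin_empty]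
    exact ⟨inferInstance, by simp [IntermediateField.finrank_bot]⟩
  | insert g G hg ih =>
    obtain ⟨hfin, hle⟩ := ih fun x hx => hG x (Finset.mem_insert_of_mem hx)
    obtain ⟨a, ha⟩ := hG g (Finset.mem_insert_self _ _)
    let E := IntermediateField.adjoin F (G : Set L)
    have hint : IsIntegral E g := ⟨Polynomial.X ^ p - Polynomial.C (algebraMap F E a),
      Polynomial.monic_X_pow_sub_C _ hp.ne_zero, by
        rw [Polynomial.eval₂_sub, Polynomial.eval₂_pow, Polynomial.eval₂_X, Polynomial.eval₂_C,
          ← IsScalarTower.algebraMap_apply, ha, sub_self]⟩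
    haveI := IntermediateField.adjoin.finiteDimensional hint
    have h1 : Module.finrank E (IntermediateField.adjoin E {g}) ≤ p := by
      rw [IntermediateField.adjoin.finrank hint]
      refine (Polynomial.natDegree_le_of_dvd (minpoly.dvd E g (p := Polynomial.X ^ p - Polynomial.C (algebraMap F E a)) ?_)
        (Polynomial.monic_X_pow_sub_C _ hp.ne_zero).ne_zero).trans_eq (Polynomial.natDegree_X_pow_sub_C)
      rw [map_sub, map_pow, Polynomial.aeval_X, Polynomial.aeval_C, ← IsScalarTower.algebraMap_apply, ha, sub_self]
    have heq : IntermediateField.adjoin F ((insert g G : Finset L) : Set L) =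
        (IntermediateField.adjoin E {g}).restrictScalars F := by
      rw [IntermediateField.adjoin_adjoin_left, Finset.coe_insert, Set.union_singleton]
    have hfin2 : FiniteDimensional F ((IntermediateField.adjoin E {g}).restrictScalars F) :=
      FiniteDimensional.trans F E (IntermediateField.adjoin E {g})
    have hmul : Module.finrank F ((IntermediateField.adjoin E {g}).restrictScalars F) =
        Module.finrank F E * Module.finrank E (IntermediateField.adjoin E {g}) :=
      (Module.finrank_mul_finrank F E (IntermediateField.adjoin E {g})).symm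
    rw [heq]
    refine ⟨hfin2, ?_⟩
    rw [hmul, Finset.card_insert_of_notMem hg, pow_succ]
    exact Nat.mul_le_mul hle h1

/-- A purely inseparable extension of exponent one of degree at most `p ^ m` is generated by `m` of any
given generators. -/
theorem exists_generators (hp : p.Prime) [CharP L p] [FiniteDimensional F L]
    (hpow : ∀ x : L, x ^ p ∈ (algebraMap F L).range) (S : Set L) (hS : IntermediateField.adjoin F S = ⊤) :
    ∃ G : Finset L, (G : Set L) ⊆ S ∧ IntermediateField.adjoin F (G : Set L) = ⊤ ∧
      p ^ G.card ≤ Module.finrank F L := by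
  classical
  haveI := Fact.mk hp
  suffices ∀ (r : ℕ) (E : IntermediateField F L), Module.finrank E L ≤ r →
      ∃ G : Finset L, (G : Set L) ⊆ S ∧ E ⊔ IntermediateField.adjoin F (G : Set L) = ⊤ ∧
        p ^ G.card * Module.finrank F E ≤ Module.finrank F L by
    obtain ⟨G, h1, h2, h3⟩ := this _ ⊥ le_rfl
    rw [bot_sup_eq] at h2
    rw [IntermediateField.finrank_bot, mul_one] at h3
    exact ⟨G, h1, h2, h3⟩
  intro r
  induction r with
  | zero => intro E hE; exact absurd hE (Nat.not_le.2 Module.finrank_pos)
  | succ r ih =>
    intro E hE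
    by_cases hSE : S ⊆ E
    · refine ⟨∅, by simp, ?_, ?_⟩
      · rw [eq_top_iff, ← hS]
        exact le_sup_of_le_left (IntermediateField.adjoin_le_iff.2 hSE)
      · rw [Finset.card_empty, pow_zero, one_mul]
        exact Submodule.finrank_le E.toSubmodule
    obtain ⟨s, hsS, hsE⟩ := Set.not_subset.mp hSE
    obtain ⟨a, ha⟩ := hpow s
    let a' : E := algebraMap F E a
    have hirr : Irreducible (Polynomial.X ^ p - Polynomial.C a') := X_pow_sub_C_irreducible_of_prime hp fun b hb => by
      refine hsE ?_
      have h1 : (b : L) ^ p = s ^ p := by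
        rw [← ha, IsScalarTower.algebraMap_apply F E L]
        exact congrArg Subtype.val hb
      have h2 : frobenius L p (b : L) = frobenius L p s := h1
      rw [← frobenius_inj L p h2]; exact b.2
    have hint : IsIntegral E s := Algebra.IsIntegral.isIntegral s
    have hdeg : Module.finrank E (IntermediateField.adjoin E {s}) = p := by
      rw [IntermediateField.adjoin.finrank hint, ← minpoly.eq_of_irreducible_of_monic hirr (by
        rw [map_sub, map_pow, Polynomial.aeval_X, Polynomial.aeval_C, ← IsScalarTower.algebraMap_apply, ha, sub_self])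
        (Polynomial.monic_X_pow_sub_C _ hp.ne_zero), Polynomial.natDegree_X_pow_sub_C]
    let E' : IntermediateField F L := (IntermediateField.adjoin E {s}).restrictScalars F
    have hEE' : Module.finrank F E' = Module.finrank F E * p := by
      rw [← hdeg]; exact (Module.finrank_mul_finrank F E (IntermediateField.adjoin E {s})).symm
    have h1 : Module.finrank F E * Module.finrank E L = Module.finrank F L := Module.finrank_mul_finrank F E L
    have h2 : Module.finrank F E' * Module.finrank E' L = Module.finrank F L := Module.finrank_mul_finrank F E' L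
    have h3 : Module.finrank E' L ≤ r := by
      have hpos : 0 < Module.finrank F E := Module.finrank_pos
      have hpos' : 0 < Module.finrank E' L := Module.finrank_pos
      rw [← h1, hEE', mul_assoc] at h2
      have h4 := Nat.eq_of_mul_eq_mul_left hpos h2
      have := hp.two_le
      nlinarith
    obtain ⟨G, hGS, hGtop, hGle⟩ := ih E' h3
    have hsE' : E' = E ⊔ IntermediateField.adjoin F {s} := by
      show IntermediateField.restrictScalars F _ = _
      rw [IntermediateField.restrictScalars_adjoin, IntermediateField.adjoin_union, IntermediateField.adjoin_self]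
    refine ⟨insert s G, ?_, ?_, ?_⟩
    · rw [Finset.coe_insert]; exact Set.insert_subset hsS hGS
    · rw [Finset.coe_insert, ← Set.singleton_union, IntermediateField.adjoin_union, ← sup_assoc, ← hsE', hGtop]
    · refine le_trans ?_ hGle
      rw [hEE']
      calc p ^ (insert s G).card * Module.finrank F E ≤ p ^ (G.card + 1) * Module.finrank F E :=
            Nat.mul_le_mul_right _ (Nat.pow_le_pow_right hp.pos (Finset.card_insert_le _ _))
        _ = p ^ G.card * (Module.finrank F E * p) := by ring

end Groth.Ega4b.Jac
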