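import Groth.Agent.Ega4Algebra2.GaloisStage
import Groth.Agent.EtaleAlgebra.HensDomain
import Mathlib

/-! The Galois group of a Galois stage: lifting from the residue field, invariants, and the elements of
a stage lying in a subfield of a field under the strict henselization. -/

set_option autoImplicit false
universe u

open IsLocalRing EGA4loc Polynomial

namespace Groth.Ega4Algebra2

/-- A root of a monic polynomial over the base at which the derivative is a unit. -/
def IsEtaleElem (A : Type u) {S : Type u} [CommRing A] [CommRing S] [Algebra A S] (t : S) : Prop :=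
  ∃ f : A[X], f.Monic ∧ aeval t f = 0 ∧ IsUnit (aeval t (derivative f))

/-- A simple root in a local ring is determined by its residue. -/
theorem root_eq_of_residue_eq {A S : Type u} [CommRing A] [CommRing S] [IsLocalRing S] [Algebra A S]
    (f : A[X]) {x y : S} (hx : aeval x f = 0) (hy : aeval y f = 0) (hu : IsUnit (aeval x (derivative f)))
    (h : residue S x = residue S y) : x = y := by
  have hd : y - x ∈ maximalIdeal S := by rw [← residue_eq_zero_iff, map_sub, h, sub_self]
  obtain ⟨k, hk⟩ := Polynomial.binomExpansion (f.map (algebraMap A S)) x (y - x)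
  rw [derivative_map, add_sub_cancel, eval_map_algebraMap, eval_map_algebraMap, eval_map_algebraMap,
    hy, hx, zero_add] at hk
  have h1 : IsUnit (aeval x (derivative f) + k * (y - x)) := by
    have h2 : residue S (aeval x (derivative f) + k * (y - x)) = residue S (aeval x (derivative f)) := by
      rw [map_add, map_mul, (residue_eq_zero_iff _).2 hd, mul_zero, add_zero]
    exact (residue_ne_zero_iff_isUnit _).1 (h2 ▸ (residue_ne_zero_iff_isUnit _).2 hu)
  have h3 : (aeval x (derivative f) + k * (y - x)) * (y - x) = 0 := by linear_combination -hk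
  exact (sub_eq_zero.1 ((h1.mul_right_eq_zero).1 h3)).symm

/-- An equivariant map fixes a simple root whose residue it fixes. -/
theorem IsEtaleElem.map_eq {A E : Type u} [CommRing A] [CommRing E] [IsLocalRing E] [Algebra A E]
    {t : E} (ht : IsEtaleElem A t) (g : E →ₐ[A] E) (h : residue E (g t) = residue E t) : g t = t := by
  obtain ⟨f, -, hf, hu⟩ := ht
  refine (root_eq_of_residue_eq f hf ?_ hu h.symm).symm
  rw [aeval_algHom_apply, hf, map_zero]

/-- Simple roots descend along a local subalgebra. -/
theorem IsEtaleElem.of_subalgebra {A S : Type u} [CommRing A] [CommRing S] [Algebra A S] (E : Subalgebra A S)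
    [IsLocalHom (algebraMap E S)] {t : E} (ht : IsEtaleElem A (t : S)) : IsEtaleElem A t := by
  obtain ⟨f, hm, hf, hu⟩ := ht
  refine ⟨f, hm, Subtype.ext (by rw [← Subalgebra.coe_val, ← aeval_algHom_apply]; exact hf), ?_⟩
  refine (inferInstance : IsLocalHom (algebraMap E S)).map_nonunit _ ?_
  show IsUnit (E.val (aeval t (derivative f)))
  rw [← aeval_algHom_apply]
  exact hu

namespace GaloisStage

variable {A S : Type u} [CommRing A] [HenselianLocalRing A] [CommRing S] [IsLocalRing S] [Algebra A S]
  [IsLocalHom (algebraMap A S)] [Hensel.IsStrictHenselization A S]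

theorem IsGaloisStage.isLocalHom_algebraMap {f : A[X]} {R : Finset S} {E : Subalgebra A S}
    (h : IsGaloisStage f R E) : ∀ _ : IsLocalRing E, IsLocalHom (algebraMap A E) := fun _ => ⟨fun a ha => by
  haveI := h.isLocalHom
  have h1 := ha.map (algebraMap E S)
  rw [← IsScalarTower.algebraMap_apply] at h1
  exact isUnit_of_map_unit (algebraMap A S) a h1⟩

variable {f : A[X]} {R : Finset S} {E : Subalgebra A S} (hE : IsGaloisStage f R E) [IsLocalRing E]
  [IsLocalHom (algebraMap A E)]

include hE

/-- The residue field extension of a Galois stage is finite Galois. -/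
theorem isGalois : FiniteDimensional (ResidueField A) (ResidueField E) ∧
    IsGalois (ResidueField A) (ResidueField E) := by
  classical
  haveI := hE.finite
  haveI := hE.isLocalHom
  haveI : FiniteDimensional (ResidueField A) (ResidueField E) :=
    Module.Finite.of_restrictScalars_finite A _ _
  refine ⟨inferInstance, ?_⟩
  have hRE : ∀ r ∈ R, r ∈ E := fun r hr => hE.eq_adjoin ▸ Algebra.subset_adjoin hr
  let RE : Finset E := R.attach.image fun r => ⟨r.1, hRE r.1 r.2⟩
  let fk : (ResidueField A)[X] := f.map (residue A)
  have hinjE : Function.Injective (algebraMap E S) := Subtype.val_injective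
  have hprod : f.map (algebraMap A E) = ∏ r ∈ RE, (X - C r) := by
    apply Polynomial.map_injective _ hinjE
    rw [Polynomial.map_map, ← IsScalarTower.algebraMap_eq, hE.eq_prod, Polynomial.map_prod]
    show _ = ∏ r ∈ R.attach.image (fun r : R => (⟨r.1, hRE r.1 r.2⟩ : E)), _
    rw [Finset.prod_image (g := fun r : R => (⟨r.1, hRE r.1 r.2⟩ : E))
      (fun a _ b _ h => Subtype.ext (congrArg (fun z : E => (z : S)) h))]
    rw [← Finset.prod_attach R]
    exact Finset.prod_congr rfl fun r _ => by simp
  have hmap : fk.map (algebraMap (ResidueField A) (ResidueField E)) = ∏ r ∈ RE, (X - C (residue E r)) := by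
    have h1 := congrArg (Polynomial.map (residue E)) hprod
    rw [Polynomial.map_map, Polynomial.map_prod] at h1
    rw [show fk.map (algebraMap (ResidueField A) (ResidueField E)) =
      f.map ((residue E).comp (algebraMap A E)) from by rw [Polynomial.map_map]; rfl, h1]
    exact Finset.prod_congr rfl fun r _ => by simp
  have hne : ∀ r ∈ RE, ∀ r' ∈ RE, residue E r = residue E r' → r = r' := by
    intro r hr r' hr' h
    obtain ⟨a, -, rfl⟩ := Finset.mem_image.1 hr
    obtain ⟨b, -, rfl⟩ := Finset.mem_image.1 hr'
    by_contra hab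
    have h1 : IsUnit (algebraMap E S (⟨a.1, hRE _ a.2⟩ - ⟨b.1, hRE _ b.2⟩)) :=
      hE.isUnit_sub a.1 a.2 b.1 b.2 fun h => hab (Subtype.ext h)
    exact (residue_ne_zero_iff_isUnit _).2 (IsLocalHom.map_nonunit (f := algebraMap E S) _ h1)
      (by rw [map_sub, h, sub_self])
  have hsep : fk.Separable := by
    refine (separable_map (algebraMap (ResidueField A) (ResidueField E))).1 ?_
    rw [hmap]
    exact separable_prod_X_sub_C_iff'.2 hne
  have hspl : (fk.map (algebraMap (ResidueField A) (ResidueField E))).Splits := by
    rw [hmap]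
    exact Polynomial.Splits.prod fun x _ => Polynomial.Splits.X_sub_C _
  haveI : fk.IsSplittingField (ResidueField A) (ResidueField E) := by
    refine ⟨hspl, top_le_iff.1 fun z _ => ?_⟩
    obtain ⟨⟨e, he⟩, rfl⟩ := residue_surjective z
    have key : ∀ y (hy : y ∈ Algebra.adjoin A (R : Set S)), ∀ hyE : y ∈ E,
        residue E ⟨y, hyE⟩ ∈ Algebra.adjoin (ResidueField A) (fk.rootSet (ResidueField E)) := by
      intro y hy
      induction hy using Algebra.adjoin_induction with
      | mem r hr =>
        intro hrE
        refine Algebra.subset_adjoin ?_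
        rw [mem_rootSet_of_ne hsep.ne_zero, ← eval_map_algebraMap, hmap, eval_prod]
        exact Finset.prod_eq_zero (i := (⟨r, hrE⟩ : E))
          (Finset.mem_image.2 ⟨⟨r, hr⟩, Finset.mem_attach _ _, rfl⟩) (by simp)
      | algebraMap a =>
        intro hM
        exact Subalgebra.algebraMap_mem _ (residue A a)
      | add y z hy hz ihy ihz =>
        intro hM
        rw [show (⟨y + z, hM⟩ : E) = ⟨y, hE.eq_adjoin.symm ▸ hy⟩ + ⟨z, hE.eq_adjoin.symm ▸ hz⟩ from rfl, map_add]
        exact add_mem (ihy _) (ihz _)
      | mul y z hy hz ihy ihz =>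
        intro hM
        rw [show (⟨y * z, hM⟩ : E) = ⟨y, hE.eq_adjoin.symm ▸ hy⟩ * ⟨z, hE.eq_adjoin.symm ▸ hz⟩ from rfl, map_mul]
        exact mul_mem (ihy _) (ihz _)
    exact key e (hE.eq_adjoin ▸ he) he
  exact IsGalois.of_separable_splitting_field (p := fk) hsep

variable [IsNoetherianRing A]

/-- Automorphisms of a Galois stage are determined by their residues. -/
theorem ext_residue {T : Type u} [CommRing T] [IsLocalRing T] [Algebra A T] {g g' : E →ₐ[A] T}
    (h : ∀ e, residue T (g e) = residue T (g' e)) : g = g' :=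
  Groth.Hensel1.algHom_eq_of_essentiallyEtale (hE.essEt inferInstance) h

/-- The residue action of an automorphism. -/
theorem exists_residue (g : E ≃ₐ[A] E) :
    ∃ τ : ResidueField E ≃ₐ[ResidueField A] ResidueField E, ∀ e, τ (residue E e) = residue E (g e) := by
  refine ⟨AlgEquiv.ofRingEquiv (f := ResidueField.mapEquiv g.toRingEquiv) fun z => ?_, fun e => rfl⟩
  obtain ⟨a, rfl⟩ := residue_surjective z
  exact congrArg (residue E) (g.commutes a)

/-- Residue automorphisms lift. -/
theorem exists_lift (τ : ResidueField E ≃ₐ[ResidueField A] ResidueField E) :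
    ∃ g : E ≃ₐ[A] E, ∀ e, residue E (g e) = τ (residue E e) := by
  haveI := hE.finite
  haveI := hE.isLocalHom
  haveI : Algebra.IsIntegral A E := Algebra.IsIntegral.of_finite A E
  haveI : HenselianLocalRing E := Groth.EtaleAlgebra.henselianLocalRing_of_isIntegral A E
  have key : ∀ σ : ResidueField E ≃ₐ[ResidueField A] ResidueField E,
      ∃ g : E →ₐ[A] E, ∀ e, residue E (g e) = σ (residue E e) := by
    intro σ
    obtain ⟨g, ⟨hgA, hgr⟩, -⟩ := Groth.Hensel1.existsUnique_ringHom_of_essentiallyEtale (hE.essEt inferInstance)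
      (algebraMap A E) σ.toRingEquiv.toRingHom (fun a => σ.commutes (residue A a))
    exact ⟨{ g with commutes' := fun a => RingHom.congr_fun hgA a }, hgr⟩
  obtain ⟨g, hg⟩ := key τ
  obtain ⟨g', hg'⟩ := key τ.symm
  refine ⟨AlgEquiv.ofAlgHom g g' (ext_residue hE fun e => ?_) (ext_residue hE fun e => ?_), hg⟩
  · show residue E (g (g' e)) = residue E e
    rw [hg, hg', τ.apply_symm_apply]
  · show residue E (g' (g e)) = residue E e
    rw [hg', hg, τ.symm_apply_apply]

/-- An automorphism fixing the residue field is the identity. -/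
theorem eq_one_of_residue (g : E ≃ₐ[A] E) (h : ∀ e, residue E (g e) = residue E e) : g = 1 :=
  AlgEquiv.ext fun e => AlgHom.congr_fun (ext_residue hE (g := g.toAlgHom) (g' := AlgHom.id A E) h) e

/-- The automorphism group is finite. -/
theorem finite_aut : Finite (E ≃ₐ[A] E) := by
  haveI := (isGalois hE).1
  choose τ hτ using exists_residue hE
  refine Finite.of_injective τ fun g g' h => AlgEquiv.ext fun e => ?_
  exact AlgHom.congr_fun (ext_residue hE (g := g.toAlgHom) (g' := g'.toAlgHom) fun e => by
    show residue E (g e) = residue E (g' e)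
    rw [← hτ, ← hτ, h]) e

/-- Invariants of the automorphisms fixing the residues of a set of simple roots. -/
theorem mem_adjoin_of_fixed (T : Set E) (hT : ∀ t ∈ T, IsEtaleElem A t) (x : E)
    (hx : ∀ g : E ≃ₐ[A] E, (∀ t ∈ T, residue E (g t) = residue E t) → g x = x) :
    x ∈ Algebra.adjoin A T := by
  classical
  haveI := hE.finite
  haveI := hE.unramified
  haveI := (isGalois hE).1
  haveI := (isGalois hE).2
  haveI := finite_aut hE
  let H : Subgroup (E ≃ₐ[A] E) :=
    { carrier := {g | ∀ t ∈ T, g t = t}
      one_mem' := fun t _ => rfl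
      mul_mem' := fun {g g'} hg hg' t ht => by
        show g (g' t) = t
        rw [hg' t ht, hg t ht]
      inv_mem' := fun {g} hg t ht => by
        show g.symm t = t
        conv_lhs => rw [← hg t ht]
        exact g.symm_apply_apply t }
  haveI : Fintype H := Fintype.ofFinite H
  let φ : H →* (E ≃ₐ[A] E) := H.subtype
  let B : Subalgebra A E :=
    { carrier := {e | ∀ g : H, φ g e = e}
      mul_mem' := fun {a b} ha hb g => by rw [map_mul, ha g, hb g]
      add_mem' := fun {a b} ha hb g => by rw [map_add, ha g, hb g]
      algebraMap_mem' := fun a g => AlgEquiv.commutes _ a }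
  have hB : ∀ e, e ∈ B ↔ ∀ g : H, φ g e = e := fun e => Iff.rfl
  have hfree : ∀ g : H, g ≠ 1 → ∃ a : E, IsUnit (φ g a - a) := by
    intro g hg
    by_contra hc
    push Not at hc
    refine hg (Subtype.ext (eq_one_of_residue hE _ fun e => sub_eq_zero.1 ?_))
    rw [← map_sub, residue_eq_zero_iff]
    exact hc e
  haveI : IsLocalRing B := FreeAct.isLocalRing φ B hB
  haveI : IsLocalHom (algebraMap B E) := FreeAct.isLocalHom φ B hB
  have hEm : (maximalIdeal A).map (algebraMap A E) = maximalIdeal E :=
    Algebra.FormallyUnramified.map_maximalIdeal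
  have hBm := FreeAct.map_eq_maximalIdeal φ B hB hfree _ hEm
  haveI : Module.Finite A B := Module.Finite.of_injective B.val.toLinearMap Subtype.val_injective
  let C : Subalgebra A E := Algebra.adjoin A T
  have hCB : C ≤ B := Algebra.adjoin_le fun t ht g => g.2 t ht
  have hres : ∀ b ∈ B, ∃ c ∈ C, residue E b = residue E c := by
    intro b hb
    let F : IntermediateField (ResidueField A) (ResidueField E) :=
      IntermediateField.adjoin (ResidueField A) (residue E '' T)
    have hbF : residue E b ∈ F := by
      rw [← IsGalois.fixedField_fixingSubgroup F]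
      rintro ⟨σ, hσ⟩
      obtain ⟨g, hg⟩ := exists_lift hE σ
      have hgH : ∀ t ∈ T, g t = t := fun t ht => (hT t ht).map_eq g.toAlgHom (by
        show residue E (g t) = _
        rw [hg]
        exact hσ ⟨_, IntermediateField.subset_adjoin _ _ ⟨t, ht, rfl⟩⟩)
      show σ (residue E b) = residue E b
      rw [← hg, show g b = b from hb ⟨g, hgH⟩]
    rw [← IntermediateField.mem_toSubalgebra, IntermediateField.adjoin_toSubalgebra] at hbF
    let Cbar : Subalgebra (ResidueField A) (ResidueField E) :=
      { carrier := residue E '' C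
        mul_mem' := fun {a b} ⟨a', ha, ha'⟩ ⟨b', hb, hb'⟩ => ⟨a' * b', C.mul_mem ha hb, by rw [map_mul, ha', hb']⟩
        add_mem' := fun {a b} ⟨a', ha, ha'⟩ ⟨b', hb, hb'⟩ => ⟨a' + b', C.add_mem ha hb, by rw [map_add, ha', hb']⟩
        algebraMap_mem' := fun z => by
          obtain ⟨a, rfl⟩ := residue_surjective z
          exact ⟨algebraMap A E a, C.algebraMap_mem a, rfl⟩ }
    have hle : Algebra.adjoin (ResidueField A) (residue E '' T) ≤ Cbar :=
      Algebra.adjoin_le (Set.image_mono Algebra.subset_adjoin)
    obtain ⟨c, hc, hcb⟩ := hle hbF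
    exact ⟨c, hc, hcb.symm⟩
  have htop : Subalgebra.toSubmodule B ≤ Subalgebra.toSubmodule C := by
    refine Submodule.le_of_le_smul_of_le_jacobson_bot (Module.Finite.iff_fg.1 inferInstance)
      (maximalIdeal_le_jacobson ⊥) fun b hb => ?_
    obtain ⟨c, hc, hbc⟩ := hres b hb
    rw [show b = c + (b - c) by abel]
    refine Submodule.add_mem_sup hc ?_
    have h1 : (⟨b - c, B.sub_mem hb (hCB hc)⟩ : B) ∈ (maximalIdeal A • ⊤ : Submodule A B) := by
      rw [Ideal.smul_top_eq_map]
      show (⟨b - c, B.sub_mem hb (hCB hc)⟩ : B) ∈ (maximalIdeal A).map (algebraMap A B)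
      rw [hBm]
      intro hu
      have := hu.map (algebraMap B E)
      exact (residue_ne_zero_iff_isUnit _).2 this (by
        show residue E (b - c) = 0
        rw [map_sub, hbc, sub_self])
    have h2 := Submodule.mem_map_of_mem (f := B.val.toLinearMap) h1
    rw [Submodule.map_smul'', Submodule.map_top] at h2
    exact Submodule.smul_mono le_rfl (by rintro _ ⟨z, rfl⟩; exact z.2) h2
  refine htop (show x ∈ B from fun g => hx g.1 fun t ht => ?_)
  rw [g.2 t ht]

/-- Elements fixed by all automorphisms come from the base. -/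
theorem mem_range_of_fixed (x : E) (hx : ∀ g : E ≃ₐ[A] E, g x = x) : x ∈ Set.range (algebraMap A E) := by
  have h := mem_adjoin_of_fixed hE ∅ (fun t ht => ht.elim) x fun g _ => hx g
  rwa [Algebra.adjoin_empty, Algebra.mem_bot] at h

/-- The key lemma: an automorphism fixing the residues of the elements of the stage mapped into a subfield
preserves the kernel and fixes that part of the stage. -/
theorem key {K : Type u} [Field K] [Algebra A K] (π : E →ₐ[A] K) (L : Subfield K)
    (hAL : ∀ a, algebraMap A K a ∈ L) (Λ : IntermediateField (ResidueField A) (ResidueField E))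
    (hΛ : ∀ c : E, π c ∈ L → residue E c ∈ Λ) (g : E ≃ₐ[A] E)
    (hg : ∀ e, residue E e ∈ Λ → residue E (g e) = residue E e) :
    (∀ x, π x ∈ L → π (g x) = π x) ∧ ∀ e, π (g e) = 0 ↔ π e = 0 := by
  classical
  haveI := hE.finite
  haveI := hE.isLocalHom
  haveI := (isGalois hE).1
  haveI := (isGalois hE).2
  haveI := finite_aut hE
  haveI := Fintype.ofFinite (E ≃ₐ[A] E)
  have hRE : ∀ r ∈ R, r ∈ E := fun r hr => hE.eq_adjoin ▸ Algebra.subset_adjoin hr
  -- the splitting field in `K`
  letI : Algebra A L := ((algebraMap A K).codRestrict L hAL).toAlgebra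
  haveI : IsScalarTower A L K := IsScalarTower.of_algebraMap_eq fun a => rfl
  let fL : L[X] := f.map (algebraMap A L)
  let RK : Finset K := R.attach.image fun r => π ⟨r.1, hRE r.1 r.2⟩
  have hRne : ∀ a b : R, π ⟨a.1, hRE _ a.2⟩ = π ⟨b.1, hRE _ b.2⟩ → a = b := fun a b h => by
    by_contra hne
    have hu : IsUnit (algebraMap E S (⟨a.1, hRE _ a.2⟩ - ⟨b.1, hRE _ b.2⟩)) :=
      hE.isUnit_sub a.1 a.2 b.1 b.2 fun h => hne (Subtype.ext h)
    have h1 := (IsLocalHom.map_nonunit (f := algebraMap E S) _ hu).map π
    rw [map_sub, h, sub_self] at h1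
    exact not_isUnit_zero h1
  have hmap : fL.map (algebraMap L K) = ∏ x ∈ RK, (X - C x) := by
    have hprod : f.map (algebraMap A E) = ∏ r : R, (X - C (⟨r.1, hRE _ r.2⟩ : E)) := by
      apply Polynomial.map_injective (algebraMap E S) Subtype.val_injective
      rw [Polynomial.map_map, ← IsScalarTower.algebraMap_eq, hE.eq_prod, Polynomial.map_prod,
        ← Finset.prod_attach R]
      exact Finset.prod_congr rfl fun r _ => by simp
    rw [Polynomial.map_map, ← IsScalarTower.algebraMap_eq, ← π.comp_algebraMap, ← Polynomial.map_map,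
      hprod, Polynomial.map_prod, Finset.prod_image (fun a _ b _ h => hRne a b h)]
    exact Finset.prod_congr rfl fun r _ => by simp
  have hsep : fL.Separable := by
    refine (separable_map (algebraMap L K)).1 ?_
    rw [hmap]
    exact separable_prod_X_sub_C_iff'.2 fun a _ b _ h => h
  have hspl : (fL.map (algebraMap L K)).Splits := by
    rw [hmap]
    exact Polynomial.Splits.prod fun x _ => Polynomial.Splits.X_sub_C x
  let M : IntermediateField L K := IntermediateField.adjoin L (fL.rootSet K)
  haveI : fL.IsSplittingField L M := IntermediateField.adjoin_rootSet_isSplittingField hspl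
  haveI : FiniteDimensional L M := Polynomial.IsSplittingField.finiteDimensional M fL
  haveI : IsGalois L M := IsGalois.of_separable_splitting_field (p := fL) hsep
  have hrootSet : fL.rootSet K = (RK : Set K) := by
    rw [rootSet, aroots, hmap, roots_prod_X_sub_C]
    simp
  let EK : Subalgebra A K := π.range
  have hEKgen : EK = Algebra.adjoin A (RK : Set K) := by
    have hset : (((↑) : E → S) ⁻¹' (R : Set S)) = Set.range fun r : R => (⟨r.1, hRE _ r.2⟩ : E) := by
      ext e
      exact ⟨fun he => ⟨⟨e, he⟩, rfl⟩, fun ⟨r, hr⟩ => hr ▸ r.2⟩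
    have htop : Algebra.adjoin A (((↑) : E → S) ⁻¹' (R : Set S)) = (⊤ : Subalgebra A E) := by
      subst_vars
      obtain rfl := hE.eq_adjoin
      exact Algebra.adjoin_adjoin_coe_preimage
    show π.range = _
    rw [← Algebra.map_top, ← htop, AlgHom.map_adjoin, hset, ← Set.range_comp, Finset.coe_image]
    congr 1
    ext z
    simp
  have hEKM : ∀ x ∈ EK, x ∈ M := by
    intro x hx
    rw [hEKgen] at hx
    induction hx using Algebra.adjoin_induction with
    | mem y hy => exact IntermediateField.subset_adjoin L _ (hrootSet.symm ▸ hy)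
    | algebraMap a => rw [IsScalarTower.algebraMap_apply A L K]; exact M.algebraMap_mem _
    | add y z _ _ hy hz => exact add_mem hy hz
    | mul y z _ _ hy hz => exact mul_mem hy hz
  let θ : E →ₐ[A] M :=
    { toFun := fun x => ⟨π x, hEKM _ ⟨x, rfl⟩⟩
      map_one' := Subtype.ext (map_one π)
      map_mul' := fun _ _ => Subtype.ext (map_mul π _ _)
      map_zero' := Subtype.ext (map_zero π)
      map_add' := fun _ _ => Subtype.ext (map_add π _ _)
      commutes' := fun a => Subtype.ext (π.commutes a) }
  have hτroot : ∀ (τ : M ≃ₐ[L] M) (x : M), (x : K) ∈ RK → ((τ x : M) : K) ∈ RK := by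
    intro τ x hx
    rw [← Finset.mem_coe, ← hrootSet, mem_rootSet_of_ne hsep.ne_zero] at hx ⊢
    have h1 : aeval x fL = 0 := Subtype.ext (by rw [← IntermediateField.coe_val, ← aeval_algHom_apply]; exact hx)
    rw [← IntermediateField.coe_val, aeval_algHom_apply, aeval_algHom_apply τ, h1, map_zero, map_zero]
  let πE : E →ₐ[A] EK := π.rangeRestrict
  have hπE : Function.Surjective πE := π.rangeRestrict_surjective
  haveI : IsLocalRing EK := IsLocalRing.of_surjective' πE.toRingHom hπE
  haveI : IsLocalHom πE.toRingHom := IsLocalHom.of_surjective _ hπE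
  -- every automorphism of the splitting field comes from the stage
  have hlift : ∀ τ : M ≃ₐ[L] M, ∃ h : E ≃ₐ[A] E, ∀ e, π (h e) = ((τ (θ e) : M) : K) := by
    intro τ
    have hmem : ∀ e : E, ((τ (θ e) : M) : K) ∈ EK := by
      let P : Subalgebra A E :=
        EK.comap ((M.val.restrictScalars A).comp ((τ.toAlgHom.restrictScalars A).comp θ))
      suffices hP : P = ⊤ from fun e => (hP.symm ▸ Algebra.mem_top : e ∈ P)
      obtain rfl := hE.eq_adjoin
      rw [eq_top_iff, ← Algebra.adjoin_adjoin_coe_preimage]
      refine Algebra.adjoin_le fun r hr => ?_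
      show ((τ (θ r) : M) : K) ∈ EK
      rw [hEKgen]
      exact Algebra.subset_adjoin (hτroot τ _ (Finset.mem_image.2 ⟨⟨(r : S), hr⟩, Finset.mem_attach _ _, rfl⟩))
    let ψ : E →ₐ[A] EK :=
      ((M.val.restrictScalars A).comp ((τ.toAlgHom.restrictScalars A).comp θ)).codRestrict EK hmem
    let eπ : ResidueField E ≃+* ResidueField EK :=
      RingEquiv.ofBijective (ResidueField.map πE.toRingHom) ⟨RingHom.injective _, fun z => by
        obtain ⟨z, rfl⟩ := residue_surjective z
        obtain ⟨e, rfl⟩ := hπE z
        exact ⟨residue E e, rfl⟩⟩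
    have hψloc : IsLocalHom ψ.toRingHom := by
      refine IsLocalHom.of_surjective _ fun z => ?_
      obtain ⟨e, he⟩ := hπE z
      have hmem' : ((τ.symm (θ e) : M) : K) ∈ EK := by
        let P : Subalgebra A E :=
          EK.comap ((M.val.restrictScalars A).comp ((τ.symm.toAlgHom.restrictScalars A).comp θ))
        suffices hP : P = ⊤ from (hP.symm ▸ Algebra.mem_top : e ∈ P)
        obtain rfl := hE.eq_adjoin
        rw [eq_top_iff, ← Algebra.adjoin_adjoin_coe_preimage]
        refine Algebra.adjoin_le fun r hr => ?_
        show ((τ.symm (θ r) : M) : K) ∈ EK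
        rw [hEKgen]
        exact Algebra.subset_adjoin (hτroot τ.symm _ (Finset.mem_image.2 ⟨⟨(r : S), hr⟩, Finset.mem_attach _ _, rfl⟩))
      obtain ⟨e', he'⟩ := hmem'
      refine ⟨e', Subtype.ext ?_⟩
      show ((τ (θ e') : M) : K) = _
      rw [show θ e' = τ.symm (θ e) from Subtype.ext he', τ.apply_symm_apply, ← he]
      rfl
    haveI := hψloc
    let r' : ResidueField E →+* ResidueField E := eπ.symm.toRingHom.comp (ResidueField.map ψ.toRingHom)
    have hr'A : ∀ z, r' (algebraMap (ResidueField A) (ResidueField E) z) = algebraMap _ _ z := fun z => by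
      obtain ⟨a, rfl⟩ := residue_surjective z
      show eπ.symm (residue EK (ψ (algebraMap A E a))) = residue E (algebraMap A E a)
      rw [eπ.symm_apply_eq, ψ.commutes]
      exact congrArg (residue EK) (πE.commutes a).symm
    let σ₀ : ResidueField E →ₐ[ResidueField A] ResidueField E := { r' with commutes' := hr'A }
    let σ : ResidueField E ≃ₐ[ResidueField A] ResidueField E :=
      AlgEquiv.ofBijective σ₀ (Algebra.IsAlgebraic.algHom_bijective σ₀)
    obtain ⟨h, hh⟩ := exists_lift hE σ
    refine ⟨h, fun e => ?_⟩
    have heq : πE.comp h.toAlgHom = ψ := ext_residue hE fun e => by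
      show eπ (residue E (h e)) = residue EK (ψ e)
      rw [hh]
      exact eπ.apply_symm_apply _
    exact congrArg Subtype.val (AlgHom.congr_fun heq e)
  -- the subgroup of such automorphisms
  let H : Subgroup (E ≃ₐ[A] E) :=
    { carrier := {h | ∃ τ : M ≃ₐ[L] M, ∀ e, π (h e) = ((τ (θ e) : M) : K)}
      one_mem' := ⟨1, fun e => rfl⟩
      mul_mem' := fun {h h'} ⟨τ, hτ⟩ ⟨τ', hτ'⟩ => ⟨τ * τ', fun e => by
        show π (h (h' e)) = _
        rw [hτ, show θ (h' e) = τ' (θ e) from Subtype.ext (hτ' e)]
        rfl⟩
      inv_mem' := fun {h} ⟨τ, hτ⟩ => ⟨τ⁻¹, fun e => by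
        show π (h.symm e) = _
        have h1 : τ (θ (h.symm e)) = θ e := Subtype.ext (by rw [← hτ, h.apply_symm_apply]; rfl)
        rw [← h1]
        show _ = ((τ.symm (τ (θ (h.symm e))) : M) : K)
        rw [τ.symm_apply_apply]
        rfl⟩ }
  choose res hres using exists_residue hE
  have hgH : g ∈ H := by
    let Hres : Subgroup (ResidueField E ≃ₐ[ResidueField A] ResidueField E) :=
      { carrier := res '' H
        one_mem' := ⟨1, H.one_mem, AlgEquiv.ext fun z => by
          obtain ⟨e, rfl⟩ := residue_surjective z
          rw [hres]; rfl⟩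
        mul_mem' := by
          rintro _ _ ⟨h, hh, rfl⟩ ⟨h', hh', rfl⟩
          refine ⟨h * h', H.mul_mem hh hh', AlgEquiv.ext fun z => ?_⟩
          obtain ⟨e, rfl⟩ := residue_surjective z
          show res (h * h') (residue E e) = res h (res h' (residue E e))
          rw [hres, hres h', hres h]
          rfl
        inv_mem' := by
          rintro _ ⟨h, hh, rfl⟩
          refine ⟨h⁻¹, H.inv_mem hh, AlgEquiv.ext fun z => (res h).injective ?_⟩
          obtain ⟨e, rfl⟩ := residue_surjective z
          show res h (res h⁻¹ (residue E e)) = res h ((res h).symm (residue E e))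
          rw [hres, hres, AlgEquiv.apply_symm_apply]
          show residue E (h (h.symm e)) = _
          rw [h.apply_symm_apply] }
    have hfix : IntermediateField.fixedField Hres ≤ Λ := by
      intro y hy
      obtain ⟨y, rfl⟩ := residue_surjective y
      haveI : Fintype H := Fintype.ofFinite H
      let P : E[X] := ∏ h : H, (X - C (h.1 y))
      have hPfix : ∀ (h : H), P.map (h.1 : E ≃ₐ[A] E).toRingEquiv.toRingHom = P := fun h => by
        rw [Polynomial.map_prod]
        refine Fintype.prod_equiv (Equiv.mulLeft h) _ _ fun h' => ?_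
        rw [Polynomial.map_sub, map_X, map_C, Equiv.coe_mulLeft]
        rfl
      have hcoeff : ∀ n, residue E (P.coeff n) ∈ Λ := fun n => by
        refine hΛ _ ?_
        have hbot : θ (P.coeff n) ∈ (⊥ : IntermediateField L M) :=
          (IsGalois.mem_bot_iff_fixed _).2 fun τ => by
            obtain ⟨h, hh⟩ := hlift τ
            refine Subtype.ext ?_
            rw [← hh]
            have h1 : (P.map (h : E ≃ₐ[A] E).toRingEquiv.toRingHom).coeff n = P.coeff n := by
              rw [hPfix ⟨h, τ, hh⟩]
            rw [coeff_map] at h1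
            exact congrArg π h1
        obtain ⟨l, hl⟩ := IntermediateField.mem_bot.1 hbot
        rw [show π (P.coeff n) = (l : K) from (congrArg Subtype.val hl).symm]
        exact l.2
      have hmapP : P.map (residue E) = (X - C (residue E y)) ^ Fintype.card H := by
        rw [Polynomial.map_prod, Finset.prod_congr rfl (g := fun _ => X - C (residue E y)) fun h _ => ?_,
          Finset.prod_const, Finset.card_univ]
        rw [Polynomial.map_sub, map_X, map_C, ← hres]
        exact congrArg (fun z => X - C z) (hy ⟨res h.1, h.1, h.2, rfl⟩)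
      obtain ⟨Q, hQ⟩ : ∃ Q : Λ[X], Q.map (algebraMap Λ (ResidueField E)) = P.map (residue E) :=
        (mem_lifts _).1 ((lifts_iff_coeff_lifts _).2 fun n => ⟨⟨_, hcoeff n⟩, (coeff_map (p := P) (residue E) n).symm⟩)
      set z := residue E y with hz
      have hroot : aeval z Q = 0 := by
        rw [← eval_map_algebraMap, hQ, hmapP, eval_pow, eval_sub, eval_X, eval_C, sub_self,
          zero_pow Fintype.card_ne_zero]
      have hzint : IsIntegral Λ z := IsIntegral.of_finite Λ z
      have hdvd : (minpoly Λ z).map (algebraMap Λ _) ∣ (X - C z) ^ Fintype.card H := by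
        rw [← hmapP, ← hQ]
        exact Polynomial.map_dvd _ (minpoly.dvd Λ z hroot)
      have hsepm : ((minpoly Λ z).map (algebraMap Λ (ResidueField E))).Separable :=
        Polynomial.Separable.map (Algebra.IsSeparable.isSeparable Λ z)
      obtain ⟨i, -, hi⟩ := (dvd_prime_pow (prime_X_sub_C z) _).1 hdvd
      have hmon : ((minpoly Λ z).map (algebraMap Λ (ResidueField E))).Monic := (minpoly.monic hzint).map _
      have heq : (minpoly Λ z).map (algebraMap Λ (ResidueField E)) = (X - C z) ^ i :=
        eq_of_monic_of_associated hmon ((monic_X_sub_C z).pow i) hi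
      have hi1 : i ≤ 1 := by
        by_contra hlt
        rw [heq] at hsepm
        have h2 := (Separable.of_pow (f := X - C z) (not_isUnit_X_sub_C z) (by omega) hsepm).2
        omega
      have hdeg : (minpoly Λ z).natDegree ≤ 1 := by
        rw [← natDegree_map (algebraMap Λ (ResidueField E)), heq, (monic_X_sub_C z).natDegree_pow,
          natDegree_X_sub_C, mul_one]
        exact hi1
      have hz1 : z ∈ (algebraMap Λ (ResidueField E)).range :=
        minpoly.natDegree_eq_one_iff.1 (le_antisymm hdeg (minpoly.natDegree_pos hzint))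
      obtain ⟨w, hw⟩ := hz1
      exact hw ▸ w.2
    have h1 : res g ∈ Hres := by
      have h2 : res g ∈ IntermediateField.fixingSubgroup Λ := by
        rw [IntermediateField.mem_fixingSubgroup_iff]
        intro z hz
        obtain ⟨e, rfl⟩ := residue_surjective z
        rw [hres]
        exact hg e hz
      rw [← IntermediateField.fixingSubgroup_fixedField Hres]
      exact IntermediateField.fixingSubgroup_antitone hfix h2
    obtain ⟨h, hh, hheq⟩ := h1
    have : h = g := by
      have h3 := eq_one_of_residue hE (h⁻¹ * g) fun e => by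
        show residue E (h.symm (g e)) = residue E e
        apply (res h).injective
        rw [hres, h.apply_symm_apply, hheq, hres]
      exact inv_mul_eq_one.1 h3
    exact this ▸ hh
  obtain ⟨τ, hτ⟩ := hgH
  refine ⟨fun x hx => ?_, fun e => ?_⟩
  · rw [hτ, show θ x = algebraMap L M ⟨π x, hx⟩ from Subtype.ext rfl, τ.commutes]
    rfl
  · rw [hτ, ZeroMemClass.coe_eq_zero, map_eq_zero_iff _ τ.injective, ← ZeroMemClass.coe_eq_zero]
    rfl

end GaloisStage

end Groth.Ega4Algebra2
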