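import Groth.Agent.Ega4Algebra2.GaloisStage
import Mathlib

/-! Intersections of subfields with a quotient of the strict henselization of a henselian local ring. -/

set_option autoImplicit false
universe u

open IsLocalRing EGA4loc Polynomial
open scoped TensorProduct

namespace Groth.Ega4Algebra2.GaloisStage

variable {A S : Type u} [CommRing A] [HenselianLocalRing A] [CommRing S] [IsLocalRing S] [Algebra A S]
  [IsLocalHom (algebraMap A S)] [Hensel.IsStrictHenselization A S]

theorem flat_of_isEssentiallyEtale {A B : Type u} [CommRing A] [IsLocalRing A] [CommRing B] [Algebra A B]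
    (h : IsEssentiallyEtale A B) : Module.Flat A B := by
  obtain ⟨C, _, _, q, _, _, -, ⟨e⟩⟩ := h
  haveI : Module.Flat A C := inferInstance
  haveI : Module.Flat C (Localization.AtPrime q) := IsLocalization.flat _ q.primeCompl
  haveI : Module.Flat A (Localization.AtPrime q) := Module.Flat.trans A C _
  exact Module.Flat.of_linearEquiv e.toLinearEquiv

/-- The intersection of a subfield with the image of a Galois stage. -/
theorem invariants [IsNoetherianRing A] {f : A[X]} {R : Finset S} {E : Subalgebra A S}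
    (hE : IsGaloisStage f R E) (Q : Ideal S) [Q.IsPrime] (K : Type u) [Field K] [Algebra (S ⧸ Q) K]
    [IsFractionRing (S ⧸ Q) K] [Algebra A K] [IsScalarTower A (S ⧸ Q) K]
    (L : Subfield K) (hAL : ∀ a, algebraMap A K a ∈ L)
    (D' : Subalgebra A (S ⧸ Q)) (hD' : ∀ x, x ∈ D' ↔ algebraMap (S ⧸ Q) K x ∈ L)
    (hDE : ∀ x ∈ D', x ∈ E.map (Ideal.Quotient.mkₐ A Q)) :
    Module.Finite A D' ∧ Algebra.FormallyUnramified A D' ∧ IsLocalRing D' ∧
      (∀ l ∈ L, l ∈ Subfield.closure ((fun e : S => algebraMap (S ⧸ Q) K (Ideal.Quotient.mk Q e)) '' (E : Set S)) →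
        ∃ a ∈ D', ∃ b ∈ D', algebraMap (S ⧸ Q) K b ≠ 0 ∧ l * algebraMap (S ⧸ Q) K b = algebraMap (S ⧸ Q) K a) ∧
      (Q = ⊥ → Module.Flat A D') := by
  classical
  haveI := hE.isLocalRing
  haveI := hE.isLocalHom
  haveI := hE.finite
  haveI := hE.unramified
  haveI hlocE : IsLocalHom (algebraMap A E) := ⟨fun a ha => by
    have h1 := ha.map (algebraMap E S)
    rw [← IsScalarTower.algebraMap_apply] at h1
    exact isUnit_of_map_unit (algebraMap A S) a h1⟩
  have hEm : (maximalIdeal A).map (algebraMap A E) = maximalIdeal E :=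
    Algebra.FormallyUnramified.map_maximalIdeal
  -- the image of the stage in `K`
  let π : S →ₐ[A] K := (IsScalarTower.toAlgHom A (S ⧸ Q) K).comp (Ideal.Quotient.mkₐ A Q)
  let EK : Subalgebra A K := E.map π
  let πE : E →ₐ[A] EK := (π.comp E.val).codRestrict EK fun e => ⟨e, e.2, rfl⟩
  have hπE : Function.Surjective πE := fun ⟨_, e, he, h⟩ => ⟨⟨e, he⟩, Subtype.ext h⟩
  haveI : IsLocalRing EK := IsLocalRing.of_surjective' πE.toRingHom hπE
  haveI : Module.Finite A EK := Module.Finite.of_surjective πE.toLinearMap hπE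
  haveI : Algebra.FormallyUnramified A EK := Algebra.FormallyUnramified.of_surjective πE hπE
  haveI : IsLocalHom πE.toRingHom := IsLocalHom.of_surjective _ hπE
  haveI hlocEK : IsLocalHom (algebraMap A EK) := by
    rw [← πE.comp_algebraMap]
    exact RingHom.isLocalHom_comp πE.toRingHom (algebraMap A E)
  have hEKm : (maximalIdeal A).map (algebraMap A EK) = maximalIdeal EK := by
    rw [← πE.comp_algebraMap, ← Ideal.map_map, hEm]
    exact IsLocalRing.map_maximalIdeal_of_surjective πE.toRingHom hπE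
  -- the splitting field
  letI : Algebra A L := ((algebraMap A K).codRestrict L hAL).toAlgebra
  haveI : IsScalarTower A L K := IsScalarTower.of_algebraMap_eq fun a => rfl
  let fL : L[X] := f.map (algebraMap A L)
  let RK : Finset K := R.image π
  have hRne : ∀ r ∈ R, ∀ r' ∈ R, r ≠ r' → π r ≠ π r' := fun r hr r' hr' hne h => by
    have h1 := (hE.isUnit_sub r hr r' hr' hne).map π
    rw [map_sub, h, sub_self] at h1
    exact not_isUnit_zero h1
  have hmap : fL.map (algebraMap L K) = ∏ x ∈ RK, (X - C x) := by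
    rw [Polynomial.map_map, ← IsScalarTower.algebraMap_eq, ← π.comp_algebraMap, ← Polynomial.map_map,
      hE.eq_prod, Polynomial.map_prod, Finset.prod_image fun r hr r' hr' h =>
        by_contra fun hne => hRne r hr r' hr' hne h]
    exact Finset.prod_congr rfl fun r _ => by simp
  have hsepK : (fL.map (algebraMap L K)).Separable := by
    rw [hmap]
    exact separable_prod_X_sub_C_iff'.2 fun a _ b _ h => h
  have hsep : fL.Separable := (separable_map (algebraMap L K)).1 hsepK
  have hspl : (fL.map (algebraMap L K)).Splits := by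
    rw [hmap]
    exact Polynomial.Splits.prod fun x _ => Polynomial.Splits.X_sub_C x
  let M : IntermediateField L K := IntermediateField.adjoin L (fL.rootSet K)
  haveI : fL.IsSplittingField L M := IntermediateField.adjoin_rootSet_isSplittingField hspl
  haveI : FiniteDimensional L M := Polynomial.IsSplittingField.finiteDimensional M fL
  haveI : IsGalois L M := IsGalois.of_separable_splitting_field (p := fL) hsep
  have hrootSet : fL.rootSet K = (RK : Set K) := by
    rw [rootSet, aroots, hmap, roots_prod_X_sub_C]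
    simp
  have hEKgen : EK = Algebra.adjoin A (RK : Set K) := by
    rw [show EK = E.map π from rfl, hE.eq_adjoin, AlgHom.map_adjoin, Finset.coe_image]
  have hEKM : ∀ x ∈ EK, x ∈ M := by
    intro x hx
    rw [hEKgen] at hx
    induction hx using Algebra.adjoin_induction with
    | mem y hy => exact IntermediateField.subset_adjoin L _ (hrootSet.symm ▸ hy)
    | algebraMap a => rw [IsScalarTower.algebraMap_apply A L K]; exact M.algebraMap_mem _
    | add y z _ _ hy hz => exact add_mem hy hz
    | mul y z _ _ hy hz => exact mul_mem hy hz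
  let θ : EK →ₐ[A] M :=
    { toFun := fun x => ⟨x, hEKM x x.2⟩
      map_one' := rfl
      map_mul' := fun _ _ => rfl
      map_zero' := rfl
      map_add' := fun _ _ => rfl
      commutes' := fun a => rfl }
  have hτroot : ∀ (τ : M ≃ₐ[L] M) (x : M), (x : K) ∈ RK → ((τ x : M) : K) ∈ RK := by
    intro τ x hx
    rw [← Finset.mem_coe, ← hrootSet, mem_rootSet_of_ne hsep.ne_zero] at hx ⊢
    have h1 : aeval x fL = 0 := Subtype.ext (by rw [← IntermediateField.coe_val, ← aeval_algHom_apply]; exact hx)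
    rw [← IntermediateField.coe_val, aeval_algHom_apply, aeval_algHom_apply τ, h1, map_zero, map_zero]
  have hτEK : ∀ (τ : M ≃ₐ[L] M) (x : EK), ((τ (θ x) : M) : K) ∈ EK := by
    intro τ x
    obtain ⟨x, hx⟩ := x
    have key : ∀ y, ∀ hy : y ∈ Algebra.adjoin A (RK : Set K), ∀ hyM : y ∈ M, ((τ ⟨y, hyM⟩ : M) : K) ∈ EK := by
      intro y hy
      induction hy using Algebra.adjoin_induction with
      | mem z hz =>
        intro hzM
        rw [hEKgen]
        exact Algebra.subset_adjoin (hτroot τ _ hz)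
      | algebraMap a =>
        intro hM
        rw [show (⟨algebraMap A K a, hM⟩ : M) = algebraMap L M (algebraMap A L a) from Subtype.ext rfl, τ.commutes]
        exact EK.algebraMap_mem a
      | add y z hy hz ihy ihz =>
        intro hM
        rw [show (⟨y + z, hM⟩ : M) = ⟨y, hEKM y (hEKgen ▸ hy)⟩ + ⟨z, hEKM z (hEKgen ▸ hz)⟩ from Subtype.ext rfl, map_add]
        exact EK.add_mem (ihy _) (ihz _)
      | mul y z hy hz ihy ihz =>
        intro hM
        rw [show (⟨y * z, hM⟩ : M) = ⟨y, hEKM y (hEKgen ▸ hy)⟩ * ⟨z, hEKM z (hEKgen ▸ hz)⟩ from Subtype.ext rfl, map_mul]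
        exact EK.mul_mem (ihy _) (ihz _)
    exact key x (hEKgen ▸ hx) _
  let ψ (τ : M ≃ₐ[L] M) : EK →ₐ[A] EK :=
    ((M.val.restrictScalars A).comp ((τ.toAlgHom.restrictScalars A).comp θ)).codRestrict EK (hτEK τ)
  have hψψ : ∀ (σ τ : M ≃ₐ[L] M) (x : EK), ψ σ (ψ τ x) = ψ (σ * τ) x := fun σ τ x => Subtype.ext rfl
  have hψ1 : ∀ x : EK, ψ 1 x = x := fun x => Subtype.ext rfl
  let φ : (M ≃ₐ[L] M) →* (EK ≃ₐ[A] EK) :=
    { toFun := fun τ => AlgEquiv.ofAlgHom (ψ τ) (ψ τ⁻¹)
        (AlgHom.ext fun x => by rw [AlgHom.comp_apply, hψψ, mul_inv_cancel, hψ1]; rfl)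
        (AlgHom.ext fun x => by rw [AlgHom.comp_apply, hψψ, inv_mul_cancel, hψ1]; rfl)
      map_one' := AlgEquiv.ext fun x => hψ1 x
      map_mul' := fun σ τ => AlgEquiv.ext fun x => (hψψ σ τ x).symm }
  have hfree : ∀ τ : M ≃ₐ[L] M, τ ≠ 1 → ∃ a : EK, IsUnit (φ τ a - a) := by
    intro τ hτ
    obtain ⟨x, hx, hxτ⟩ : ∃ x : M, (x : K) ∈ RK ∧ τ x ≠ x := by
      by_contra hc
      push Not at hc
      refine hτ (AlgEquiv.coe_algHom_injective (IntermediateField.adjoin_algHom_ext (F := L) fun x hx => hc ⟨x, IntermediateField.subset_adjoin L _ hx⟩ ?_))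
      rwa [← Finset.mem_coe, ← hrootSet]
    obtain ⟨r, hr, hrx⟩ := Finset.mem_image.1 hx
    obtain ⟨r', hr', hrx'⟩ := Finset.mem_image.1 (hτroot τ x hx)
    have hne : r' ≠ r := fun h => hxτ (Subtype.ext (by rw [← hrx', h, hrx]))
    have hrE : r ∈ E := hE.eq_adjoin ▸ Algebra.subset_adjoin hr
    have hrE' : r' ∈ E := hE.eq_adjoin ▸ Algebra.subset_adjoin hr'
    refine ⟨πE ⟨r, hrE⟩, ?_⟩
    have h1 : φ τ (πE ⟨r, hrE⟩) = πE ⟨r', hrE'⟩ := Subtype.ext (by
      show ((τ _ : M) : K) = π r'
      rw [hrx']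
      exact congrArg (fun w : M => ((τ w : M) : K)) (Subtype.ext hrx))
    rw [h1, ← map_sub]
    exact (IsLocalHom.map_nonunit (f := algebraMap E S) _ (hE.isUnit_sub r' hr' r hr hne)).map πE
  -- the invariants
  let DK : Subalgebra A EK :=
    { (L.toSubring.comap EK.val.toRingHom).toSubsemiring with algebraMap_mem' := fun a => hAL a }
  have hDK : ∀ x, x ∈ DK ↔ ∀ τ, φ τ x = x := by
    intro x
    constructor
    · intro hx τ
      refine Subtype.ext ?_
      show ((τ (θ x) : M) : K) = x
      rw [show θ x = algebraMap L M ⟨(x : K), hx⟩ from Subtype.ext rfl, τ.commutes]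
      rfl
    · intro hx
      have h1 : θ x ∈ (⊥ : IntermediateField L M) := (IsGalois.mem_bot_iff_fixed _).2 fun τ =>
        Subtype.ext (show ((τ (θ x) : M) : K) = (x : K) from congrArg (fun w : EK => (w : K)) (hx τ))
      obtain ⟨l, hl⟩ := IntermediateField.mem_bot.1 h1
      show (x : K) ∈ L
      rw [show (x : K) = (l : K) from (congrArg Subtype.val hl).symm]
      exact l.2
  haveI : IsLocalRing DK := FreeAct.isLocalRing φ DK hDK
  haveI hDKEK : IsLocalHom (algebraMap DK EK) := FreeAct.isLocalHom φ DK hDK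
  have hinj : Function.Injective (algebraMap (S ⧸ Q) K) := IsFractionRing.injective _ _
  -- comparison with `D'`
  have hmem : ∀ b : D', algebraMap (S ⧸ Q) K b ∈ EK := fun b => by
    obtain ⟨e, he, hb⟩ := hDE b b.2
    exact ⟨e, he, congrArg (algebraMap (S ⧸ Q) K) hb⟩
  let ι : D' →ₐ[A] DK :=
    { toFun := fun b => ⟨⟨_, hmem b⟩, (hD' b).1 b.2⟩
      map_one' := Subtype.ext (Subtype.ext (map_one _))
      map_mul' := fun _ _ => Subtype.ext (Subtype.ext (map_mul _ _ _))
      map_zero' := Subtype.ext (Subtype.ext (map_zero _))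
      map_add' := fun _ _ => Subtype.ext (Subtype.ext (map_add _ _ _))
      commutes' := fun a => Subtype.ext (Subtype.ext (IsScalarTower.algebraMap_apply A (S ⧸ Q) K a).symm) }
  have hι : Function.Bijective ι := by
    refine ⟨fun a b h => Subtype.ext (hinj (congrArg (fun z : DK => ((z : EK) : K)) h)), fun z => ?_⟩
    obtain ⟨e, he, hez⟩ := (z : EK).2
    refine ⟨⟨Ideal.Quotient.mk Q e, (hD' _).2 ?_⟩, Subtype.ext (Subtype.ext hez)⟩
    exact (show π e = ((z : EK) : K) from hez) ▸ z.2
  let eD : D' ≃ₐ[A] DK := AlgEquiv.ofBijective ι hι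
  haveI : Module.Finite A DK := Module.Finite.of_injective DK.val.toLinearMap Subtype.val_injective
  have hfin : Module.Finite A D' := Module.Finite.equiv eD.symm.toLinearEquiv
  have hDKm : (maximalIdeal A).map (algebraMap A DK) = maximalIdeal DK :=
    FreeAct.map_eq_maximalIdeal φ DK hDK hfree _ hEKm
  haveI : IsLocalHom (algebraMap A DK) := ⟨fun a ha => by
    have h1 := ha.map (algebraMap DK EK)
    rw [← IsScalarTower.algebraMap_apply] at h1
    exact isUnit_of_map_unit (algebraMap A EK) a h1⟩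
  haveI : IsScalarTower (ResidueField A) (ResidueField DK) (ResidueField EK) := by
    refine IsScalarTower.of_algebraMap_eq fun z => ?_
    obtain ⟨z, rfl⟩ := residue_surjective z
    exact congrArg (residue EK) (IsScalarTower.algebraMap_apply A DK EK z)
  haveI : Algebra.IsSeparable (ResidueField A) (ResidueField DK) :=
    Algebra.isSeparable_tower_bot_of_isSeparable (ResidueField A) (ResidueField DK) (ResidueField EK)
  have hunr : Algebra.FormallyUnramified A DK := Algebra.FormallyUnramified.of_map_maximalIdeal hDKm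
  refine ⟨hfin, Algebra.FormallyUnramified.of_equiv eD.symm, eD.symm.toRingEquiv.isLocalRing, fun l hl hlE => ?_, fun hQ => ?_⟩
  · have hset : ((fun e : S => algebraMap (S ⧸ Q) K (Ideal.Quotient.mk Q e)) '' (E : Set S)) = (EK.toSubring : Set K) := rfl
    rw [hset, Subfield.mem_closure_iff, Subring.closure_eq] at hlE
    obtain ⟨y, hy, z, hz, rfl⟩ := hlE
    by_cases hz0 : z = 0
    · exact ⟨0, D'.zero_mem, 1, D'.one_mem, by rw [map_one]; exact one_ne_zero, by simp [hz0]⟩
    let z' : EK := ⟨z, hz⟩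
    let y' : EK := ⟨y, hy⟩
    let n : EK := ∏ τ : M ≃ₐ[L] M, φ τ z'
    have hn : n ∈ DK := (hDK _).2 fun σ => by
      rw [map_prod]
      exact Fintype.prod_equiv (Equiv.mulLeft σ) _ _ fun τ => by rw [Equiv.coe_mulLeft, map_mul]; rfl
    have hn0 : (n : K) ≠ 0 := by
      show EK.val n ≠ 0
      rw [map_prod, Finset.prod_ne_zero_iff]
      intro τ _ h
      refine hz0 ?_
      have h1 : φ τ z' = 0 := Subtype.ext h
      exact congrArg Subtype.val ((map_eq_zero_iff _ (φ τ).injective).1 h1)
    have hsplit : (n : K) = z * ((∏ τ ∈ Finset.univ.erase (1 : M ≃ₐ[L] M), φ τ z' : EK) : K) := by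
      show EK.val n = _
      rw [show n = φ 1 z' * ∏ τ ∈ Finset.univ.erase 1, φ τ z' from
        (Finset.mul_prod_erase _ _ (Finset.mem_univ _)).symm, map_mul, map_one]
      rfl
    have hval : y / z * (n : K) = ((y' * ∏ τ ∈ Finset.univ.erase (1 : M ≃ₐ[L] M), φ τ z' : EK) : K) := by
      rw [hsplit, ← mul_assoc, div_mul_cancel₀ _ hz0]
      rfl
    have hm : (y' * ∏ τ ∈ Finset.univ.erase (1 : M ≃ₐ[L] M), φ τ z') ∈ DK := by
      show ((y' * ∏ τ ∈ Finset.univ.erase (1 : M ≃ₐ[L] M), φ τ z' : EK) : K) ∈ L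
      rw [← hval]
      exact mul_mem hl hn
    refine ⟨_, (eD.symm ⟨_, hm⟩).2, _, (eD.symm ⟨n, hn⟩).2, ?_, ?_⟩
    · rw [show algebraMap (S ⧸ Q) K (eD.symm ⟨n, hn⟩ : D') = (n : K) from
        congrArg (fun w : DK => ((w : EK) : K)) (eD.apply_symm_apply ⟨n, hn⟩)]
      exact hn0
    · rw [show algebraMap (S ⧸ Q) K (eD.symm ⟨n, hn⟩ : D') = (n : K) from
          congrArg (fun w : DK => ((w : EK) : K)) (eD.apply_symm_apply ⟨n, hn⟩),
        show algebraMap (S ⧸ Q) K (eD.symm ⟨_, hm⟩ : D') = _ from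
          congrArg (fun w : DK => ((w : EK) : K)) (eD.apply_symm_apply ⟨_, hm⟩)]
      exact hval
  · obtain ⟨hproj, hfinD⟩ := FreeAct.projective φ DK hDK hfree
    haveI := hproj
    haveI := hfinD
    have hπEinj : Function.Injective πE := fun a b h => by
      have h1 := hinj (congrArg Subtype.val h)
      refine Subtype.ext (sub_eq_zero.1 ?_)
      have h2 : (a : S) - b ∈ Q := (Ideal.Quotient.eq).1 h1
      rwa [hQ, Ideal.mem_bot] at h2
    haveI : Module.Flat A E := flat_of_isEssentiallyEtale (hE.essEt hE.isLocalRing)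
    haveI : Module.Flat A EK := Module.Flat.of_linearEquiv (LinearEquiv.ofBijective πE.toLinearMap ⟨hπEinj, hπE⟩).symm
    haveI : Module.FaithfullyFlat DK EK := Module.FaithfullyFlat.of_flat_of_isLocalHom
    haveI : Module.Flat A DK := Groth.EtaleAlgebra.flat_of_faithfullyFlat_target A DK EK
    exact Module.Flat.of_linearEquiv eD.toLinearEquiv

end Groth.Ega4Algebra2.GaloisStage
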