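import Groth.Agent.Ega4Algebra2.StrictResidueField
import Groth.Agent.Ega4Algebra2.ResidueShortcut
import Mathlib

/-! The ring of residual lifts inside the strict henselization is Noetherian. -/

set_option autoImplicit false
universe u

open IsLocalRing EGA4loc Polynomial
open scoped Groth.Ega4Algebra2.ResidueShortcut

namespace Groth.Ega4Algebra2.StrictNoetherian

open GaloisStage StrictResidue StrictBranch

variable {A S : Type u} [CommRing A] [HenselianLocalRing A] [IsNoetherianRing A]
  [CommRing S] [IsLocalRing S] [Algebra A S]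
  [IsLocalHom (algebraMap A S)] [Hensel.IsStrictHenselization A S]

/-- The subalgebra generated by the simple roots in an intermediate ring. -/
noncomputable def lifts (D : Subalgebra A S) : Subalgebra A S :=
  Algebra.adjoin A {t | t ∈ D ∧ IsEtaleElem A t}

omit [IsNoetherianRing A] in
theorem resField_le_lifts (D : Subalgebra A S) : resField D ≤ resField (lifts D) := fun y hy => by
  obtain ⟨t, htD, ht, rfl⟩ := exists_etale_lift D hy
  exact mem_resField.2 ⟨t, Algebra.subset_adjoin ⟨htD, ht⟩, rfl⟩

omit [IsNoetherianRing A] in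
theorem lifts_le (D : Subalgebra A S) : lifts D ≤ D := Algebra.adjoin_le fun _ ht => ht.1

omit [HenselianLocalRing A] [IsNoetherianRing A] [IsLocalRing S] [IsLocalHom (algebraMap A S)]
  [Hensel.IsStrictHenselization A S] in
theorem exists_finset_adjoin {G : Set S} {x : S} (hx : x ∈ Algebra.adjoin A G) :
    ∃ u : Finset S, (u : Set S) ⊆ G ∧ x ∈ Algebra.adjoin A (u : Set S) := by
  classical
  induction hx using Algebra.adjoin_induction with
  | mem y hy => exact ⟨{y}, by simpa using hy, Algebra.subset_adjoin (by simp)⟩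
  | algebraMap a => exact ⟨∅, by simp, Subalgebra.algebraMap_mem _ a⟩
  | add y z _ _ hy hz =>
    obtain ⟨u, hu, hyu⟩ := hy
    obtain ⟨v, hv, hzv⟩ := hz
    exact ⟨u ∪ v, by simp [hu, hv], add_mem
      (Algebra.adjoin_mono (by simp) hyu) (Algebra.adjoin_mono (by simp) hzv)⟩
  | mul y z _ _ hy hz =>
    obtain ⟨u, hu, hyu⟩ := hy
    obtain ⟨v, hv, hzv⟩ := hz
    exact ⟨u ∪ v, by simp [hu, hv], mul_mem
      (Algebra.adjoin_mono (by simp) hyu) (Algebra.adjoin_mono (by simp) hzv)⟩

/-- The ring of residual lifts is Noetherian. -/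
theorem isNoetherianRing_lifts (D : Subalgebra A S) : IsNoetherianRing (lifts D) := by
  classical
  haveI := StrictResidue.isNoetherianRing (A := A) (S := S)
  have hcontr : ∀ I : Ideal (lifts D), (I.map (algebraMap (lifts D) S)).comap (algebraMap (lifts D) S) = I := by
    intro I
    refine le_antisymm (fun x hx => ?_) Ideal.le_comap_map
    obtain ⟨n, cs, gs, hsum⟩ := Submodule.mem_span_set'.1 (Ideal.mem_comap.1 hx)
    choose ik hik hik' using fun k => (gs k).2
    have hfin : ∀ d : lifts D, ∃ u : Finset S, (u : Set S) ⊆ {t | t ∈ D ∧ IsEtaleElem A t} ∧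
        (d : S) ∈ Algebra.adjoin A (u : Set S) := fun d => exists_finset_adjoin d.2
    choose U hU hUd using hfin
    let s : Finset S := insert (x : S) (Finset.univ.image cs ∪ (U x ∪ Finset.univ.biUnion fun k => U (ik k)))
    obtain ⟨f, R, E, hE, hsE⟩ := exists_galoisStage (A := A) s
    haveI := hE.isLocalRing
    haveI := hE.isLocalHom
    haveI := hE.isLocalHom_algebraMap inferInstance
    haveI := finite_aut hE
    let H : Subgroup (E ≃ₐ[A] E) :=
      { carrier := {g | ∀ e, residue E e ∈ stageField E (resField D) → residue E (g e) = residue E e}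
        one_mem' := fun e _ => rfl
        mul_mem' := fun {g g'} hg hg' e he => by
          show residue E (g (g' e)) = _
          rw [hg (g' e) (by rw [hg' e he]; exact he), hg' e he]
        inv_mem' := fun {g} hg e he => by
          show residue E (g.symm e) = _
          obtain ⟨σ, hσ⟩ := exists_residue hE g
          apply σ.injective
          rw [hσ, hσ, g.apply_symm_apply, hg e he] }
    haveI := Fintype.ofFinite H
    let φ : H →* (E ≃ₐ[A] E) := H.subtype
    let B : Subalgebra A E :=
      { carrier := {e | ∀ g : H, φ g e = e}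
        mul_mem' := fun {a b} ha hb g => by rw [map_mul, ha g, hb g]
        add_mem' := fun {a b} ha hb g => by rw [map_add, ha g, hb g]
        algebraMap_mem' := fun a g => AlgEquiv.commutes _ a }
    have hB : ∀ e, e ∈ B ↔ ∀ g : H, φ g e = e := fun e => Iff.rfl
    have hfree : ∀ g : H, g ≠ 1 → ∃ a : E, IsUnit (φ g a - a) := by
      intro g hg
      by_contra hc
      push Not at hc
      refine hg (Subtype.ext (eq_one_of_residue hE _ fun e => sub_eq_zero.1 ?_))
      rw [← map_sub, residue_eq_zero_iff]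
      exact hc e
    have hUE : ∀ d : lifts D, U d ⊆ s → ∃ he : (d : S) ∈ E, (⟨d, he⟩ : E) ∈ B := by
      intro d hd
      suffices key : Algebra.adjoin A (U d : Set S) ≤ B.map E.val by
        obtain ⟨b, hb, hbd⟩ := key (hUd d)
        exact ⟨hbd ▸ b.2, by rwa [show (⟨(d : S), hbd ▸ b.2⟩ : E) = b from Subtype.ext hbd.symm]⟩
      refine Algebra.adjoin_le fun t ht => ⟨⟨t, hsE (hd ht)⟩, fun g => ?_, rfl⟩
      refine IsEtaleElem.map_eq (IsEtaleElem.of_subalgebra E (t := (⟨t, hsE (hd ht)⟩ : E)) (hU d ht).2) g.1.toAlgHom ?_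
      exact g.2 _ ((residue_mem_stageField E _ _).2 (mem_resField.2 ⟨t, (hU d ht).1, rfl⟩))
    obtain ⟨c, hc⟩ := FreeAct.exists_tr_eq_one φ B hB hfree
    have hcs : ∀ k, cs k ∈ E := fun k => hsE (Finset.mem_insert_of_mem
      (Finset.mem_union_left _ (Finset.mem_image_of_mem _ (Finset.mem_univ k))))
    obtain ⟨hxE, hxB⟩ := hUE x fun t ht => Finset.mem_insert_of_mem
      (Finset.mem_union_right _ (Finset.mem_union_left _ ht))
    choose hiE hiB using fun k => hUE (ik k) fun t ht => Finset.mem_insert_of_mem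
      (Finset.mem_union_right _ (Finset.mem_union_right _ (Finset.mem_biUnion.2 ⟨k, Finset.mem_univ _, ht⟩)))
    have hx' : (⟨(x : S), hxE⟩ : E) = ∑ k, (⟨_, hiE k⟩ : E) * FreeAct.tr φ (c * ⟨cs k, hcs k⟩) := by
      have h1 : (⟨(x : S), hxE⟩ : E) = ∑ k, (⟨_, hiE k⟩ : E) * ⟨cs k, hcs k⟩ := by
        refine Subtype.ext ?_
        rw [← Subalgebra.coe_val, map_sum]
        show (algebraMap (lifts D) S x) = _
        rw [← hsum]
        refine Finset.sum_congr rfl fun k _ => ?_
        rw [smul_eq_mul, ← hik' k, mul_comm]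
        rfl
      calc (⟨(x : S), hxE⟩ : E) = (⟨(x : S), hxE⟩ : E) * FreeAct.tr φ c := by rw [hc, mul_one]
        _ = FreeAct.tr φ ((⟨(x : S), hxE⟩ : E) * c) := (FreeAct.tr_mul φ _ _ fun g => hxB g).symm
        _ = _ := by
          rw [h1, Finset.sum_mul, map_sum]
          refine Finset.sum_congr rfl fun k _ => ?_
          rw [mul_assoc, mul_comm (⟨cs k, hcs k⟩ : E) c, FreeAct.tr_mul φ _ _ fun g => hiB k g]
    have htr : ∀ e : E, (FreeAct.tr φ e : S) ∈ lifts D := fun e =>
      fix_of_residue hE (lifts D) _ fun g hg => by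
        have hgH : g ∈ H := fun e' he' => hg e' ((residue_mem_stageField E _ _).2
          (resField_le_lifts D ((residue_mem_stageField E _ _).1 he')))
        exact (hB _).1 (FreeAct.tr_mem φ B hB e) ⟨g, hgH⟩
    have hxsum : x = ∑ k, ik k * ⟨_, htr (c * ⟨cs k, hcs k⟩)⟩ := by
      refine Subtype.ext ?_
      have h2 := congrArg E.val hx'
      rw [map_sum] at h2
      show (lifts D).val x = (lifts D).val _
      rw [map_sum]
      exact h2
    rw [hxsum]
    exact I.sum_mem fun k _ => I.mul_mem_right _ (hik k)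
  rw [isNoetherianRing_iff, isNoetherian_iff']
  exact (OrderEmbedding.ofMapLEIff (fun I : Ideal (lifts D) => I.map (algebraMap (lifts D) S))
    fun I J => ⟨fun h => by rw [← hcontr I, ← hcontr J]; exact Ideal.comap_mono h, Ideal.map_mono⟩).wellFoundedGT

/-- An intermediate ring is Noetherian if the residues of its fractions generate a finite extension of its
residue field. -/
theorem isNoetherianRing_of_residues [IsReduced A] (D : Subalgebra A S) (T : Finset S)
    (h : ∀ (K : Type u) [Field K] [Algebra A K] (π : S →ₐ[A] K), RingHom.ker π ∈ minimalPrimes S →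
      ∀ (y : ResidueField S) (c : K), c ∈ Subfield.closure (π '' (D : Set S)) →
        Agree π y c → y ∈ resField (Algebra.adjoin A ((lifts D : Set S) ∪ T))) :
    IsNoetherianRing D := by
  haveI := StrictResidue.isIntegral (A := A) (S := S)
  let D0 := lifts D
  haveI : IsNoetherianRing D0 := isNoetherianRing_lifts D
  let G : Subalgebra D0 S := Algebra.adjoin D0 (T : Set S)
  haveI : Module.Finite D0 G := Module.Finite.iff_fg.2 (fg_adjoin_of_finite T.finite_toSet fun t _ =>
    (Algebra.IsIntegral.isIntegral (R := A) t).tower_top)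
  haveI : IsNoetherian D0 G := isNoetherian_of_isNoetherianRing_of_finite D0 G
  have hle : ∀ x ∈ D, x ∈ G := by
    intro x hx
    have h1 := StrictResidueField.mem_of_residues D _ h x hx
    exact (Algebra.adjoin_le (S := G.restrictScalars A) (by
      rintro t (ht | ht)
      · exact G.algebraMap_mem (⟨t, ht⟩ : D0)
      · exact Algebra.subset_adjoin ht)) h1
  letI : Algebra D0 D := (Subalgebra.inclusion (lifts_le D)).toRingHom.toAlgebra
  let j : D →ₗ[D0] G :=
    { toFun := fun d => ⟨d, hle _ d.2⟩
      map_add' := fun _ _ => rfl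
      map_smul' := fun a d => Subtype.ext rfl }
  haveI : IsNoetherian D0 D := isNoetherian_of_injective j fun a b hab =>
    Subtype.ext (congrArg (fun z : G => (z : S)) hab)
  exact isNoetherian_of_tower D0 inferInstance

end Groth.Ega4Algebra2.StrictNoetherian

namespace Groth.Ega4Algebra2.StrictNoetherian

open GaloisStage StrictResidue StrictBranch StrictResidueField

variable {A S : Type u} [CommRing A] [HenselianLocalRing A] [IsNoetherianRing A] [IsReduced A]
  [CommRing S] [IsLocalRing S] [Algebra A S]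
  [IsLocalHom (algebraMap A S)] [Hensel.IsStrictHenselization A S]

omit [IsNoetherianRing A] [IsReduced A] [IsLocalHom (algebraMap A S)] [Hensel.IsStrictHenselization A S] in
theorem agree_of_injective {K L : Type u} [Field K] [Algebra A K] [Field L] [Algebra A L] (π : S →ₐ[A] K)
    (j : K →ₐ[A] L) {y : ResidueField S} {c : K} (h : Agree (j.comp π) y (j c)) : Agree π y c := by
  obtain ⟨s, hs, f, hm, hco, hf⟩ := h
  refine ⟨s, hs, f, hm, hco, j.toRingHom.injective ?_⟩
  show j (aeval (π s - c) f) = j.toRingHom 0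
  rw [map_zero, ← aeval_algHom_apply, map_sub]
  exact hf

/-- Finite separable closures of the residue fields make an intermediate ring Noetherian. -/
theorem isNoetherianRing_of_finiteDimensional (D : Subalgebra A S)
    (h : ∀ (M : Ideal (integralClosure D (FractionRing D))) [M.IsMaximal],
      ∃ s : Finset M.ResidueField, (∀ r ∈ s, IsSeparable (k0 D M) r) ∧
        ∀ r, IsSeparable (k0 D M) r → r ∈ Submodule.span (k0 D M) (s : Set M.ResidueField)) :
    IsNoetherianRing D := by
  classical
  haveI := StrictResidue.isNoetherianRing (A := A) (S := S)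
  haveI := (minimalPrimes.finite_of_isNoetherianRing S).to_subtype
  haveI := Fintype.ofFinite (minimalPrimes S)
  haveI : ∀ Q : minimalPrimes S, Q.1.IsPrime := fun Q => Ideal.minimalPrimes_isPrime Q.2
  let π : ∀ Q : minimalPrimes S, S →ₐ[A] FractionRing (S ⧸ Q.1) := fun Q =>
    (IsScalarTower.toAlgHom A (S ⧸ Q.1) (FractionRing (S ⧸ Q.1))).comp (Ideal.Quotient.mkₐ A Q.1)
  have hker : ∀ Q : minimalPrimes S, RingHom.ker (π Q) = Q.1 := fun Q => ker_toAlgHom_quotient Q.1
  choose ψ hψ using fun Q : minimalPrimes S => exists_frac D (π Q) ((hker Q).symm ▸ Q.2)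
  choose N hN hNz using fun Q : minimalPrimes S => exists_maximal D (ψ Q)
  haveI := hN
  choose s hss hspan using fun Q : minimalPrimes S => h (N Q)
  have hlift : ∀ (Q : minimalPrimes S) (r : {r // r ∈ s Q}), ∃ (w : integralClosure D (FractionRing D)) (t : S),
      algebraMap _ (N Q).ResidueField w = r.1 ∧ Agree (π Q) (residue S t) (ψ Q (w : FractionRing D)) := by
    intro Q r
    obtain ⟨q, hq⟩ := (Ideal.bijective_algebraMap_quotient_residueField (N Q)).2 r.1
    obtain ⟨w, rfl⟩ := Ideal.Quotient.mk_surjective q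
    obtain ⟨y, hy⟩ := exists_agree D (N Q) (π Q) (ψ Q) (hψ Q) (hNz Q) w
      (by rw [show algebraMap _ (N Q).ResidueField w = r.1 from hq]; exact hss Q _ r.2)
    obtain ⟨t, rfl⟩ := residue_surjective y
    exact ⟨w, t, hq, hy⟩
  choose w t hw ht using hlift
  let T : Finset S := Finset.univ.biUnion fun Q => (s Q).attach.image (t Q)
  refine isNoetherianRing_of_residues D T fun L _ _ π' hπ' y c hc hy => ?_
  let Q : minimalPrimes S := ⟨RingHom.ker π', hπ'⟩
  let j₀ : S ⧸ Q.1 →ₐ[A] L := Ideal.Quotient.liftₐ Q.1 π' fun a ha => ha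
  have hj₀ : Function.Injective j₀ :=
    RingHom.lift_injective_of_ker_le_ideal Q.1 (f := π'.toRingHom) (fun a ha => ha) le_rfl
  let j : FractionRing (S ⧸ Q.1) →ₐ[A] L := IsFractionRing.liftAlgHom hj₀
  have hjπ : j.comp (π Q) = π' := AlgHom.ext fun a => IsFractionRing.lift_algebraMap hj₀ (Ideal.Quotient.mk Q.1 a)
  obtain ⟨c₀, hc₀, rfl⟩ : ∃ c₀ ∈ Subfield.closure (π Q '' (D : Set S)), j c₀ = c := by
    have hle : Subfield.closure (π' '' (D : Set S)) ≤ (Subfield.closure (π Q '' (D : Set S))).map j.toRingHom :=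
      Subfield.closure_le.2 (by
        rintro _ ⟨d, hd, rfl⟩
        exact ⟨π Q d, Subfield.subset_closure ⟨d, hd, rfl⟩, AlgHom.congr_fun hjπ d⟩)
    exact hle hc
  refine residue_mem_of_span D _ (fun y hy => ?_) (π Q) ((hker Q).symm ▸ Q.2) (ψ Q) (hψ Q) (N Q) (hNz Q)
    (s Q) (hspan Q) (fun r hr => ⟨w Q ⟨r, hr⟩, _, hw Q ⟨r, hr⟩, ht Q ⟨r, hr⟩, mem_resField.2
      ⟨t Q ⟨r, hr⟩, Algebra.subset_adjoin (Or.inr (Finset.mem_biUnion.2 ⟨Q, Finset.mem_univ _,
        Finset.mem_image.2 ⟨⟨r, hr⟩, Finset.mem_attach _ _, rfl⟩⟩)), rfl⟩⟩)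
    y c₀ hc₀ (agree_of_injective (π Q) j (hjπ.symm ▸ hy))
  obtain ⟨d, hd, rfl⟩ := mem_resField.1 (resField_le_lifts D hy)
  exact mem_resField.2 ⟨d, Algebra.subset_adjoin (Or.inl hd), rfl⟩

end Groth.Ega4Algebra2.StrictNoetherian

namespace Groth.Ega4Algebra2.StrictNoetherian

open GaloisStage StrictResidue StrictBranch StrictResidueField

variable {A S : Type u} [CommRing A] [HenselianLocalRing A] [IsNoetherianRing A] [IsReduced A]
  [CommRing S] [IsLocalRing S] [Algebra A S]
  [IsLocalHom (algebraMap A S)] [Hensel.IsStrictHenselization A S]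

/-- Finite separable closures make an intermediate ring Noetherian. -/
theorem isNoetherianRing_of_separableClosure (D : Subalgebra A S)
    (h : ∀ (M : Ideal (integralClosure D (FractionRing D))) [M.IsMaximal],
      FiniteDimensional (k0 D M) (separableClosure (k0 D M) M.ResidueField)) :
    IsNoetherianRing D := by
  classical
  refine isNoetherianRing_of_finiteDimensional D fun M hM => ?_
  haveI := h M
  obtain ⟨T, hT⟩ := Module.Finite.fg_top (R := k0 D M) (M := separableClosure (k0 D M) M.ResidueField)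
  refine ⟨T.image fun r : separableClosure (k0 D M) M.ResidueField => (r : M.ResidueField), fun r hr => ?_, fun r hr => ?_⟩
  · obtain ⟨r, -, rfl⟩ := Finset.mem_image.1 hr
    exact mem_separableClosure_iff.1 r.2
  · have h1 : (⟨r, mem_separableClosure_iff.2 hr⟩ : separableClosure (k0 D M) M.ResidueField) ∈
        Submodule.span (k0 D M) (T : Set (separableClosure (k0 D M) M.ResidueField)) := hT ▸ Submodule.mem_top
    have h2 := Submodule.mem_map_of_mem (f := (separableClosure (k0 D M) M.ResidueField).val.toLinearMap) h1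
    rw [Submodule.map_span] at h2
    rw [Finset.coe_image]
    exact h2

end Groth.Ega4Algebra2.StrictNoetherian
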