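import Groth.Agent.Ega4Algebra2.StrictBranch
import Groth.Agent.Ega4Algebra2.ResidueShortcut
import Mathlib

/-! Residue fields of the normalization of an intermediate ring, compared with residues in the strict
henselization; and the Noetherian property of the rings of residual lifts. -/

set_option autoImplicit false
universe u

open IsLocalRing EGA4loc Polynomial
open scoped Groth.Ega4Algebra2.ResidueShortcut

namespace Groth.Ega4Algebra2

namespace StrictResidue

variable {A S : Type u} [CommRing A] [HenselianLocalRing A] [CommRing S] [IsLocalRing S] [Algebra A S]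
  [IsLocalHom (algebraMap A S)] [Hensel.IsStrictHenselization A S]

theorem agree_add {K : Type u} [Field K] [Algebra A K] (π : S →ₐ[A] K) {y y' : ResidueField S} {c c' : K}
    (h : Agree π y c) (h' : Agree π y' c') : Agree π (y + y') (c + c') := by
  obtain ⟨s, rfl, hs⟩ := h
  obtain ⟨s', rfl, hs'⟩ := h'
  refine ⟨s + s', map_add _ _ _, ?_⟩
  rw [map_add, add_sub_add_comm]
  exact isSmallElem_add hs hs'

theorem agree_mul {K : Type u} [Field K] [Algebra A K] (π : S →ₐ[A] K) {y y' : ResidueField S} {c c' : K}
    (h : Agree π y c) (h' : Agree π y' c') : Agree π (y * y') (c * c') := by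
  haveI := isLocalRing_integralClosure (A := A) (K := K)
  haveI := StrictResidue.isIntegral (A := A) (S := S)
  obtain ⟨s, rfl⟩ := residue_surjective y
  obtain ⟨s', rfl⟩ := residue_surjective y'
  let d : integralClosure A K := ⟨c, Agree.isIntegral π h⟩
  let d' : integralClosure A K := ⟨c', Agree.isIntegral π h'⟩
  rw [← map_mul]
  refine (agree_iff π (s * s') (d * d')).2 fun hi => ?_
  let g : S →ₐ[A] integralClosure A K :=
    π.codRestrict (integralClosure A K) fun x => (Algebra.IsIntegral.isIntegral (R := A) x).map π
  show residue _ (g (s * s')) = _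
  rw [map_mul, map_mul, map_mul]
  exact congrArg₂ (· * ·) ((agree_iff π s d).1 h (g s).2) ((agree_iff π s' d').1 h' (g s').2)

end StrictResidue

namespace StrictResidueField

open StrictResidue

variable {A S : Type u} [CommRing A] [HenselianLocalRing A] [IsNoetherianRing A] [IsReduced A]
  [CommRing S] [IsLocalRing S] [Algebra A S]
  [IsLocalHom (algebraMap A S)] [Hensel.IsStrictHenselization A S]
  (D : Subalgebra A S) (M : Ideal (integralClosure D (FractionRing D))) [M.IsMaximal]

/-- The normalization of an intermediate ring. -/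
local notation "𝔅" => integralClosure D (FractionRing D)

/-- The subfield of the residue field generated by the intermediate ring. -/
noncomputable abbrev k0 : Subfield M.ResidueField :=
  Subfield.closure (Set.range ((algebraMap (integralClosure D (FractionRing D)) M.ResidueField).comp
    (algebraMap D (integralClosure D (FractionRing D)))))

variable {K : Type u} [Field K] [Algebra A K] (π : S →ₐ[A] K) (ψ : FractionRing D →ₐ[A] K)

omit [IsNoetherianRing A] [IsReduced A] in
theorem res_eq_iff (z z' : integralClosure D (FractionRing D)) :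
    algebraMap _ M.ResidueField z = algebraMap _ M.ResidueField z' ↔ z - z' ∈ M := by
  rw [← sub_eq_zero, ← map_sub, Ideal.algebraMap_residueField_eq_zero]

variable (hψ : ∀ d : D, ψ (algebraMap D (FractionRing D) d) = π d)
  (hM : ∀ z : integralClosure D (FractionRing D), z ∈ M ↔ IsSmallElem A (ψ (z : FractionRing D)))

include hψ hM

theorem exists_of_mem_k0 (r : M.ResidueField) (hr : r ∈ k0 D M) :
    ∃ d : D, algebraMap _ M.ResidueField (algebraMap D (integralClosure D (FractionRing D)) d) = r := by
  obtain ⟨hD, hloc⟩ := StrictBranch.henselian D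
  haveI := hD
  haveI := StrictResidue.isIntegral (A := A) (S := S)
  haveI := StrictBranch.isIntegral_subalgebra D
  let f : D →+* M.ResidueField := (algebraMap (integralClosure D (FractionRing D)) M.ResidueField).comp
    (algebraMap D (integralClosure D (FractionRing D)))
  let F : Subfield M.ResidueField :=
    { f.range with
      inv_mem' := by
        rintro _ ⟨d, rfl⟩
        by_cases hd : IsUnit d
        · exact ⟨↑hd.unit⁻¹, eq_inv_of_mul_eq_one_right (by rw [← map_mul, hd.mul_val_inv, map_one])⟩
        · refine ⟨0, ?_⟩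
          have h0 : f d = 0 := by
            show algebraMap _ M.ResidueField (algebraMap D (integralClosure D (FractionRing D)) d) = 0
            rw [Ideal.algebraMap_residueField_eq_zero, hM]
            show IsSmallElem A (ψ (algebraMap D (FractionRing D) d))
            rw [hψ]
            exact isSmallElem_of_not_isUnit (π.comp D.val) hd
          rw [map_zero, h0, inv_zero] }
  have hle : k0 D M ≤ F := Subfield.closure_le.2 fun x hx => hx
  exact hle hr

/-- A separable residue comes from the strict henselization. -/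
theorem exists_agree (z : integralClosure D (FractionRing D))
    (hz : IsSeparable (k0 D M) (algebraMap _ M.ResidueField z)) :
    ∃ y, Agree π y (ψ (z : FractionRing D)) := by
  haveI := StrictResidue.isIntegral (A := A) (S := S)
  haveI := (inferInstance : Hensel.IsStrictHenselization A S).isSepClosure.separable
  let f : A →+* M.ResidueField := (algebraMap 𝔅 M.ResidueField).comp (algebraMap A 𝔅)
  have hsmallM : ∀ (P : A[X]) (w : 𝔅), aeval (algebraMap 𝔅 M.ResidueField w) P = 0 →
      IsSmallElem A (aeval (ψ (w : FractionRing D)) P) := by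
    intro P w hw
    rw [aeval_algebraMap_apply, Ideal.algebraMap_residueField_eq_zero, hM] at hw
    rw [show aeval (ψ (w : FractionRing D)) P = (ψ.comp (((integralClosure D (FractionRing D)).val).restrictScalars A)) (aeval w P) from
      aeval_algHom_apply (ψ.comp (((integralClosure D (FractionRing D)).val).restrictScalars A)) w P]
    exact hw
  haveI : IsLocalHom f := ⟨fun a ha => by
    by_contra hna
    refine ha.ne_zero ?_
    show algebraMap 𝔅 M.ResidueField (algebraMap A 𝔅 a) = 0
    rw [Ideal.algebraMap_residueField_eq_zero, hM]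
    show IsSmallElem A (ψ (algebraMap A (FractionRing D) a))
    rw [ψ.commutes, ← π.commutes]
    exact isSmallElem_of_not_isUnit π fun hu => hna (isUnit_of_map_unit (algebraMap A S) a hu)⟩
  letI : Algebra (ResidueField A) M.ResidueField := (ResidueField.lift f).toAlgebra
  haveI : IsScalarTower A (ResidueField A) M.ResidueField := IsScalarTower.of_algebraMap_eq fun a => by
    show algebraMap A M.ResidueField a = ResidueField.lift f (residue A a)
    rw [IsScalarTower.algebraMap_apply A 𝔅 M.ResidueField]
    rfl
  let Fs := separableClosure (ResidueField A) M.ResidueField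
  have hgen : ∀ d : D, algebraMap 𝔅 M.ResidueField (algebraMap D 𝔅 d) ∈ Fs := fun d => by
    rw [mem_separableClosure_iff]
    have hint := Algebra.IsSeparable.isIntegral (ResidueField A) (residue S (d : S))
    obtain ⟨P, hP, -, -⟩ := lifts_and_degree_eq_and_monic
      (show minpoly (ResidueField A) (residue S (d : S)) ∈ lifts (residue A) from
        map_surjective (residue A) residue_surjective _) (minpoly.monic hint)
    refine Polynomial.Separable.of_dvd (Algebra.IsSeparable.isSeparable (ResidueField A) (residue S (d : S)))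
      (minpoly.dvd _ _ ?_)
    rw [← hP, ← ResidueField.algebraMap_eq, aeval_map_algebraMap, aeval_algebraMap_apply,
      Ideal.algebraMap_residueField_eq_zero, hM]
    show IsSmallElem A (((ψ.comp (((integralClosure D (FractionRing D)).val).restrictScalars A))) (aeval (algebraMap D 𝔅 d) P))
    rw [← aeval_algHom_apply]
    show IsSmallElem A (aeval (ψ (algebraMap D (FractionRing D) d)) P)
    rw [hψ, aeval_algHom_apply]
    refine isSmallElem_of_not_isUnit π fun hu => (residue_ne_zero_iff_isUnit _).2 hu ?_
    rw [aeval_def, hom_eval₂, show (residue S).comp (algebraMap A S) =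
      (algebraMap (ResidueField A) (ResidueField S)).comp (residue A) from rfl, ← eval₂_map, hP]
    exact minpoly.aeval _ _
  have hle : k0 D M ≤ Fs.toSubfield := Subfield.closure_le.2 (by rintro _ ⟨d, rfl⟩; exact hgen d)
  let i : k0 D M →+* Fs := Subfield.inclusion hle
  have hz' : IsSeparable Fs (algebraMap 𝔅 M.ResidueField z) := by
    refine Polynomial.Separable.of_dvd (Polynomial.Separable.map (f := i) hz) (minpoly.dvd _ _ ?_)
    rw [aeval_def, eval₂_map]
    exact minpoly.aeval (k0 D M) _
  have hzk : IsSeparable (ResidueField A) (algebraMap 𝔅 M.ResidueField z) :=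
    IsSeparable.of_algebra_isSeparable_of_isSeparable (ResidueField A) (E := Fs) hz'
  obtain ⟨P, hP, -, -⟩ := lifts_and_degree_eq_and_monic
    (show minpoly (ResidueField A) (algebraMap 𝔅 M.ResidueField z) ∈ lifts (residue A) from
      map_surjective (residue A) residue_surjective _) (minpoly.monic hzk.isIntegral)
  refine exists_agree_of_separable π _ ((isIntegral_normalisation D z).map ψ) P (hP.symm ▸ hzk) (hsmallM P z ?_)
  rw [← aeval_map_algebraMap (ResidueField A), ResidueField.algebraMap_eq, hP]
  exact minpoly.aeval _ _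

/-- A residue coming from the strict henselization is separable. -/
theorem isSeparable_of_agree (z : integralClosure D (FractionRing D)) {y : ResidueField S}
    (hy : Agree π y (ψ (z : FractionRing D))) :
    IsSeparable (k0 D M) (algebraMap _ M.ResidueField z) := by
  haveI := StrictResidue.isIntegral (A := A) (S := S)
  haveI := (inferInstance : Hensel.IsStrictHenselization A S).isSepClosure.separable
  have hy' := Algebra.IsSeparable.isSeparable (ResidueField A) y
  obtain ⟨P, hP, -, -⟩ := lifts_and_degree_eq_and_monic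
    (show minpoly (ResidueField A) y ∈ lifts (residue A) from
      map_surjective (residue A) residue_surjective _) (minpoly.monic hy'.isIntegral)
  let g : A →+* k0 D M :=
    ((algebraMap 𝔅 M.ResidueField).comp (algebraMap A 𝔅)).codRestrict (k0 D M) fun a =>
      Subfield.subset_closure ⟨algebraMap A D a, congrArg (algebraMap 𝔅 M.ResidueField)
        (IsScalarTower.algebraMap_apply A D 𝔅 a).symm⟩
  haveI : IsLocalHom g := ⟨fun a ha => by
    by_contra hna
    refine (ha.map (k0 D M).subtype).ne_zero ?_
    show algebraMap 𝔅 M.ResidueField (algebraMap A 𝔅 a) = 0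
    rw [Ideal.algebraMap_residueField_eq_zero, hM]
    show IsSmallElem A (ψ (algebraMap A (FractionRing D) a))
    rw [ψ.commutes, ← π.commutes]
    exact isSmallElem_of_not_isUnit π fun hu => hna (isUnit_of_map_unit (algebraMap A S) a hu)⟩
  refine Polynomial.Separable.of_dvd (f := P.map g) ?_ (minpoly.dvd _ _ ?_)
  · rw [show g = (ResidueField.lift g).comp (residue A) from RingHom.ext fun a => rfl, ← Polynomial.map_map, hP]
    exact Polynomial.Separable.map hy'
  · rw [aeval_def, eval₂_map,
      show (algebraMap (k0 D M) M.ResidueField).comp g = algebraMap A M.ResidueField from RingHom.ext fun a =>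
        (IsScalarTower.algebraMap_apply A 𝔅 M.ResidueField a).symm,
      ← aeval_def, aeval_algebraMap_apply, Ideal.algebraMap_residueField_eq_zero, hM]
    show IsSmallElem A ((ψ.comp (((integralClosure D (FractionRing D)).val).restrictScalars A)) (aeval z P))
    rw [← aeval_algHom_apply]
    obtain ⟨s, rfl⟩ := residue_surjective y
    refine (agree_zero_iff π).1 ?_
    rw [show (0 : ResidueField S) = residue S (aeval s P) from by
      rw [aeval_def, hom_eval₂, show (residue S).comp (algebraMap A S) =
        (algebraMap (ResidueField A) (ResidueField S)).comp (residue A) from rfl, ← eval₂_map, hP]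
      exact (minpoly.aeval _ _).symm]
    exact agree_aeval π hy P

/-- Elements with equal residues in the residue field agree alike. -/
theorem agree_congr (z z' : integralClosure D (FractionRing D))
    (h : algebraMap _ M.ResidueField z = algebraMap _ M.ResidueField z') {y : ResidueField S}
    (hy : Agree π y (ψ (z : FractionRing D))) : Agree π y (ψ (z' : FractionRing D)) := by
  refine hy.congr π ?_
  rw [← map_sub]
  exact (hM (z - z')).1 ((res_eq_iff D M z z').1 h)

end StrictResidueField

namespace StrictResidueField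

open StrictResidue StrictBranch GaloisStage

variable {A S : Type u} [CommRing A] [HenselianLocalRing A] [IsNoetherianRing A] [IsReduced A]
  [CommRing S] [IsLocalRing S] [Algebra A S]
  [IsLocalHom (algebraMap A S)] [Hensel.IsStrictHenselization A S]

/-- An intermediate ring lies in one carrying all residues of its fractions. -/
theorem mem_of_residues (D G : Subalgebra A S)
    (h : ∀ (K : Type u) [Field K] [Algebra A K] (π : S →ₐ[A] K), RingHom.ker π ∈ minimalPrimes S →
      ∀ (y : ResidueField S) (c : K), c ∈ Subfield.closure (π '' (D : Set S)) →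
        Agree π y c → y ∈ resField G)
    (x : S) (hx : x ∈ D) : x ∈ G := by
  classical
  haveI := StrictResidue.isReduced (A := A) (S := S)
  obtain ⟨f, R, E, hE, hsE⟩ := exists_galoisStage (A := A) ({x} : Finset S)
  haveI := hE.isLocalRing
  haveI := hE.isLocalHom
  haveI := hE.isLocalHom_algebraMap inferInstance
  let x' : E := ⟨x, hsE (by simp)⟩
  refine fix_of_residue hE G x' fun g hg => Subtype.ext (sub_eq_zero.1 (IsNilpotent.eq_zero ?_))
  refine nilpotent_iff_mem_prime.2 fun P hP => ?_
  obtain ⟨Q, hQ, hQP⟩ := Ideal.exists_minimalPrimes_le (bot_le (a := P))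
  refine hQP ?_
  haveI := Ideal.minimalPrimes_isPrime hQ
  let π : S →ₐ[A] FractionRing (S ⧸ Q) :=
    (IsScalarTower.toAlgHom A (S ⧸ Q) (FractionRing (S ⧸ Q))).comp (Ideal.Quotient.mkₐ A Q)
  have hker : RingHom.ker π = Q := ker_toAlgHom_quotient Q
  have h1 := (GaloisStage.key hE (π.comp E.val) (Subfield.closure (π '' (D : Set S)))
    (fun a => Subfield.subset_closure ⟨algebraMap A S a, D.algebraMap_mem a, π.commutes a⟩)
    (stageField E (resField G))
    (fun c hc => h _ π (hker.symm ▸ hQ) _ _ hc (agree_self π (c : S))) g hg).1 x'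
    (Subfield.subset_closure ⟨x, hx, rfl⟩)
  rw [← hker]
  show π ((g x' : S) - x) = 0
  rw [map_sub, sub_eq_zero]
  exact h1

/-- The subfield generated by the image of `D` lies in the image of its fractions. -/
theorem closure_le_fieldRange (D : Subalgebra A S) {K : Type u} [Field K] [Algebra A K] (π : S →ₐ[A] K)
    (hπ : RingHom.ker π ∈ minimalPrimes S) (ψ : FractionRing D →ₐ[A] K)
    (hψ : ∀ d : D, ψ (algebraMap D (FractionRing D) d) = π d) (c : K)
    (hc : c ∈ Subfield.closure (π '' (D : Set S))) (hint : IsIntegral A c) :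
    ∃ w : integralClosure D (FractionRing D), ψ (w : FractionRing D) = c := by
  rw [Subfield.mem_closure_iff] at hc
  obtain ⟨y, hy, z, hz, rfl⟩ := hc
  have hsub : Subring.closure (π '' (D : Set S)) ≤ (π.comp D.val).toRingHom.range :=
    Subring.closure_le.2 (by rintro _ ⟨d, hd, rfl⟩; exact ⟨⟨d, hd⟩, rfl⟩)
  obtain ⟨a, rfl⟩ := hsub hy
  obtain ⟨b, rfl⟩ := hsub hz
  by_cases hb : π (b : S) = 0
  · exact ⟨0, by
      rw [show (π.comp D.val).toRingHom b = 0 from hb, div_zero]
      exact map_zero ψ⟩
  obtain ⟨v, hv⟩ : ∃ v : FractionRing D, ψ v = π (a : S) / π (b : S) := by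
    -- correct `b` by the kernel of `π`
    classical
    haveI := StrictResidue.isNoetherianRing (A := A) (S := S)
    haveI := StrictResidue.isReduced (A := A) (S := S)
    haveI := StrictBranch.isIntegral_subalgebra D
    haveI := Ideal.minimalPrimes_isPrime hπ
    have hfin := minimalPrimes.finite_of_isNoetherianRing S
    let p : Ideal D := (RingHom.ker π).comap D.val.toRingHom
    haveI : p.IsPrime := Ideal.IsPrime.comap _
    let T : Finset (Ideal D) :=
      (hfin.toFinset.image fun P : Ideal S => P.comap D.val.toRingHom).filter fun q => b ∈ q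
    let U : Finset (Ideal D) :=
      (hfin.toFinset.image fun P : Ideal S => P.comap D.val.toRingHom).filter fun q => b ∉ q
    have hT : ∀ q ∈ T ∪ U, q.IsPrime ∧ q.comap (algebraMap A D) ∈ minimalPrimes A := by
      intro q hq
      have hq' : q ∈ hfin.toFinset.image fun P : Ideal S => P.comap D.val.toRingHom := by
        rcases Finset.mem_union.1 hq with h | h <;> exact (Finset.mem_filter.1 h).1
      obtain ⟨P, hP, rfl⟩ := Finset.mem_image.1 hq'
      haveI := Ideal.minimalPrimes_isPrime (hfin.mem_toFinset.1 hP)
      refine ⟨Ideal.IsPrime.comap _, ?_⟩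
      rw [Ideal.comap_comap, show D.val.toRingHom.comp (algebraMap A D) = algebraMap A S from D.val.comp_algebraMap]
      exact comap_mem_minimalPrimes (hfin.mem_toFinset.1 hP)
    -- an element of all primes avoiding `b`, outside those containing it
    obtain ⟨t, htU, htT⟩ : ∃ t : D, (∀ q ∈ U, t ∈ q) ∧ ∀ q ∈ T, t ∉ q := by
      by_contra hc
      push Not at hc
      have hle : ((U.inf id : Ideal D) : Set D) ⊆ ⋃ q ∈ (↑T : Set (Ideal D)), (q : Set D) := fun t ht => by
        obtain ⟨q, hq, htq⟩ := hc t fun q hq => (Submodule.mem_finsetInf.1 ht) q hq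
        exact Set.mem_biUnion hq htq
      obtain ⟨q, hq, hUq⟩ := (Ideal.subset_union_prime ⊥ ⊥
        (fun i hi _ _ => (hT i (Finset.mem_union_left _ hi)).1)).1 hle
      haveI := (hT q (Finset.mem_union_left _ hq)).1
      obtain ⟨q', hq', hle'⟩ := (Ideal.IsPrime.inf_le' (s := U) (f := id) inferInstance).1 hUq
      haveI := (hT q' (Finset.mem_union_right _ hq')).1
      have hlt : q' < q := lt_of_le_of_ne hle' fun h =>
        (Finset.mem_filter.1 hq').2 (h ▸ (Finset.mem_filter.1 hq).2)
      have h1 := Ideal.IntegralClosure.comap_lt_comap (R := A) (I := q') (J := q) hlt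
      exact h1.not_ge ((hT q (Finset.mem_union_left _ hq)).2.2 ⟨Ideal.IsPrime.comap _, bot_le⟩ h1.le)
    have hu : b + t ∈ nonZeroDivisors D := mem_nonZeroDivisors_iff_right.2 fun v hv => by
      refine Subtype.ext (IsNilpotent.eq_zero (nilpotent_iff_mem_prime.2 fun P hP => ?_))
      obtain ⟨P₀, hP₀, hle⟩ := Ideal.exists_minimalPrimes_le (bot_le (a := P))
      refine hle ?_
      haveI := Ideal.minimalPrimes_isPrime hP₀
      show v ∈ P₀.comap D.val.toRingHom
      have hmem : P₀.comap D.val.toRingHom ∈ hfin.toFinset.image fun P : Ideal S => P.comap D.val.toRingHom :=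
        Finset.mem_image.2 ⟨P₀, hfin.mem_toFinset.2 hP₀, rfl⟩
      refine ((Ideal.IsPrime.comap D.val.toRingHom).mem_or_mem
        (show v * (b + t) ∈ P₀.comap D.val.toRingHom from hv ▸ zero_mem _)).resolve_right fun h => ?_
      by_cases hbq : b ∈ P₀.comap D.val.toRingHom
      · exact htT _ (Finset.mem_filter.2 ⟨hmem, hbq⟩) ((Ideal.add_mem_iff_right _ hbq).1 h)
      · exact hbq ((Ideal.add_mem_iff_left _ (htU _ (Finset.mem_filter.2 ⟨hmem, hbq⟩))).1 h)
    have hpU : p ∈ U := Finset.mem_filter.2 ⟨Finset.mem_image.2 ⟨_, hfin.mem_toFinset.2 hπ, rfl⟩, hb⟩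
    refine ⟨IsLocalization.mk' (FractionRing D) a ⟨b + t, hu⟩, ?_⟩
    rw [eq_div_iff hb]
    have h2 := congrArg ψ (IsLocalization.mk'_spec (FractionRing D) a ⟨b + t, hu⟩)
    rw [map_mul, hψ, hψ] at h2
    have ht : π ((t : D) : S) = 0 := htU p hpU
    simp only [Subalgebra.coe_add, map_add, ht, add_zero] at h2
    exact h2
  change ∃ w : integralClosure D (FractionRing D), ψ (w : FractionRing D) = π (a : S) / π (b : S)
  change IsIntegral A (π (a : S) / π (b : S)) at hint
  rw [← hv] at hint ⊢
  exact exists_normalisation_preimage D π hπ ψ hψ v hint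

/-- The residual hypothesis puts the residues of the fractions of `D` in a bigger ring `G`. -/
theorem residue_mem_of_span (D G : Subalgebra A S) (hDG : resField D ≤ resField G) {K : Type u} [Field K] [Algebra A K]
    (π : S →ₐ[A] K) (hπ : RingHom.ker π ∈ minimalPrimes S) (ψ : FractionRing D →ₐ[A] K)
    (hψ : ∀ d : D, ψ (algebraMap D (FractionRing D) d) = π d)
    (M : Ideal (integralClosure D (FractionRing D))) [M.IsMaximal]
    (hM : ∀ z : integralClosure D (FractionRing D), z ∈ M ↔ IsSmallElem A (ψ (z : FractionRing D)))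
    (s : Set M.ResidueField) (hs : ∀ r, IsSeparable (k0 D M) r → r ∈ Submodule.span (k0 D M) s)
    (hsG : ∀ r ∈ s, ∃ (w : integralClosure D (FractionRing D)) (y : ResidueField S),
      algebraMap _ M.ResidueField w = r ∧ Agree π y (ψ (w : FractionRing D)) ∧ y ∈ resField G)
    (y : ResidueField S) (c : K) (hc : c ∈ Subfield.closure (π '' (D : Set S))) (hy : Agree π y c) :
    y ∈ resField G := by
  obtain ⟨w, rfl⟩ := closure_le_fieldRange D π hπ ψ hψ c hc (hy.isIntegral π)
  have hsep := isSeparable_of_agree D M π ψ hψ hM w hy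
  suffices key : ∀ r ∈ Submodule.span (k0 D M) s, ∃ (w' : integralClosure D (FractionRing D)) (y' : ResidueField S),
      algebraMap _ M.ResidueField w' = r ∧ Agree π y' (ψ (w' : FractionRing D)) ∧ y' ∈ resField G by
    obtain ⟨w', y', hw', hy', hG⟩ := key _ (hs _ hsep)
    rwa [Agree.unique π hy (agree_congr D M π ψ hψ hM w' w hw' hy')]
  intro r hr
  induction hr using Submodule.span_induction with
  | mem r hr => exact hsG r hr
  | zero =>
    refine ⟨0, 0, map_zero _, ?_, zero_mem _⟩
    rw [ZeroMemClass.coe_zero, map_zero, agree_zero_iff]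
    exact ⟨X, monic_X, fun i hi => by
      rw [natDegree_X] at hi; obtain rfl : i = 0 := by omega
      simp, by simp⟩
  | add r r' _ _ h h' =>
    obtain ⟨w, y, rfl, hy, hG⟩ := h
    obtain ⟨w', y', rfl, hy', hG'⟩ := h'
    refine ⟨w + w', y + y', map_add _ _ _, ?_, add_mem hG hG'⟩
    rw [Subalgebra.coe_add, map_add]
    exact agree_add π hy hy'
  | smul a r _ h =>
    obtain ⟨w, y, rfl, hy, hG⟩ := h
    obtain ⟨d, hd⟩ := exists_of_mem_k0 D M π ψ hψ hM a a.2
    refine ⟨algebraMap D _ d * w, residue S (d : S) * y, ?_, ?_,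
      mul_mem (hDG (mem_resField.2 ⟨d, d.2, rfl⟩)) hG⟩
    · rw [map_mul, hd]; rfl
    · rw [Subalgebra.coe_mul, map_mul]
      refine agree_mul π ?_ hy
      show Agree π _ (ψ (algebraMap D (FractionRing D) d))
      rw [hψ]
      exact agree_self π (d : S)

end StrictResidueField

end Groth.Ega4Algebra2

namespace Groth.Ega4Algebra2.StrictResidueField

open StrictResidue StrictBranch GaloisStage

variable {A S : Type u} [CommRing A] [HenselianLocalRing A] [IsNoetherianRing A] [IsReduced A]
  [CommRing S] [IsLocalRing S] [Algebra A S]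
  [IsLocalHom (algebraMap A S)] [Hensel.IsStrictHenselization A S]

/-- A finite intermediate ring carrying the residues of its fractions is étale. -/
theorem etale_of_residues (D : Subalgebra A S) [Module.Finite A D]
    (h : ∀ (K : Type u) [Field K] [Algebra A K] (π : S →ₐ[A] K), RingHom.ker π ∈ minimalPrimes S →
      ∀ (y : ResidueField S) (c : K), c ∈ Subfield.closure (π '' (D : Set S)) →
        Agree π y c → y ∈ resField D) : Algebra.Etale A D := by
  classical
  haveI := StrictResidue.isReduced (A := A) (S := S)
  obtain ⟨T, hT⟩ := Module.Finite.fg_top (R := A) (M := D)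
  obtain ⟨f, R, E, hE, hsE⟩ := exists_galoisStage (A := A) (T.image fun d : D => (d : S))
  haveI := hE.isLocalRing
  haveI := hE.isLocalHom
  haveI := hE.isLocalHom_algebraMap inferInstance
  haveI := hE.finite
  haveI := hE.unramified
  haveI := finite_aut hE
  have hDE : D ≤ E := by
    intro d hd
    have hd' : (⟨d, hd⟩ : D) ∈ Submodule.span A (T : Set D) := hT ▸ Submodule.mem_top
    have h3 := Submodule.mem_map_of_mem (f := D.val.toLinearMap) hd'
    rw [Submodule.map_span] at h3
    refine (Submodule.span_le (p := Subalgebra.toSubmodule E)).2 ?_ h3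
    rintro _ ⟨d', hd'', rfl⟩
    exact hsE (Finset.mem_image_of_mem _ hd'')
  let H : Subgroup (E ≃ₐ[A] E) :=
    { carrier := {g | ∀ e, residue E e ∈ stageField E (resField D) → residue E (g e) = residue E e}
      one_mem' := fun e _ => rfl
      mul_mem' := fun {g g'} hg hg' e he => by
        show residue E (g (g' e)) = _
        rw [hg (g' e) (by rw [hg' e he]; exact he), hg' e he]
      inv_mem' := fun {g} hg e he => by
        show residue E (g.symm e) = _
        obtain ⟨σ, hσ⟩ := exists_residue hE g
        apply σ.injective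
        rw [hσ, hσ, g.apply_symm_apply, hg e he] }
  haveI := Fintype.ofFinite H
  let φ : H →* (E ≃ₐ[A] E) := H.subtype
  let B : Subalgebra A E := D.comap E.val
  have hB : ∀ e, e ∈ B ↔ ∀ g : H, φ g e = e := by
    refine fun e => ⟨fun he g => Subtype.ext (sub_eq_zero.1 (IsNilpotent.eq_zero ?_)),
      fun he => fix_of_residue hE D e fun g hg => he ⟨g, hg⟩⟩
    refine nilpotent_iff_mem_prime.2 fun P hP => ?_
    obtain ⟨Q, hQ, hQP⟩ := Ideal.exists_minimalPrimes_le (bot_le (a := P))
    refine hQP ?_
    haveI := Ideal.minimalPrimes_isPrime hQ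
    let π : S →ₐ[A] FractionRing (S ⧸ Q) :=
      (IsScalarTower.toAlgHom A (S ⧸ Q) (FractionRing (S ⧸ Q))).comp (Ideal.Quotient.mkₐ A Q)
    have hker : RingHom.ker π = Q := ker_toAlgHom_quotient Q
    have h1 := (GaloisStage.key hE (π.comp E.val) (Subfield.closure (π '' (D : Set S)))
      (fun a => Subfield.subset_closure ⟨algebraMap A S a, D.algebraMap_mem a, π.commutes a⟩)
      (stageField E (resField D))
      (fun c hc => h _ π (hker.symm ▸ hQ) _ _ hc (agree_self π (c : S))) g.1 g.2).1 e
      (Subfield.subset_closure ⟨(e : S), he, rfl⟩)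
    rw [← hker]
    show π ((g.1 e : S) - e) = 0
    rw [map_sub, sub_eq_zero]
    exact h1
  have hfree : ∀ g : H, g ≠ 1 → ∃ a : E, IsUnit (φ g a - a) := by
    intro g hg
    by_contra hc
    push Not at hc
    refine hg (Subtype.ext (eq_one_of_residue hE _ fun e => sub_eq_zero.1 ?_))
    rw [← map_sub, residue_eq_zero_iff]
    exact hc e
  haveI : IsLocalRing B := FreeAct.isLocalRing φ B hB
  have hBm := FreeAct.map_eq_maximalIdeal φ B hB hfree _
    (Algebra.FormallyUnramified.map_maximalIdeal (R := A) (S := E))
  let eB : B ≃ₐ[A] D :=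
    { toFun := fun b => ⟨((b : E) : S), b.2⟩
      invFun := fun d => ⟨⟨(d : S), hDE d.2⟩, d.2⟩
      left_inv := fun b => rfl
      right_inv := fun d => rfl
      map_mul' := fun _ _ => rfl
      map_add' := fun _ _ => rfl
      commutes' := fun a => rfl }
  obtain ⟨hD, hDloc⟩ := henselian D
  haveI := hD
  haveI := hDloc
  have hm : (maximalIdeal A).map (algebraMap A D) = maximalIdeal D := by
    haveI : IsLocalHom eB.toRingEquiv.toRingHom := IsLocalHom.of_surjective _ eB.surjective
    rw [show algebraMap A D = eB.toRingEquiv.toRingHom.comp (algebraMap A B) from RingHom.ext fun a => rfl,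
      ← Ideal.map_map, hBm]
    exact IsLocalRing.map_maximalIdeal_of_surjective eB.toRingEquiv.toRingHom eB.surjective
  haveI : IsLocalHom (algebraMap A D) := ⟨fun a ha => by
    have h1 := ha.map (algebraMap D S)
    rw [← IsScalarTower.algebraMap_apply] at h1
    exact isUnit_of_map_unit (algebraMap A S) a h1⟩
  obtain ⟨C, _, _, q, _, _, -, ⟨e⟩⟩ := Groth.Agent.S16438.result A S D hm
  haveI : Algebra.FormallyEtale C (Localization.AtPrime q) := .of_isLocalization q.primeCompl
  haveI : Algebra.FormallyEtale A (Localization.AtPrime q) := .comp A C _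
  haveI : Algebra.FormallyEtale A D := Algebra.FormallyEtale.of_equiv e.symm
  exact { finitePresentation := Algebra.FinitePresentation.of_finiteType.1 inferInstance }

end Groth.Ega4Algebra2.StrictResidueField

namespace Groth.Ega4Algebra2.StrictResidueField

open StrictResidue StrictBranch GaloisStage

variable {A S : Type u} [CommRing A] [HenselianLocalRing A] [IsNoetherianRing A] [IsReduced A]
  [CommRing S] [IsLocalRing S] [Algebra A S]
  [IsLocalHom (algebraMap A S)] [Hensel.IsStrictHenselization A S]

/-- Separation by a finite étale intermediate ring makes its residue field separably closed in those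
of its normalization. -/
theorem mem_k0_of_separated (D : Subalgebra A S) [Module.Finite A D] (hst : StrictStage.IsStage D)
    (hsep : ∀ P ∈ minimalPrimes S, ∀ Q ∈ minimalPrimes S, (∀ d ∈ D, d ∈ P ↔ d ∈ Q) → P = Q)
    (M : Ideal (integralClosure D (FractionRing D))) [M.IsMaximal]
    (r : M.ResidueField) (hr : IsSeparable (k0 D M) r) : r ∈ k0 D M := by
  classical
  obtain ⟨z, rfl⟩ : ∃ z, algebraMap (integralClosure D (FractionRing D)) M.ResidueField z = r := by
    obtain ⟨q, hq⟩ := (Ideal.bijective_algebraMap_quotient_residueField M).2 r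
    obtain ⟨z, rfl⟩ := Ideal.Quotient.mk_surjective q
    exact ⟨z, hq⟩
  obtain ⟨K, _, _, π, ψ, hπ, hψ, hMz⟩ := Groth.Ega4Algebra2.StrictResidue.exists_minimalPrime D M
  obtain ⟨y, hy⟩ := Groth.Ega4Algebra2.StrictResidueField.exists_agree D M π ψ hψ hMz z hr
  obtain ⟨s₀, rfl⟩ := IsLocalRing.residue_surjective y
  obtain ⟨T, hT⟩ := Module.Finite.fg_top (R := A) (M := D)
  obtain ⟨f, R, E, hE, hsE⟩ := Groth.Ega4Algebra2.GaloisStage.exists_galoisStage (A := A)
    (insert s₀ (T.image fun d : D => (d : S)))
  haveI := hE.isLocalRing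
  haveI := hE.isLocalHom
  haveI := hE.isLocalHom_algebraMap inferInstance
  have hDE : D ≤ E := by
    intro d hd
    have hd' : (⟨d, hd⟩ : D) ∈ Submodule.span A (T : Set D) := hT ▸ Submodule.mem_top
    have h3 := Submodule.mem_map_of_mem (f := D.val.toLinearMap) hd'
    rw [Submodule.map_span] at h3
    refine (Submodule.span_le (p := Subalgebra.toSubmodule E)).2 ?_ h3
    rintro _ ⟨d', hd'', rfl⟩
    exact hsE (Finset.mem_insert_of_mem (Finset.mem_image_of_mem _ hd''))
  have hsurj : ∃ x : D × nonZeroDivisors D, (z : FractionRing D) * algebraMap D (FractionRing D) (x.2 : D) = algebraMap D (FractionRing D) x.1 :=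
    IsLocalization.surj (M := nonZeroDivisors D) (S := FractionRing D) (z : FractionRing D)
  obtain ⟨⟨a, b⟩, hab⟩ := hsurj
  have h2 := congrArg ψ hab
  rw [map_mul, hψ, hψ] at h2
  have hb : π (((b : D) : S)) ≠ 0 := fun h =>
    Groth.Ega4Algebra2.StrictResidue.notMem_minimalPrimes D b.2 hπ h
  have h3 := Groth.Ega4Algebra2.StrictBranch.residue_mem_of_separated hE D hDE
    (Groth.Ega4Algebra2.StrictBranch.rigid_of_isStage hst) hsep π hπ
    ⟨(a : S), hDE a.2⟩ ⟨((b : D) : S), hDE (b : D).2⟩ a.2 (b : D).2 hb (ψ (z : FractionRing D)) h2 AlgEquiv.refl rfl rfl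
    ⟨s₀, hsE (Finset.mem_insert_self _ _)⟩ hy
  rw [AlgEquiv.coe_refl, id] at h3
  obtain ⟨d, hd, hds⟩ := (Groth.Ega4Algebra2.StrictBranch.mem_resField (D := D) (y := IsLocalRing.residue S s₀)).1 h3
  refine (show algebraMap _ M.ResidueField (algebraMap D (integralClosure D (FractionRing D)) ⟨d, hd⟩) =
      algebraMap _ M.ResidueField z from ?_) ▸ Subfield.subset_closure ⟨(⟨d, hd⟩ : D), rfl⟩
  rw [Groth.Ega4Algebra2.StrictResidueField.res_eq_iff, hMz]
  show Groth.Ega4Algebra2.IsSmallElem A (ψ (algebraMap D (FractionRing D) ⟨d, hd⟩ - (z : FractionRing D)))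
  rw [map_sub, hψ]
  refine (Groth.Ega4Algebra2.StrictResidue.agree_zero_iff π).1 ?_
  obtain ⟨t, ht, hts⟩ := hy
  refine ⟨d - t, by rw [map_sub, hds, ht]; exact sub_self _, ?_⟩
  rw [map_sub, show π d - π t - (π d - ψ (z : FractionRing D)) = -(π t - ψ (z : FractionRing D)) by ring]
  exact Groth.Ega4Algebra2.StrictResidue.isSmallElem_neg hts

/-- The residual hypothesis in the form of separably closed residue fields. -/
theorem residues_of_mem_k0 (D : Subalgebra A S)
    (h : ∀ (M : Ideal (integralClosure D (FractionRing D))) [M.IsMaximal] (r : M.ResidueField),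
      IsSeparable (k0 D M) r → r ∈ k0 D M)
    (K : Type u) [Field K] [Algebra A K] (π : S →ₐ[A] K) (hπ : RingHom.ker π ∈ minimalPrimes S) :
    ∀ (y : IsLocalRing.ResidueField S) (c : K), c ∈ Subfield.closure (π '' (D : Set S)) →
      Agree π y c → y ∈ resField D := by
  obtain ⟨ψ, hψ⟩ := exists_frac D π hπ
  obtain ⟨N, hN, hNz⟩ := exists_maximal D ψ
  haveI := hN
  refine residue_mem_of_span D D le_rfl π hπ ψ hψ N hNz {1} ?_ ?_
  · intro r hr
    rw [show r = (⟨r, h N r hr⟩ : k0 D N) • (1 : N.ResidueField) from (mul_one r).symm]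
    exact Submodule.smul_mem _ _ (Submodule.subset_span rfl)
  · rintro _ rfl
    refine ⟨1, 1, map_one _, ?_, one_mem _⟩
    have := agree_self π (1 : S)
    rwa [map_one, map_one, ← map_one ψ] at this

end Groth.Ega4Algebra2.StrictResidueField
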